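import Mathlib
import Cfsg.Prelude.Def_RootSubgroups

set_option autoImplicit false

namespace Cfsg.Agent.Helper83

variable {G : Type*} [Group G]

theorem mem_conjBy {A : Subgroup G} {g x : G} : x ∈ Cfsg.conjBy A g ↔ g⁻¹ * x * g ∈ A := by
  unfold Cfsg.conjBy
  rw [Subgroup.mem_map]
  constructor
  · rintro ⟨y, hy, rfl⟩
    simpa [MulAut.conj_apply, mul_assoc] using hy
  · intro h
    refine ⟨g⁻¹ * x * g, h, ?_⟩
    simp [MulAut.conj_apply, mul_assoc]

theorem conj_mem_conjBy {A : Subgroup G} {g a : G} (ha : a ∈ A) : g * a * g⁻¹ ∈ Cfsg.conjBy A g := by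
  rw [mem_conjBy]; simpa [mul_assoc] using ha

theorem conjBy_one (A : Subgroup G) : Cfsg.conjBy A 1 = A := by
  ext x; rw [mem_conjBy]; simp

theorem conjBy_conjBy (A : Subgroup G) (g h : G) :
    Cfsg.conjBy (Cfsg.conjBy A g) h = Cfsg.conjBy A (h * g) := by
  ext x; rw [mem_conjBy, mem_conjBy, mem_conjBy]; simp [mul_assoc]

theorem conjBy_eq_iff {A B : Subgroup G} {g : G} : Cfsg.conjBy A g = B ↔ A = Cfsg.conjBy B g⁻¹ := by
  constructor
  · rintro rfl; rw [conjBy_conjBy]; simp [conjBy_one]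
  · rintro h; rw [h, conjBy_conjBy]; simp [conjBy_one]

theorem conjBy_inj {A B : Subgroup G} {g : G} (h : Cfsg.conjBy A g = Cfsg.conjBy B g) : A = B := by
  rw [conjBy_eq_iff, conjBy_conjBy] at h; simpa [conjBy_one] using h

theorem conjBy_eq_self_iff {A : Subgroup G} {g : G} :
    Cfsg.conjBy A g = A ↔ g ∈ Subgroup.normalizer (A : Set G) := by
  rw [Subgroup.mem_normalizer_iff_map_conj_eq]; rfl

theorem conjBy_of_mem {A : Subgroup G} {g : G} (hg : g ∈ A) : Cfsg.conjBy A g = A :=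
  conjBy_eq_self_iff.mpr (Subgroup.le_normalizer hg)

theorem conjBy_le_of_mem {A K : Subgroup G} {g : G} (hA : A ≤ K) (hg : g ∈ K) : Cfsg.conjBy A g ≤ K := by
  intro x hx
  rw [mem_conjBy] at hx
  have : x = g * (g⁻¹ * x * g) * g⁻¹ := by group
  rw [this]
  exact K.mul_mem (K.mul_mem hg (hA hx)) (K.inv_mem hg)

theorem conjBy_mono {A B : Subgroup G} (h : A ≤ B) (g : G) : Cfsg.conjBy A g ≤ Cfsg.conjBy B g :=
  Subgroup.map_mono h

theorem conjBy_sup (A B : Subgroup G) (g : G) :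
    Cfsg.conjBy (A ⊔ B) g = Cfsg.conjBy A g ⊔ Cfsg.conjBy B g :=
  Subgroup.map_sup A B _

theorem conjBy_bot (g : G) : Cfsg.conjBy (⊥ : Subgroup G) g = ⊥ := Subgroup.map_bot _

theorem conjBy_eq_bot_iff {A : Subgroup G} {g : G} : Cfsg.conjBy A g = ⊥ ↔ A = ⊥ := by
  rw [conjBy_eq_iff, conjBy_bot]

/-- The multiplicative equivalence between a subgroup and its conjugate. -/
noncomputable def conjByEquiv (A : Subgroup G) (g : G) : A ≃* Cfsg.conjBy A g :=
  A.equivMapOfInjective (MulAut.conj g).toMonoidHom (MulAut.conj g).injective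

theorem conjBy_nilpotent {A : Subgroup G} (h : Group.IsNilpotent A) (g : G) :
    Group.IsNilpotent (Cfsg.conjBy A g) :=
  (Group.isNilpotent_congr (conjByEquiv A g)).mp h

/-! ### Basic facts on rank one pairs -/

theorem rankOne_inf_normalizer {A B : Subgroup G} (h : Cfsg.IsRankOnePair A B) :
    A ⊓ Subgroup.normalizer (B : Set G) = ⊥ := by
  rw [eq_bot_iff]
  intro a ha
  rw [Subgroup.mem_inf] at ha
  rw [Subgroup.mem_bot]
  by_contra ha1
  obtain ⟨b, hb, _, hconj⟩ := h.cond_left a ha.1 ha1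
  have h1 : Cfsg.conjBy B a⁻¹ = B := conjBy_eq_self_iff.mpr (Subgroup.inv_mem _ ha.2)
  rw [h1, conjBy_eq_iff, inv_inv, conjBy_of_mem hb] at hconj
  exact h.ne hconj

theorem rankOne_inf_normalizer' {A B : Subgroup G} (h : Cfsg.IsRankOnePair A B) :
    B ⊓ Subgroup.normalizer (A : Set G) = ⊥ :=
  rankOne_inf_normalizer (Cfsg.RankOnePair_symm h)

theorem rankOne_eq_one_of_conj {A B : Subgroup G} (h : Cfsg.IsRankOnePair A B) {a : G} (ha : a ∈ A)
    (hn : Cfsg.conjBy B a = B) : a = 1 := by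
  have : a ∈ A ⊓ Subgroup.normalizer (B : Set G) := ⟨ha, conjBy_eq_self_iff.mp hn⟩
  rw [rankOne_inf_normalizer h] at this
  exact this

theorem rankOne_conj_inj {A B : Subgroup G} (h : Cfsg.IsRankOnePair A B) {a a' : G} (ha : a ∈ A)
    (ha' : a' ∈ A) (hn : Cfsg.conjBy B a = Cfsg.conjBy B a') : a = a' := by
  have h1 : Cfsg.conjBy B (a'⁻¹ * a) = B := by
    rw [← conjBy_conjBy, hn, conjBy_conjBy]; simp [conjBy_one]
  have := rankOne_eq_one_of_conj h (A.mul_mem (A.inv_mem ha') ha) h1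
  rw [inv_mul_eq_one] at this
  exact this.symm

theorem rankOne_left_ne_bot {A B : Subgroup G} (h : Cfsg.IsRankOnePair A B) : A ≠ ⊥ := by
  intro hA
  have hB : B ≠ ⊥ := fun hB => h.ne (hA.trans hB.symm)
  obtain ⟨b, hb1⟩ := (Subgroup.ne_bot_iff_exists_ne_one).mp hB
  obtain ⟨a, ha, ha1, _⟩ := h.cond_right b.1 b.2 (by simpa using hb1)
  rw [hA, Subgroup.mem_bot] at ha
  exact ha1 ha

theorem rankOne_right_ne_bot {A B : Subgroup G} (h : Cfsg.IsRankOnePair A B) : B ≠ ⊥ :=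
  rankOne_left_ne_bot (Cfsg.RankOnePair_symm h)

/-! ### The set of unipotent subgroups is `{A} ∪ B^A` -/

/-- The stabilizer (as a subgroup) of a family of subgroups closed under conjugation both ways. -/
def familyStabilizer (Δ : Set (Subgroup G)) : Subgroup G where
  carrier := {x | ∀ C ∈ Δ, Cfsg.conjBy C x ∈ Δ ∧ Cfsg.conjBy C x⁻¹ ∈ Δ}
  one_mem' := by
    intro C hC
    simp only [inv_one, conjBy_one]
    exact ⟨hC, hC⟩
  mul_mem' := by
    intro x y hx hy C hC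
    constructor
    · rw [← conjBy_conjBy]
      exact (hx _ (hy C hC).1).1
    · rw [mul_inv_rev, ← conjBy_conjBy]
      exact (hy _ (hx C hC).2).2
  inv_mem' := by
    intro x hx C hC
    rw [inv_inv]
    exact ⟨(hx C hC).2, (hx C hC).1⟩

theorem mem_familyStabilizer {Δ : Set (Subgroup G)} {x : G} :
    x ∈ familyStabilizer Δ ↔ ∀ C ∈ Δ, Cfsg.conjBy C x ∈ Δ ∧ Cfsg.conjBy C x⁻¹ ∈ Δ := Iff.rfl

/-- The set `{A} ∪ B^A`. -/
def rankOneOrbit (A B : Subgroup G) : Set (Subgroup G) :=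
  {C | C = A ∨ ∃ a ∈ A, C = Cfsg.conjBy B a}

theorem rankOne_conjA_mem {A B : Subgroup G} (h : Cfsg.IsRankOnePair A B) {b : G} (hb : b ∈ B) :
    Cfsg.conjBy A b ∈ rankOneOrbit A B := by
  by_cases hb1 : b = 1
  · left; rw [hb1, conjBy_one]
  · right
    obtain ⟨a, ha, _, hc⟩ := h.cond_right b⁻¹ (B.inv_mem hb) (by simpa using hb1)
    rw [inv_inv] at hc
    exact ⟨a⁻¹, A.inv_mem ha, hc.symm⟩

theorem rankOne_A_le_stab {A B : Subgroup G} (h : Cfsg.IsRankOnePair A B) :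
    A ≤ familyStabilizer (rankOneOrbit A B) := by
  have key : ∀ x ∈ A, ∀ C ∈ rankOneOrbit A B, Cfsg.conjBy C x ∈ rankOneOrbit A B := by
    intro x hx C hC
    rcases hC with rfl | ⟨a, ha, rfl⟩
    · left; exact conjBy_of_mem hx
    · right; exact ⟨x * a, A.mul_mem hx ha, conjBy_conjBy _ _ _⟩
  intro x hx C hC
  exact ⟨key x hx C hC, key x⁻¹ (A.inv_mem hx) C hC⟩

theorem rankOne_B_le_stab {A B : Subgroup G} (h : Cfsg.IsRankOnePair A B) :
    B ≤ familyStabilizer (rankOneOrbit A B) := by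
  have key : ∀ x ∈ B, ∀ C ∈ rankOneOrbit A B, Cfsg.conjBy C x ∈ rankOneOrbit A B := by
    intro x hx C hC
    rcases hC with rfl | ⟨a, ha, rfl⟩
    · exact rankOne_conjA_mem h hx
    · by_cases ha1 : a = 1
      · right
        refine ⟨1, A.one_mem, ?_⟩
        rw [ha1, conjBy_one]; exact conjBy_of_mem hx
      · obtain ⟨b, hb, _, hc⟩ := h.cond_left a⁻¹ (A.inv_mem ha) (by simpa using ha1)
        rw [inv_inv] at hc
        rw [← hc, conjBy_conjBy]
        exact rankOne_conjA_mem h (B.mul_mem hx (B.inv_mem hb))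
  intro x hx C hC
  exact ⟨key x hx C hC, key x⁻¹ (B.inv_mem hx) C hC⟩

theorem rankOne_sup_le_stab {A B : Subgroup G} (h : Cfsg.IsRankOnePair A B) :
    A ⊔ B ≤ familyStabilizer (rankOneOrbit A B) :=
  sup_le (rankOne_A_le_stab h) (rankOne_B_le_stab h)

theorem rankOne_B_mem_unipotent {A B : Subgroup G} (h : Cfsg.IsRankOnePair A B) :
    B ∈ Cfsg.unipotentSubgroups A B := by
  obtain ⟨a, ha1⟩ := (Subgroup.ne_bot_iff_exists_ne_one).mp (rankOne_left_ne_bot h)
  obtain ⟨b, hb, _, hc⟩ := h.cond_left a.1 a.2 (by simpa using ha1)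
  refine ⟨a.1 * b⁻¹, ?_, ?_⟩
  · exact Subgroup.mul_mem _ (Subgroup.mem_sup_left a.2) (Subgroup.mem_sup_right (B.inv_mem hb))
  · rw [← conjBy_conjBy, hc, conjBy_conjBy]; simp [conjBy_one]

theorem unipotent_conj_mem {A B C : Subgroup G} (hC : C ∈ Cfsg.unipotentSubgroups A B) {x : G}
    (hx : x ∈ A ⊔ B) : Cfsg.conjBy C x ∈ Cfsg.unipotentSubgroups A B := by
  obtain ⟨y, hy, rfl⟩ := hC
  exact ⟨x * y, Subgroup.mul_mem _ hx hy, conjBy_conjBy _ _ _⟩

theorem A_mem_unipotent (A B : Subgroup G) : A ∈ Cfsg.unipotentSubgroups A B :=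
  ⟨1, Subgroup.one_mem _, (conjBy_one A).symm⟩

theorem rankOne_unipotent_eq {A B : Subgroup G} (h : Cfsg.IsRankOnePair A B) :
    Cfsg.unipotentSubgroups A B = rankOneOrbit A B := by
  ext C
  constructor
  · rintro ⟨x, hx, rfl⟩
    exact ((rankOne_sup_le_stab h hx) A (Or.inl rfl)).1
  · rintro (rfl | ⟨a, ha, rfl⟩)
    · exact A_mem_unipotent _ B
    · exact unipotent_conj_mem (rankOne_B_mem_unipotent h) (Subgroup.mem_sup_left ha)

theorem rankOne_A_ne_conjB {A B : Subgroup G} (h : Cfsg.IsRankOnePair A B) {a : G} (ha : a ∈ A) :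
    A ≠ Cfsg.conjBy B a := by
  intro hA
  have : Cfsg.conjBy A a⁻¹ = B := by rw [conjBy_eq_iff, inv_inv]; exact hA
  rw [conjBy_of_mem (A.inv_mem ha)] at this
  exact h.ne this

/-- A member of the orbit different from `A` is a conjugate of `B` by a unique element of `A`. -/
theorem rankOne_unipotent_ne {A B C : Subgroup G} (h : Cfsg.IsRankOnePair A B)
    (hC : C ∈ Cfsg.unipotentSubgroups A B) (hCA : C ≠ A) : ∃ a ∈ A, C = Cfsg.conjBy B a := by
  rw [rankOne_unipotent_eq h] at hC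
  rcases hC with rfl | hC
  · exact absurd rfl hCA
  · exact hC

end Cfsg.Agent.Helper83
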