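import Mathlib
import Cfsg.Prelude.Def_RootSubgroups
import Cfsg.Agent.Helper83.RankOne

set_option autoImplicit false

namespace Cfsg.Agent.Helper83

variable {G : Type*} [Group G]

theorem rankOneCondition_conj {A B : Subgroup G} (h : Cfsg.RankOneCondition A B) (g : G) :
    Cfsg.RankOneCondition (Cfsg.conjBy A g) (Cfsg.conjBy B g) := by
  intro a' ha' ha'1
  rw [mem_conjBy] at ha'
  have ha1 : g⁻¹ * a' * g ≠ 1 := by
    intro hc
    apply ha'1
    have : a' = g * (g⁻¹ * a' * g) * g⁻¹ := by group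
    rw [this, hc]; group
  obtain ⟨b, hb, hb1, hc⟩ := h _ ha' ha1
  refine ⟨g * b * g⁻¹, conj_mem_conjBy hb, ?_, ?_⟩
  · intro hc'
    apply hb1
    have : b = g⁻¹ * (g * b * g⁻¹) * g := by group
    rw [this, hc']; group
  · rw [conjBy_conjBy, conjBy_conjBy]
    have e1 : (g * b * g⁻¹)⁻¹ * g = g * b⁻¹ := by group
    have e2 : a'⁻¹ * g = g * (g⁻¹ * a' * g)⁻¹ := by group
    rw [e1, e2, ← conjBy_conjBy, ← conjBy_conjBy B, hc]

theorem rankOne_conj {A B : Subgroup G} (h : Cfsg.IsRankOnePair A B) (g : G) :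
    Cfsg.IsRankOnePair (Cfsg.conjBy A g) (Cfsg.conjBy B g) where
  ne := fun hc => h.ne (conjBy_inj hc)
  nilpotent_left := conjBy_nilpotent h.nilpotent_left g
  nilpotent_right := conjBy_nilpotent h.nilpotent_right g
  cond_left := rankOneCondition_conj h.cond_left g
  cond_right := rankOneCondition_conj h.cond_right g

theorem conjBy_sup_of_mem {A B : Subgroup G} {x : G} (hx : x ∈ A ⊔ B) :
    Cfsg.conjBy A x ⊔ Cfsg.conjBy B x = A ⊔ B := by
  rw [← conjBy_sup]
  exact conjBy_of_mem hx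

/-- Any two distinct unipotent subgroups can be moved to `(A, B)`. -/
theorem rankOne_move_pair {A B : Subgroup G} (h : Cfsg.IsRankOnePair A B)
    {C₁ C₂ : Subgroup G} (h1 : C₁ ∈ Cfsg.unipotentSubgroups A B) (h2 : C₂ ∈ Cfsg.unipotentSubgroups A B)
    (hne : C₁ ≠ C₂) : ∃ x ∈ A ⊔ B, Cfsg.conjBy C₁ x = A ∧ Cfsg.conjBy C₂ x = B := by
  obtain ⟨x₁, hx₁, rfl⟩ := h1
  have h2' : Cfsg.conjBy C₂ x₁⁻¹ ∈ Cfsg.unipotentSubgroups A B :=
    unipotent_conj_mem h2 (Subgroup.inv_mem _ hx₁)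
  have hne' : Cfsg.conjBy C₂ x₁⁻¹ ≠ A := by
    intro hc
    rw [conjBy_eq_iff, inv_inv] at hc
    exact hne hc.symm
  obtain ⟨a, ha, hc⟩ := rankOne_unipotent_ne h h2' hne'
  refine ⟨a⁻¹ * x₁⁻¹, Subgroup.mul_mem _ (Subgroup.mem_sup_left (A.inv_mem ha)) (Subgroup.inv_mem _ hx₁), ?_, ?_⟩
  · rw [conjBy_conjBy]
    have : a⁻¹ * x₁⁻¹ * x₁ = a⁻¹ := by group
    rw [this]
    exact conjBy_of_mem (A.inv_mem ha)
  · rw [← conjBy_conjBy, hc, conjBy_conjBy]
    simp [conjBy_one]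

/-- Two distinct unipotent subgroups form a rank one pair generating the same group. -/
theorem rankOne_pair_of_mem {A B : Subgroup G} (h : Cfsg.IsRankOnePair A B)
    {C D : Subgroup G} (hC : C ∈ Cfsg.unipotentSubgroups A B) (hD : D ∈ Cfsg.unipotentSubgroups A B)
    (hne : C ≠ D) : Cfsg.IsRankOnePair C D ∧ C ⊔ D = A ⊔ B := by
  obtain ⟨x, hx, hx1, hx2⟩ := rankOne_move_pair h hC hD hne
  rw [conjBy_eq_iff] at hx1 hx2
  subst hx1 hx2
  exact ⟨rankOne_conj h _, conjBy_sup_of_mem (Subgroup.inv_mem _ hx)⟩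

theorem unipotent_le_sup {A B C : Subgroup G} (hC : C ∈ Cfsg.unipotentSubgroups A B) : C ≤ A ⊔ B := by
  obtain ⟨x, hx, rfl⟩ := hC
  exact conjBy_le_of_mem le_sup_left hx

theorem unipotentSubgroups_eq_of_mem {A B : Subgroup G} (h : Cfsg.IsRankOnePair A B)
    {C D : Subgroup G} (hC : C ∈ Cfsg.unipotentSubgroups A B) (hD : D ∈ Cfsg.unipotentSubgroups A B)
    (hne : C ≠ D) : Cfsg.unipotentSubgroups C D = Cfsg.unipotentSubgroups A B := by
  have hsup := (rankOne_pair_of_mem h hC hD hne).2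
  obtain ⟨x, hx, rfl⟩ := hC
  ext E
  constructor
  · rintro ⟨y, hy, rfl⟩
    rw [hsup] at hy
    exact ⟨y * x, Subgroup.mul_mem _ hy hx, conjBy_conjBy _ _ _⟩
  · rintro ⟨y, hy, rfl⟩
    refine ⟨y * x⁻¹, ?_, ?_⟩
    · rw [hsup]; exact Subgroup.mul_mem _ hy (Subgroup.inv_mem _ hx)
    · rw [conjBy_conjBy]; simp

/-- The dichotomy for subgroups of `A ⊔ B` normalized by `A ⊔ B`. -/
theorem rankOne_dichotomy {A B : Subgroup G} (h : Cfsg.IsRankOnePair A B) {N : Subgroup G}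
    (hN : N ≤ A ⊔ B) (hnorm : ∀ x ∈ A ⊔ B, ∀ n ∈ N, x * n * x⁻¹ ∈ N) :
    A ⊔ B ≤ N ⊔ A ∨ N ≤ Subgroup.centralizer ((A ⊔ B : Subgroup G) : Set G) := by
  by_cases hNA : N ≤ Subgroup.normalizer (A : Set G)
  · right
    have hNB : N ≤ Subgroup.normalizer (B : Set G) := by
      obtain ⟨x, hx, hB⟩ := rankOne_B_mem_unipotent h
      intro n hn
      have h1 : x⁻¹ * n * x ∈ N := by
        simpa using hnorm x⁻¹ (Subgroup.inv_mem _ hx) n hn
      have h2 := conjBy_eq_self_iff.mpr (hNA h1)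
      rw [← conjBy_eq_self_iff, hB, conjBy_conjBy]
      have : n * x = x * (x⁻¹ * n * x) := by group
      rw [this, ← conjBy_conjBy, h2]
    have key : ∀ {A B : Subgroup G}, Cfsg.IsRankOnePair A B → N ≤ Subgroup.normalizer (A : Set G) →
        N ≤ Subgroup.normalizer (B : Set G) → (∀ x ∈ A, ∀ n ∈ N, x * n * x⁻¹ ∈ N) →
        ∀ n ∈ N, ∀ a ∈ A, a * n = n * a := by
      intro A B h hNA hNB hnorm n hn a ha
      have h1 : n * a * n⁻¹ * a⁻¹ ∈ A := by
        refine A.mul_mem ?_ (A.inv_mem ha)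
        have := conjBy_eq_self_iff.mpr (hNA hn)
        rw [← this]
        exact conj_mem_conjBy ha
      have h2 : n * a * n⁻¹ * a⁻¹ ∈ N := by
        have : n * a * n⁻¹ * a⁻¹ = n * (a * n⁻¹ * a⁻¹) := by group
        rw [this]
        exact N.mul_mem hn (hnorm a ha _ (N.inv_mem hn))
      have h3 : n * a * n⁻¹ * a⁻¹ ∈ A ⊓ Subgroup.normalizer (B : Set G) := ⟨h1, hNB h2⟩
      rw [rankOne_inf_normalizer h, Subgroup.mem_bot] at h3
      have : n * a = (n * a * n⁻¹ * a⁻¹) * (a * n) := by group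
      rw [this, h3, one_mul]
    have kA := key h hNA hNB (fun x hx => hnorm x (Subgroup.mem_sup_left hx))
    have kB := key (Cfsg.RankOnePair_symm h) hNB hNA (fun x hx => hnorm x (Subgroup.mem_sup_right hx))
    intro n hn
    have hA : A ≤ Subgroup.centralizer ({n} : Set G) := by
      intro a ha
      rw [Subgroup.mem_centralizer_iff]
      intro m hm
      rw [Set.mem_singleton_iff] at hm
      subst hm
      exact (kA m hn a ha).symm
    have hB : B ≤ Subgroup.centralizer ({n} : Set G) := by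
      intro a ha
      rw [Subgroup.mem_centralizer_iff]
      intro m hm
      rw [Set.mem_singleton_iff] at hm
      subst hm
      exact (kB m hn a ha).symm
    rw [Subgroup.mem_centralizer_iff]
    intro y hy
    have := (sup_le hA hB) hy
    rw [Subgroup.mem_centralizer_iff] at this
    exact (this n rfl).symm
  · left
    rw [SetLike.not_le_iff_exists] at hNA
    obtain ⟨n, hn, hnA⟩ := hNA
    have hne : Cfsg.conjBy A n ≠ A := fun hc => hnA (conjBy_eq_self_iff.mp hc)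
    have hmem : Cfsg.conjBy A n ∈ Cfsg.unipotentSubgroups A B := ⟨n, hN hn, rfl⟩
    obtain ⟨a, ha, hc⟩ := rankOne_unipotent_ne h hmem hne
    have hB : B = Cfsg.conjBy A (a⁻¹ * n) := by
      rw [← conjBy_conjBy, hc, conjBy_conjBy]; simp [conjBy_one]
    apply sup_le le_sup_right
    rw [hB]
    apply conjBy_le_of_mem le_sup_right
    exact Subgroup.mul_mem _ (Subgroup.mem_sup_right (A.inv_mem ha)) (Subgroup.mem_sup_left hn)

end Cfsg.Agent.Helper83
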