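import Mathlib
import Cfsg.Prelude.Def_RootSubgroups
import Cfsg.Agent.Helper83.RankOne2

set_option autoImplicit false

namespace Cfsg.Agent.Helper83

variable {G : Type*} [Group G]

/-! ### Partners in a rank one pair -/

/-- `a ∈ A#` and `b ∈ B#` are partners: `b⁻¹ A b = a⁻¹ B a`. -/
def Partner (A B : Subgroup G) (a b : G) : Prop :=
  a ∈ A ∧ a ≠ 1 ∧ b ∈ B ∧ b ≠ 1 ∧ Cfsg.conjBy A b⁻¹ = Cfsg.conjBy B a⁻¹

/-- The special condition for the ordered pair `(A, B)`. -/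
def SpecialCond (A B : Subgroup G) : Prop :=
  ∀ a b : G, Partner A B a b → b⁻¹ * a * b = a⁻¹ * b⁻¹ * a

theorem Partner.swap {A B : Subgroup G} {a b : G} (h : Partner A B a b) : Partner B A b a :=
  ⟨h.2.2.1, h.2.2.2.1, h.1, h.2.1, h.2.2.2.2.symm⟩

theorem SpecialCond.swap {A B : Subgroup G} (h : SpecialCond A B) : SpecialCond B A := by
  intro b a hba
  have := h a b hba.swap
  have h2 : (b⁻¹ * a * b)⁻¹ = (a⁻¹ * b⁻¹ * a)⁻¹ := by rw [this]
  calc a⁻¹ * b * a = (a⁻¹ * b⁻¹ * a)⁻¹ := by group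
    _ = (b⁻¹ * a * b)⁻¹ := h2.symm
    _ = b⁻¹ * a⁻¹ * b := by group

theorem specialCond_of_pair {A B : Subgroup G} (hs : Cfsg.IsSpecialRankOnePair A B) :
    SpecialCond A B := by
  intro a b hp
  exact hs.2 a hp.1 hp.2.1 b hp.2.2.1 hp.2.2.2.1 hp.2.2.2.2

theorem exists_partner_left {A B : Subgroup G} (h : Cfsg.IsRankOnePair A B) {a : G} (ha : a ∈ A)
    (ha1 : a ≠ 1) : ∃ b, Partner A B a b := by
  obtain ⟨b, hb, hb1, hc⟩ := h.cond_left a ha ha1
  exact ⟨b, ha, ha1, hb, hb1, hc⟩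

theorem exists_partner_right {A B : Subgroup G} (h : Cfsg.IsRankOnePair A B) {b : G} (hb : b ∈ B)
    (hb1 : b ≠ 1) : ∃ a, Partner A B a b := by
  obtain ⟨a, ha, ha1, hc⟩ := h.cond_right b hb hb1
  exact ⟨a, ha, ha1, hb, hb1, hc.symm⟩

theorem Partner.right_unique {A B : Subgroup G} (h : Cfsg.IsRankOnePair A B) {a b b' : G}
    (h1 : Partner A B a b) (h2 : Partner A B a b') : b = b' := by
  have hc : Cfsg.conjBy A b⁻¹ = Cfsg.conjBy A b'⁻¹ := h1.2.2.2.2.trans h2.2.2.2.2.symm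
  have := rankOne_conj_inj (Cfsg.RankOnePair_symm h) (B.inv_mem h1.2.2.1) (B.inv_mem h2.2.2.1) hc
  exact inv_injective this

theorem Partner.left_unique {A B : Subgroup G} (h : Cfsg.IsRankOnePair A B) {a a' b : G}
    (h1 : Partner A B a b) (h2 : Partner A B a' b) : a = a' :=
  Partner.right_unique (Cfsg.RankOnePair_symm h) h1.swap h2.swap

/-- Two unipotent subgroups sharing a non-identity element coincide. -/
theorem unipotent_eq_of_common {A B : Subgroup G} (h : Cfsg.IsRankOnePair A B) {C D : Subgroup G}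
    (hC : C ∈ Cfsg.unipotentSubgroups A B) (hD : D ∈ Cfsg.unipotentSubgroups A B) {x : G}
    (hxC : x ∈ C) (hxD : x ∈ D) (hx1 : x ≠ 1) : C = D := by
  by_contra hne
  have hp := (rankOne_pair_of_mem h hC hD hne).1
  have : x ∈ C ⊓ Subgroup.normalizer (D : Set G) := ⟨hxC, Subgroup.le_normalizer hxD⟩
  rw [rankOne_inf_normalizer hp] at this
  exact hx1 this

/-! ### The braid relation and the element `n = a b⁻¹ a` -/

section braid

variable {A B : Subgroup G} {a b : G}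

theorem SpecialCond.braid (hs : SpecialCond A B) (hp : Partner A B a b) :
    a * b⁻¹ * a = b⁻¹ * a * b⁻¹ := by
  have h := hs a b hp
  calc a * b⁻¹ * a = a * (b⁻¹ * a * b) * b⁻¹ := by group
    _ = a * (a⁻¹ * b⁻¹ * a) * b⁻¹ := by rw [h]
    _ = b⁻¹ * a * b⁻¹ := by group

/-- `n a n⁻¹ = b⁻¹` for `n = a b⁻¹ a`. -/
theorem SpecialCond.n_conj_a (hs : SpecialCond A B) (hp : Partner A B a b) :
    (a * b⁻¹ * a) * a * (a * b⁻¹ * a)⁻¹ = b⁻¹ := by
  have h := hs.braid hp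
  calc (a * b⁻¹ * a) * a * (a * b⁻¹ * a)⁻¹ = (a * b⁻¹ * a) * (b * a⁻¹) := by group
    _ = (b⁻¹ * a * b⁻¹) * (b * a⁻¹) := by rw [h]
    _ = b⁻¹ := by group

/-- `n b n⁻¹ = a⁻¹` for `n = a b⁻¹ a`. -/
theorem SpecialCond.n_conj_b (hs : SpecialCond A B) (hp : Partner A B a b) :
    (a * b⁻¹ * a) * b * (a * b⁻¹ * a)⁻¹ = a⁻¹ := by
  have h := hs.braid hp
  calc (a * b⁻¹ * a) * b * (a * b⁻¹ * a)⁻¹ = a * b⁻¹ * a * b * (a * b⁻¹ * a)⁻¹ := by group
    _ = a * b⁻¹ * a * b * (b⁻¹ * a * b⁻¹)⁻¹ := by rw [h]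
    _ = (a * b⁻¹ * a) * b * b * a⁻¹ * b := by group
    _ = (b⁻¹ * a * b⁻¹) * b * b * a⁻¹ * b := by rw [h]
    _ = b⁻¹ * a * b * a⁻¹ * b := by group
    _ = (b⁻¹ * a * b) * a⁻¹ * b := by group
    _ = (a⁻¹ * b⁻¹ * a) * a⁻¹ * b := by rw [hs a b hp]
    _ = a⁻¹ := by group

theorem SpecialCond.pow_eq_one_iff (hs : SpecialCond A B) (hp : Partner A B a b) (e : ℕ) :
    a ^ e = 1 ↔ b ^ e = 1 := by
  have h := hs.n_conj_a hp
  have h2 : (a * b⁻¹ * a) * a ^ e * (a * b⁻¹ * a)⁻¹ = (b ^ e)⁻¹ := by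
    rw [← conj_pow, h, inv_pow]
  constructor
  · intro ha
    rw [ha] at h2
    have : (b ^ e)⁻¹ = 1 := by rw [← h2]; group
    exact inv_eq_one.mp this
  · intro hb
    rw [hb, inv_one] at h2
    have : a ^ e = (a * b⁻¹ * a)⁻¹ * ((a * b⁻¹ * a) * a ^ e * (a * b⁻¹ * a)⁻¹) * (a * b⁻¹ * a) := by
      group
    rw [this, h2]; group

/-- `n A n⁻¹ = B` for `n = b⁻¹ a b⁻¹`. -/
theorem Partner.conjBy_n_left (hp : Partner A B a b) :
    Cfsg.conjBy A (b⁻¹ * a * b⁻¹) = B := by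
  have h1 : Cfsg.conjBy A (b⁻¹ * a * b⁻¹) = Cfsg.conjBy (Cfsg.conjBy (Cfsg.conjBy A b⁻¹) a) b⁻¹ := by
    rw [conjBy_conjBy, conjBy_conjBy, mul_assoc]
  rw [h1, hp.2.2.2.2, conjBy_conjBy B, mul_inv_cancel, conjBy_one]
  exact conjBy_of_mem (B.inv_mem hp.2.2.1)

theorem Partner.n_mem_sup (hp : Partner A B a b) : a * b⁻¹ * a ∈ A ⊔ B :=
  Subgroup.mul_mem _ (Subgroup.mul_mem _ (Subgroup.mem_sup_left hp.1)
    (Subgroup.mem_sup_right (B.inv_mem hp.2.2.1))) (Subgroup.mem_sup_left hp.1)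

/-- `n B n⁻¹ = A` for `n = a b⁻¹ a`. -/
theorem SpecialCond.conjBy_n_right (h : Cfsg.IsRankOnePair A B) (hs : SpecialCond A B)
    (hp : Partner A B a b) : Cfsg.conjBy B (a * b⁻¹ * a) = A := by
  have hD : Cfsg.conjBy B (a * b⁻¹ * a) ∈ Cfsg.unipotentSubgroups A B :=
    unipotent_conj_mem (rankOne_B_mem_unipotent h) hp.n_mem_sup
  have hmem : a⁻¹ ∈ Cfsg.conjBy B (a * b⁻¹ * a) := by
    rw [← hs.n_conj_b hp]
    exact conj_mem_conjBy hp.2.2.1
  exact unipotent_eq_of_common h hD (A_mem_unipotent A B) hmem (A.inv_mem hp.1)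
    (inv_ne_one.mpr hp.2.1)

/-- `β(a⁻¹) = β(a)⁻¹`. -/
theorem SpecialCond.partner_inv (h : Cfsg.IsRankOnePair A B) (hs : SpecialCond A B)
    (hp : Partner A B a b) : Partner A B a⁻¹ b⁻¹ := by
  refine ⟨A.inv_mem hp.1, inv_ne_one.mpr hp.2.1, B.inv_mem hp.2.2.1, inv_ne_one.mpr hp.2.2.2.1, ?_⟩
  rw [inv_inv, inv_inv]
  have h1 := hs.conjBy_n_right h hp
  rw [hs.braid hp] at h1
  have h2 : Cfsg.conjBy B (b⁻¹ * a * b⁻¹) = Cfsg.conjBy (Cfsg.conjBy (Cfsg.conjBy B b⁻¹) a) b⁻¹ := by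
    rw [conjBy_conjBy, conjBy_conjBy, mul_assoc]
  rw [h2, conjBy_of_mem (B.inv_mem hp.2.2.1), conjBy_eq_iff, inv_inv] at h1
  exact h1.symm

/-- The identity `B^{a^k b} = A^{b^{-(k+1)} a}` (right action notation). -/
theorem SpecialCond.conj_pow_id (h : Cfsg.IsRankOnePair A B) (hs : SpecialCond A B)
    (hp : Partner A B a b) (k : ℕ) :
    Cfsg.conjBy B ((a ^ k * b)⁻¹) = Cfsg.conjBy A (a⁻¹ * b ^ (k + 1)) := by
  induction k with
  | zero =>
    have h1 := (hs.partner_inv h hp).2.2.2.2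
    rw [inv_inv, inv_inv] at h1
    rw [pow_zero, one_mul, zero_add, pow_one, conjBy_of_mem (B.inv_mem hp.2.2.1),
      ← conjBy_conjBy, h1, conjBy_conjBy, inv_mul_cancel, conjBy_one]
  | succ k ih =>
    have e1 : (a ^ (k + 1) * b)⁻¹ = (b⁻¹ * a⁻¹ * b) * (a ^ k * b)⁻¹ := by
      rw [pow_succ]; group
    have hb := hs.braid hp
    have e2 : b⁻¹ * a⁻¹ * b * a⁻¹ = a⁻¹ * b := by
      have : a⁻¹ * b * a⁻¹ = b * a⁻¹ * b := by
        calc a⁻¹ * b * a⁻¹ = (a * b⁻¹ * a)⁻¹ := by group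
          _ = (b⁻¹ * a * b⁻¹)⁻¹ := by rw [hb]
          _ = b * a⁻¹ * b := by group
      calc b⁻¹ * a⁻¹ * b * a⁻¹ = b⁻¹ * (a⁻¹ * b * a⁻¹) := by group
        _ = b⁻¹ * (b * a⁻¹ * b) := by rw [this]
        _ = a⁻¹ * b := by group
    rw [e1, ← conjBy_conjBy, ih, conjBy_conjBy]
    congr 1
    calc b⁻¹ * a⁻¹ * b * (a⁻¹ * b ^ (k + 1)) = (b⁻¹ * a⁻¹ * b * a⁻¹) * b ^ (k + 1) := by group
      _ = a⁻¹ * b * b ^ (k + 1) := by rw [e2]
      _ = a⁻¹ * b ^ (k + 1 + 1) := by rw [pow_succ' b (k + 1)]; group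

/-- The step lemma `E_m`. -/
theorem SpecialCond.step_partner (h : Cfsg.IsRankOnePair A B) (hs : SpecialCond A B)
    {c z : G} {k : ℕ} (hp : Partner A B a b) (hc : Partner A B (a ^ k) c) (hck : c ^ k = b)
    (hz : Partner A B z (b ^ (k + 1))) : Partner A B (z⁻¹ * a) (c ^ (k + 1)) := by
  have hcB : c ^ (k + 1) ∈ B := B.pow_mem hc.2.2.1 _
  have hzaA : z⁻¹ * a ∈ A := A.mul_mem (A.inv_mem hz.1) hp.1
  -- the key equation
  have key : Cfsg.conjBy A (c ^ (k + 1))⁻¹ = Cfsg.conjBy B (z⁻¹ * a)⁻¹ := by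
    have h1 := hs.conj_pow_id h hp k
    -- B^{a^k b} = A^{c b}
    have h2 : Cfsg.conjBy B ((a ^ k * b)⁻¹) = Cfsg.conjBy A ((c ^ (k + 1))⁻¹) := by
      have : (a ^ k * b)⁻¹ = b⁻¹ * (a ^ k)⁻¹ := by group
      rw [this, ← conjBy_conjBy, ← hc.2.2.2.2, conjBy_conjBy]
      congr 1
      rw [pow_succ', ← hck]; group
    -- A^{b^{-m}} = B^{z⁻¹}
    have h3 := (hs.partner_inv h hz).2.2.2.2
    rw [inv_inv, inv_inv] at h3
    have h4 : Cfsg.conjBy A (a⁻¹ * b ^ (k + 1)) = Cfsg.conjBy B ((z⁻¹ * a)⁻¹) := by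
      rw [← conjBy_conjBy, h3, conjBy_conjBy]
      congr 1; group
    rw [← h2, h1, h4]
  refine ⟨hzaA, ?_, hcB, ?_, key⟩
  · intro h1
    rw [h1, inv_one, conjBy_one, conjBy_eq_iff, inv_inv, conjBy_of_mem hcB] at key
    exact h.ne key
  · intro h1
    rw [h1, inv_one, conjBy_one] at key
    have h2 : Cfsg.conjBy A (z⁻¹ * a) = B := by
      rw [conjBy_eq_iff]; exact key
    rw [conjBy_of_mem hzaA] at h2
    exact h.ne h2

end braid

/-! ### Roots: `β(b^j)^j = β(b)` -/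

/-- `y ^ e ≠ 1` for all positive `e` all of whose prime factors are at most `m`. -/
def QS (m : ℕ) (y : G) : Prop :=
  ∀ e : ℕ, 0 < e → (∀ p : ℕ, p.Prime → p ∣ e → p ≤ m) → y ^ e ≠ 1

theorem QS.mono {m m' : ℕ} {y : G} (h : QS m y) (hm : m' ≤ m) : QS m' y :=
  fun e he hp => h e he (fun p pp pd => (hp p pp pd).trans hm)

theorem QS.pow_ne_one {m : ℕ} {y : G} (h : QS m y) {k : ℕ} (hk : 0 < k) (hkm : k ≤ m) :
    y ^ k ≠ 1 :=
  h k hk (fun _ _ pd => (Nat.le_of_dvd hk pd).trans hkm)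

theorem QS.pow {m : ℕ} {y : G} (h : QS m y) {j : ℕ} (hj : 0 < j) (hjm : j ≤ m) :
    QS m (y ^ j) := by
  intro e he hp
  rw [← pow_mul]
  apply h (j * e) (Nat.mul_pos hj he)
  intro p pp pd
  rcases (Nat.Prime.dvd_mul pp).mp pd with h1 | h1
  · exact (Nat.le_of_dvd hj h1).trans hjm
  · exact hp p pp h1

theorem SpecialCond.qs_iff {A B : Subgroup G} {a b : G} (hs : SpecialCond A B)
    (hp : Partner A B a b) (m : ℕ) : QS m a ↔ QS m b := by
  constructor
  · intro h e he hpe hb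
    exact h e he hpe ((hs.pow_eq_one_iff hp e).mpr hb)
  · intro h e he hpe ha
    exact h e he hpe ((hs.pow_eq_one_iff hp e).mp ha)

/-- The statement proved by induction in `special_root`. -/
def RootStatement (G : Type*) [Group G] (m : ℕ) : Prop :=
  ∀ (A B : Subgroup G), Cfsg.IsRankOnePair A B → SpecialCond A B →
    ∀ (y b z : G) (j : ℕ), Partner A B y b → QS m y → 1 ≤ j → j ≤ m → Partner A B z (b ^ j) →
    z ^ j = y

/-- The inductive step, with weaker hypotheses on `y` than `QS (m+1) y`. -/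
theorem special_root_step {m : ℕ} (hmpos : 0 < m) (ih : RootStatement G m)
    {A B : Subgroup G} (h : Cfsg.IsRankOnePair A B) (hs : SpecialCond A B) {y b z : G}
    (hp : Partner A B y b) (hqm : QS m y) (hqm' : QS m (y ^ (m + 1)))
    (hz : Partner A B z (b ^ (m + 1))) : z ^ (m + 1) = y := by
  have hym : y ^ m ≠ 1 := hqm.pow_ne_one hmpos le_rfl
  obtain ⟨c, hc⟩ := exists_partner_left h (A.pow_mem hp.1 m) hym
  have hcm : c ^ m = b :=
    ih B A (Cfsg.RankOnePair_symm h) hs.swap b y c m hp.swap ((hs.qs_iff hp m).mp hqm)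
      hmpos le_rfl hc.swap
  have hw := hs.step_partner h hp hc hcm hz
  have hpow : (c ^ (m + 1)) ^ m = b ^ (m + 1) := by
    rw [← hcm, ← pow_mul, ← pow_mul, mul_comm]
  have hqw : QS m (z⁻¹ * y) := by
    rw [hs.qs_iff hw m]
    intro e he hpe hce
    apply hqm' e he hpe
    rw [← pow_mul, hs.pow_eq_one_iff hp, ← hcm, ← pow_mul]
    have : m * ((m + 1) * e) = ((m + 1) * e) * m := mul_comm _ _
    rw [this, pow_mul, pow_mul, hce, one_pow]
  have hz' : Partner A B z ((c ^ (m + 1)) ^ m) := by rw [hpow]; exact hz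
  have := ih A B h hs (z⁻¹ * y) (c ^ (m + 1)) z m hw hqw hmpos le_rfl hz'
  rw [pow_succ', this]; group

/-- The main root lemma: if `y ∈ A#` has partner `b` and `z` is the partner of `b ^ j`, then
`z ^ j = y`, provided no small power of `y` is trivial. -/
theorem special_root (m : ℕ) : RootStatement G m := by
  induction m with
  | zero =>
    intro A B _ _ y b z j _ _ h1 h2
    omega
  | succ m ih =>
    intro A B h hs y b z j hp hq hj1 hjm hz
    rcases Nat.lt_or_ge j (m + 1) with hlt | hge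
    · exact ih A B h hs y b z j hp (hq.mono (Nat.le_succ m)) hj1 (Nat.lt_succ_iff.mp hlt) hz
    · have hj : j = m + 1 := le_antisymm hjm hge
      subst hj
      rcases Nat.eq_zero_or_pos m with hm0 | hmpos
      · subst hm0
        rw [zero_add, pow_one] at hz ⊢
        exact Partner.left_unique h hz hp
      · exact special_root_step hmpos ih h hs hp (hq.mono (Nat.le_succ m))
          ((hq.pow (Nat.succ_pos m) le_rfl).mono (Nat.le_succ m)) hz

theorem QS.of_not_isOfFinOrder {y : G} (hy : ¬ IsOfFinOrder y) (m : ℕ) : QS m y := by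
  intro e he _ hye
  exact hy (isOfFinOrder_iff_pow_eq_one.mpr ⟨e, he, hye⟩)

/-- `n`-th roots are unique among elements of `A#` none of whose small powers is trivial. -/
theorem special_root_unique {A B : Subgroup G} (h : Cfsg.IsRankOnePair A B) (hs : SpecialCond A B)
    {u y : G} {n : ℕ} (hn : 0 < n) (hu : u ∈ A) (hy : y ∈ A) (hqu : QS n u) (hqy : QS n y)
    (huy : u ^ n = y ^ n) : u = y := by
  have hu1 : u ≠ 1 := by
    intro h1; exact hqu.pow_ne_one hn le_rfl (by rw [h1, one_pow])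
  have hy1 : y ≠ 1 := by
    intro h1; exact hqy.pow_ne_one hn le_rfl (by rw [h1, one_pow])
  have hun : u ^ n ≠ 1 := hqu.pow_ne_one hn le_rfl
  obtain ⟨bu, hbu⟩ := exists_partner_left h hu hu1
  obtain ⟨by', hby⟩ := exists_partner_left h hy hy1
  obtain ⟨c, hc⟩ := exists_partner_left h (A.pow_mem hu n) hun
  have h1 : c ^ n = bu :=
    special_root n B A (Cfsg.RankOnePair_symm h) hs.swap bu u c n hbu.swap
      ((hs.qs_iff hbu n).mp hqu) hn le_rfl hc.swap
  have hc' : Partner A B (y ^ n) c := by rw [← huy]; exact hc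
  have h2 : c ^ n = by' :=
    special_root n B A (Cfsg.RankOnePair_symm h) hs.swap by' y c n hby.swap
      ((hs.qs_iff hby n).mp hqy) hn le_rfl hc'.swap
  have : bu = by' := h1.symm.trans h2
  subst this
  exact Partner.left_unique h hbu hby

/-- Elements of finite order in `A#` have prime order. -/
theorem special_prime_order {A B : Subgroup G} (h : Cfsg.IsRankOnePair A B) (hs : SpecialCond A B)
    {y : G} (hy : y ∈ A) (hy1 : y ≠ 1) (hfin : IsOfFinOrder y) : (orderOf y).Prime := by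
  set N := orderOf y with hN
  have hN0 : 0 < N := hfin.orderOf_pos
  have hN1 : N ≠ 1 := by
    intro h1; exact hy1 (orderOf_eq_one_iff.mp h1)
  set p := N.minFac with hp
  have hpp : p.Prime := Nat.minFac_prime hN1
  have hpN : p ∣ N := Nat.minFac_dvd N
  by_contra hNp
  obtain ⟨M, hM⟩ := hpN
  have hM0 : 0 < M := by
    rcases Nat.eq_zero_or_pos M with h0 | h0
    · rw [h0, mul_zero] at hM; omega
    · exact h0
  have hM1 : M ≠ 1 := by
    intro h1; rw [h1, mul_one] at hM; exact hNp (hM ▸ hpp)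
  have hp2 : 2 ≤ p := hpp.two_le
  -- QS (p-1) y
  have hq1 : QS (p - 1) y := by
    intro e _ hpe hye
    have h1 : N ∣ e := orderOf_dvd_of_pow_eq_one hye
    have h2 : p ∣ e := (Nat.minFac_dvd N).trans h1
    have := hpe p hpp h2
    omega
  have hq2 : QS (p - 1) (y ^ (p - 1 + 1)) := by
    intro e _ hpe hye
    rw [← pow_mul] at hye
    have h1 : N ∣ (p - 1 + 1) * e := orderOf_dvd_of_pow_eq_one hye
    have h3 : p - 1 + 1 = p := by omega
    rw [h3, hM] at h1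
    have h2 : M ∣ e := Nat.dvd_of_mul_dvd_mul_left hpp.pos h1
    obtain ⟨q, hqp, hqM⟩ := Nat.exists_prime_and_dvd hM1
    have h4 : q ≤ p - 1 := hpe q hqp (hqM.trans h2)
    have h5 : p ≤ q := Nat.minFac_le_of_dvd hqp.two_le (hqM.trans (Dvd.intro_left p hM.symm))
    omega
  obtain ⟨b, hb⟩ := exists_partner_left h hy hy1
  have hbp : b ^ (p - 1 + 1) ≠ 1 := by
    intro h1
    have h2 := (hs.pow_eq_one_iff hb _).mpr h1
    have h3 : p - 1 + 1 = p := by omega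
    rw [h3] at h2
    have h4 : N ∣ p := orderOf_dvd_of_pow_eq_one h2
    rw [hM] at h4
    have h5 : p * M ≤ p := Nat.le_of_dvd hpp.pos h4
    have : p * 2 ≤ p * M := Nat.mul_le_mul_left p (by omega)
    omega
  obtain ⟨z, hz⟩ := exists_partner_right h (B.pow_mem hb.2.2.1 _) hbp
  have hzy : z ^ (p - 1 + 1) = y :=
    special_root_step (by omega) (special_root (p - 1)) h hs hb hq1 hq2 hz
  have hzM : z ^ M = 1 := by
    rw [hs.pow_eq_one_iff hz, ← pow_mul, (hs.pow_eq_one_iff hb _).symm]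
    have h3 : (p - 1 + 1) * M = N := by rw [hM]; congr 1; omega
    rw [h3]; exact pow_orderOf_eq_one y
  have hyM : y ^ M = 1 := by
    rw [← hzy, ← pow_mul, mul_comm, pow_mul, hzM, one_pow]
  have h4 : N ∣ M := orderOf_dvd_of_pow_eq_one hyM
  have h5 : N ≤ M := Nat.le_of_dvd hM0 h4
  rw [hM] at h5
  have : 2 * M ≤ p * M := Nat.mul_le_mul_right M hp2
  omega

end Cfsg.Agent.Helper83
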