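import Mathlib
import Cfsg.Prelude.Def_RootSubgroups
import Cfsg.Agent.Helper83.RankOne2

set_option autoImplicit false

namespace Cfsg.Agent.Helper83

open scoped commutatorElement

variable {G : Type*} [Group G]

theorem mem_centralizer_coe {B : Subgroup G} {t : G} :
    t ∈ Subgroup.centralizer (B : Set G) ↔ ∀ b ∈ B, b * t = t * b := by
  rw [Subgroup.mem_centralizer_iff]; rfl

theorem centralizer_le_normalizer' (B : Subgroup G) :
    Subgroup.centralizer (B : Set G) ≤ Subgroup.normalizer (B : Set G) :=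
  Subgroup.centralizer_le_normalizer _

/-- If the commutators of `a ∈ A#` with `B` all centralize `B`, we get a contradiction. -/
theorem rankOne_no_central_comm {A B : Subgroup G} (h : Cfsg.IsRankOnePair A B) {a : G} (ha : a ∈ A)
    (ha1 : a ≠ 1) (hE : ∀ b ∈ B, a * b * a⁻¹ * b⁻¹ ∈ Subgroup.centralizer (B : Set G)) : False := by
  obtain ⟨b, hb, _, hc⟩ := h.cond_left a⁻¹ (A.inv_mem ha) (by simpa using ha1)
  rw [inv_inv] at hc
  have hA : A ≤ Subgroup.normalizer (B : Set G) := by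
    intro a₁ ha₁
    have h1 : b⁻¹ * a₁ * b ∈ Cfsg.conjBy B a := by
      rw [← hc]
      have := conj_mem_conjBy (g := b⁻¹) ha₁
      rwa [inv_inv] at this
    rw [mem_conjBy] at h1
    -- b' := a⁻¹ * (b⁻¹ * a₁ * b) * a ∈ B
    set b' := a⁻¹ * (b⁻¹ * a₁ * b) * a with hb'
    have h2 : a₁ = b * (a * b' * a⁻¹ * b'⁻¹) * b' * b⁻¹ := by
      rw [hb']; group
    rw [h2]
    have hN := centralizer_le_normalizer' B
    have hB : B ≤ Subgroup.normalizer (B : Set G) := Subgroup.le_normalizer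
    exact Subgroup.mul_mem _ (Subgroup.mul_mem _ (Subgroup.mul_mem _ (hB hb) (hN (hE b' h1))) (hB h1))
      (hB (B.inv_mem hb))
  have := rankOne_inf_normalizer h
  rw [inf_eq_left.mpr hA] at this
  exact rankOne_left_ne_bot h this

theorem rankOne_mem_of_same_conj {A B C : Subgroup G} (h : Cfsg.IsRankOnePair A B)
    (h' : Cfsg.IsRankOnePair C B) {a y : G} (ha : a ∈ A) (ha1 : a ≠ 1) (hy : y ∈ C) (hy1 : y ≠ 1)
    (hc : Cfsg.conjBy B y⁻¹ = Cfsg.conjBy B a⁻¹) : C ∈ Cfsg.unipotentSubgroups A B := by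
  obtain ⟨b, hb, _, hb2⟩ := h.cond_left a ha ha1
  obtain ⟨b', hb', _, hb2'⟩ := h'.cond_left y hy hy1
  refine ⟨b' * b⁻¹, Subgroup.mem_sup_right (B.mul_mem hb' (B.inv_mem hb)), ?_⟩
  rw [← conjBy_conjBy, hb2, ← hc, ← hb2', conjBy_conjBy]
  simp [conjBy_one]

/-- Key lemma: a root element of the form `t * a` with `a ∈ A#` and `t` centralizing `B` lies in a unipotent
subgroup of the rank one group `⟨A, B⟩`. -/
theorem root_mem_unipotent {S : Set (Subgroup G)} (hS : Cfsg.IsRootSubgroupSet S) {A B C : Subgroup G}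
    (h : Cfsg.IsRankOnePair A B) (hB : B ∈ S) (hC : C ∈ S) {a t : G} (ha : a ∈ A) (ha1 : a ≠ 1)
    (ht : t ∈ Subgroup.centralizer (B : Set G)) (hta : t * a ∈ C) : C ∈ Cfsg.unipotentSubgroups A B := by
  have hcent_not : a ∉ Subgroup.centralizer (B : Set G) := by
    intro hc
    have : a ∈ A ⊓ Subgroup.normalizer (B : Set G) := ⟨ha, centralizer_le_normalizer' B hc⟩
    rw [rankOne_inf_normalizer h, Subgroup.mem_bot] at this
    exact ha1 this
  have hta1 : t * a ≠ 1 := by
    intro hc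
    apply hcent_not
    have : a = t⁻¹ := by
      have h3 : t⁻¹ * (t * a) = t⁻¹ * 1 := by rw [hc]
      simpa using h3
    rw [this]
    exact Subgroup.inv_mem _ ht
  rcases hS.pair C hC B hB with h0 | h1 | h2
  · exfalso
    apply hcent_not
    have hy : t * a ∈ Subgroup.centralizer (B : Set G) := by
      rw [mem_centralizer_coe]
      intro b hb
      have : ⁅t * a, b⁆ ∈ ⁅C, B⁆ := Subgroup.commutator_mem_commutator hta hb
      rw [h0, Subgroup.mem_bot, commutatorElement_eq_one_iff_mul_comm] at this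
      exact this.symm
    have : a = t⁻¹ * (t * a) := by group
    rw [this]
    exact Subgroup.mul_mem _ (Subgroup.inv_mem _ ht) hy
  · apply rankOne_mem_of_same_conj h h1 ha ha1 hta hta1
    rw [mul_inv_rev, ← conjBy_conjBy]
    congr 1
    exact conjBy_eq_self_iff.mpr (centralizer_le_normalizer' B (Subgroup.inv_mem _ ht))
  · exfalso
    apply rankOne_no_central_comm h ha ha1
    intro b hb
    obtain ⟨_, hcen, _, _⟩ := h2
    have hmem : ⁅t * a, b⁆ ∈ ⁅C, B⁆ := Subgroup.commutator_mem_commutator hta hb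
    have hE : ⁅t * a, b⁆ ∈ Subgroup.centralizer (B : Set G) := by
      rw [mem_centralizer_coe]
      intro b₁ hb₁
      exact (hcen _ hmem b₁ (Subgroup.mem_sup_right hb₁)).symm
    have ht' := (mem_centralizer_coe.mp ht) b hb
    have ht'' := (mem_centralizer_coe.mp ht) b⁻¹ (B.inv_mem hb)
    have : a * b * a⁻¹ * b⁻¹ = t⁻¹ * ⁅t * a, b⁆ * t := by
      rw [commutatorElement_def]
      have e : t * a * b * (t * a)⁻¹ * b⁻¹ = t * (a * b * a⁻¹) * (t⁻¹ * b⁻¹) := by group
      have e' : t⁻¹ * b⁻¹ = b⁻¹ * t⁻¹ := by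
        have := congrArg (fun x => t⁻¹ * x * t⁻¹) ht''
        simpa [mul_assoc] using this
      rw [e, e']; group
    rw [this]
    exact Subgroup.mul_mem _ (Subgroup.mul_mem _ (Subgroup.inv_mem _ ht) hE) ht

theorem exists_partner {S : Set (Subgroup G)} {A : Subgroup G} (hAS : A ∈ S)
    (hA : ¬ Cfsg.IsIsolatedIn (Cfsg.FAdj S) S A) : ∃ B ∈ S, Cfsg.IsRankOnePair A B := by
  unfold Cfsg.IsIsolatedIn at hA
  push Not at hA
  obtain ⟨B, hB⟩ := hA hAS
  by_cases h1 : Cfsg.FAdj S A B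
  · exact ⟨B, h1.2.1, h1.2.2⟩
  · have h2 := hB h1
    exact ⟨B, h2.1, Cfsg.RankOnePair_symm h2.2.2⟩

theorem not_isolated_of_partner {S : Set (Subgroup G)} {A B : Subgroup G} (hAS : A ∈ S) (hBS : B ∈ S)
    (h : Cfsg.IsRankOnePair A B) : ¬ Cfsg.IsIsolatedIn (Cfsg.FAdj S) S A := by
  intro hc
  exact (hc.2 B).1 ⟨hAS, hBS, h⟩

/-- A member of `S` with a rank one partner meets every other member trivially (core of S5028). -/
theorem root_inf_eq_bot {S : Set (Subgroup G)} (hS : Cfsg.IsRootSubgroupSet S) {A B C : Subgroup G}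
    (h : Cfsg.IsRankOnePair A B) (hB : B ∈ S) (hC : C ∈ S) : A ⊓ C = ⊥ ∨ A = C := by
  by_cases hbot : A ⊓ C = ⊥
  · left; exact hbot
  · right
    obtain ⟨x', hx1⟩ := (Subgroup.ne_bot_iff_exists_ne_one).mp hbot
    obtain ⟨x, hx⟩ := x'
    have hx1' : (x : G) ≠ 1 := by simpa using hx1
    have hxA : (x : G) ∈ A := (Subgroup.mem_inf.mp hx).1
    have hxC : (x : G) ∈ C := (Subgroup.mem_inf.mp hx).2
    clear hx1 hx
    have hmem : C ∈ Cfsg.unipotentSubgroups A B :=
      root_mem_unipotent hS h hB hC hxA hx1' (Subgroup.one_mem _) (by simpa using hxC)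
    by_contra hne
    obtain ⟨a', ha', hCeq⟩ := rankOne_unipotent_ne h hmem (Ne.symm hne)
    rw [hCeq, mem_conjBy] at hxC
    have hxA' : a'⁻¹ * (x : G) * a' ∈ A := A.mul_mem (A.mul_mem (A.inv_mem ha') hxA) ha'
    have h3 : a'⁻¹ * (x : G) * a' ∈ A ⊓ Subgroup.normalizer (B : Set G) :=
      ⟨hxA', Subgroup.le_normalizer hxC⟩
    rw [rankOne_inf_normalizer h, Subgroup.mem_bot] at h3
    apply hx1'
    have : (x : G) = a' * (a'⁻¹ * (x : G) * a') * a'⁻¹ := by group
    rw [this, h3]; group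

/-- Core of S5025. -/
theorem root_central_translate {S : Set (Subgroup G)} (hS : Cfsg.IsRootSubgroupSet S) {A B : Subgroup G}
    (h : Cfsg.IsRankOnePair A B) (hB : B ∈ S) {z : G}
    (hz : z ∈ Subgroup.centralizer ((A ⊔ B : Subgroup G) : Set G)) (hz1 : z ≠ 1) {a : G} (ha : a ∈ A)
    (ha1 : a ≠ 1) {C : Subgroup G} (hC : C ∈ S) : z * a ∉ C := by
  intro hza
  have hzA : z ∈ Subgroup.centralizer (A : Set G) :=
    Subgroup.centralizer_le (by exact_mod_cast (le_sup_left : A ≤ A ⊔ B)) hz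
  have hzB : z ∈ Subgroup.centralizer (B : Set G) :=
    Subgroup.centralizer_le (by exact_mod_cast (le_sup_right : B ≤ A ⊔ B)) hz
  have hmem : C ∈ Cfsg.unipotentSubgroups A B := root_mem_unipotent hS h hB hC ha ha1 hzB hza
  by_cases hCA : C = A
  · rw [hCA] at hza
    have hzA' : z ∈ A := by
      have : z = z * a * a⁻¹ := by group
      rw [this]; exact A.mul_mem hza (A.inv_mem ha)
    have : z ∈ A ⊓ Subgroup.normalizer (B : Set G) := ⟨hzA', centralizer_le_normalizer' B hzB⟩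
    rw [rankOne_inf_normalizer h, Subgroup.mem_bot] at this
    exact hz1 this
  · obtain ⟨a', ha', hCeq⟩ := rankOne_unipotent_ne h hmem hCA
    rw [hCeq, mem_conjBy] at hza
    have hcomm : a'⁻¹ * z = z * a'⁻¹ := (mem_centralizer_coe.mp hzA) _ (A.inv_mem ha')
    have e : a'⁻¹ * (z * a) * a' = z * (a'⁻¹ * a * a') := by
      calc a'⁻¹ * (z * a) * a' = (a'⁻¹ * z) * a * a' := by group
        _ = (z * a'⁻¹) * a * a' := by rw [hcomm]
        _ = z * (a'⁻¹ * a * a') := by group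
    rw [e] at hza
    have ha'' : a'⁻¹ * a * a' ∈ A := A.mul_mem (A.mul_mem (A.inv_mem ha') ha) ha'
    have hN : a'⁻¹ * a * a' ∈ Subgroup.normalizer (B : Set G) := by
      have : a'⁻¹ * a * a' = z⁻¹ * (z * (a'⁻¹ * a * a')) := by group
      rw [this]
      exact Subgroup.mul_mem _ (centralizer_le_normalizer' B (Subgroup.inv_mem _ hzB))
        (Subgroup.le_normalizer hza)
    have h3 : a'⁻¹ * a * a' ∈ A ⊓ Subgroup.normalizer (B : Set G) := ⟨ha'', hN⟩
    rw [rankOne_inf_normalizer h, Subgroup.mem_bot] at h3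
    apply ha1
    have : a = a' * (a'⁻¹ * a * a') * a'⁻¹ := by group
    rw [this, h3]; group

end Cfsg.Agent.Helper83
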