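import Mathlib
import Cfsg.Prelude.Def_RootSubgroups
import Cfsg.Agent.Helper83.RootSub

set_option autoImplicit false

namespace Cfsg.Agent.Helper83

open scoped commutatorElement

variable {G : Type*} [Group G]

theorem unipotent_mem_S {S : Set (Subgroup G)} (hS : Cfsg.IsRootSubgroupSet S) {C D C' : Subgroup G}
    (hC : C ∈ S) (hC' : C' ∈ Cfsg.unipotentSubgroups C D) : C' ∈ S := by
  obtain ⟨x, _, rfl⟩ := hC'
  exact hS.conj_mem C hC x

/-- Every unipotent subgroup has a rank one partner among the unipotent subgroups. -/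
theorem unipotent_exists_partner {C D C' : Subgroup G} (h : Cfsg.IsRankOnePair C D)
    (hC' : C' ∈ Cfsg.unipotentSubgroups C D) :
    ∃ D' ∈ Cfsg.unipotentSubgroups C D, Cfsg.IsRankOnePair C' D' := by
  by_cases hne : C' = C
  · exact ⟨D, rankOne_B_mem_unipotent h, hne ▸ h⟩
  · exact ⟨C, A_mem_unipotent C D, (rankOne_pair_of_mem h hC' (A_mem_unipotent C D) hne).1⟩

theorem le_centralizer_sup {A C D : Subgroup G} (hC : A ≤ Subgroup.centralizer (C : Set G))
    (hD : A ≤ Subgroup.centralizer (D : Set G)) :
    A ≤ Subgroup.centralizer ((C ⊔ D : Subgroup G) : Set G) := by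
  intro a ha
  have h1 : C ≤ Subgroup.centralizer ({a} : Set G) := by
    intro c hc
    rw [Subgroup.mem_centralizer_iff]
    intro m hm
    rw [Set.mem_singleton_iff] at hm
    subst hm
    exact ((mem_centralizer_coe.mp (hC ha)) c hc).symm
  have h2 : D ≤ Subgroup.centralizer ({a} : Set G) := by
    intro c hc
    rw [Subgroup.mem_centralizer_iff]
    intro m hm
    rw [Set.mem_singleton_iff] at hm
    subst hm
    exact ((mem_centralizer_coe.mp (hD ha)) c hc).symm
  rw [Subgroup.mem_centralizer_iff]
  intro y hy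
  have := (sup_le h1 h2) hy
  rw [Subgroup.mem_centralizer_iff] at this
  exact (this a rfl).symm

/-- A member `A` of `S` contained in the rank one group `⟨C, D⟩` and not commuting with the unipotent subgroup
`C'` forms a rank one pair with it or is not in the commutator case: the commutator case is impossible. -/
theorem root_no_commutator_case_in {S : Set (Subgroup G)} (hS : Cfsg.IsRootSubgroupSet S)
    {A C D C' : Subgroup G} (h : Cfsg.IsRankOnePair C D) (hC : C ∈ S)
    (hA : A ∈ S) (hle : A ≤ C ⊔ D) (hC' : C' ∈ Cfsg.unipotentSubgroups C D) :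
    ¬ Cfsg.RootCommutatorCase S A C' := by
  rintro ⟨hE, hcen, hgenA, _⟩
  have hC'S : C' ∈ S := unipotent_mem_S hS hC hC'
  obtain ⟨a', ha1⟩ := (Subgroup.ne_bot_iff_exists_ne_one).mp (hS.ne_bot A hA)
  obtain ⟨a, ha⟩ := a'
  have ha1' : a ≠ 1 := by simpa using ha1
  clear ha1
  have hC'' : Cfsg.conjBy C' a ∈ Cfsg.unipotentSubgroups C D := unipotent_conj_mem hC' (hle ha)
  have hcomm := hS.commutative C' hC'S
  have hcentr : Cfsg.conjBy C' a ≤ Subgroup.centralizer (C' : Set G) := by
    intro x hx
    rw [mem_conjBy] at hx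
    have hx' : x = ⁅a, a⁻¹ * x * a⁆ * (a⁻¹ * x * a) := by rw [commutatorElement_def]; group
    rw [hx']
    refine Subgroup.mul_mem _ ?_ ?_
    · rw [mem_centralizer_coe]
      intro c hc
      exact (hcen _ (Subgroup.commutator_mem_commutator ha hx) c (Subgroup.mem_sup_right hc)).symm
    · rw [mem_centralizer_coe]
      intro c hc
      have := hcomm.is_comm.comm ⟨c, hc⟩ ⟨_, hx⟩
      exact congrArg Subtype.val this
  by_cases hne : Cfsg.conjBy C' a = C'
  · -- then E ≤ C'
    have hEle : ⁅A, C'⁆ ≤ C' := by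
      rw [← hgenA a ha ha1', Subgroup.closure_le]
      rintro _ ⟨c, hc, rfl⟩
      refine C'.mul_mem ?_ (C'.inv_mem hc)
      have := conj_mem_conjBy (g := a) hc
      rwa [hne] at this
    obtain ⟨D', hD', hpair⟩ := unipotent_exists_partner h hC'
    have hD'S : D' ∈ S := unipotent_mem_S hS hC hD'
    rcases root_inf_eq_bot hS hpair hD'S hE with h1 | h1
    · rw [inf_eq_right.mpr hEle] at h1
      exact hS.ne_bot _ hE h1
    · -- C' = E is centralized by A
      have : ⁅A, C'⁆ = ⊥ := by
        rw [Subgroup.commutator_eq_bot_iff_le_centralizer]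
        intro x hx
        rw [mem_centralizer_coe]
        intro c hc
        rw [h1] at hc
        exact hcen c hc x (Subgroup.mem_sup_left hx)
      exact hS.ne_bot _ hE this
  · have hpair := (rankOne_pair_of_mem h hC' hC'' (Ne.symm hne)).1
    have := rankOne_inf_normalizer' hpair
    rw [inf_eq_left.mpr (hcentr.trans (centralizer_le_normalizer' C'))] at this
    exact rankOne_right_ne_bot hpair this

/-- A member of `S` inside the rank one group `⟨C, D⟩` which is not central there is a unipotent subgroup. -/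
theorem root_mem_unipotent_of_le {S : Set (Subgroup G)} (hS : Cfsg.IsRootSubgroupSet S)
    {A C D : Subgroup G} (h : Cfsg.IsRankOnePair C D) (hC : C ∈ S)
    (hA : A ∈ S) (hle : A ≤ C ⊔ D)
    (hnc : ¬ A ≤ Subgroup.centralizer ((C ⊔ D : Subgroup G) : Set G)) :
    A ∈ Cfsg.unipotentSubgroups C D := by
  by_contra hnot
  apply hnc
  have key : ∀ C' ∈ Cfsg.unipotentSubgroups C D, A ≤ Subgroup.centralizer (C' : Set G) := by
    intro C' hC'
    have hC'S : C' ∈ S := unipotent_mem_S hS hC hC'
    rcases hS.pair A hA C' hC'S with h0 | h1 | h2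
    · exact Subgroup.commutator_eq_bot_iff_le_centralizer.mp h0
    · exfalso
      apply hnot
      obtain ⟨a', ha1⟩ := (Subgroup.ne_bot_iff_exists_ne_one).mp (hS.ne_bot A hA)
      obtain ⟨a, ha⟩ := a'
      have ha1' : a ≠ 1 := by simpa using ha1
      obtain ⟨c, hc, _, hcc⟩ := h1.cond_left a ha ha1'
      have h3 : Cfsg.conjBy C' a⁻¹ ∈ Cfsg.unipotentSubgroups C D :=
        unipotent_conj_mem hC' (hle (A.inv_mem ha))
      have h4 : A = Cfsg.conjBy (Cfsg.conjBy C' a⁻¹) c := by
        rw [← hcc, conjBy_conjBy]; simp [conjBy_one]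
      rw [h4]
      exact unipotent_conj_mem h3 (unipotent_le_sup hC' hc)
    · exact absurd h2 (root_no_commutator_case_in hS h hC hA hle hC')
  exact le_centralizer_sup (key C (A_mem_unipotent C D)) (key D (rankOne_B_mem_unipotent h))

end Cfsg.Agent.Helper83
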