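import Mathlib
import Cfsg.Prelude.Def_RootSubgroups
import Cfsg.Agent.Helper83.RootSub2

set_option autoImplicit false

namespace Cfsg.Agent.Helper83

open scoped commutatorElement

variable {G : Type*} [Group G]

/-! ### The commutator case -/

theorem closure_image_inv (T : Set G) (f g : G → G) (h : ∀ x, g x = (f x)⁻¹) :
    Subgroup.closure (g '' T) = Subgroup.closure (f '' T) := by
  apply le_antisymm
  · rw [Subgroup.closure_le]
    rintro _ ⟨x, hx, rfl⟩
    rw [h x]
    exact Subgroup.inv_mem _ (Subgroup.subset_closure ⟨x, hx, rfl⟩)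
  · rw [Subgroup.closure_le]
    rintro _ ⟨x, hx, rfl⟩
    have : f x = (g x)⁻¹ := by rw [h x, inv_inv]
    rw [this]
    exact Subgroup.inv_mem _ (Subgroup.subset_closure ⟨x, hx, rfl⟩)

theorem commutatorCase_symm {S : Set (Subgroup G)} {A B : Subgroup G}
    (h : Cfsg.RootCommutatorCase S A B) : Cfsg.RootCommutatorCase S B A := by
  obtain ⟨hC, hcen, hA, hB⟩ := h
  have hcomm : ⁅B, A⁆ = ⁅A, B⁆ := Subgroup.commutator_comm B A
  refine ⟨hcomm ▸ hC, ?_, ?_, ?_⟩
  · intro c hc x hx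
    rw [hcomm] at hc
    rw [sup_comm] at hx
    exact hcen c hc x hx
  · intro b hb hb1
    rw [hcomm, ← hB b hb hb1]
    exact closure_image_inv _ _ _ (fun a => by group)
  · intro a ha ha1
    rw [hcomm, ← hA a ha ha1]
    exact closure_image_inv _ _ _ (fun b => by group)

/-- `⁅A, B⁆` is normalized by `A ⊔ B`. -/
theorem commutator_conj_of_mem_sup (A B : Subgroup G) {x : G} (hx : x ∈ A ⊔ B) :
    Cfsg.conjBy ⁅A, B⁆ x = ⁅A, B⁆ := by
  rw [conjBy_eq_self_iff]
  have hA : A ≤ Subgroup.normalizer ((⁅A, B⁆ : Subgroup G) : Set G) := by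
    rw [Subgroup.commutator_def, Subgroup.le_normalizer_closure_iff]
    rintro x hx _ ⟨a, ha, b, hb, rfl⟩
    have : x * ⁅a, b⁆ * x⁻¹ = ⁅x * a, b⁆ * ⁅x, b⁆⁻¹ := by
      simp only [commutatorElement_def]; group
    rw [this, ← Subgroup.commutator_def]
    exact Subgroup.mul_mem _ (Subgroup.commutator_mem_commutator (A.mul_mem hx ha) hb)
      (Subgroup.inv_mem _ (Subgroup.commutator_mem_commutator hx hb))
  have hB : B ≤ Subgroup.normalizer ((⁅A, B⁆ : Subgroup G) : Set G) := by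
    rw [Subgroup.commutator_def, Subgroup.le_normalizer_closure_iff]
    rintro x hx _ ⟨a, ha, b, hb, rfl⟩
    have : x * ⁅a, b⁆ * x⁻¹ = ⁅a, x⁆⁻¹ * ⁅a, x * b⁆ := by
      simp only [commutatorElement_def]; group
    rw [this, ← Subgroup.commutator_def]
    exact Subgroup.mul_mem _ (Subgroup.inv_mem _ (Subgroup.commutator_mem_commutator ha hx))
      (Subgroup.commutator_mem_commutator ha (B.mul_mem hx hb))
  exact (sup_le hA hB) hx

theorem commutatorCase_of_mem {S : Set (Subgroup G)} (hS : Cfsg.IsRootSubgroupSet S) {A B : Subgroup G}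
    (hA : A ∈ S) (hB : B ∈ S) (hC : ⁅A, B⁆ ∈ S) : Cfsg.RootCommutatorCase S A B := by
  rcases hS.pair A hA B hB with h0 | h1 | h2
  · exact absurd h0 (hS.ne_bot _ hC)
  · exfalso
    have hle : ⁅A, B⁆ ≤ A ⊔ B := Subgroup.commutator_le.mpr (fun a ha b hb => by
      rw [commutatorElement_def]
      exact Subgroup.mul_mem _ (Subgroup.mul_mem _ (Subgroup.mul_mem _ (Subgroup.mem_sup_left ha)
        (Subgroup.mem_sup_right hb)) (Subgroup.mem_sup_left (A.inv_mem ha)))
        (Subgroup.mem_sup_right (B.inv_mem hb)))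
    by_cases hcen : ⁅A, B⁆ ≤ Subgroup.centralizer ((A ⊔ B : Subgroup G) : Set G)
    · obtain ⟨a', ha1⟩ := (Subgroup.ne_bot_iff_exists_ne_one).mp (rankOne_left_ne_bot h1)
      obtain ⟨a, ha⟩ := a'
      have ha1' : a ≠ 1 := by simpa using ha1
      apply rankOne_no_central_comm h1 ha ha1'
      intro b hb
      have := hcen (Subgroup.commutator_mem_commutator ha hb)
      rw [commutatorElement_def] at this
      exact Subgroup.centralizer_le (by exact_mod_cast (le_sup_right : B ≤ A ⊔ B)) this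
    · have hmem := root_mem_unipotent_of_le hS h1 hA hC hle hcen
      have hne : ⁅A, B⁆ ≠ A ∨ ⁅A, B⁆ ≠ B := by
        by_contra hcon
        push Not at hcon
        exact h1.ne (hcon.1.symm.trans hcon.2)
      rcases hne with hne | hne
      · obtain ⟨x, hx, hx1, _⟩ := rankOne_move_pair h1 (A_mem_unipotent A B) hmem (Ne.symm hne)
        obtain ⟨y, hy, _, hy2⟩ := rankOne_move_pair h1 hmem (A_mem_unipotent A B) hne
        -- conj of the commutator by x is itself, but the pair is moved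
        have := rankOne_move_pair h1 hmem (rankOne_B_mem_unipotent h1)
        by_cases hB' : ⁅A, B⁆ = B
        · -- then move (C, A) to (A, B): C = B ↦ A
          obtain ⟨z, hz, hz1, _⟩ := rankOne_move_pair h1 hmem (A_mem_unipotent A B) hne
          rw [commutator_conj_of_mem_sup A B hz] at hz1
          exact hne hz1
        · obtain ⟨z, hz, hz1, _⟩ := rankOne_move_pair h1 hmem (rankOne_B_mem_unipotent h1) hB'
          rw [commutator_conj_of_mem_sup A B hz] at hz1
          obtain ⟨w, hw, _, hw2⟩ := rankOne_move_pair h1 (A_mem_unipotent A B) hmem (Ne.symm hne)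
          rw [commutator_conj_of_mem_sup A B hw] at hw2
          exact h1.ne (hz1.symm.trans hw2)
      · obtain ⟨z, hz, hz1, _⟩ := rankOne_move_pair h1 hmem (rankOne_B_mem_unipotent h1) hne
        rw [commutator_conj_of_mem_sup A B hz] at hz1
        obtain ⟨w, hw, _, hw2⟩ := rankOne_move_pair h1 (rankOne_B_mem_unipotent h1) hmem (Ne.symm hne)
        rw [commutator_conj_of_mem_sup A B hw] at hw2
        -- hz1 : C = A, hw2 : C = B
        exact h1.ne (hz1.symm.trans hw2)
  · exact h2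

/-! ### The commutator homomorphism in the commutator case -/

theorem commutatorCase_comm_mul {S : Set (Subgroup G)} {A B : Subgroup G}
    (h : Cfsg.RootCommutatorCase S A B) {a b b' : G} (ha : a ∈ A) (hb : b ∈ B) (hb' : b' ∈ B) :
    ⁅a, b * b'⁆ = ⁅a, b⁆ * ⁅a, b'⁆ := by
  have hcen := h.2.1 ⁅a, b'⁆ (Subgroup.commutator_mem_commutator ha hb') b⁻¹
    (Subgroup.mem_sup_right (B.inv_mem hb))
  simp only [commutatorElement_def] at hcen ⊢
  calc a * (b * b') * a⁻¹ * (b * b')⁻¹ = a * b * a⁻¹ * ((a * b' * a⁻¹ * b'⁻¹) * b⁻¹) := by group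
    _ = a * b * a⁻¹ * (b⁻¹ * (a * b' * a⁻¹ * b'⁻¹)) := by rw [hcen]
    _ = a * b * a⁻¹ * b⁻¹ * (a * b' * a⁻¹ * b'⁻¹) := by group

/-- For `a ∈ A`, the homomorphism `b ↦ ⁅a, b⁆` from `B` to `⁅A, B⁆` in the commutator case. -/
def commHom {S : Set (Subgroup G)} {A B : Subgroup G} (h : Cfsg.RootCommutatorCase S A B) {a : G}
    (ha : a ∈ A) : B →* (⁅A, B⁆ : Subgroup G) where
  toFun b := ⟨⁅a, (b : G)⁆, Subgroup.commutator_mem_commutator ha b.2⟩
  map_one' := by
    apply Subtype.ext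
    simp [commutatorElement_def]
  map_mul' b b' := by
    apply Subtype.ext
    exact commutatorCase_comm_mul h ha b.2 b'.2

theorem commHom_apply {S : Set (Subgroup G)} {A B : Subgroup G} (h : Cfsg.RootCommutatorCase S A B)
    {a : G} (ha : a ∈ A) (b : B) : ((commHom h ha b : (⁅A, B⁆ : Subgroup G)) : G) = ⁅a, (b : G)⁆ := rfl

theorem commHom_surjective {S : Set (Subgroup G)} {A B : Subgroup G}
    (h : Cfsg.RootCommutatorCase S A B) {a : G} (ha : a ∈ A) (ha1 : a ≠ 1) :
    Function.Surjective (commHom h ha) := by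
  rw [← MonoidHom.range_eq_top]
  rw [eq_top_iff]
  -- the image (mapped to G) contains the generators
  have hle : ⁅A, B⁆ ≤ ((commHom h ha).range).map (⁅A, B⁆ : Subgroup G).subtype := by
    have hgen := h.2.2.1 a ha ha1
    have hle' : Subgroup.closure ((fun b : G => a * b * a⁻¹ * b⁻¹) '' (B : Set G)) ≤
        ((commHom h ha).range).map (⁅A, B⁆ : Subgroup G).subtype := by
      rw [Subgroup.closure_le]
      rintro _ ⟨b, hb, rfl⟩
      refine ⟨commHom h ha ⟨b, hb⟩, ⟨⟨b, hb⟩, rfl⟩, ?_⟩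
      simp [commHom_apply, commutatorElement_def]
    intro x hx
    apply hle'
    rw [hgen]; exact hx
  intro c _
  obtain ⟨c', hc', hcc⟩ := hle c.2
  have : c' = c := Subtype.ext hcc
  rw [← this]; exact hc'

/-- Every element of `⁅A, B⁆` is a commutator `⁅a, b⁆` with a fixed `a ≠ 1`. -/
theorem commutatorCase_exists_comm {S : Set (Subgroup G)} {A B : Subgroup G}
    (h : Cfsg.RootCommutatorCase S A B) {a : G} (ha : a ∈ A) (ha1 : a ≠ 1) {c : G} (hc : c ∈ ⁅A, B⁆) :
    ∃ b ∈ B, ⁅a, b⁆ = c := by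
  obtain ⟨b, hb⟩ := commHom_surjective h ha ha1 ⟨c, hc⟩
  exact ⟨b, b.2, by rw [← commHom_apply h ha b, hb]⟩

theorem commutatorCase_ne {S : Set (Subgroup G)} (hS : Cfsg.IsRootSubgroupSet S) {A B : Subgroup G}
    (h : Cfsg.RootCommutatorCase S A B) : A ≠ ⁅A, B⁆ := by
  intro hA
  have : ⁅A, B⁆ = ⊥ := by
    rw [Subgroup.commutator_eq_bot_iff_le_centralizer]
    intro a ha
    rw [hA] at ha
    rw [mem_centralizer_coe]
    intro b hb
    exact (h.2.1 a ha b (Subgroup.mem_sup_right hb)).symm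
  exact hS.ne_bot _ h.1 this

/-- In the commutator case, if `A` has a rank one partner then no `b ∈ B#` commutes with an `a ∈ A#`. -/
theorem commutatorCase_centralizer_trivial {S : Set (Subgroup G)} (hS : Cfsg.IsRootSubgroupSet S)
    {A B D : Subgroup G} (h : Cfsg.RootCommutatorCase S A B) (hA : A ∈ S) (hp : Cfsg.IsRankOnePair A D)
    (hD : D ∈ S) {a b : G} (ha : a ∈ A) (ha1 : a ≠ 1) (hb : b ∈ B) (hab : a * b = b * a) : b = 1 := by
  by_contra hb1
  -- a ∈ A ⊓ conjBy A b
  have hmem : a ∈ A ⊓ Cfsg.conjBy A b := by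
    rw [Subgroup.mem_inf]
    refine ⟨ha, ?_⟩
    rw [mem_conjBy]
    have : b⁻¹ * a * b = a := by rw [mul_assoc, hab]; group
    rw [this]; exact ha
  have hconj : A = Cfsg.conjBy A b := by
    rcases root_inf_eq_bot hS hp hD (hS.conj_mem A hA b) with h1 | h1
    · rw [h1, Subgroup.mem_bot] at hmem
      exact absurd hmem ha1
    · exact h1
  -- all commutators ⁅a', b⁆ lie in A ⊓ ⁅A, B⁆ = ⊥
  have hinf : A ⊓ ⁅A, B⁆ = ⊥ := by
    rcases root_inf_eq_bot hS hp hD h.1 with h1 | h1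
    · exact h1
    · exact absurd h1 (commutatorCase_ne hS h)
  have hall : ∀ a' ∈ A, a' * b * a'⁻¹ * b⁻¹ = 1 := by
    intro a' ha'
    have h1 : a' * b * a'⁻¹ * b⁻¹ ∈ A := by
      have : a' * b * a'⁻¹ * b⁻¹ = a' * (b * a'⁻¹ * b⁻¹) := by group
      rw [this]
      refine A.mul_mem ha' ?_
      have h2 : b * a'⁻¹ * b⁻¹ ∈ Cfsg.conjBy A b := conj_mem_conjBy (A.inv_mem ha')
      rwa [← hconj] at h2
    have h2 : a' * b * a'⁻¹ * b⁻¹ ∈ ⁅A, B⁆ := Subgroup.commutator_mem_commutator ha' hb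
    have : a' * b * a'⁻¹ * b⁻¹ ∈ A ⊓ ⁅A, B⁆ := ⟨h1, h2⟩
    rwa [hinf, Subgroup.mem_bot] at this
  have hgen := h.2.2.2 b hb hb1
  have : ⁅A, B⁆ = ⊥ := by
    rw [← hgen, Subgroup.closure_eq_bot_iff]
    rintro _ ⟨a', ha', rfl⟩
    exact hall a' ha'
  exact hS.ne_bot _ h.1 this

theorem commHom_injective {S : Set (Subgroup G)} (hS : Cfsg.IsRootSubgroupSet S)
    {A B D : Subgroup G} (h : Cfsg.RootCommutatorCase S A B) (hA : A ∈ S) (hp : Cfsg.IsRankOnePair A D)
    (hD : D ∈ S) {a : G} (ha : a ∈ A) (ha1 : a ≠ 1) : Function.Injective (commHom h ha) := by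
  rw [injective_iff_map_eq_one]
  intro b hb
  have h1 : ⁅a, (b : G)⁆ = 1 := by
    rw [← commHom_apply h ha b, hb]; rfl
  rw [commutatorElement_eq_one_iff_mul_comm] at h1
  exact Subtype.ext (commutatorCase_centralizer_trivial hS h hA hp hD ha ha1 b.2 h1)

/-! ### Members of `S` inside `A ⊔ ⁅A, B⁆` -/

/-- In the commutator case every product `c * a` (`c ∈ ⁅A, B⁆`, `a ∈ A#`) lies in a conjugate of `A` by `B`. -/
theorem commutatorCase_mul_mem_conj {S : Set (Subgroup G)} {A B : Subgroup G}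
    (h : Cfsg.RootCommutatorCase S A B) {a c : G} (ha : a ∈ A) (ha1 : a ≠ 1) (hc : c ∈ ⁅A, B⁆) :
    ∃ b ∈ B, c * a = b * a * b⁻¹ := by
  obtain ⟨b, hb, hbc⟩ := commutatorCase_exists_comm h ha ha1 (Subgroup.inv_mem _ hc)
  refine ⟨b, hb, ?_⟩
  have : c = (⁅a, b⁆)⁻¹ := by rw [hbc, inv_inv]
  rw [this, commutatorElement_def]; group

/-- A non-identity element of `⁅A, B⁆` cannot centralize a rank one partner `D` of `A`. -/
theorem commutatorCase_not_centralize {S : Set (Subgroup G)} (hS : Cfsg.IsRootSubgroupSet S)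
    {A B D : Subgroup G} (h : Cfsg.RootCommutatorCase S A B) (hA : A ∈ S) (hp : Cfsg.IsRankOnePair A D)
    (hD : D ∈ S) {c : G} (hc : c ∈ ⁅A, B⁆) (hc1 : c ≠ 1) :
    c ∉ Subgroup.centralizer (D : Set G) := by
  intro hcD
  obtain ⟨a', ha1⟩ := (Subgroup.ne_bot_iff_exists_ne_one).mp (rankOne_left_ne_bot hp)
  obtain ⟨a, ha⟩ := a'
  have ha1' : a ≠ 1 := by simpa using ha1
  obtain ⟨b, _, hb⟩ := commutatorCase_mul_mem_conj h ha ha1' hc
  have hcA : c ∈ Subgroup.centralizer (A : Set G) := by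
    rw [mem_centralizer_coe]
    intro x hx
    exact (h.2.1 c hc x (Subgroup.mem_sup_left hx)).symm
  have hcen : c ∈ Subgroup.centralizer ((A ⊔ D : Subgroup G) : Set G) := by
    have h1 : Subgroup.zpowers c ≤ Subgroup.centralizer (A : Set G) := by
      rw [Subgroup.zpowers_le]; exact hcA
    have h2 : Subgroup.zpowers c ≤ Subgroup.centralizer (D : Set G) := by
      rw [Subgroup.zpowers_le]; exact hcD
    exact le_centralizer_sup h1 h2 (Subgroup.mem_zpowers c)
  refine root_central_translate hS hp hD hcen hc1 ha ha1' (hS.conj_mem A hA b) ?_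
  rw [hb]
  exact conj_mem_conjBy ha

/-- A member of `S` contained in `⁅A, B⁆` equals it (when `A` has a rank one partner). -/
theorem commutatorCase_eq_of_le {S : Set (Subgroup G)} (hS : Cfsg.IsRootSubgroupSet S)
    {A B D E : Subgroup G} (h : Cfsg.RootCommutatorCase S A B) (hA : A ∈ S)
    (hp : Cfsg.IsRankOnePair A D) (hD : D ∈ S) (hE : E ∈ S) (hle : E ≤ ⁅A, B⁆) : E = ⁅A, B⁆ := by
  have hC := h.1
  obtain ⟨e', he1⟩ := (Subgroup.ne_bot_iff_exists_ne_one).mp (hS.ne_bot E hE)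
  obtain ⟨e, he⟩ := e'
  have he1' : e ≠ 1 := by simpa using he1
  have hinfE : E ⊓ ⁅A, B⁆ = E := inf_eq_left.mpr hle
  rcases hS.pair ⁅A, B⁆ hC D hD with c0 | c1 | c2
  · exfalso
    apply commutatorCase_not_centralize hS h hA hp hD (hle he) he1'
    exact Subgroup.commutator_eq_bot_iff_le_centralizer.mp c0 (hle he)
  · rcases root_inf_eq_bot hS c1 hD hE with h1 | h1
    · rw [inf_comm, hinfE] at h1
      exact absurd h1 (hS.ne_bot E hE)
    · exact h1.symm
  · rcases hS.pair E hE D hD with e0 | e1 | e2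
    · exfalso
      apply commutatorCase_not_centralize hS h hA hp hD (hle he) he1'
      exact Subgroup.commutator_eq_bot_iff_le_centralizer.mp e0 he
    · rcases root_inf_eq_bot hS e1 hD hC with h1 | h1
      · rw [hinfE] at h1
        exact absurd h1 (hS.ne_bot E hE)
      · exact h1
    · -- both commutator cases: ⁅E, D⁆ = ⁅⁅A,B⁆, D⁆
      have hF : ⁅E, D⁆ = ⁅⁅A, B⁆, D⁆ := by
        rw [← e2.2.2.1 e he he1', ← c2.2.2.1 e (hle he) he1']
      obtain ⟨d', hd1⟩ := (Subgroup.ne_bot_iff_exists_ne_one).mp (rankOne_right_ne_bot hp)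
      obtain ⟨d, hd⟩ := d'
      have hd1' : d ≠ 1 := by simpa using hd1
      -- use the commutator homomorphism for the pair (D, ⁅A,B⁆)
      have c2' := commutatorCase_symm c2
      have e2' := commutatorCase_symm e2
      apply le_antisymm hle
      intro c hc
      -- ⁅d, c⁆ ∈ ⁅D, ⁅A,B⁆⁆ = ⁅D, E⁆, so it is ⁅d, e₀⁆ for some e₀ ∈ E
      have hmem : ⁅d, c⁆ ∈ ⁅D, E⁆ := by
        rw [Subgroup.commutator_comm D E, hF, Subgroup.commutator_comm _ D]
        exact Subgroup.commutator_mem_commutator hd hc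
      obtain ⟨e₀, he₀, he₀c⟩ := commutatorCase_exists_comm e2' hd hd1' hmem
      -- injectivity of the commutator map for (D, ⁅A,B⁆)
      have hinj := commHom_injective hS c2' hD (Cfsg.RankOnePair_symm hp) hA hd hd1'
      have : (⟨e₀, hle he₀⟩ : (⁅A, B⁆ : Subgroup G)) = ⟨c, hc⟩ := by
        apply hinj
        apply Subtype.ext
        rw [commHom_apply, commHom_apply]
        exact he₀c
      have hec : e₀ = c := congrArg Subtype.val this
      rw [← hec]; exact he₀

end Cfsg.Agent.Helper83
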