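import Mathlib
import Cfsg.Prelude.Def_RootSubgroups
import Cfsg.Agent.Helper83.RootSub3

set_option autoImplicit false

namespace Cfsg.Agent.Helper83

open scoped commutatorElement

variable {G : Type*} [Group G]

theorem commutatorCase_A_le_centralizer {S : Set (Subgroup G)} {A B : Subgroup G}
    (h : Cfsg.RootCommutatorCase S A B) : A ≤ Subgroup.centralizer ((⁅A, B⁆ : Subgroup G) : Set G) := by
  intro a ha
  rw [mem_centralizer_coe]
  intro c hc
  exact h.2.1 c hc a (Subgroup.mem_sup_left ha)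

theorem commutatorCase_mem_sup {S : Set (Subgroup G)} {A B : Subgroup G}
    (h : Cfsg.RootCommutatorCase S A B) {x : G} (hx : x ∈ A ⊔ ⁅A, B⁆) :
    ∃ a ∈ A, ∃ c ∈ ⁅A, B⁆, x = c * a := by
  have hLE : A ≤ Subgroup.normalizer ((⁅A, B⁆ : Subgroup G) : Set G) :=
    (commutatorCase_A_le_centralizer h).trans (centralizer_le_normalizer' _)
  have := Subgroup.coe_mul_of_left_le_normalizer_right A ⁅A, B⁆ hLE
  have hx' : x ∈ ((A ⊔ ⁅A, B⁆ : Subgroup G) : Set G) := hx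
  rw [this, Set.mem_mul] at hx'
  obtain ⟨a, ha, c, hc, rfl⟩ := hx'
  exact ⟨a, ha, c, hc, (h.2.1 c hc a (Subgroup.mem_sup_left ha)).symm⟩

theorem commutatorCase_conj_le {A B : Subgroup G} {b : G} (hb : b ∈ B) :
    Cfsg.conjBy A b ≤ A ⊔ ⁅A, B⁆ := by
  intro x hx
  rw [mem_conjBy] at hx
  have : x = ⁅b, b⁻¹ * x * b⁆ * (b⁻¹ * x * b) := by rw [commutatorElement_def]; group
  rw [this]
  refine Subgroup.mul_mem _ (Subgroup.mem_sup_right ?_) (Subgroup.mem_sup_left hx)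
  rw [Subgroup.commutator_comm]
  exact Subgroup.commutator_mem_commutator hb hx

/-- Every non-identity element of `A ⊔ ⁅A,B⁆` lies in `⁅A,B⁆` or in a conjugate `A^b`. -/
theorem commutatorCase_cover {S : Set (Subgroup G)} {A B : Subgroup G}
    (h : Cfsg.RootCommutatorCase S A B) {x : G} (hx : x ∈ A ⊔ ⁅A, B⁆) :
    x ∈ ⁅A, B⁆ ∨ ∃ b ∈ B, x ∈ Cfsg.conjBy A b := by
  obtain ⟨a, ha, c, hc, rfl⟩ := commutatorCase_mem_sup h hx
  by_cases ha1 : a = 1
  · left; rw [ha1, mul_one]; exact hc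
  · right
    obtain ⟨b, hb, hbc⟩ := commutatorCase_mul_mem_conj h ha ha1 hc
    exact ⟨b, hb, hbc ▸ conj_mem_conjBy ha⟩

theorem commutatorCase_members {S : Set (Subgroup G)} (hS : Cfsg.IsRootSubgroupSet S)
    {A B D : Subgroup G} (h : Cfsg.RootCommutatorCase S A B) (hA : A ∈ S)
    (hp : Cfsg.IsRankOnePair A D) (hD : D ∈ S) :
    Cfsg.membersIn S (A ⊔ ⁅A, B⁆) = (fun b : G => Cfsg.conjBy A b) '' (B : Set G) ∪ {⁅A, B⁆} := by
  ext E
  constructor
  · rintro ⟨hE, hle⟩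
    by_cases hEC : E ≤ ⁅A, B⁆
    · right
      exact commutatorCase_eq_of_le hS h hA hp hD hE hEC
    · left
      rw [SetLike.not_le_iff_exists] at hEC
      obtain ⟨e, he, heC⟩ := hEC
      rcases commutatorCase_cover h (hle he) with h1 | ⟨b, hb, hmem⟩
      · exact absurd h1 heC
      · refine ⟨b, hb, ?_⟩
        have he1 : e ≠ 1 := fun hc => heC (hc ▸ Subgroup.one_mem _)
        rcases root_inf_eq_bot hS (rankOne_conj hp b) (hS.conj_mem D hD b) hE with h1 | h1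
        · have : e ∈ Cfsg.conjBy A b ⊓ E := ⟨hmem, he⟩
          rw [h1, Subgroup.mem_bot] at this
          exact absurd this he1
        · exact h1
  · rintro (⟨b, hb, rfl⟩ | hE)
    · exact ⟨hS.conj_mem A hA b, commutatorCase_conj_le hb⟩
    · rw [Set.mem_singleton_iff] at hE
      rw [hE]
      exact ⟨h.1, le_sup_right⟩

theorem commutatorCase_partition {S : Set (Subgroup G)} (hS : Cfsg.IsRootSubgroupSet S)
    {A B D : Subgroup G} (h : Cfsg.RootCommutatorCase S A B) (hA : A ∈ S)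
    (hp : Cfsg.IsRankOnePair A D) (hD : D ∈ S) :
    Cfsg.IsSubgroupPartition (A ⊔ ⁅A, B⁆) (Cfsg.membersIn S (A ⊔ ⁅A, B⁆)) := by
  refine ⟨fun E hE => hE.2, ?_, ?_⟩
  · intro x hx hx1
    rcases commutatorCase_cover h hx with h1 | ⟨b, hb, hmem⟩
    · exact ⟨⁅A, B⁆, ⟨h.1, le_sup_right⟩, h1⟩
    · exact ⟨Cfsg.conjBy A b, ⟨hS.conj_mem A hA b, commutatorCase_conj_le hb⟩, hmem⟩
  · intro E₁ hE₁ E₂ hE₂ hne
    have key : ∀ E₁ ∈ Cfsg.membersIn S (A ⊔ ⁅A, B⁆), ∀ E₂ ∈ Cfsg.membersIn S (A ⊔ ⁅A, B⁆), E₁ ≠ E₂ →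
        E₁ ∈ (fun b : G => Cfsg.conjBy A b) '' (B : Set G) → E₁ ⊓ E₂ = ⊥ := by
      rintro E₁ _ E₂ hE₂ hne ⟨b, _, rfl⟩
      rcases root_inf_eq_bot hS (rankOne_conj hp b) (hS.conj_mem D hD b) hE₂.1 with h1 | h1
      · exact h1
      · exact absurd h1 hne
    have hE₁' := hE₁
    have hE₂' := hE₂
    rw [commutatorCase_members hS h hA hp hD] at hE₁' hE₂'
    rcases hE₁' with h1 | h1
    · exact key E₁ hE₁ E₂ hE₂ hne h1
    · rcases hE₂' with h2 | h2
      · rw [inf_comm]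
        exact key E₂ hE₂ E₁ hE₁ (Ne.symm hne) h2
      · rw [Set.mem_singleton_iff] at h1 h2
        exact absurd (h1.trans h2.symm) hne

end Cfsg.Agent.Helper83
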