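import Mathlib
import Cfsg.Prelude.Def_RootSubgroups
import Cfsg.Agent.Helper83.RootSub4

set_option autoImplicit false

namespace Cfsg.Agent.Helper83

open scoped commutatorElement

variable {G : Type*} [Group G]

/-! ### Components of the graph of rank one pairs -/

theorem FAdj_symm {S : Set (Subgroup G)} {A B : Subgroup G} (h : Cfsg.FAdj S A B) : Cfsg.FAdj S B A :=
  ⟨h.2.1, h.1, Cfsg.RankOnePair_symm h.2.2⟩

theorem reach_symm {S : Set (Subgroup G)} {A B : Subgroup G}
    (h : Relation.ReflTransGen (Cfsg.FAdj S) A B) : Relation.ReflTransGen (Cfsg.FAdj S) B A := by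
  induction h with
  | refl => exact Relation.ReflTransGen.refl
  | tail _ hbc ih => exact Relation.ReflTransGen.head (FAdj_symm hbc) ih

theorem component_eq_of_reach {S : Set (Subgroup G)} {A B : Subgroup G}
    (h : Relation.ReflTransGen (Cfsg.FAdj S) A B) :
    Cfsg.componentOf (Cfsg.FAdj S) S A = Cfsg.componentOf (Cfsg.FAdj S) S B := by
  ext X
  constructor
  · rintro ⟨hX, hAX⟩
    exact ⟨hX, (reach_symm h).trans hAX⟩
  · rintro ⟨hX, hBX⟩
    exact ⟨hX, h.trans hBX⟩

theorem exists_partner_of_component {S : Set (Subgroup G)} {A : Subgroup G}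
    (h : ∃ A' ∈ Cfsg.componentOf (Cfsg.FAdj S) S A, A' ≠ A) : ∃ D ∈ S, Cfsg.IsRankOnePair A D := by
  obtain ⟨A', ⟨_, hreach⟩, hne⟩ := h
  rcases Relation.ReflTransGen.cases_head hreach with h1 | ⟨D, hD, _⟩
  · exact absurd h1.symm hne
  · exact ⟨D, hD.2.1, hD.2.2⟩

/-- Key lemma for lines: see the proof of S5031. -/
theorem line_point_rankOne {S : Set (Subgroup G)} (hS : Cfsg.IsRootSubgroupSet S)
    {A B D E : Subgroup G} (hD : D ∈ S) (hE : E ∈ S) (hcomm : B ≤ Subgroup.centralizer (A : Set G))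
    (hp : Cfsg.IsRankOnePair A D) (hBD : Cfsg.RootCommutatorCase S B D) {a b : G} (ha : a ∈ A)
    (ha1 : a ≠ 1) (hb : b ∈ B) (hba : b * a ∈ E) : Cfsg.IsRankOnePair E D := by
  -- Step α: (D, conjBy D (b * a)) is a rank one pair
  have hDmem : D ∈ Cfsg.unipotentSubgroups A D := rankOne_B_mem_unipotent hp
  have hDa : Cfsg.conjBy D a ∈ Cfsg.unipotentSubgroups A D :=
    unipotent_conj_mem hDmem (Subgroup.mem_sup_left ha)
  have hne : D ≠ Cfsg.conjBy D a := fun hc => ha1 (rankOne_eq_one_of_conj hp ha hc.symm)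
  have hpair := (rankOne_pair_of_mem hp hDmem hDa hne).1
  obtain ⟨d₀, hd₀, _, hd₀c⟩ := hp.cond_left a⁻¹ (A.inv_mem ha) (by simpa using ha1)
  rw [inv_inv] at hd₀c
  -- hd₀c : conjBy A d₀⁻¹ = conjBy D a
  set d := d₀⁻¹ with hd
  have hdD : d ∈ D := D.inv_mem hd₀
  have hf : ⁅b, d⁆ ∈ Subgroup.centralizer (D : Set G) := by
    rw [mem_centralizer_coe]
    intro x hx
    exact (hBD.2.1 _ (Subgroup.commutator_mem_commutator hb hdD) x (Subgroup.mem_sup_right hx)).symm
  have hAb : Cfsg.conjBy A b = A := conjBy_eq_self_iff.mpr (centralizer_le_normalizer' A (hcomm hb))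
  have hconj : Cfsg.conjBy D (b * a) = Cfsg.conjBy (Cfsg.conjBy D a) ⁅b, d⁆ := by
    rw [← conjBy_conjBy D a b, ← hd₀c, conjBy_conjBy, conjBy_conjBy]
    have : b * d = ⁅b, d⁆ * d * b := by rw [commutatorElement_def]; group
    rw [this, ← conjBy_conjBy A b, hAb]
  have hpair' : Cfsg.IsRankOnePair D (Cfsg.conjBy D (b * a)) := by
    have := rankOne_conj hpair ⁅b, d⁆
    rw [conjBy_eq_self_iff.mpr (centralizer_le_normalizer' D hf), ← hconj] at this
    exact this
  -- Step β
  rcases hS.pair E hE D hD with h0 | h1 | h2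
  · exfalso
    have : b * a ∈ Subgroup.centralizer (D : Set G) :=
      Subgroup.commutator_eq_bot_iff_le_centralizer.mp h0 hba
    exact hpair'.ne (conjBy_eq_self_iff.mpr (centralizer_le_normalizer' D this)).symm
  · exact h1
  · exfalso
    have hDcomm := hS.commutative D hD
    have hle : Cfsg.conjBy D (b * a) ≤ Subgroup.normalizer (D : Set G) := by
      refine le_trans ?_ (centralizer_le_normalizer' D)
      intro x hx
      rw [mem_conjBy] at hx
      have hx' : x = ⁅b * a, (b * a)⁻¹ * x * (b * a)⁆ * ((b * a)⁻¹ * x * (b * a)) := by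
        rw [commutatorElement_def]; group
      rw [hx']
      refine Subgroup.mul_mem _ ?_ ?_
      · rw [mem_centralizer_coe]
        intro y hy
        exact (h2.2.1 _ (Subgroup.commutator_mem_commutator hba hx) y (Subgroup.mem_sup_right hy)).symm
      · rw [mem_centralizer_coe]
        intro y hy
        exact congrArg Subtype.val (hDcomm.is_comm.comm ⟨y, hy⟩ ⟨_, hx⟩)
    have := rankOne_inf_normalizer' hpair'
    rw [inf_eq_left.mpr hle] at this
    exact rankOne_right_ne_bot hpair' this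

end Cfsg.Agent.Helper83
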