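import Mathlib

/-!
# Conjugation representations on coordinatised subspaces of `M₄(F)`

A `Coord F ι` is a linear embedding `φ : F^ι → M₄(F)` with a linear left inverse `c`.  The
subgroup `stab` of `GL₄(F)` consists of the matrices `g` such that conjugation by `g` and by `g⁻¹`
preserves the image of `φ`; it acts on `F^ι`, which gives a homomorphism `rep : stab →* GL ι F`.
-/

set_option autoImplicit false

namespace Cfsg.Agent.Helper83.B2

open Matrix

/-- `4 × 4` matrices -/
abbrev M4 (F : Type*) [Field F] := Matrix (Fin 4) (Fin 4) F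

/-- a coordinatised subspace of `M₄(F)` -/
structure Coord (F : Type*) [Field F] (ι : Type*) where
  φ : (ι → F) →ₗ[F] M4 F
  c : M4 F →ₗ[F] (ι → F)
  hc : ∀ v, c (φ v) = v

variable {F : Type*} [Field F] {ι : Type*}

namespace Coord

variable (C : Coord F ι)

theorem φ_injective : Function.Injective C.φ := by
  intro v w h
  rw [← C.hc v, ← C.hc w, h]

/-- the stabiliser of the image of `φ` under conjugation -/
def stab : Subgroup (GL (Fin 4) F) where
  carrier := {g | (∀ v, C.φ (C.c ((g : M4 F) * C.φ v * ((g⁻¹ : GL (Fin 4) F) : M4 F)))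
      = (g : M4 F) * C.φ v * ((g⁻¹ : GL (Fin 4) F) : M4 F)) ∧
    (∀ v, C.φ (C.c (((g⁻¹ : GL (Fin 4) F) : M4 F) * C.φ v * (g : M4 F)))
      = ((g⁻¹ : GL (Fin 4) F) : M4 F) * C.φ v * (g : M4 F))}
  mul_mem' := by
    rintro g h ⟨hg1, hg2⟩ ⟨hh1, hh2⟩
    constructor
    · intro v
      have e : ((g * h : GL (Fin 4) F) : M4 F) * C.φ v * (((g * h)⁻¹ : GL (Fin 4) F) : M4 F)
          = (g : M4 F) * ((h : M4 F) * C.φ v * ((h⁻¹ : GL (Fin 4) F) : M4 F))
            * ((g⁻¹ : GL (Fin 4) F) : M4 F) := by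
        rw [_root_.mul_inv_rev, Units.val_mul, Units.val_mul]
        simp only [mul_assoc]
      rw [e, ← hh1 v, hg1]
    · intro v
      have e : (((g * h)⁻¹ : GL (Fin 4) F) : M4 F) * C.φ v * ((g * h : GL (Fin 4) F) : M4 F)
          = ((h⁻¹ : GL (Fin 4) F) : M4 F) * (((g⁻¹ : GL (Fin 4) F) : M4 F) * C.φ v * (g : M4 F))
            * (h : M4 F) := by
        rw [_root_.mul_inv_rev, Units.val_mul, Units.val_mul]
        simp only [mul_assoc]
      rw [e, ← hg2 v, hh2]
  one_mem' := by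
    constructor
    · intro v
      simp only [inv_one, Units.val_one, one_mul, mul_one, C.hc]
    · intro v
      simp only [inv_one, Units.val_one, one_mul, mul_one, C.hc]
  inv_mem' := by
    rintro g ⟨hg1, hg2⟩
    refine ⟨?_, ?_⟩
    · intro v
      rw [inv_inv]
      exact hg2 v
    · intro v
      rw [inv_inv]
      exact hg1 v

theorem mem_stab_iff (g : GL (Fin 4) F) : g ∈ C.stab ↔
    (∀ v, C.φ (C.c ((g : M4 F) * C.φ v * ((g⁻¹ : GL (Fin 4) F) : M4 F)))
      = (g : M4 F) * C.φ v * ((g⁻¹ : GL (Fin 4) F) : M4 F)) ∧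
    (∀ v, C.φ (C.c (((g⁻¹ : GL (Fin 4) F) : M4 F) * C.φ v * (g : M4 F)))
      = ((g⁻¹ : GL (Fin 4) F) : M4 F) * C.φ v * (g : M4 F)) := Iff.rfl

/-- membership criterion: conjugation by `g` and `g⁻¹` is given by functions `f`, `f'` in
coordinates -/
theorem mem_stab_of (g : GL (Fin 4) F) (f f' : (ι → F) → (ι → F))
    (h1 : ∀ v, (g : M4 F) * C.φ v * ((g⁻¹ : GL (Fin 4) F) : M4 F) = C.φ (f v))
    (h2 : ∀ v, ((g⁻¹ : GL (Fin 4) F) : M4 F) * C.φ v * (g : M4 F) = C.φ (f' v)) :
    g ∈ C.stab := by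
  constructor
  · intro v
    rw [h1, C.hc]
  · intro v
    rw [h2, C.hc]

/-- the action of `g` in coordinates, as a linear map -/
def repLin (g : GL (Fin 4) F) : (ι → F) →ₗ[F] (ι → F) :=
  C.c ∘ₗ (LinearMap.mulLeft F (g : M4 F)) ∘ₗ
    (LinearMap.mulRight F ((g⁻¹ : GL (Fin 4) F) : M4 F)) ∘ₗ C.φ

theorem repLin_apply (g : GL (Fin 4) F) (v : ι → F) :
    C.repLin g v = C.c ((g : M4 F) * C.φ v * ((g⁻¹ : GL (Fin 4) F) : M4 F)) := by
  simp only [repLin, LinearMap.coe_comp, Function.comp_apply, LinearMap.mulLeft_apply,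
    LinearMap.mulRight_apply, mul_assoc]

theorem φ_repLin {g : GL (Fin 4) F} (hg : g ∈ C.stab) (v : ι → F) :
    C.φ (C.repLin g v) = (g : M4 F) * C.φ v * ((g⁻¹ : GL (Fin 4) F) : M4 F) := by
  rw [repLin_apply, hg.1 v]

theorem repLin_mul (g : GL (Fin 4) F) {h : GL (Fin 4) F} (hh : h ∈ C.stab) (v : ι → F) :
    C.repLin (g * h) v = C.repLin g (C.repLin h v) := by
  rw [repLin_apply, repLin_apply, C.φ_repLin hh, _root_.mul_inv_rev, Units.val_mul, Units.val_mul]
  simp only [mul_assoc]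

theorem repLin_one (v : ι → F) : C.repLin 1 v = v := by
  rw [repLin_apply]
  simp only [inv_one, Units.val_one, one_mul, mul_one, C.hc]

variable [Fintype ι] [DecidableEq ι]

/-- the action of `stab` in coordinates, as a monoid homomorphism to matrices -/
noncomputable def repHom : C.stab →* Matrix ι ι F where
  toFun g := LinearMap.toMatrix' (C.repLin g.1)
  map_one' := by
    have : C.repLin (1 : GL (Fin 4) F) = LinearMap.id := LinearMap.ext (C.repLin_one)
    show LinearMap.toMatrix' (C.repLin (1 : GL (Fin 4) F)) = 1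
    rw [this, LinearMap.toMatrix'_id]
  map_mul' := by
    intro g h
    have : C.repLin (g.1 * h.1) = (C.repLin g.1) ∘ₗ (C.repLin h.1) :=
      LinearMap.ext (fun v => C.repLin_mul g.1 h.2 v)
    show LinearMap.toMatrix' (C.repLin (g.1 * h.1)) = _
    rw [this, LinearMap.toMatrix'_comp]

/-- the action of `stab` in coordinates -/
noncomputable def rep : C.stab →* GL ι F := C.repHom.toHomUnits

theorem rep_val (g : C.stab) :
    ((C.rep g : GL ι F) : Matrix ι ι F) = LinearMap.toMatrix' (C.repLin g.1) := rfl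

theorem rep_mulVec (g : C.stab) (v : ι → F) :
    ((C.rep g : GL ι F) : Matrix ι ι F) *ᵥ v = C.repLin g.1 v := by
  rw [rep_val, ← Matrix.toLin'_apply, Matrix.toLin'_toMatrix']

theorem φ_rep (g : C.stab) (v : ι → F) :
    C.φ (((C.rep g : GL ι F) : Matrix ι ι F) *ᵥ v)
      = ((g.1 : GL (Fin 4) F) : M4 F) * C.φ v * (((g.1)⁻¹ : GL (Fin 4) F) : M4 F) := by
  rw [rep_mulVec, C.φ_repLin g.2]

/-- if conjugation by `g` is `f` in coordinates then `rep g` acts as `f` -/
theorem rep_mulVec_of (g : C.stab) (f : (ι → F) → (ι → F))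
    (h : ∀ v, ((g.1 : GL (Fin 4) F) : M4 F) * C.φ v * (((g.1)⁻¹ : GL (Fin 4) F) : M4 F)
      = C.φ (f v)) (v : ι → F) :
    ((C.rep g : GL ι F) : Matrix ι ι F) *ᵥ v = f v := by
  apply C.φ_injective
  rw [φ_rep, h]

/-- if conjugation by `g` is given by the matrix `A` in coordinates then `rep g = A` -/
theorem rep_val_of (g : C.stab) (A : Matrix ι ι F)
    (h : ∀ v, ((g.1 : GL (Fin 4) F) : M4 F) * C.φ v * (((g.1)⁻¹ : GL (Fin 4) F) : M4 F)
      = C.φ (A *ᵥ v)) :
    ((C.rep g : GL ι F) : Matrix ι ι F) = A := by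
  apply Matrix.toLin'.injective
  apply LinearMap.ext
  intro v
  rw [Matrix.toLin'_apply, Matrix.toLin'_apply]
  exact C.rep_mulVec_of g (fun v => A *ᵥ v) h v

/-- the kernel of `rep`: the elements commuting with the image of `φ` -/
theorem rep_eq_one_iff (g : C.stab) :
    C.rep g = 1 ↔ ∀ v, ((g.1 : GL (Fin 4) F) : M4 F) * C.φ v
      = C.φ v * ((g.1 : GL (Fin 4) F) : M4 F) := by
  constructor
  · intro h v
    have h1 := C.φ_rep g v
    rw [h, Units.val_one, Matrix.one_mulVec] at h1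
    have h2 : C.φ v * ((g.1 : GL (Fin 4) F) : M4 F)
        = ((g.1 : GL (Fin 4) F) : M4 F) * C.φ v * (((g.1)⁻¹ : GL (Fin 4) F) : M4 F)
          * ((g.1 : GL (Fin 4) F) : M4 F) := by rw [← h1]
    rw [h2, mul_assoc, ← Units.val_mul, inv_mul_cancel, Units.val_one, mul_one]
  · intro h
    apply Units.ext
    rw [Units.val_one]
    apply C.rep_val_of g 1
    intro v
    rw [Matrix.one_mulVec, h v, mul_assoc, ← Units.val_mul, mul_inv_cancel, Units.val_one, mul_one]

end Coord

end Cfsg.Agent.Helper83.B2
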