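import Mathlib
import Cfsg.Agent.Helper83.B2Rep

/-!
# Root elements of `Sp₄(F)` and the two coordinatised subspaces of `M₄(F)`

* `xm r t`, `r : Fin 8`: the root elements `1 + t E_r` of `Sp₄(F)`.
* `coord10`: the Lie algebra `sp₄(F)` in a Chevalley basis matching `Cfsg.Lie.chevB2`.
* `coord5`: the traceless self-adjoint matrices, on which `X ^ 2 = Q(X)` with `Q` the quadratic form
  `x₀² + x₁y₁ + x₂y₂`.
* `f10 r t`, `f5 r t`: the action of `xm r t` by conjugation in the two coordinate systems.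
-/

set_option autoImplicit false

namespace Cfsg.Agent.Helper83.B2

open Matrix

variable {F : Type*} [Field F]

/-- index set of the adjoint module -/
abbrev I10 := Fin 2 ⊕ Fin 8
/-- index set of the orthogonal module -/
abbrev I5 := Unit ⊕ (Fin 2 ⊕ Fin 2)

/-- the root elements of `Sp₄(F)` -/
def xm (r : Fin 8) (t : F) : M4 F :=
  ![
    !![1,0,0,0; 0,1,0,0; t,0,1,0; 0,0,0,1],
    !![1,0,0,0; 0,1,0,0; 0,t,1,0; t,0,0,1],
    !![1,0,0,0; t,1,0,0; 0,0,1,-t; 0,0,0,1],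
    !![1,0,0,0; 0,1,0,0; 0,0,1,0; 0,-t,0,1],
    !![1,0,0,0; 0,1,0,-t; 0,0,1,0; 0,0,0,1],
    !![1,t,0,0; 0,1,0,0; 0,0,1,0; 0,0,-t,1],
    !![1,0,0,t; 0,1,t,0; 0,0,1,0; 0,0,0,1],
    !![1,0,t,0; 0,1,0,0; 0,0,1,0; 0,0,0,1]] r

/-- vectors of the adjoint module from coordinates -/
def mk10 (h1 h2 a0 a1 a2 a3 a4 a5 a6 a7 : F) : I10 → F :=
  Sum.elim ![h1, h2] ![a0, a1, a2, a3, a4, a5, a6, a7]

/-- vectors of the orthogonal module from coordinates -/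
def mk5 (z x1 x2 y1 y2 : F) : I5 → F :=
  Sum.elim (fun _ => z) (Sum.elim ![x1, x2] ![y1, y2])

/-- the embedding of the adjoint module -/
def phi10 (v : I10 → F) : M4 F :=
  !![v (Sum.inl 0), v (Sum.inr 5), v (Sum.inr 7), v (Sum.inr 6);
     v (Sum.inr 2), -v (Sum.inl 0) + v (Sum.inl 1), v (Sum.inr 6), -v (Sum.inr 4);
     v (Sum.inr 0), v (Sum.inr 1), -v (Sum.inl 0), -v (Sum.inr 2);
     v (Sum.inr 1), -v (Sum.inr 3), -v (Sum.inr 5), v (Sum.inl 0) - v (Sum.inl 1)]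

/-- coordinates on the adjoint module -/
def c10 (X : M4 F) : I10 → F :=
  mk10 (X 0 0) (X 1 1 + X 0 0) (X 2 0) (X 2 1) (X 1 0) (-X 3 1) (-X 1 3) (X 0 1) (X 0 3) (X 0 2)

/-- the embedding of the orthogonal module -/
def phi5 (v : I5 → F) : M4 F :=
  !![v (Sum.inl ()), v (Sum.inr (Sum.inl 0)), 0, v (Sum.inr (Sum.inl 1));
     v (Sum.inr (Sum.inr 0)), -v (Sum.inl ()), -v (Sum.inr (Sum.inl 1)), 0;
     0, -v (Sum.inr (Sum.inr 1)), v (Sum.inl ()), v (Sum.inr (Sum.inr 0));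
     v (Sum.inr (Sum.inr 1)), 0, v (Sum.inr (Sum.inl 0)), -v (Sum.inl ())]

/-- coordinates on the orthogonal module -/
def c5 (X : M4 F) : I5 → F :=
  mk5 (X 0 0) (X 0 1) (X 0 3) (X 1 0) (X 3 0)

/-- conjugation by `xm 0 t` in the coordinates of the adjoint module -/
def f10_0 (t : F) (v : I10 → F) : I10 → F :=
  mk10 (v (Sum.inl 0) - t * v (Sum.inr 7))
    (v (Sum.inl 1) - t * v (Sum.inr 7))
    (2 * t * v (Sum.inl 0) + v (Sum.inr 0) - t ^ 2 * v (Sum.inr 7))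
    (v (Sum.inr 1) + t * v (Sum.inr 5))
    (v (Sum.inr 2) - t * v (Sum.inr 6))
    (v (Sum.inr 3))
    (v (Sum.inr 4))
    (v (Sum.inr 5))
    (v (Sum.inr 6))
    (v (Sum.inr 7))

/-- conjugation by `xm 1 t` in the coordinates of the adjoint module -/
def f10_1 (t : F) (v : I10 → F) : I10 → F :=
  mk10 (v (Sum.inl 0) - t * v (Sum.inr 6))
    (v (Sum.inl 1) - 2 * t * v (Sum.inr 6))
    (v (Sum.inr 0) + 2 * t * v (Sum.inr 2) + t ^ 2 * v (Sum.inr 4))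
    (t * v (Sum.inl 1) + v (Sum.inr 1) - t ^ 2 * v (Sum.inr 6))
    (v (Sum.inr 2) + t * v (Sum.inr 4))
    (v (Sum.inr 3) - 2 * t * v (Sum.inr 5) + t ^ 2 * v (Sum.inr 7))
    (v (Sum.inr 4))
    (v (Sum.inr 5) - t * v (Sum.inr 7))
    (v (Sum.inr 6))
    (v (Sum.inr 7))

/-- conjugation by `xm 2 t` in the coordinates of the adjoint module -/
def f10_2 (t : F) (v : I10 → F) : I10 → F :=
  mk10 (v (Sum.inl 0) - t * v (Sum.inr 5))
    (v (Sum.inl 1))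
    (v (Sum.inr 0) - 2 * t * v (Sum.inr 1) - t ^ 2 * v (Sum.inr 3))
    (v (Sum.inr 1) + t * v (Sum.inr 3))
    (2 * t * v (Sum.inl 0) - t * v (Sum.inl 1) + v (Sum.inr 2) - t ^ 2 * v (Sum.inr 5))
    (v (Sum.inr 3))
    (v (Sum.inr 4) - 2 * t * v (Sum.inr 6) - t ^ 2 * v (Sum.inr 7))
    (v (Sum.inr 5))
    (v (Sum.inr 6) + t * v (Sum.inr 7))
    (v (Sum.inr 7))

/-- conjugation by `xm 3 t` in the coordinates of the adjoint module -/
def f10_3 (t : F) (v : I10 → F) : I10 → F :=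
  mk10 (v (Sum.inl 0))
    (v (Sum.inl 1) - t * v (Sum.inr 4))
    (v (Sum.inr 0))
    (v (Sum.inr 1) - t * v (Sum.inr 2))
    (v (Sum.inr 2))
    (-2 * t * v (Sum.inl 0) + 2 * t * v (Sum.inl 1) + v (Sum.inr 3) - t ^ 2 * v (Sum.inr 4))
    (v (Sum.inr 4))
    (v (Sum.inr 5) + t * v (Sum.inr 6))
    (v (Sum.inr 6))
    (v (Sum.inr 7))

/-- conjugation by `xm 4 t` in the coordinates of the adjoint module -/
def f10_4 (t : F) (v : I10 → F) : I10 → F :=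
  mk10 (v (Sum.inl 0))
    (v (Sum.inl 1) + t * v (Sum.inr 3))
    (v (Sum.inr 0))
    (v (Sum.inr 1))
    (-t * v (Sum.inr 1) + v (Sum.inr 2))
    (v (Sum.inr 3))
    (2 * t * v (Sum.inl 0) - 2 * t * v (Sum.inl 1) - t ^ 2 * v (Sum.inr 3) + v (Sum.inr 4))
    (v (Sum.inr 5))
    (t * v (Sum.inr 5) + v (Sum.inr 6))
    (v (Sum.inr 7))

/-- conjugation by `xm 5 t` in the coordinates of the adjoint module -/
def f10_5 (t : F) (v : I10 → F) : I10 → F :=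
  mk10 (v (Sum.inl 0) + t * v (Sum.inr 2))
    (v (Sum.inl 1))
    (v (Sum.inr 0))
    (-t * v (Sum.inr 0) + v (Sum.inr 1))
    (v (Sum.inr 2))
    (-t ^ 2 * v (Sum.inr 0) + 2 * t * v (Sum.inr 1) + v (Sum.inr 3))
    (v (Sum.inr 4))
    (-2 * t * v (Sum.inl 0) + t * v (Sum.inl 1) - t ^ 2 * v (Sum.inr 2) + v (Sum.inr 5))
    (-t * v (Sum.inr 4) + v (Sum.inr 6))
    (-t ^ 2 * v (Sum.inr 4) + 2 * t * v (Sum.inr 6) + v (Sum.inr 7))

/-- conjugation by `xm 6 t` in the coordinates of the adjoint module -/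
def f10_6 (t : F) (v : I10 → F) : I10 → F :=
  mk10 (v (Sum.inl 0) + t * v (Sum.inr 1))
    (v (Sum.inl 1) + 2 * t * v (Sum.inr 1))
    (v (Sum.inr 0))
    (v (Sum.inr 1))
    (t * v (Sum.inr 0) + v (Sum.inr 2))
    (v (Sum.inr 3))
    (t ^ 2 * v (Sum.inr 0) + 2 * t * v (Sum.inr 2) + v (Sum.inr 4))
    (-t * v (Sum.inr 3) + v (Sum.inr 5))
    (-t * v (Sum.inl 1) - t ^ 2 * v (Sum.inr 1) + v (Sum.inr 6))
    (t ^ 2 * v (Sum.inr 3) - 2 * t * v (Sum.inr 5) + v (Sum.inr 7))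

/-- conjugation by `xm 7 t` in the coordinates of the adjoint module -/
def f10_7 (t : F) (v : I10 → F) : I10 → F :=
  mk10 (v (Sum.inl 0) + t * v (Sum.inr 0))
    (v (Sum.inl 1) + t * v (Sum.inr 0))
    (v (Sum.inr 0))
    (v (Sum.inr 1))
    (v (Sum.inr 2))
    (v (Sum.inr 3))
    (v (Sum.inr 4))
    (t * v (Sum.inr 1) + v (Sum.inr 5))
    (-t * v (Sum.inr 2) + v (Sum.inr 6))
    (-2 * t * v (Sum.inl 0) - t ^ 2 * v (Sum.inr 0) + v (Sum.inr 7))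

/-- conjugation by `xm 0 t` in the coordinates of the orthogonal module -/
def f5_0 (t : F) (v : I5 → F) : I5 → F :=
  mk5 (v (Sum.inl ()))
    (v (Sum.inr (Sum.inl 0)))
    (v (Sum.inr (Sum.inl 1)))
    (t * v (Sum.inr (Sum.inl 1)) + v (Sum.inr (Sum.inr 0)))
    (-t * v (Sum.inr (Sum.inl 0)) + v (Sum.inr (Sum.inr 1)))

/-- conjugation by `xm 1 t` in the coordinates of the orthogonal module -/
def f5_1 (t : F) (v : I5 → F) : I5 → F :=
  mk5 (v (Sum.inl ()) - t * v (Sum.inr (Sum.inl 1)))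
    (v (Sum.inr (Sum.inl 0)))
    (v (Sum.inr (Sum.inl 1)))
    (v (Sum.inr (Sum.inr 0)))
    (2 * t * v (Sum.inl ()) - t ^ 2 * v (Sum.inr (Sum.inl 1)) + v (Sum.inr (Sum.inr 1)))

/-- conjugation by `xm 2 t` in the coordinates of the orthogonal module -/
def f5_2 (t : F) (v : I5 → F) : I5 → F :=
  mk5 (v (Sum.inl ()) - t * v (Sum.inr (Sum.inl 0)))
    (v (Sum.inr (Sum.inl 0)))
    (v (Sum.inr (Sum.inl 1)))
    (2 * t * v (Sum.inl ()) - t ^ 2 * v (Sum.inr (Sum.inl 0)) + v (Sum.inr (Sum.inr 0)))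
    (v (Sum.inr (Sum.inr 1)))

/-- conjugation by `xm 3 t` in the coordinates of the orthogonal module -/
def f5_3 (t : F) (v : I5 → F) : I5 → F :=
  mk5 (v (Sum.inl ()))
    (v (Sum.inr (Sum.inl 0)) + t * v (Sum.inr (Sum.inl 1)))
    (v (Sum.inr (Sum.inl 1)))
    (v (Sum.inr (Sum.inr 0)))
    (-t * v (Sum.inr (Sum.inr 0)) + v (Sum.inr (Sum.inr 1)))

/-- conjugation by `xm 4 t` in the coordinates of the orthogonal module -/
def f5_4 (t : F) (v : I5 → F) : I5 → F :=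
  mk5 (v (Sum.inl ()))
    (v (Sum.inr (Sum.inl 0)))
    (t * v (Sum.inr (Sum.inl 0)) + v (Sum.inr (Sum.inl 1)))
    (v (Sum.inr (Sum.inr 0)) - t * v (Sum.inr (Sum.inr 1)))
    (v (Sum.inr (Sum.inr 1)))

/-- conjugation by `xm 5 t` in the coordinates of the orthogonal module -/
def f5_5 (t : F) (v : I5 → F) : I5 → F :=
  mk5 (v (Sum.inl ()) + t * v (Sum.inr (Sum.inr 0)))
    (-2 * t * v (Sum.inl ()) + v (Sum.inr (Sum.inl 0)) - t ^ 2 * v (Sum.inr (Sum.inr 0)))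
    (v (Sum.inr (Sum.inl 1)))
    (v (Sum.inr (Sum.inr 0)))
    (v (Sum.inr (Sum.inr 1)))

/-- conjugation by `xm 6 t` in the coordinates of the orthogonal module -/
def f5_6 (t : F) (v : I5 → F) : I5 → F :=
  mk5 (v (Sum.inl ()) + t * v (Sum.inr (Sum.inr 1)))
    (v (Sum.inr (Sum.inl 0)))
    (-2 * t * v (Sum.inl ()) + v (Sum.inr (Sum.inl 1)) - t ^ 2 * v (Sum.inr (Sum.inr 1)))
    (v (Sum.inr (Sum.inr 0)))
    (v (Sum.inr (Sum.inr 1)))

/-- conjugation by `xm 7 t` in the coordinates of the orthogonal module -/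
def f5_7 (t : F) (v : I5 → F) : I5 → F :=
  mk5 (v (Sum.inl ()))
    (v (Sum.inr (Sum.inl 0)) - t * v (Sum.inr (Sum.inr 1)))
    (v (Sum.inr (Sum.inl 1)) + t * v (Sum.inr (Sum.inr 0)))
    (v (Sum.inr (Sum.inr 0)))
    (v (Sum.inr (Sum.inr 1)))

/-- conjugation by `xm r t` in the coordinates of the adjoint module -/
def f10 (r : Fin 8) (t : F) (v : I10 → F) : I10 → F :=
  ![f10_0 t v, f10_1 t v, f10_2 t v, f10_3 t v, f10_4 t v, f10_5 t v, f10_6 t v, f10_7 t v] r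

/-- conjugation by `xm r t` in the coordinates of the orthogonal module -/
def f5 (r : Fin 8) (t : F) (v : I5 → F) : I5 → F :=
  ![f5_0 t v, f5_1 t v, f5_2 t v, f5_3 t v, f5_4 t v, f5_5 t v, f5_6 t v, f5_7 t v] r

theorem xm_mul_neg (r : Fin 8) (t : F) : xm r t * xm r (-t) = 1 := by
  fin_cases r <;> ext i j <;> fin_cases i <;> fin_cases j <;>
    simp [xm, Matrix.mul_apply, Fin.sum_univ_four]

theorem xm_neg_mul (r : Fin 8) (t : F) : xm r (-t) * xm r t = 1 := by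
  have := xm_mul_neg r (-t)
  rwa [neg_neg] at this

theorem xm_conj10 (r : Fin 8) (t : F) (v : I10 → F) :
    xm r t * phi10 v * xm r (-t) = phi10 (f10 r t v) := by
  fin_cases r <;> ext i j <;> fin_cases i <;> fin_cases j <;>
    simp [xm, phi10, f10, f10_0, f10_1, f10_2, f10_3, f10_4, f10_5, f10_6, f10_7, mk10,
      Matrix.mul_apply, Fin.sum_univ_four] <;> ring

theorem xm_conj5 (r : Fin 8) (t : F) (v : I5 → F) :
    xm r t * phi5 v * xm r (-t) = phi5 (f5 r t v) := by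
  fin_cases r <;> ext i j <;> fin_cases i <;> fin_cases j <;>
    simp [xm, phi5, f5, f5_0, f5_1, f5_2, f5_3, f5_4, f5_5, f5_6, f5_7, mk5,
      Matrix.mul_apply, Fin.sum_univ_four] <;> ring

end Cfsg.Agent.Helper83.B2
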