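import Mathlib
import Cfsg.Prelude.Def_ChevB2
import Cfsg.Agent.Helper83.B2Data

/-!
# The matrices `x_r(t)` of the Chevalley datum `chevB2` act as `f10 r t`
-/

set_option autoImplicit false
set_option maxRecDepth 8000

namespace Cfsg.Agent.Helper83.B2

open Matrix Cfsg Cfsg.Lie

variable {F : Type*} [Field F]

/-- the matrix `x_r(t)` of `chevB2`, with explicit index types -/
def xM (r : Fin 8) (t : F) : Matrix I10 I10 F := chevB2.xMat F r t

/-- table of Cartan integers -/
def cartT : Fin 2 → Fin 8 → ℤ := ![![-2, 0, -2, 2, -2, 2, 0, 2], ![0, -1, 1, -2, 2, -1, 1, 0]]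

/-- table of coroot coefficients -/
def corT : Fin 8 → Fin 2 → ℤ :=
  ![![-1, -1], ![-1, -2], ![-1, 0], ![0, -1], ![0, 1], ![1, 0], ![1, 2], ![1, 1]]

/-- the negative of a root -/
def negT : Fin 8 → Fin 8 := ![7, 6, 5, 4, 3, 2, 1, 0]

/-- the chain polynomial -/
def chainPoly (r s u : Fin 8) (t : F) : F :=
  ((chevB2.chainCoeff r.val s.val u.val).map fun km => ((km.2 : ℤ) : F) * t ^ km.1).sum

theorem cartT_eq : ∀ (i : Fin 2) (r : Fin 8),
    (chevB2.cartanSR.getD i.val #[]).getD r.val 0 = cartT i r := by decide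

theorem corT_eq : ∀ (r : Fin 8) (i : Fin 2),
    (chevB2.coroot.getD r.val #[]).getD i.val 0 = corT r i := by decide

theorem negT_eq : ∀ (r : Fin 8), chevB2.negIdx.getD r.val 0 = (negT r).val := by decide

theorem xM_ll (r : Fin 8) (t : F) (i' i : Fin 2) :
    xM r t (Sum.inl i') (Sum.inl i) = if i' = i then 1 else 0 := rfl

theorem xM_rl (r : Fin 8) (t : F) (u : Fin 8) (i : Fin 2) :
    xM r t (Sum.inr u) (Sum.inl i) = if u = r then - ((cartT i r : ℤ) : F) * t else 0 := by
  rw [← cartT_eq]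
  rfl

theorem xM_lr (r : Fin 8) (t : F) (i : Fin 2) (s : Fin 8) :
    xM r t (Sum.inl i) (Sum.inr s)
      = if s = r then 0 else if s = negT r then ((corT r i : ℤ) : F) * t else 0 := by
  rw [← corT_eq]
  have h : (s = negT r) = (s.val = chevB2.negIdx.getD r.val 0) := by
    rw [negT_eq, Fin.ext_iff]
  simp only [h]
  rfl

theorem xM_rr (r : Fin 8) (t : F) (u s : Fin 8) :
    xM r t (Sum.inr u) (Sum.inr s)
      = if s = r then (if u = r then 1 else 0)
        else if s = negT r then
          (if u = s then 1 else if u = r then -(t ^ 2) else 0)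
        else (if u = s then 1 else 0) + chainPoly r s u t := by
  have h : (s = negT r) = (s.val = chevB2.negIdx.getD r.val 0) := by
    rw [negT_eq, Fin.ext_iff]
  simp only [h]
  rfl

theorem xM0_mulVec (t : F) (v : I10 → F) : xM 0 t *ᵥ v = f10_0 t v := by
  funext idx
  rcases idx with i | u
  · fin_cases i <;>
    simp [Matrix.mulVec, dotProduct, Fintype.sum_sum_type, Fin.sum_univ_two, Fin.sum_univ_eight,
      xM_ll, xM_lr, f10_0, mk10, corT, negT] <;> ring
  · fin_cases u <;>
    simp [Matrix.mulVec, dotProduct, Fintype.sum_sum_type, Fin.sum_univ_two, Fin.sum_univ_eight,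
      xM_rl, xM_rr, f10_0, mk10, cartT, negT, chainPoly,
      ChevalleyDatum.chainCoeff, chevB2, chevB2Chain, chevB2Chain0] <;> ring

theorem xM1_mulVec (t : F) (v : I10 → F) : xM 1 t *ᵥ v = f10_1 t v := by
  funext idx
  rcases idx with i | u
  · fin_cases i <;>
    simp [Matrix.mulVec, dotProduct, Fintype.sum_sum_type, Fin.sum_univ_two, Fin.sum_univ_eight,
      xM_ll, xM_lr, f10_1, mk10, corT, negT] <;> ring
  · fin_cases u <;>
    simp [Matrix.mulVec, dotProduct, Fintype.sum_sum_type, Fin.sum_univ_two, Fin.sum_univ_eight,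
      xM_rl, xM_rr, f10_1, mk10, cartT, negT, chainPoly,
      ChevalleyDatum.chainCoeff, chevB2, chevB2Chain, chevB2Chain1] <;> ring

theorem xM2_mulVec (t : F) (v : I10 → F) : xM 2 t *ᵥ v = f10_2 t v := by
  funext idx
  rcases idx with i | u
  · fin_cases i <;>
    simp [Matrix.mulVec, dotProduct, Fintype.sum_sum_type, Fin.sum_univ_two, Fin.sum_univ_eight,
      xM_ll, xM_lr, f10_2, mk10, corT, negT] <;> ring
  · fin_cases u <;>
    simp [Matrix.mulVec, dotProduct, Fintype.sum_sum_type, Fin.sum_univ_two, Fin.sum_univ_eight,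
      xM_rl, xM_rr, f10_2, mk10, cartT, negT, chainPoly,
      ChevalleyDatum.chainCoeff, chevB2, chevB2Chain, chevB2Chain2] <;> ring

theorem xM3_mulVec (t : F) (v : I10 → F) : xM 3 t *ᵥ v = f10_3 t v := by
  funext idx
  rcases idx with i | u
  · fin_cases i <;>
    simp [Matrix.mulVec, dotProduct, Fintype.sum_sum_type, Fin.sum_univ_two, Fin.sum_univ_eight,
      xM_ll, xM_lr, f10_3, mk10, corT, negT] <;> ring
  · fin_cases u <;>
    simp [Matrix.mulVec, dotProduct, Fintype.sum_sum_type, Fin.sum_univ_two, Fin.sum_univ_eight,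
      xM_rl, xM_rr, f10_3, mk10, cartT, negT, chainPoly,
      ChevalleyDatum.chainCoeff, chevB2, chevB2Chain, chevB2Chain3] <;> ring

theorem xM4_mulVec (t : F) (v : I10 → F) : xM 4 t *ᵥ v = f10_4 t v := by
  funext idx
  rcases idx with i | u
  · fin_cases i <;>
    simp [Matrix.mulVec, dotProduct, Fintype.sum_sum_type, Fin.sum_univ_two, Fin.sum_univ_eight,
      xM_ll, xM_lr, f10_4, mk10, corT, negT] <;> ring
  · fin_cases u <;>
    simp [Matrix.mulVec, dotProduct, Fintype.sum_sum_type, Fin.sum_univ_two, Fin.sum_univ_eight,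
      xM_rl, xM_rr, f10_4, mk10, cartT, negT, chainPoly,
      ChevalleyDatum.chainCoeff, chevB2, chevB2Chain, chevB2Chain4] <;> ring

theorem xM5_mulVec (t : F) (v : I10 → F) : xM 5 t *ᵥ v = f10_5 t v := by
  funext idx
  rcases idx with i | u
  · fin_cases i <;>
    simp [Matrix.mulVec, dotProduct, Fintype.sum_sum_type, Fin.sum_univ_two, Fin.sum_univ_eight,
      xM_ll, xM_lr, f10_5, mk10, corT, negT] <;> ring
  · fin_cases u <;>
    simp [Matrix.mulVec, dotProduct, Fintype.sum_sum_type, Fin.sum_univ_two, Fin.sum_univ_eight,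
      xM_rl, xM_rr, f10_5, mk10, cartT, negT, chainPoly,
      ChevalleyDatum.chainCoeff, chevB2, chevB2Chain, chevB2Chain5] <;> ring

theorem xM6_mulVec (t : F) (v : I10 → F) : xM 6 t *ᵥ v = f10_6 t v := by
  funext idx
  rcases idx with i | u
  · fin_cases i <;>
    simp [Matrix.mulVec, dotProduct, Fintype.sum_sum_type, Fin.sum_univ_two, Fin.sum_univ_eight,
      xM_ll, xM_lr, f10_6, mk10, corT, negT] <;> ring
  · fin_cases u <;>
    simp [Matrix.mulVec, dotProduct, Fintype.sum_sum_type, Fin.sum_univ_two, Fin.sum_univ_eight,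
      xM_rl, xM_rr, f10_6, mk10, cartT, negT, chainPoly,
      ChevalleyDatum.chainCoeff, chevB2, chevB2Chain, chevB2Chain6] <;> ring

theorem xM7_mulVec (t : F) (v : I10 → F) : xM 7 t *ᵥ v = f10_7 t v := by
  funext idx
  rcases idx with i | u
  · fin_cases i <;>
    simp [Matrix.mulVec, dotProduct, Fintype.sum_sum_type, Fin.sum_univ_two, Fin.sum_univ_eight,
      xM_ll, xM_lr, f10_7, mk10, corT, negT] <;> ring
  · fin_cases u <;>
    simp [Matrix.mulVec, dotProduct, Fintype.sum_sum_type, Fin.sum_univ_two, Fin.sum_univ_eight,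
      xM_rl, xM_rr, f10_7, mk10, cartT, negT, chainPoly,
      ChevalleyDatum.chainCoeff, chevB2, chevB2Chain, chevB2Chain7] <;> ring

theorem xM_mulVec (r : Fin 8) (t : F) (v : I10 → F) : xM r t *ᵥ v = f10 r t v := by
  fin_cases r
  · exact xM0_mulVec t v
  · exact xM1_mulVec t v
  · exact xM2_mulVec t v
  · exact xM3_mulVec t v
  · exact xM4_mulVec t v
  · exact xM5_mulVec t v
  · exact xM6_mulVec t v
  · exact xM7_mulVec t v

end Cfsg.Agent.Helper83.B2
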