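import Mathlib
import Cfsg.Prelude.Def_Classical
import Cfsg.Agent.Helper83.B2Chev

/-!
# The group `G` generated by the root elements of `Sp₄(F)` and its two representations
-/

set_option autoImplicit false

namespace Cfsg.Agent.Helper83.B2

open Matrix Cfsg Cfsg.Lie

variable {F : Type*} [Field F]

/-- the root elements as invertible matrices -/
def xh (r : Fin 8) (t : F) : GL (Fin 4) F :=
  ⟨xm r t, xm r (-t), xm_mul_neg r t, xm_neg_mul r t⟩

theorem xh_val (r : Fin 8) (t : F) : ((xh r t : GL (Fin 4) F) : M4 F) = xm r t := rfl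

theorem xh_inv_val (r : Fin 8) (t : F) :
    (((xh r t)⁻¹ : GL (Fin 4) F) : M4 F) = xm r (-t) := rfl

theorem xh_inv (r : Fin 8) (t : F) : (xh r t)⁻¹ = xh r (-t) := by
  apply Units.ext
  rw [xh_inv_val, xh_val]

/-- the group generated by the root elements -/
def G (F : Type*) [Field F] : Subgroup (GL (Fin 4) F) :=
  Subgroup.closure {g | ∃ (r : Fin 8) (t : F), g = xh r t}

theorem xh_mem (r : Fin 8) (t : F) : xh r t ∈ G F :=
  Subgroup.subset_closure ⟨r, t, rfl⟩

/-- the adjoint module -/
def coord10 (F : Type*) [Field F] : Coord F I10 where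
  φ :=
    { toFun := phi10
      map_add' := by
        intro v w
        ext i j
        fin_cases i <;> fin_cases j <;> simp [phi10] <;> ring
      map_smul' := by
        intro c v
        ext i j
        fin_cases i <;> fin_cases j <;> simp [phi10] <;> ring }
  c :=
    { toFun := c10
      map_add' := by
        intro X Y
        funext idx
        rcases idx with i | i <;> fin_cases i <;> simp [c10, mk10] <;> ring
      map_smul' := by
        intro c X
        funext idx
        rcases idx with i | i <;> fin_cases i <;> simp [c10, mk10] <;> ring }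
  hc := by
    intro v
    funext idx
    rcases idx with i | i <;> fin_cases i <;> simp [c10, phi10, mk10]

/-- the orthogonal module -/
def coord5 (F : Type*) [Field F] : Coord F I5 where
  φ :=
    { toFun := phi5
      map_add' := by
        intro v w
        ext i j
        fin_cases i <;> fin_cases j <;> simp [phi5] <;> ring
      map_smul' := by
        intro c v
        ext i j
        fin_cases i <;> fin_cases j <;> simp [phi5] }
  c :=
    { toFun := c5
      map_add' := by
        intro X Y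
        funext idx
        rcases idx with i | i | i
        · simp [c5, mk5]
        · fin_cases i <;> simp [c5, mk5]
        · fin_cases i <;> simp [c5, mk5]
      map_smul' := by
        intro c X
        funext idx
        rcases idx with i | i | i
        · simp [c5, mk5]
        · fin_cases i <;> simp [c5, mk5]
        · fin_cases i <;> simp [c5, mk5] }
  hc := by
    intro v
    funext idx
    rcases idx with i | i | i
    · simp [c5, phi5, mk5]
    · fin_cases i <;> simp [c5, phi5, mk5]
    · fin_cases i <;> simp [c5, phi5, mk5]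

theorem coord10_φ (v : I10 → F) : (coord10 F).φ v = phi10 v := rfl
theorem coord5_φ (v : I5 → F) : (coord5 F).φ v = phi5 v := rfl

theorem xh_mem_stab10 (r : Fin 8) (t : F) : xh r t ∈ (coord10 F).stab := by
  apply (coord10 F).mem_stab_of (xh r t) (f10 r t) (f10 r (-t))
  · intro v
    rw [xh_val, xh_inv_val, coord10_φ, coord10_φ, xm_conj10]
  · intro v
    have := xm_conj10 r (-t) v
    rw [neg_neg] at this
    rw [xh_val, xh_inv_val, coord10_φ, coord10_φ, this]

theorem xh_mem_stab5 (r : Fin 8) (t : F) : xh r t ∈ (coord5 F).stab := by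
  apply (coord5 F).mem_stab_of (xh r t) (f5 r t) (f5 r (-t))
  · intro v
    rw [xh_val, xh_inv_val, coord5_φ, coord5_φ, xm_conj5]
  · intro v
    have := xm_conj5 r (-t) v
    rw [neg_neg] at this
    rw [xh_val, xh_inv_val, coord5_φ, coord5_φ, this]

theorem G_le_stab10 : G F ≤ (coord10 F).stab := by
  unfold G
  rw [Subgroup.closure_le]
  rintro g ⟨r, t, rfl⟩
  exact xh_mem_stab10 r t

theorem G_le_stab5 : G F ≤ (coord5 F).stab := by
  unfold G
  rw [Subgroup.closure_le]
  rintro g ⟨r, t, rfl⟩
  exact xh_mem_stab5 r t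

/-- the adjoint representation of `G` -/
noncomputable def Ad : G F →* GL I10 F :=
  (coord10 F).rep.comp (Subgroup.inclusion G_le_stab10)

/-- the orthogonal representation of `G` -/
noncomputable def rho0 : G F →* GL I5 F :=
  (coord5 F).rep.comp (Subgroup.inclusion G_le_stab5)

theorem φ_Ad (g : G F) (v : I10 → F) :
    phi10 (((Ad g : GL I10 F) : Matrix I10 I10 F) *ᵥ v)
      = ((g.1 : GL (Fin 4) F) : M4 F) * phi10 v * (((g.1)⁻¹ : GL (Fin 4) F) : M4 F) :=
  (coord10 F).φ_rep (Subgroup.inclusion G_le_stab10 g) v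

theorem φ_rho0 (g : G F) (v : I5 → F) :
    phi5 (((rho0 g : GL I5 F) : Matrix I5 I5 F) *ᵥ v)
      = ((g.1 : GL (Fin 4) F) : M4 F) * phi5 v * (((g.1)⁻¹ : GL (Fin 4) F) : M4 F) :=
  (coord5 F).φ_rep (Subgroup.inclusion G_le_stab5 g) v

theorem Ad_xh (r : Fin 8) (t : F) :
    ((Ad ⟨xh r t, xh_mem r t⟩ : GL I10 F) : Matrix I10 I10 F) = xM r t := by
  apply (coord10 F).rep_val_of (Subgroup.inclusion G_le_stab10 ⟨xh r t, xh_mem r t⟩) (xM r t)
  intro v
  show ((xh r t : GL (Fin 4) F) : M4 F) * phi10 v * (((xh r t)⁻¹ : GL (Fin 4) F) : M4 F)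
    = phi10 (xM r t *ᵥ v)
  rw [xh_val, xh_inv_val, xm_conj10, xM_mulVec]

theorem rho0_xh_mulVec (r : Fin 8) (t : F) (v : I5 → F) :
    ((rho0 ⟨xh r t, xh_mem r t⟩ : GL I5 F) : Matrix I5 I5 F) *ᵥ v = f5 r t v := by
  apply (coord5 F).rep_mulVec_of (Subgroup.inclusion G_le_stab5 ⟨xh r t, xh_mem r t⟩) (f5 r t)
  intro v
  show ((xh r t : GL (Fin 4) F) : M4 F) * phi5 v * (((xh r t)⁻¹ : GL (Fin 4) F) : M4 F)
    = phi5 (f5 r t v)
  rw [xh_val, xh_inv_val, xm_conj5]

theorem Ad_eq_one_iff (g : G F) :
    Ad g = 1 ↔ ∀ v, ((g.1 : GL (Fin 4) F) : M4 F) * phi10 v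
      = phi10 v * ((g.1 : GL (Fin 4) F) : M4 F) :=
  (coord10 F).rep_eq_one_iff (Subgroup.inclusion G_le_stab10 g)

theorem rho0_eq_one_iff (g : G F) :
    rho0 g = 1 ↔ ∀ v, ((g.1 : GL (Fin 4) F) : M4 F) * phi5 v
      = phi5 v * ((g.1 : GL (Fin 4) F) : M4 F) :=
  (coord5 F).rep_eq_one_iff (Subgroup.inclusion G_le_stab5 g)

/-! ### the quadratic form -/

theorem phi5_sq (v : I5 → F) : phi5 v * phi5 v = (quadFormOdd 2 F v) • (1 : M4 F) := by
  ext i j
  fin_cases i <;> fin_cases j <;>
    simp [phi5, quadFormOdd, Fin.sum_univ_two, Matrix.mul_apply, Fin.sum_univ_four] <;> ring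

theorem quadFormOdd_rho0 (g : G F) (v : I5 → F) :
    quadFormOdd 2 F (((rho0 g : GL I5 F) : Matrix I5 I5 F) *ᵥ v) = quadFormOdd 2 F v := by
  have h1 := phi5_sq (((rho0 g : GL I5 F) : Matrix I5 I5 F) *ᵥ v)
  rw [φ_rho0] at h1
  have h2 : ((g.1 : GL (Fin 4) F) : M4 F) * phi5 v * (((g.1)⁻¹ : GL (Fin 4) F) : M4 F)
      * (((g.1 : GL (Fin 4) F) : M4 F) * phi5 v * (((g.1)⁻¹ : GL (Fin 4) F) : M4 F))
      = (quadFormOdd 2 F v) • (1 : M4 F) := by
    have e : ∀ A B C : M4 F, A * B * C * (A * B * C) = A * B * (C * A) * B * C := by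
      intro A B C
      simp only [mul_assoc]
    rw [e, ← Units.val_mul, inv_mul_cancel, Units.val_one, mul_one, mul_assoc _ (phi5 v) (phi5 v),
      phi5_sq, Matrix.mul_smul, Matrix.smul_mul, mul_one, ← Units.val_mul, mul_inv_cancel,
      Units.val_one]
  rw [h2] at h1
  have h3 := congrFun (congrFun h1 0) 0
  simpa using h3.symm

theorem rho0_mem (g : G F) : rho0 g ∈ isometryGroup F (quadFormOdd 2 F) := by
  intro u _
  exact quadFormOdd_rho0 g u

/-- the orthogonal representation, with values in the isometry group -/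
noncomputable def rho : G F →* isometryGroup F (quadFormOdd 2 F) :=
  rho0.codRestrict _ rho0_mem

theorem rho_val (g : G F) : ((rho g).1 : GL I5 F) = rho0 g := rfl

end Cfsg.Agent.Helper83.B2
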