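import Mathlib
import Cfsg.Agent.Helper83.B2Group

/-!
# Scalars: the kernels of the two representations of `G`
-/

set_option autoImplicit false

namespace Cfsg.Agent.Helper83.B2

open Matrix Cfsg Cfsg.Lie

variable {F : Type*} [Field F]

/-- a matrix commuting with the root elements `xm r 1` is scalar -/
theorem scalar_of_commute_xm (g : M4 F) (h : ∀ r : Fin 8, g * xm r 1 = xm r (1 : F) * g) :
    ∃ c : F, g = c • (1 : M4 F) := by
  have e := fun (r : Fin 8) (k l : Fin 4) => congrFun (congrFun (h r) k) l
  have z10 : g 1 0 = 0 := by
    have := e 7 1 2
    simp [xm, Matrix.mul_apply, Fin.sum_univ_four] at this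
    first | exact this | exact this.symm | linear_combination this | linear_combination -this
  have z20 : g 2 0 = 0 := by
    have := e 7 2 2
    simp [xm, Matrix.mul_apply, Fin.sum_univ_four] at this
    first | exact this | exact this.symm | linear_combination this | linear_combination -this
  have z30 : g 3 0 = 0 := by
    have := e 7 3 2
    simp [xm, Matrix.mul_apply, Fin.sum_univ_four] at this
    first | exact this | exact this.symm | linear_combination this | linear_combination -this
  have z21 : g 2 1 = 0 := by
    have := e 7 0 1
    simp [xm, Matrix.mul_apply, Fin.sum_univ_four] at this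
    first | exact this | exact this.symm | linear_combination this | linear_combination -this
  have z23 : g 2 3 = 0 := by
    have := e 7 0 3
    simp [xm, Matrix.mul_apply, Fin.sum_univ_four] at this
    first | exact this | exact this.symm | linear_combination this | linear_combination -this
  have z02 : g 0 2 = 0 := by
    have := e 0 0 0
    simp [xm, Matrix.mul_apply, Fin.sum_univ_four] at this
    first | exact this | exact this.symm | linear_combination this | linear_combination -this
  have z12 : g 1 2 = 0 := by
    have := e 0 1 0
    simp [xm, Matrix.mul_apply, Fin.sum_univ_four] at this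
    first | exact this | exact this.symm | linear_combination this | linear_combination -this
  have z32 : g 3 2 = 0 := by
    have := e 0 3 0
    simp [xm, Matrix.mul_apply, Fin.sum_univ_four] at this
    first | exact this | exact this.symm | linear_combination this | linear_combination -this
  have z01 : g 0 1 = 0 := by
    have := e 0 2 1
    simp [xm, Matrix.mul_apply, Fin.sum_univ_four] at this
    first | exact this | exact this.symm | linear_combination this | linear_combination -this
  have z03 : g 0 3 = 0 := by
    have := e 0 2 3
    simp [xm, Matrix.mul_apply, Fin.sum_univ_four] at this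
    first | exact this | exact this.symm | linear_combination this | linear_combination -this
  have z31 : g 3 1 = 0 := by
    have := e 4 3 3
    simp [xm, Matrix.mul_apply, Fin.sum_univ_four] at this
    first | exact this | exact this.symm | linear_combination this | linear_combination -this
  have z13 : g 1 3 = 0 := by
    have := e 3 1 1
    simp [xm, Matrix.mul_apply, Fin.sum_univ_four] at this
    first | exact this | exact this.symm | linear_combination this | linear_combination -this
  have d02 : g 2 2 = g 0 0 := by
    have := e 7 0 2
    simp [xm, Matrix.mul_apply, Fin.sum_univ_four] at this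
    first | exact this | exact this.symm | linear_combination this | linear_combination -this
  have d13 : g 3 3 = g 1 1 := by
    have := e 4 1 3
    simp [xm, Matrix.mul_apply, Fin.sum_univ_four] at this
    first | exact this | exact this.symm | linear_combination this | linear_combination -this
  have d01 : g 1 1 = g 0 0 := by
    have := e 5 0 1
    simp [xm, Matrix.mul_apply, Fin.sum_univ_four] at this
    first | exact this | exact this.symm | linear_combination this | linear_combination -this
  refine ⟨g 0 0, ?_⟩
  ext i j
  fin_cases i <;> fin_cases j <;>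
    simp [z10, z20, z30, z21, z23, z02, z12, z32, z01, z03, z31, z13, d02, d13, d01]

theorem xm_one_eq (r : Fin 8) :
    xm r (1 : F) = 1 + phi10 (Pi.single (Sum.inr r) 1) := by
  fin_cases r <;> ext i j <;> fin_cases i <;> fin_cases j <;> simp [xm, phi10]

theorem scalar_of_commute_phi10 (g : M4 F) (h : ∀ v : I10 → F, g * phi10 v = phi10 v * g) :
    ∃ c : F, g = c • (1 : M4 F) := by
  apply scalar_of_commute_xm
  intro r
  rw [xm_one_eq, mul_add, add_mul, mul_one, one_mul, h]

/-- a matrix commuting with the orthogonal module is scalar -/
theorem scalar_of_commute_phi5 (g : M4 F) (h : ∀ v : I5 → F, g * phi5 v = phi5 v * g) :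
    ∃ c : F, g = c • (1 : M4 F) := by
  have hx1 := h (mk5 0 1 0 0 0)
  have hy1 := h (mk5 0 0 0 1 0)
  have hx2 := h (mk5 0 0 1 0 0)
  have hy2 := h (mk5 0 0 0 0 1)
  have ex1 := fun (k l : Fin 4) => congrFun (congrFun hx1 k) l
  have ey1 := fun (k l : Fin 4) => congrFun (congrFun hy1 k) l
  have ex2 := fun (k l : Fin 4) => congrFun (congrFun hx2 k) l
  have ey2 := fun (k l : Fin 4) => congrFun (congrFun hy2 k) l
  have z10 : g 1 0 = 0 := by
    have := ex1 0 0
    simp [phi5, mk5, Matrix.mul_apply, Fin.sum_univ_four] at this
    first | exact this | exact this.symm | linear_combination this | linear_combination -this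
  have z13 : g 1 3 = 0 := by
    have := ex1 0 3
    simp [phi5, mk5, Matrix.mul_apply, Fin.sum_univ_four] at this
    first | exact this | exact this.symm | linear_combination this | linear_combination -this
  have z20 : g 2 0 = 0 := by
    have := ex1 2 1
    simp [phi5, mk5, Matrix.mul_apply, Fin.sum_univ_four] at this
    first | exact this | exact this.symm | linear_combination this | linear_combination -this
  have z23 : g 2 3 = 0 := by
    have := ex1 2 2
    simp [phi5, mk5, Matrix.mul_apply, Fin.sum_univ_four] at this
    first | exact this | exact this.symm | linear_combination this | linear_combination -this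
  have d01 : g 1 1 = g 0 0 := by
    have := ex1 0 1
    simp [phi5, mk5, Matrix.mul_apply, Fin.sum_univ_four] at this
    first | exact this | exact this.symm | linear_combination this | linear_combination -this
  have d23 : g 3 3 = g 2 2 := by
    have := ex1 3 2
    simp [phi5, mk5, Matrix.mul_apply, Fin.sum_univ_four] at this
    first | exact this | exact this.symm | linear_combination this | linear_combination -this
  have z01 : g 0 1 = 0 := by
    have := ey1 0 0
    simp [phi5, mk5, Matrix.mul_apply, Fin.sum_univ_four] at this
    first | exact this | exact this.symm | linear_combination this | linear_combination -this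
  have z02 : g 0 2 = 0 := by
    have := ey1 0 3
    simp [phi5, mk5, Matrix.mul_apply, Fin.sum_univ_four] at this
    first | exact this | exact this.symm | linear_combination this | linear_combination -this
  have z31 : g 3 1 = 0 := by
    have := ey1 2 1
    simp [phi5, mk5, Matrix.mul_apply, Fin.sum_univ_four] at this
    first | exact this | exact this.symm | linear_combination this | linear_combination -this
  have z32 : g 3 2 = 0 := by
    have := ey1 2 2
    simp [phi5, mk5, Matrix.mul_apply, Fin.sum_univ_four] at this
    first | exact this | exact this.symm | linear_combination this | linear_combination -this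
  have z30 : g 3 0 = 0 := by
    have := ex2 0 0
    simp [phi5, mk5, Matrix.mul_apply, Fin.sum_univ_four] at this
    first | exact this | exact this.symm | linear_combination this | linear_combination -this
  have d03 : g 3 3 = g 0 0 := by
    have := ex2 0 3
    simp [phi5, mk5, Matrix.mul_apply, Fin.sum_univ_four] at this
    first | exact this | exact this.symm | linear_combination this | linear_combination -this
  have z21 : g 2 1 = 0 := by
    have := ex2 1 1
    simp [phi5, mk5, Matrix.mul_apply, Fin.sum_univ_four] at this
    first | exact this | exact this.symm | linear_combination this | linear_combination -this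
  have z03 : g 0 3 = 0 := by
    have := ey2 0 0
    simp [phi5, mk5, Matrix.mul_apply, Fin.sum_univ_four] at this
    first | exact this | exact this.symm | linear_combination this | linear_combination -this
  have z12 : g 1 2 = 0 := by
    have := ey2 1 1
    simp [phi5, mk5, Matrix.mul_apply, Fin.sum_univ_four] at this
    first | exact this | exact this.symm | linear_combination this | linear_combination -this
  have d22 : g 2 2 = g 0 0 := by rw [← d23, d03]
  refine ⟨g 0 0, ?_⟩
  ext i j
  fin_cases i <;> fin_cases j <;>
    simp [z10, z20, z30, z21, z23, z02, z12, z32, z01, z03, z31, z13, d01, d22, d03]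

theorem smul_one_commute (c : F) (X : M4 F) : (c • (1 : M4 F)) * X = X * (c • (1 : M4 F)) := by
  rw [Matrix.smul_mul, Matrix.mul_smul, one_mul, mul_one]

theorem Ad_eq_one_iff_scalar (g : G F) :
    Ad g = 1 ↔ ∃ c : F, ((g.1 : GL (Fin 4) F) : M4 F) = c • (1 : M4 F) := by
  rw [Ad_eq_one_iff]
  constructor
  · exact scalar_of_commute_phi10 _
  · rintro ⟨c, hc⟩ v
    rw [hc, smul_one_commute]

theorem rho0_eq_one_iff_scalar (g : G F) :
    rho0 g = 1 ↔ ∃ c : F, ((g.1 : GL (Fin 4) F) : M4 F) = c • (1 : M4 F) := by
  rw [rho0_eq_one_iff]
  constructor
  · exact scalar_of_commute_phi5 _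
  · rintro ⟨c, hc⟩ v
    rw [hc, smul_one_commute]

theorem rho_eq_one_iff_scalar (g : G F) :
    rho g = 1 ↔ ∃ c : F, ((g.1 : GL (Fin 4) F) : M4 F) = c • (1 : M4 F) := by
  rw [← rho0_eq_one_iff_scalar]
  constructor
  · intro h
    have := congrArg Subtype.val h
    exact this
  · intro h
    apply Subtype.ext
    exact h

theorem Ad_ker_eq_rho_ker : (Ad (F := F)).ker = (rho (F := F)).ker := by
  ext g
  rw [MonoidHom.mem_ker, MonoidHom.mem_ker, Ad_eq_one_iff_scalar, rho_eq_one_iff_scalar]

/-- if `g x g⁻¹ = μ x` for a root element `x` then `μ = 1` -/
theorem mu_eq_one (g : GL (Fin 4) F) (r : Fin 8) (t μ : F)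
    (h : (g : M4 F) * xm r t * ((g⁻¹ : GL (Fin 4) F) : M4 F) = μ • xm r t) : μ = 1 := by
  have hA : (xm r t - 1) * (xm r t - 1) = 0 := by
    fin_cases r <;> ext i j <;> fin_cases i <;> fin_cases j <;>
      simp [xm, Matrix.mul_apply, Fin.sum_univ_four]
  have h1 : μ • xm r t - 1 = (g : M4 F) * (xm r t - 1) * ((g⁻¹ : GL (Fin 4) F) : M4 F) := by
    rw [mul_sub, sub_mul, h, mul_one, ← Units.val_mul, mul_inv_cancel, Units.val_one]
  have h2 : (μ • xm r t - 1) * (μ • xm r t - 1) = 0 := by
    rw [h1]
    have e : ∀ A B C : M4 F, A * B * C * (A * B * C) = A * (B * (C * A) * B) * C := by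
      intro A B C
      simp only [mul_assoc]
    rw [e, ← Units.val_mul, inv_mul_cancel, Units.val_one, mul_one, hA, mul_zero, zero_mul]
  have h3 : ((μ • xm r t - 1) * (μ • xm r t - 1)) 0 0 = (μ - 1) ^ 2 := by
    fin_cases r <;> simp [xm, Matrix.mul_apply, Fin.sum_univ_four] <;> ring
  rw [h2] at h3
  have h4 : (μ - 1) ^ 2 = 0 := by
    rw [← h3]
    rfl
  have h5 : μ - 1 = 0 := by
    exact pow_eq_zero_iff (two_ne_zero) |>.1 h4
  linear_combination h5

/-- an element of `G` whose image commutes with the image of `G` has trivial image -/
theorem rho_eq_one_of_central (g : G F)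
    (h : ∀ k : G F, rho (g * k * g⁻¹ * k⁻¹) = 1) : rho g = 1 := by
  rw [rho_eq_one_iff_scalar]
  apply scalar_of_commute_xm
  intro r
  obtain ⟨c, hc⟩ := (rho_eq_one_iff_scalar _).1 (h ⟨xh r 1, xh_mem r 1⟩)
  have hc' : ((g.1 : GL (Fin 4) F) : M4 F) * xm r 1 * (((g.1)⁻¹ : GL (Fin 4) F) : M4 F)
      * xm r (-1) = c • (1 : M4 F) := by
    rw [← hc]
    rfl
  have h1 : ((g.1 : GL (Fin 4) F) : M4 F) * xm r 1 * (((g.1)⁻¹ : GL (Fin 4) F) : M4 F)
      = c • xm r 1 := by
    have := congrArg (fun X => X * xm r (1 : F)) hc'
    beta_reduce at this
    rw [mul_assoc, xm_neg_mul, mul_one, Matrix.smul_mul, one_mul] at this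
    exact this
  have hc1 : c = 1 := mu_eq_one g.1 r 1 c h1
  rw [hc1, one_smul] at h1
  have h2 := congrArg (fun X => X * ((g.1 : GL (Fin 4) F) : M4 F)) h1
  beta_reduce at h2
  rw [mul_assoc, ← Units.val_mul, inv_mul_cancel, Units.val_one, mul_one] at h2
  exact h2

end Cfsg.Agent.Helper83.B2
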