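import Mathlib
import Cfsg.Agent.Helper5.EichlerO
import Cfsg.Agent.Helper44.StdForms
import Cfsg.Agent.Helper83.B2Scalar

/-!
# The image of `G` in the orthogonal group: root elements as Eichler transformations
-/

set_option autoImplicit false

namespace Cfsg.Agent.Helper83.B2

open Matrix Cfsg Cfsg.Lie QuadraticMap
open Cfsg.Agent.Helper5 Cfsg.Agent.Helper44 Cfsg.Agent.Helper45.OmegaParity

variable {F : Type*} [Field F]

/-- the quadratic form `x₀² + x₁y₁ + x₂y₂` -/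
abbrev QO (F : Type*) [Field F] : QuadraticForm F (I5 → F) := oddForm 2 F

/-- coordinates -/
abbrev iz : I5 := Sum.inl ()
abbrev ix1 : I5 := Sum.inr (Sum.inl 0)
abbrev ix2 : I5 := Sum.inr (Sum.inl 1)
abbrev iy1 : I5 := Sum.inr (Sum.inr 0)
abbrev iy2 : I5 := Sum.inr (Sum.inr 1)

/-- the standard basis -/
def e0 : I5 → F := mk5 1 0 0 0 0
def e1 : I5 → F := mk5 0 1 0 0 0
def e2 : I5 → F := mk5 0 0 1 0 0
def f1 : I5 → F := mk5 0 0 0 1 0
def f2 : I5 → F := mk5 0 0 0 0 1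

theorem QO_apply (v : I5 → F) :
    QO F v = v iz ^ 2 + v ix1 * v iy1 + v ix2 * v iy2 := by
  show quadFormOdd 2 F v = _
  simp [quadFormOdd, Fin.sum_univ_two]
  ring

theorem polar_QO (u v : I5 → F) :
    polar ⇑(QO F) u v = 2 * u iz * v iz + u ix1 * v iy1 + u iy1 * v ix1
      + u ix2 * v iy2 + u iy2 * v ix2 := by
  unfold polar
  rw [QO_apply, QO_apply, QO_apply]
  simp only [Pi.add_apply]
  ring

theorem mk5_eta (v : I5 → F) : mk5 (v iz) (v ix1) (v ix2) (v iy1) (v iy2) = v := by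
  funext idx
  rcases idx with i | i | i
  · rfl
  · fin_cases i <;> rfl
  · fin_cases i <;> rfl

theorem ext5 {v w : I5 → F} (hz : v iz = w iz) (h1 : v ix1 = w ix1) (h2 : v ix2 = w ix2)
    (h3 : v iy1 = w iy1) (h4 : v iy2 = w iy2) : v = w := by
  rw [← mk5_eta v, ← mk5_eta w, hz, h1, h2, h3, h4]

@[simp] theorem mk5_iz (a b c d e : F) : mk5 a b c d e iz = a := rfl
@[simp] theorem mk5_ix1 (a b c d e : F) : mk5 a b c d e ix1 = b := rfl
@[simp] theorem mk5_ix2 (a b c d e : F) : mk5 a b c d e ix2 = c := rfl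
@[simp] theorem mk5_iy1 (a b c d e : F) : mk5 a b c d e iy1 = d := rfl
@[simp] theorem mk5_iy2 (a b c d e : F) : mk5 a b c d e iy2 = e := rfl

/-- the orthogonal representation with values in the isometry group of `QO` -/
noncomputable def rhoQ : G F →* isometryGroup F ⇑(QO F) := rho

theorem lin_rhoQ (g : G F) (x : I5 → F) :
    lin (QO F) (rhoQ g) x = ((rho0 g : GL I5 F) : Matrix I5 I5 F) *ᵥ x := rfl

theorem lin_rhoQ_xh (r : Fin 8) (t : F) (x : I5 → F) :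
    lin (QO F) (rhoQ ⟨xh r t, xh_mem r t⟩) x = f5 r t x := by
  rw [lin_rhoQ, rho0_xh_mulVec]

/-- the image of `G` in the orthogonal group -/
noncomputable def E5 (F : Type*) [Field F] : Subgroup (isometryGroup F ⇑(QO F)) := (rhoQ (F := F)).range

theorem rhoQ_mem (g : G F) : rhoQ g ∈ E5 F := ⟨g, rfl⟩

theorem QO_e1 : QO F (e1 : I5 → F) = 0 := by rw [QO_apply]; simp [e1]
theorem QO_f1 : QO F (f1 : I5 → F) = 0 := by rw [QO_apply]; simp [f1]
theorem QO_e2 : QO F (e2 : I5 → F) = 0 := by rw [QO_apply]; simp [e2]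
theorem QO_f2 : QO F (f2 : I5 → F) = 0 := by rw [QO_apply]; simp [f2]
theorem QO_e0 : QO F (e0 : I5 → F) = 1 := by rw [QO_apply]; simp [e0]

theorem eichler_e1_e0 (a : F) :
    eichlerO (QO F) e1 (a • e0) = rhoQ ⟨xh 5 (-a), xh_mem 5 (-a)⟩ := by
  have huw : polar ⇑(QO F) e1 (a • e0) = 0 := by rw [polar_QO]; simp [e1, e0]
  apply isom_ext
  intro x
  rw [lin_eichlerO (QO F) QO_e1 huw, lin_rhoQ_xh]
  apply ext5 <;> simp [f5, f5_5, polar_QO, QO_apply, e1, e0] <;> ring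

theorem eichler_e1_e2 (a : F) :
    eichlerO (QO F) e1 (a • e2) = rhoQ ⟨xh 7 (-a), xh_mem 7 (-a)⟩ := by
  have huw : polar ⇑(QO F) e1 (a • e2) = 0 := by rw [polar_QO]; simp [e1, e2]
  apply isom_ext
  intro x
  rw [lin_eichlerO (QO F) QO_e1 huw, lin_rhoQ_xh]
  apply ext5 <;> simp [f5, f5_7, polar_QO, QO_apply, e1, e2] <;> ring

theorem eichler_e1_f2 (a : F) :
    eichlerO (QO F) e1 (a • f2) = rhoQ ⟨xh 3 (a), xh_mem 3 (a)⟩ := by
  have huw : polar ⇑(QO F) e1 (a • f2) = 0 := by rw [polar_QO]; simp [e1, f2]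
  apply isom_ext
  intro x
  rw [lin_eichlerO (QO F) QO_e1 huw, lin_rhoQ_xh]
  apply ext5 <;> simp [f5, f5_3, polar_QO, QO_apply, e1, f2] <;> ring

theorem eichler_f1_e0 (a : F) :
    eichlerO (QO F) f1 (a • e0) = rhoQ ⟨xh 2 (a), xh_mem 2 (a)⟩ := by
  have huw : polar ⇑(QO F) f1 (a • e0) = 0 := by rw [polar_QO]; simp [f1, e0]
  apply isom_ext
  intro x
  rw [lin_eichlerO (QO F) QO_f1 huw, lin_rhoQ_xh]
  apply ext5 <;> simp [f5, f5_2, polar_QO, QO_apply, f1, e0] <;> ring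

theorem eichler_f1_f2 (a : F) :
    eichlerO (QO F) f1 (a • f2) = rhoQ ⟨xh 0 (a), xh_mem 0 (a)⟩ := by
  have huw : polar ⇑(QO F) f1 (a • f2) = 0 := by rw [polar_QO]; simp [f1, f2]
  apply isom_ext
  intro x
  rw [lin_eichlerO (QO F) QO_f1 huw, lin_rhoQ_xh]
  apply ext5 <;> simp [f5, f5_0, polar_QO, QO_apply, f1, f2] <;> ring

theorem eichler_f1_e2 (a : F) :
    eichlerO (QO F) f1 (a • e2) = rhoQ ⟨xh 4 (-a), xh_mem 4 (-a)⟩ := by
  have huw : polar ⇑(QO F) f1 (a • e2) = 0 := by rw [polar_QO]; simp [f1, e2]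
  apply isom_ext
  intro x
  rw [lin_eichlerO (QO F) QO_f1 huw, lin_rhoQ_xh]
  apply ext5 <;> simp [f5, f5_4, polar_QO, QO_apply, f1, e2] <;> ring

theorem eichler_e2_e0 (a : F) :
    eichlerO (QO F) e2 (a • e0) = rhoQ ⟨xh 6 (-a), xh_mem 6 (-a)⟩ := by
  have huw : polar ⇑(QO F) e2 (a • e0) = 0 := by rw [polar_QO]; simp [e2, e0]
  apply isom_ext
  intro x
  rw [lin_eichlerO (QO F) QO_e2 huw, lin_rhoQ_xh]
  apply ext5 <;> simp [f5, f5_6, polar_QO, QO_apply, e2, e0] <;> ring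

theorem eichler_f2_e0 (a : F) :
    eichlerO (QO F) f2 (a • e0) = rhoQ ⟨xh 1 (a), xh_mem 1 (a)⟩ := by
  have huw : polar ⇑(QO F) f2 (a • e0) = 0 := by rw [polar_QO]; simp [f2, e0]
  apply isom_ext
  intro x
  rw [lin_eichlerO (QO F) QO_f2 huw, lin_rhoQ_xh]
  apply ext5 <;> simp [f5, f5_1, polar_QO, QO_apply, f2, e0] <;> ring


/-! ### the torus -/

theorem Coord.rep_mulVec_of' {ι : Type*} [Fintype ι] [DecidableEq ι] (C : Coord F ι) (g : C.stab)
    (f : (ι → F) → (ι → F))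
    (h : ∀ v, ((g.1 : GL (Fin 4) F) : M4 F) * C.φ v = C.φ (f v) * ((g.1 : GL (Fin 4) F) : M4 F))
    (v : ι → F) : ((C.rep g : GL ι F) : Matrix ι ι F) *ᵥ v = f v := by
  apply C.rep_mulVec_of g f
  intro v
  rw [h v, mul_assoc, ← Units.val_mul, mul_inv_cancel, Units.val_one, mul_one]

/-- the torus element `diag(c, 1, c⁻¹, 1)` as a product of root elements -/
def hh (c : F) : GL (Fin 4) F :=
  xh 7 c * xh 0 (-c⁻¹) * xh 7 c * (xh 7 (-1) * xh 0 1 * xh 7 (-1))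

theorem hh_mem (c : F) : hh c ∈ G F :=
  mul_mem (mul_mem (mul_mem (xh_mem _ _) (xh_mem _ _)) (xh_mem _ _))
    (mul_mem (mul_mem (xh_mem _ _) (xh_mem _ _)) (xh_mem _ _))

theorem hh_val (c : F) (hc : c ≠ 0) :
    ((hh c : GL (Fin 4) F) : M4 F) = !![c, 0, 0, 0; 0, 1, 0, 0; 0, 0, c⁻¹, 0; 0, 0, 0, 1] := by
  simp only [hh, Units.val_mul, xh_val]
  ext i j
  fin_cases i <;> fin_cases j <;> simp [xm, Matrix.mul_apply, Fin.sum_univ_four, hc]

theorem hh_conj5 (c : F) (hc : c ≠ 0) (v : I5 → F) :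
    ((hh c : GL (Fin 4) F) : M4 F) * phi5 v
      = phi5 (mk5 (v iz) (c * v ix1) (c * v ix2) (c⁻¹ * v iy1) (c⁻¹ * v iy2))
        * ((hh c : GL (Fin 4) F) : M4 F) := by
  rw [hh_val c hc]
  ext i j
  fin_cases i <;> fin_cases j <;> simp [phi5, Matrix.mul_apply, Fin.sum_univ_four, hc] <;>
    field_simp

theorem lin_rhoQ_hh (c : F) (hc : c ≠ 0) (x : I5 → F) :
    lin (QO F) (rhoQ ⟨hh c, hh_mem c⟩) x
      = mk5 (x iz) (c * x ix1) (c * x ix2) (c⁻¹ * x iy1) (c⁻¹ * x iy2) := by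
  rw [lin_rhoQ]
  exact Coord.rep_mulVec_of' (coord5 F) (Subgroup.inclusion G_le_stab5 ⟨hh c, hh_mem c⟩) _
    (hh_conj5 c hc) x

end Cfsg.Agent.Helper83.B2
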