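import Mathlib
import Cfsg.Agent.Helper83.B2Orth1

/-!
# Moving vectors with Eichler transformations
-/

set_option autoImplicit false

namespace Cfsg.Agent.Helper83.B2

open Matrix Cfsg Cfsg.Lie QuadraticMap
open Cfsg.Agent.Helper5 Cfsg.Agent.Helper44 Cfsg.Agent.Helper45.OmegaParity

variable {F : Type*} [Field F]

section general

variable {ι : Type} [Fintype ι] [DecidableEq ι] (Q : QuadraticForm F (ι → F))

theorem polar_self' (u : ι → F) (hu : Q u = 0) : polar ⇑Q u u = 0 := by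
  rw [QuadraticMap.polar_self, hu, smul_zero]

/-- an Eichler transformation `E(u', w)` fixes the vectors orthogonal to `u'` and `w` -/
theorem lin_eichlerO_fix {u' w : ι → F} (hu' : Q u' = 0) (hw : polar ⇑Q u' w = 0) (y : ι → F)
    (h1 : polar ⇑Q u' y = 0) (h2 : polar ⇑Q w y = 0) : lin Q (eichlerO Q u' w) y = y := by
  rw [lin_eichlerO Q hu' hw, h1, h2]
  simp

theorem lin_eichlerO_self {u' w : ι → F} (hu' : Q u' = 0) (hw : polar ⇑Q u' w = 0) :
    lin Q (eichlerO Q u' w) u' = u' := by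
  apply lin_eichlerO_fix Q hu' hw
  · exact polar_self' Q u' hu'
  · rw [QuadraticMap.polar_comm, hw]

/-- the key lemma: a singular vector `x` with `B(u', x) ≠ 0` is moved to a multiple of `u` by an
Eichler transformation `E(u', w)` -/
theorem eichler_move (u u' x : ι → F) (hu : Q u = 0) (hu' : Q u' = 0)
    (huu' : polar ⇑Q u u' = 1) (hx : Q x = 0) (ha : polar ⇑Q u' x ≠ 0) :
    ∃ w, polar ⇑Q u' w = 0 ∧ lin Q (eichlerO Q u' w) x = (polar ⇑Q u' x) • u ∧
      (∀ y, polar ⇑Q u y = 0 → polar ⇑Q u' y = 0 → polar ⇑Q x y = 0 → polar ⇑Q w y = 0) := by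
  set a := polar ⇑Q u' x with ha_def
  set p := polar ⇑Q u x with hp_def
  have hu'u : polar ⇑Q u' u = 1 := by rw [QuadraticMap.polar_comm, huu']
  have hu'u' : polar ⇑Q u' u' = 0 := polar_self' Q u' hu'
  have huu : polar ⇑Q u u = 0 := polar_self' Q u hu
  refine ⟨a⁻¹ • (x - a • u - p • u'), ?_, ?_, ?_⟩
  · rw [QuadraticMap.polar_smul_right, QuadraticMap.polar_sub_right, QuadraticMap.polar_sub_right,
      QuadraticMap.polar_smul_right, QuadraticMap.polar_smul_right, hu'u, hu'u', ← ha_def]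
    simp
  · have hw : polar ⇑Q u' (a⁻¹ • (x - a • u - p • u')) = 0 := by
      rw [QuadraticMap.polar_smul_right, QuadraticMap.polar_sub_right,
        QuadraticMap.polar_sub_right, QuadraticMap.polar_smul_right,
        QuadraticMap.polar_smul_right, hu'u, hu'u', ← ha_def]
      simp
    set w := a⁻¹ • (x - a • u - p • u') with hw_def
    have haw : a • w = x - a • u - p • u' := by
      rw [hw_def, smul_smul, mul_inv_cancel₀ ha, one_smul]
    set κ := p + polar ⇑Q w x - Q w * a with hκ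
    have key : lin Q (eichlerO Q u' w) x = a • u + κ • u' := by
      rw [lin_eichlerO Q hu' hw, ← ha_def, haw, hκ]
      module
    have hQ : Q (a • u + κ • u') = a * κ := by
      rw [QuadraticMap.map_add ⇑Q, QuadraticMap.map_smul, QuadraticMap.map_smul, hu, hu',
        QuadraticMap.polar_smul_left, QuadraticMap.polar_smul_right, huu']
      simp
    have h0 : a * κ = 0 := by
      rw [← hQ, ← key, lin_isometry, hx]
    have hκ0 : κ = 0 := by
      rcases mul_eq_zero.1 h0 with h | h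
      · exact absurd h ha
      · exact h
    rw [key, hκ0, zero_smul, add_zero]
  · intro y h1 h2 h3
    rw [QuadraticMap.polar_smul_left, QuadraticMap.polar_sub_left, QuadraticMap.polar_sub_left,
      QuadraticMap.polar_smul_left, QuadraticMap.polar_smul_left, h1, h2, h3]
    simp

end general


/-! ### the unipotent radicals of the stabilisers of `e1` and `f1` lie in `E5` -/

theorem eichler_e1_mem (w : I5 → F) (hw : polar ⇑(QO F) e1 w = 0) :
    eichlerO (QO F) e1 w ∈ E5 F := by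
  have hw1 : w iy1 = 0 := by
    rw [polar_QO] at hw
    simpa [e1] using hw
  have hdec : w = (w iz • e0 + (w ix2 • e2 + w iy2 • f2)) + w ix1 • e1 := by
    apply ext5 <;> simp [e0, e1, e2, f2, hw1]
  have h0 : polar ⇑(QO F) e1 (w iz • e0) = 0 := by rw [polar_QO]; simp [e1, e0]
  have h2 : polar ⇑(QO F) e1 (w ix2 • e2) = 0 := by rw [polar_QO]; simp [e1, e2]
  have h3 : polar ⇑(QO F) e1 (w iy2 • f2) = 0 := by rw [polar_QO]; simp [e1, f2]
  have h23 : polar ⇑(QO F) e1 (w ix2 • e2 + w iy2 • f2) = 0 := by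
    rw [QuadraticMap.polar_add_right, h2, h3, add_zero]
  have h023 : polar ⇑(QO F) e1 (w iz • e0 + (w ix2 • e2 + w iy2 • f2)) = 0 := by
    rw [QuadraticMap.polar_add_right, h0, h23, add_zero]
  rw [hdec, eichlerO_add_smul (QO F) QO_e1 h023, ← eichlerO_mul (QO F) QO_e1 h0 h23,
    ← eichlerO_mul (QO F) QO_e1 h2 h3, eichler_e1_e0, eichler_e1_e2, eichler_e1_f2]
  exact mul_mem (rhoQ_mem _) (mul_mem (rhoQ_mem _) (rhoQ_mem _))

theorem eichler_f1_mem (w : I5 → F) (hw : polar ⇑(QO F) f1 w = 0) :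
    eichlerO (QO F) f1 w ∈ E5 F := by
  have hw1 : w ix1 = 0 := by
    rw [polar_QO] at hw
    simpa [f1] using hw
  have hdec : w = (w iz • e0 + (w ix2 • e2 + w iy2 • f2)) + w iy1 • f1 := by
    apply ext5 <;> simp [e0, f1, e2, f2, hw1]
  have h0 : polar ⇑(QO F) f1 (w iz • e0) = 0 := by rw [polar_QO]; simp [f1, e0]
  have h2 : polar ⇑(QO F) f1 (w ix2 • e2) = 0 := by rw [polar_QO]; simp [f1, e2]
  have h3 : polar ⇑(QO F) f1 (w iy2 • f2) = 0 := by rw [polar_QO]; simp [f1, f2]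
  have h23 : polar ⇑(QO F) f1 (w ix2 • e2 + w iy2 • f2) = 0 := by
    rw [QuadraticMap.polar_add_right, h2, h3, add_zero]
  have h023 : polar ⇑(QO F) f1 (w iz • e0 + (w ix2 • e2 + w iy2 • f2)) = 0 := by
    rw [QuadraticMap.polar_add_right, h0, h23, add_zero]
  rw [hdec, eichlerO_add_smul (QO F) QO_f1 h023, ← eichlerO_mul (QO F) QO_f1 h0 h23,
    ← eichlerO_mul (QO F) QO_f1 h2 h3, eichler_f1_e0, eichler_f1_e2, eichler_f1_f2]
  exact mul_mem (rhoQ_mem _) (mul_mem (rhoQ_mem _) (rhoQ_mem _))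

/-! ### transitivity on singular vectors -/

/-- a non-zero singular vector can be moved so that its `x₁`-coordinate is non-zero -/
theorem exists_ix1_ne_zero (x : I5 → F) (hx : QO F x = 0) (hx0 : x ≠ 0) :
    ∃ g ∈ E5 F, (lin (QO F) g x) ix1 ≠ 0 := by
  by_cases h1 : x ix1 = 0
  swap
  · exact ⟨1, one_mem _, by rw [lin_one_apply]; exact h1⟩
  by_cases h2 : x ix2 = 0
  swap
  · refine ⟨rhoQ ⟨xh 3 1, xh_mem 3 1⟩, rhoQ_mem _, ?_⟩
    rw [lin_rhoQ_xh]
    simpa [f5, f5_3, h1] using h2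
  by_cases h3 : x iy2 = 0
  swap
  · refine ⟨rhoQ ⟨xh 7 1, xh_mem 7 1⟩, rhoQ_mem _, ?_⟩
    rw [lin_rhoQ_xh]
    simpa [f5, f5_7, h1] using h3
  have hz : x iz = 0 := by
    rw [QO_apply, h1, h2, h3] at hx
    simpa using hx
  have h4 : x iy1 ≠ 0 := by
    intro h4
    apply hx0
    apply ext5 <;> simp [hz, h1, h2, h3, h4]
  refine ⟨rhoQ ⟨xh 5 1, xh_mem 5 1⟩, rhoQ_mem _, ?_⟩
  rw [lin_rhoQ_xh]
  simpa [f5, f5_5, h1, hz] using h4

theorem polar_e1_f1 : polar ⇑(QO F) (e1 : I5 → F) f1 = 1 := by rw [polar_QO]; simp [e1, f1]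
theorem polar_e2_f2 : polar ⇑(QO F) (e2 : I5 → F) f2 = 1 := by rw [polar_QO]; simp [e2, f2]
theorem polar_f1_e1 : polar ⇑(QO F) (f1 : I5 → F) e1 = 1 := by rw [polar_QO]; simp [e1, f1]
theorem polar_f2_e2 : polar ⇑(QO F) (f2 : I5 → F) e2 = 1 := by rw [polar_QO]; simp [e2, f2]

theorem polar_e1 (x : I5 → F) : polar ⇑(QO F) e1 x = x iy1 := by rw [polar_QO]; simp [e1]
theorem polar_f1 (x : I5 → F) : polar ⇑(QO F) f1 x = x ix1 := by rw [polar_QO]; simp [f1]
theorem polar_e2 (x : I5 → F) : polar ⇑(QO F) e2 x = x iy2 := by rw [polar_QO]; simp [e2]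
theorem polar_f2 (x : I5 → F) : polar ⇑(QO F) f2 x = x ix2 := by rw [polar_QO]; simp [f2]
theorem polar_e0 (x : I5 → F) : polar ⇑(QO F) e0 x = 2 * x iz := by rw [polar_QO]; simp [e0]

/-- `E5` is transitive on the non-zero singular vectors -/
theorem exists_map_e1 (x : I5 → F) (hx : QO F x = 0) (hx0 : x ≠ 0) :
    ∃ g ∈ E5 F, lin (QO F) g x = e1 := by
  obtain ⟨g1, hg1, h1⟩ := exists_ix1_ne_zero x hx hx0
  set y := lin (QO F) g1 x with hy
  have hyQ : QO F y = 0 := by rw [hy, lin_isometry, hx]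
  have ha : polar ⇑(QO F) f1 y ≠ 0 := by rw [polar_f1]; exact h1
  obtain ⟨w, hw, hmove, -⟩ := eichler_move (QO F) e1 f1 y QO_e1 QO_f1 polar_e1_f1 hyQ ha
  rw [polar_f1] at hmove
  have hc : y ix1 ≠ 0 := h1
  refine ⟨rhoQ ⟨hh (y ix1)⁻¹, hh_mem _⟩ * (eichlerO (QO F) f1 w * g1),
    mul_mem (rhoQ_mem _) (mul_mem (eichler_f1_mem w hw) hg1), ?_⟩
  rw [lin_mul_apply, lin_mul_apply, ← hy, hmove, lin_rhoQ_hh _ (inv_ne_zero hc)]
  apply ext5 <;> simp [e1, hc]

/-- every Eichler transformation lies in `E5` -/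
theorem eichlerO_mem_E5 (u w : I5 → F) : eichlerO (QO F) u w ∈ E5 F := by
  by_cases h : QO F u = 0 ∧ polar ⇑(QO F) u w = 0
  swap
  · unfold eichlerO
    rw [dif_neg h]
    exact one_mem _
  obtain ⟨hu, huw⟩ := h
  by_cases hu0 : u = 0
  · have : eichlerO (QO F) u w = 1 := by
      apply isom_ext
      intro x
      rw [lin_eichlerO (QO F) hu huw, lin_one_apply, hu0]
      simp
    rw [this]
    exact one_mem _
  obtain ⟨g, hg, hgu⟩ := exists_map_e1 u hu hu0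
  have hconj := eichlerO_conj (QO F) g hu huw
  rw [hgu] at hconj
  have hw' : polar ⇑(QO F) e1 (lin (QO F) g w) = 0 := by
    rw [← hgu, polar_lin, huw]
  have hmem : g * eichlerO (QO F) u w * g⁻¹ ∈ E5 F := by
    rw [hconj]
    exact eichler_e1_mem _ hw'
  have : eichlerO (QO F) u w = g⁻¹ * (g * eichlerO (QO F) u w * g⁻¹) * g := by group
  rw [this]
  exact mul_mem (mul_mem (inv_mem hg) hmem) hg

theorem eichlerGroup_le_E5 : eichlerGroup (QO F) ≤ E5 F := by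
  unfold eichlerGroup
  rw [Subgroup.closure_le]
  rintro g ⟨u, w, -, -, rfl⟩
  exact eichlerO_mem_E5 u w

theorem rhoQ_xh_mem_eichlerGroup (r : Fin 8) (t : F) :
    rhoQ ⟨xh r t, xh_mem r t⟩ ∈ eichlerGroup (QO F) := by
  fin_cases r
  · show rhoQ ⟨xh 0 t, xh_mem 0 t⟩ ∈ _
    rw [← eichler_f1_f2 t]
    exact eichlerO_mem_eichlerGroup _ _ _
  · show rhoQ ⟨xh 1 t, xh_mem 1 t⟩ ∈ _
    rw [← eichler_f2_e0 t]
    exact eichlerO_mem_eichlerGroup _ _ _
  · show rhoQ ⟨xh 2 t, xh_mem 2 t⟩ ∈ _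
    rw [← eichler_f1_e0 t]
    exact eichlerO_mem_eichlerGroup _ _ _
  · show rhoQ ⟨xh 3 t, xh_mem 3 t⟩ ∈ _
    rw [← eichler_e1_f2 t]
    exact eichlerO_mem_eichlerGroup _ _ _
  · have := eichler_f1_e2 (-t)
    rw [neg_neg] at this
    show rhoQ ⟨xh 4 t, xh_mem 4 t⟩ ∈ _
    rw [← this]
    exact eichlerO_mem_eichlerGroup _ _ _
  · have := eichler_e1_e0 (-t)
    rw [neg_neg] at this
    show rhoQ ⟨xh 5 t, xh_mem 5 t⟩ ∈ _
    rw [← this]
    exact eichlerO_mem_eichlerGroup _ _ _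
  · have := eichler_e2_e0 (-t)
    rw [neg_neg] at this
    show rhoQ ⟨xh 6 t, xh_mem 6 t⟩ ∈ _
    rw [← this]
    exact eichlerO_mem_eichlerGroup _ _ _
  · have := eichler_e1_e2 (-t)
    rw [neg_neg] at this
    show rhoQ ⟨xh 7 t, xh_mem 7 t⟩ ∈ _
    rw [← this]
    exact eichlerO_mem_eichlerGroup _ _ _

theorem rhoQ_mem_eichlerGroup (x : GL (Fin 4) F) (hx : x ∈ G F) :
    rhoQ ⟨x, hx⟩ ∈ eichlerGroup (QO F) := by
  refine Subgroup.closure_induction
    (p := fun x hx => rhoQ (⟨x, hx⟩ : G F) ∈ eichlerGroup (QO F)) ?_ ?_ ?_ ?_ hx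
  · rintro x ⟨r, t, rfl⟩
    exact rhoQ_xh_mem_eichlerGroup r t
  · have : (⟨1, one_mem (G F)⟩ : G F) = 1 := rfl
    show rhoQ (⟨1, one_mem (G F)⟩ : G F) ∈ _
    rw [this, map_one]
    exact one_mem _
  · intro x y hx hy ihx ihy
    have : (⟨x * y, mul_mem hx hy⟩ : G F) = ⟨x, hx⟩ * ⟨y, hy⟩ := rfl
    rw [this, map_mul]
    exact mul_mem ihx ihy
  · intro x hx ihx
    have : (⟨x⁻¹, inv_mem hx⟩ : G F) = ⟨x, hx⟩⁻¹ := rfl
    rw [this, map_inv]
    exact inv_mem ihx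

theorem E5_le_eichlerGroup : E5 F ≤ eichlerGroup (QO F) := by
  rintro _ ⟨g, rfl⟩
  exact rhoQ_mem_eichlerGroup g.1 g.2

theorem E5_eq_eichlerGroup : E5 F = eichlerGroup (QO F) :=
  le_antisymm E5_le_eichlerGroup eichlerGroup_le_E5

instance E5_normal : (E5 F).Normal := by
  rw [E5_eq_eichlerGroup]
  infer_instance

end Cfsg.Agent.Helper83.B2
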