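import Mathlib
import Cfsg.Agent.Helper83.B2Orth2

/-!
# `Ω₅(F)` is the image of `G`
-/

set_option autoImplicit false

namespace Cfsg.Agent.Helper83.B2

open Matrix Cfsg Cfsg.Lie QuadraticMap
open Cfsg.Agent.Helper5 Cfsg.Agent.Helper44 Cfsg.Agent.Helper45.OmegaParity

variable {F : Type*} [Field F]

local notation "L" => lin (QO F)

theorem lin_ne_zero (T : isometryGroup F ⇑(QO F)) {x : I5 → F} (hx : x ≠ 0) : L T x ≠ 0 := by
  intro h
  apply hx
  have := lin_inv_apply (QO F) T x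
  rw [h, map_zero] at this
  exact this.symm

theorem e1_ne_zero : (e1 : I5 → F) ≠ 0 := by
  intro h
  have := congrFun h ix1
  simp [e1] at this

theorem e2_ne_zero : (e2 : I5 → F) ≠ 0 := by
  intro h
  have := congrFun h ix2
  simp [e2] at this

/-- Step 3: a singular vector orthogonal to `e1`, `f1` is moved to a multiple of `e2` by an element
of `E5` fixing `e1` and `f1` -/
theorem exists_map_e2 (x : I5 → F) (hx : QO F x = 0) (hx0 : x ≠ 0)
    (h1 : polar ⇑(QO F) e1 x = 0) (h2 : polar ⇑(QO F) f1 x = 0) :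
    ∃ g ∈ E5 F, L g e1 = e1 ∧ L g f1 = f1 ∧ ∃ μ : F, μ ≠ 0 ∧ L g x = μ • e2 := by
  rw [polar_e1] at h1
  rw [polar_f1] at h2
  -- first make the `x₂`-coordinate non-zero
  have step : ∃ g0 ∈ E5 F, L g0 e1 = e1 ∧ L g0 f1 = f1 ∧ (L g0 x) ix2 ≠ 0 := by
    by_cases h3 : x ix2 = 0
    swap
    · exact ⟨1, one_mem _, lin_one_apply _ _, lin_one_apply _ _, by rw [lin_one_apply]; exact h3⟩
    have hz : x iz = 0 := by
      rw [QO_apply, h1, h2, h3] at hx
      simpa using hx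
    have h4 : x iy2 ≠ 0 := by
      intro h4
      apply hx0
      apply ext5 <;> simp [hz, h1, h2, h3, h4]
    refine ⟨rhoQ ⟨xh 6 (-1), xh_mem 6 (-1)⟩, rhoQ_mem _, ?_, ?_, ?_⟩
    · rw [lin_rhoQ_xh]
      apply ext5 <;> simp [f5, f5_6, e1]
    · rw [lin_rhoQ_xh]
      apply ext5 <;> simp [f5, f5_6, f1]
    · rw [lin_rhoQ_xh]
      simpa [f5, f5_6, h3, hz] using h4
  obtain ⟨g0, hg0, hg0e, hg0f, hne⟩ := step
  set y := L g0 x with hy
  have hyQ : QO F y = 0 := by rw [hy, lin_isometry, hx]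
  have hye : polar ⇑(QO F) e1 y = 0 := by
    rw [hy, ← hg0e, polar_lin, polar_e1, h1]
  have hyf : polar ⇑(QO F) f1 y = 0 := by
    rw [hy, ← hg0f, polar_lin, polar_f1, h2]
  have ha : polar ⇑(QO F) f2 y ≠ 0 := by rw [polar_f2]; exact hne
  obtain ⟨w, hw, hmove, hfix⟩ := eichler_move (QO F) e2 f2 y QO_e2 QO_f2 polar_e2_f2 hyQ ha
  have hwe : polar ⇑(QO F) w e1 = 0 := by
    apply hfix
    · rw [polar_e2]; simp [e1]
    · rw [polar_f2]; simp [e1]
    · rw [QuadraticMap.polar_comm, hye]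
  have hwf : polar ⇑(QO F) w f1 = 0 := by
    apply hfix
    · rw [polar_e2]; simp [f1]
    · rw [polar_f2]; simp [f1]
    · rw [QuadraticMap.polar_comm, hyf]
  refine ⟨eichlerO (QO F) f2 w * g0, mul_mem (eichlerO_mem_E5 _ _) hg0, ?_, ?_,
    polar ⇑(QO F) f2 y, ha, ?_⟩
  · rw [lin_mul_apply, hg0e]
    apply lin_eichlerO_fix (QO F) QO_f2 hw _ _ hwe
    rw [polar_f2]; simp [e1]
  · rw [lin_mul_apply, hg0f]
    apply lin_eichlerO_fix (QO F) QO_f2 hw _ _ hwf
    rw [polar_f2]; simp [f1]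
  · rw [lin_mul_apply, ← hy, hmove]

/-- the basis vectors pick out the columns of a matrix -/
theorem diagonal_of_mulVec (M : Matrix I5 I5 F) (d : I5 → F)
    (h0 : M *ᵥ e0 = d iz • e0) (h1 : M *ᵥ e1 = d ix1 • e1) (h2 : M *ᵥ e2 = d ix2 • e2)
    (h3 : M *ᵥ f1 = d iy1 • f1) (h4 : M *ᵥ f2 = d iy2 • f2) : M = Matrix.diagonal d := by
  have c0 : ∀ i, M i iz = (M *ᵥ e0) i := by
    intro i
    simp [Matrix.mulVec, dotProduct, Fintype.sum_sum_type, Fin.sum_univ_two, e0, mk5]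
  have c1 : ∀ i, M i ix1 = (M *ᵥ e1) i := by
    intro i
    simp [Matrix.mulVec, dotProduct, Fintype.sum_sum_type, Fin.sum_univ_two, e1, mk5]
  have c2 : ∀ i, M i ix2 = (M *ᵥ e2) i := by
    intro i
    simp [Matrix.mulVec, dotProduct, Fintype.sum_sum_type, Fin.sum_univ_two, e2, mk5]
  have c3 : ∀ i, M i iy1 = (M *ᵥ f1) i := by
    intro i
    simp [Matrix.mulVec, dotProduct, Fintype.sum_sum_type, Fin.sum_univ_two, f1, mk5]
  have c4 : ∀ i, M i iy2 = (M *ᵥ f2) i := by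
    intro i
    simp [Matrix.mulVec, dotProduct, Fintype.sum_sum_type, Fin.sum_univ_two, f2, mk5]
  ext i j
  rcases j with j | j | j
  · have : (Sum.inl j : I5) = iz := rfl
    rw [this, c0, h0]
    rcases i with i | i | i
    · simp [e0, mk5, Matrix.diagonal]
    · fin_cases i <;> simp [e0, mk5, Matrix.diagonal]
    · fin_cases i <;> simp [e0, mk5, Matrix.diagonal]
  · fin_cases j
    · show M i ix1 = _
      rw [c1, h1]
      rcases i with i | i | i
      · simp [e1, mk5, Matrix.diagonal]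
      · fin_cases i <;> simp [e1, mk5, Matrix.diagonal]
      · fin_cases i <;> simp [e1, mk5, Matrix.diagonal]
    · show M i ix2 = _
      rw [c2, h2]
      rcases i with i | i | i
      · simp [e2, mk5, Matrix.diagonal]
      · fin_cases i <;> simp [e2, mk5, Matrix.diagonal]
      · fin_cases i <;> simp [e2, mk5, Matrix.diagonal]
  · fin_cases j
    · show M i iy1 = _
      rw [c3, h3]
      rcases i with i | i | i
      · simp [f1, mk5, Matrix.diagonal]
      · fin_cases i <;> simp [f1, mk5, Matrix.diagonal]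
      · fin_cases i <;> simp [f1, mk5, Matrix.diagonal]
    · show M i iy2 = _
      rw [c4, h4]
      rcases i with i | i | i
      · simp [f2, mk5, Matrix.diagonal]
      · fin_cases i <;> simp [f2, mk5, Matrix.diagonal]
      · fin_cases i <;> simp [f2, mk5, Matrix.diagonal]


/-- every isometry is diagonal modulo `E5` -/
theorem exists_mul_diagonal (T : isometryGroup F ⇑(QO F)) :
    ∃ g ∈ E5 F, ∃ d : I5 → F, (((g * T).1 : GL I5 F) : Matrix I5 I5 F) = Matrix.diagonal d := by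
  -- Step 1: move `T e1` to `e1`
  obtain ⟨g1, hg1, h1⟩ := exists_map_e1 (L T e1) (by rw [lin_isometry, QO_e1])
    (lin_ne_zero T e1_ne_zero)
  set T1 := g1 * T with hT1
  have hT1e : L T1 e1 = e1 := by rw [hT1, lin_mul_apply, h1]
  -- Step 2: move `T1 f1` to `f1`
  have hx2Q : QO F (L T1 f1) = 0 := by rw [lin_isometry, QO_f1]
  have hx2p : polar ⇑(QO F) e1 (L T1 f1) = 1 := by
    conv_lhs => rw [← hT1e]
    rw [polar_lin, polar_e1_f1]
  have hx2a : polar ⇑(QO F) e1 (L T1 f1) ≠ 0 := by rw [hx2p]; exact one_ne_zero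
  obtain ⟨w2, hw2, hmove2, -⟩ :=
    eichler_move (QO F) f1 e1 (L T1 f1) QO_f1 QO_e1 polar_f1_e1 hx2Q hx2a
  rw [hx2p, one_smul] at hmove2
  set T2 := eichlerO (QO F) e1 w2 * T1 with hT2
  have hT2e : L T2 e1 = e1 := by
    rw [hT2, lin_mul_apply, hT1e, lin_eichlerO_self (QO F) QO_e1 hw2]
  have hT2f : L T2 f1 = f1 := by rw [hT2, lin_mul_apply, hmove2]
  -- Step 3: move `T2 e2` to a multiple of `e2`
  have hx3e : polar ⇑(QO F) e1 (L T2 e2) = 0 := by
    conv_lhs => rw [← hT2e]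
    rw [polar_lin, polar_e1]; simp [e2]
  have hx3f : polar ⇑(QO F) f1 (L T2 e2) = 0 := by
    conv_lhs => rw [← hT2f]
    rw [polar_lin, polar_f1]; simp [e2]
  obtain ⟨g3, hg3, hg3e, hg3f, μ, hμ, hg3x⟩ := exists_map_e2 (L T2 e2)
    (by rw [lin_isometry, QO_e2]) (lin_ne_zero T2 e2_ne_zero) hx3e hx3f
  set T3 := g3 * T2 with hT3
  have hT3e : L T3 e1 = e1 := by rw [hT3, lin_mul_apply, hT2e, hg3e]
  have hT3f : L T3 f1 = f1 := by rw [hT3, lin_mul_apply, hT2f, hg3f]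
  have hT3e2 : L T3 e2 = μ • e2 := by rw [hT3, lin_mul_apply, hg3x]
  -- Step 4: move `T3 f2` to a multiple of `f2`
  have hx4Q : QO F (L T3 f2) = 0 := by rw [lin_isometry, QO_f2]
  have hx4e : polar ⇑(QO F) e1 (L T3 f2) = 0 := by
    conv_lhs => rw [← hT3e]
    rw [polar_lin, polar_e1]; simp [f2]
  have hx4f : polar ⇑(QO F) f1 (L T3 f2) = 0 := by
    conv_lhs => rw [← hT3f]
    rw [polar_lin, polar_f1]; simp [f2]
  have hx4p : μ * polar ⇑(QO F) e2 (L T3 f2) = 1 := by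
    have : polar ⇑(QO F) (L T3 e2) (L T3 f2) = 1 := by rw [polar_lin, polar_e2_f2]
    rw [hT3e2, QuadraticMap.polar_smul_left] at this
    exact this
  have hx4a : polar ⇑(QO F) e2 (L T3 f2) ≠ 0 := by
    intro h
    rw [h, mul_zero] at hx4p
    exact zero_ne_one hx4p
  obtain ⟨w4, hw4, hmove4, hfix4⟩ :=
    eichler_move (QO F) f2 e2 (L T3 f2) QO_f2 QO_e2 polar_f2_e2 hx4Q hx4a
  set ν := polar ⇑(QO F) e2 (L T3 f2) with hν
  have hw4e : polar ⇑(QO F) w4 e1 = 0 := by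
    apply hfix4
    · rw [polar_f2]; simp [e1]
    · rw [polar_e2]; simp [e1]
    · rw [QuadraticMap.polar_comm, hx4e]
  have hw4f : polar ⇑(QO F) w4 f1 = 0 := by
    apply hfix4
    · rw [polar_f2]; simp [f1]
    · rw [polar_e2]; simp [f1]
    · rw [QuadraticMap.polar_comm, hx4f]
  set T4 := eichlerO (QO F) e2 w4 * T3 with hT4
  have hT4e : L T4 e1 = e1 := by
    rw [hT4, lin_mul_apply, hT3e]
    apply lin_eichlerO_fix (QO F) QO_e2 hw4 _ _ hw4e
    rw [polar_e2]; simp [e1]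
  have hT4f : L T4 f1 = f1 := by
    rw [hT4, lin_mul_apply, hT3f]
    apply lin_eichlerO_fix (QO F) QO_e2 hw4 _ _ hw4f
    rw [polar_e2]; simp [f1]
  have hT4e2 : L T4 e2 = μ • e2 := by
    rw [hT4, lin_mul_apply, hT3e2, map_smul, lin_eichlerO_self (QO F) QO_e2 hw4]
  have hT4f2 : L T4 f2 = ν • f2 := by rw [hT4, lin_mul_apply, hmove4]
  -- Step 5: `T4 e0` is a multiple of `e0`
  have hx5e : (L T4 e0) iy1 = 0 := by
    have : polar ⇑(QO F) e1 (L T4 e0) = 0 := by
      conv_lhs => rw [← hT4e]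
      rw [polar_lin, polar_e1]; simp [e0]
    rwa [polar_e1] at this
  have hx5f : (L T4 e0) ix1 = 0 := by
    have : polar ⇑(QO F) f1 (L T4 e0) = 0 := by
      conv_lhs => rw [← hT4f]
      rw [polar_lin, polar_f1]; simp [e0]
    rwa [polar_f1] at this
  have hx5e2 : (L T4 e0) iy2 = 0 := by
    have : polar ⇑(QO F) (L T4 e2) (L T4 e0) = 0 := by rw [polar_lin, polar_e2]; simp [e0]
    rw [hT4e2, QuadraticMap.polar_smul_left, polar_e2, smul_eq_mul] at this
    rcases mul_eq_zero.1 this with h | h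
    · exact absurd h hμ
    · exact h
  have hx5f2 : (L T4 e0) ix2 = 0 := by
    have : polar ⇑(QO F) (L T4 f2) (L T4 e0) = 0 := by rw [polar_lin, polar_f2]; simp [e0]
    rw [hT4f2, QuadraticMap.polar_smul_left, polar_f2, smul_eq_mul] at this
    rcases mul_eq_zero.1 this with h | h
    · exact absurd h hx4a
    · exact h
  have hT4e0 : L T4 e0 = (L T4 e0) iz • e0 := by
    generalize L T4 e0 = x5 at hx5e hx5f hx5e2 hx5f2 ⊢
    apply ext5 <;> simp [e0, hx5e, hx5f, hx5e2, hx5f2]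
  refine ⟨eichlerO (QO F) e2 w4 * (g3 * (eichlerO (QO F) e1 w2 * g1)),
    mul_mem (eichlerO_mem_E5 _ _) (mul_mem hg3 (mul_mem (eichlerO_mem_E5 _ _) hg1)),
    mk5 ((L T4 e0) iz) 1 μ 1 ν, ?_⟩
  have hprod : eichlerO (QO F) e2 w4 * (g3 * (eichlerO (QO F) e1 w2 * g1)) * T = T4 := by
    rw [hT4, hT3, hT2, hT1]
    simp only [mul_assoc]
  rw [hprod]
  apply diagonal_of_mulVec
  · rw [mk5_iz]; exact hT4e0
  · rw [mk5_ix1, one_smul]; exact hT4e
  · rw [mk5_ix2]; exact hT4e2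
  · rw [mk5_iy1, one_smul]; exact hT4f
  · rw [mk5_iy2]; exact hT4f2

/-- the commutator subgroup of the orthogonal group lies in `E5` -/
theorem commutator_le_E5 : commutator (isometryGroup F ⇑(QO F)) ≤ E5 F := by
  rw [commutator_def, Subgroup.commutator_le]
  intro T _ T' _
  obtain ⟨g, hg, d, hd⟩ := exists_mul_diagonal T
  obtain ⟨g', hg', d', hd'⟩ := exists_mul_diagonal T'
  have hcomm : (g * T) * (g' * T') = (g' * T') * (g * T) := by
    apply Subtype.ext
    apply Units.ext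
    show (((g * T).1 : GL I5 F) : Matrix I5 I5 F) * (((g' * T').1 : GL I5 F) : Matrix I5 I5 F)
      = (((g' * T').1 : GL I5 F) : Matrix I5 I5 F) * (((g * T).1 : GL I5 F) : Matrix I5 I5 F)
    rw [hd, hd', Matrix.diagonal_mul_diagonal, Matrix.diagonal_mul_diagonal]
    congr 1
    funext i
    exact mul_comm _ _
  rw [← QuotientGroup.eq_one_iff (N := E5 F)]
  have e1' : ((g * T : isometryGroup F ⇑(QO F)) : isometryGroup F ⇑(QO F) ⧸ E5 F)
      = ((T : isometryGroup F ⇑(QO F)) : isometryGroup F ⇑(QO F) ⧸ E5 F) := by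
    rw [QuotientGroup.mk_mul, (QuotientGroup.eq_one_iff g).2 hg, one_mul]
  have e2' : ((g' * T' : isometryGroup F ⇑(QO F)) : isometryGroup F ⇑(QO F) ⧸ E5 F)
      = ((T' : isometryGroup F ⇑(QO F)) : isometryGroup F ⇑(QO F) ⧸ E5 F) := by
    rw [QuotientGroup.mk_mul, (QuotientGroup.eq_one_iff g').2 hg', one_mul]
  have hq : ((T : isometryGroup F ⇑(QO F)) : isometryGroup F ⇑(QO F) ⧸ E5 F) * (T' : _)
      = (T' : isometryGroup F ⇑(QO F) ⧸ E5 F) * (T : _) := by
    rw [← e1', ← e2', ← QuotientGroup.mk_mul, ← QuotientGroup.mk_mul, hcomm]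
  rw [commutatorElement_def, QuotientGroup.mk_mul, QuotientGroup.mk_mul, QuotientGroup.mk_mul,
    QuotientGroup.mk_inv, QuotientGroup.mk_inv, hq]
  group

end Cfsg.Agent.Helper83.B2
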