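import Mathlib
import Cfsg.Agent.Helper83.B2Orth3

/-!
# `E5` is the commutator subgroup of the orthogonal group
-/

set_option autoImplicit false

namespace Cfsg.Agent.Helper83.B2

open Matrix Cfsg Cfsg.Lie QuadraticMap
open Cfsg.Agent.Helper5 Cfsg.Agent.Helper44 Cfsg.Agent.Helper45.OmegaParity
open scoped commutatorElement

variable {F : Type*} [Field F]

section general

variable {ι : Type} [Fintype ι] [DecidableEq ι] (Q : QuadraticForm F (ι → F))

/-- an Eichler transformation `E(u, w)` is a commutator as soon as some isometry scales `u` by a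
factor `c ≠ 1` and fixes `w` -/
theorem eichlerO_mem_commutator (d : isometryGroup F ⇑Q) (u w : ι → F) (hu : Q u = 0)
    (huw : polar ⇑Q u w = 0) (c : F) (hc : c ≠ 1) (hdu : lin Q d u = c • u)
    (hdw : lin Q d w = w) : eichlerO Q u w ∈ commutator (isometryGroup F ⇑Q) := by
  have hc' : c - 1 ≠ 0 := sub_ne_zero.2 hc
  set s := (c - 1)⁻¹ with hs
  have h1 : polar ⇑Q u (s • w) = 0 := by
    rw [QuadraticMap.polar_smul_right, huw, smul_zero]
  have h2 : polar ⇑Q u (c • s • w) = 0 := by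
    rw [QuadraticMap.polar_smul_right, h1, smul_zero]
  have h3 : polar ⇑Q u (-(s • w)) = 0 := by
    rw [QuadraticMap.polar_neg_right, h1, neg_zero]
  have key : ⁅d, eichlerO Q u (s • w)⁆ = eichlerO Q u w := by
    rw [commutatorElement_def, eichlerO_conj Q d hu h1, hdu, map_smul, hdw,
      eichlerO_smul_left Q hu h1 c, eichlerO_inv Q hu h1, eichlerO_mul Q hu h2 h3]
    congr 1
    rw [smul_smul, ← neg_smul, ← add_smul]
    have : c * s + -s = 1 := by
      rw [hs]
      field_simp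
      ring
    rw [this, one_smul]
  rw [← key, commutator_def]
  exact Subgroup.commutator_mem_commutator (Subgroup.mem_top _) (Subgroup.mem_top _)

end general

/-- diagonal isometries -/
noncomputable def dg (d d' : I5 → F) (h : ∀ i, d i * d' i = 1)
    (hQ : ∀ v : I5 → F, QO F (fun i => d i * v i) = QO F v) : isometryGroup F ⇑(QO F) :=
  ⟨⟨Matrix.diagonal d, Matrix.diagonal d',
    by rw [Matrix.diagonal_mul_diagonal]; simp [h],
    by rw [Matrix.diagonal_mul_diagonal]; simp [fun i => (mul_comm (d' i) (d i)).trans (h i)]⟩,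
    by
      rw [Helper13.mem_isometryGroup_iff]
      intro u
      have : (Matrix.diagonal d) *ᵥ u = fun i => d i * u i := by
        funext i
        rw [Matrix.mulVec_diagonal]
      show QO F ((Matrix.diagonal d) *ᵥ u) = QO F u
      rw [this, hQ]⟩

theorem lin_dg (d d' : I5 → F) (h : ∀ i, d i * d' i = 1)
    (hQ : ∀ v : I5 → F, QO F (fun i => d i * v i) = QO F v) (x : I5 → F) :
    lin (QO F) (dg d d' h hQ) x = fun i => d i * x i := by
  funext i
  show ((Matrix.diagonal d) *ᵥ x) i = _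
  rw [Matrix.mulVec_diagonal]

/-- the torus element scaling `e1` by `c` and `f1` by `c⁻¹` -/
noncomputable def d1 (c : F) (hc : c ≠ 0) : isometryGroup F ⇑(QO F) :=
  dg (mk5 1 c 1 c⁻¹ 1) (mk5 1 c⁻¹ 1 c 1)
    (by
      intro i
      rcases i with i | i | i
      · simp [mk5]
      · fin_cases i <;> simp [mk5, hc]
      · fin_cases i <;> simp [mk5, hc])
    (by
      intro v
      rw [QO_apply, QO_apply]
      simp only [mk5_iz, mk5_ix1, mk5_ix2, mk5_iy1, mk5_iy2]
      field_simp)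

/-- the torus element scaling `e2` by `c` and `f2` by `c⁻¹` -/
noncomputable def d2 (c : F) (hc : c ≠ 0) : isometryGroup F ⇑(QO F) :=
  dg (mk5 1 1 c 1 c⁻¹) (mk5 1 1 c⁻¹ 1 c)
    (by
      intro i
      rcases i with i | i | i
      · simp [mk5]
      · fin_cases i <;> simp [mk5, hc]
      · fin_cases i <;> simp [mk5, hc])
    (by
      intro v
      rw [QO_apply, QO_apply]
      simp only [mk5_iz, mk5_ix1, mk5_ix2, mk5_iy1, mk5_iy2]
      field_simp)

theorem lin_d1 (c : F) (hc : c ≠ 0) (x : I5 → F) :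
    lin (QO F) (d1 c hc) x = mk5 (x iz) (c * x ix1) (x ix2) (c⁻¹ * x iy1) (x iy2) := by
  unfold d1
  rw [lin_dg]
  apply ext5 <;> simp

theorem lin_d2 (c : F) (hc : c ≠ 0) (x : I5 → F) :
    lin (QO F) (d2 c hc) x = mk5 (x iz) (x ix1) (c * x ix2) (x iy1) (c⁻¹ * x iy2) := by
  unfold d2
  rw [lin_dg]
  apply ext5 <;> simp

theorem eichler_e1_e0_mem_commutator (c : F) (hc0 : c ≠ 0) (hc1 : c ≠ 1) (a : F) :
    eichlerO (QO F) e1 (a • e0) ∈ commutator (isometryGroup F ⇑(QO F)) := by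
  have huw : polar ⇑(QO F) e1 (a • e0) = 0 := by rw [polar_QO]; simp [e1, e0]
  have hsc : c ≠ 1 := by
    first
      | exact hc1
      | (intro h; apply hc1; rw [inv_eq_one] at h; exact h)
  apply eichlerO_mem_commutator (QO F) (d1 c hc0) e1 (a • e0) QO_e1 huw (c) hsc
  · rw [lin_d1]
    apply ext5 <;> simp [e1]
  · rw [lin_d1]
    apply ext5 <;> simp [e0]

theorem eichler_e1_e2_mem_commutator (c : F) (hc0 : c ≠ 0) (hc1 : c ≠ 1) (a : F) :
    eichlerO (QO F) e1 (a • e2) ∈ commutator (isometryGroup F ⇑(QO F)) := by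
  have huw : polar ⇑(QO F) e1 (a • e2) = 0 := by rw [polar_QO]; simp [e1, e2]
  have hsc : c ≠ 1 := by
    first
      | exact hc1
      | (intro h; apply hc1; rw [inv_eq_one] at h; exact h)
  apply eichlerO_mem_commutator (QO F) (d1 c hc0) e1 (a • e2) QO_e1 huw (c) hsc
  · rw [lin_d1]
    apply ext5 <;> simp [e1]
  · rw [lin_d1]
    apply ext5 <;> simp [e2]

theorem eichler_e1_f2_mem_commutator (c : F) (hc0 : c ≠ 0) (hc1 : c ≠ 1) (a : F) :
    eichlerO (QO F) e1 (a • f2) ∈ commutator (isometryGroup F ⇑(QO F)) := by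
  have huw : polar ⇑(QO F) e1 (a • f2) = 0 := by rw [polar_QO]; simp [e1, f2]
  have hsc : c ≠ 1 := by
    first
      | exact hc1
      | (intro h; apply hc1; rw [inv_eq_one] at h; exact h)
  apply eichlerO_mem_commutator (QO F) (d1 c hc0) e1 (a • f2) QO_e1 huw (c) hsc
  · rw [lin_d1]
    apply ext5 <;> simp [e1]
  · rw [lin_d1]
    apply ext5 <;> simp [f2]

theorem eichler_f1_e0_mem_commutator (c : F) (hc0 : c ≠ 0) (hc1 : c ≠ 1) (a : F) :
    eichlerO (QO F) f1 (a • e0) ∈ commutator (isometryGroup F ⇑(QO F)) := by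
  have huw : polar ⇑(QO F) f1 (a • e0) = 0 := by rw [polar_QO]; simp [f1, e0]
  have hsc : c⁻¹ ≠ 1 := by
    first
      | exact hc1
      | (intro h; apply hc1; rw [inv_eq_one] at h; exact h)
  apply eichlerO_mem_commutator (QO F) (d1 c hc0) f1 (a • e0) QO_f1 huw (c⁻¹) hsc
  · rw [lin_d1]
    apply ext5 <;> simp [f1]
  · rw [lin_d1]
    apply ext5 <;> simp [e0]

theorem eichler_f1_f2_mem_commutator (c : F) (hc0 : c ≠ 0) (hc1 : c ≠ 1) (a : F) :
    eichlerO (QO F) f1 (a • f2) ∈ commutator (isometryGroup F ⇑(QO F)) := by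
  have huw : polar ⇑(QO F) f1 (a • f2) = 0 := by rw [polar_QO]; simp [f1, f2]
  have hsc : c⁻¹ ≠ 1 := by
    first
      | exact hc1
      | (intro h; apply hc1; rw [inv_eq_one] at h; exact h)
  apply eichlerO_mem_commutator (QO F) (d1 c hc0) f1 (a • f2) QO_f1 huw (c⁻¹) hsc
  · rw [lin_d1]
    apply ext5 <;> simp [f1]
  · rw [lin_d1]
    apply ext5 <;> simp [f2]

theorem eichler_f1_e2_mem_commutator (c : F) (hc0 : c ≠ 0) (hc1 : c ≠ 1) (a : F) :
    eichlerO (QO F) f1 (a • e2) ∈ commutator (isometryGroup F ⇑(QO F)) := by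
  have huw : polar ⇑(QO F) f1 (a • e2) = 0 := by rw [polar_QO]; simp [f1, e2]
  have hsc : c⁻¹ ≠ 1 := by
    first
      | exact hc1
      | (intro h; apply hc1; rw [inv_eq_one] at h; exact h)
  apply eichlerO_mem_commutator (QO F) (d1 c hc0) f1 (a • e2) QO_f1 huw (c⁻¹) hsc
  · rw [lin_d1]
    apply ext5 <;> simp [f1]
  · rw [lin_d1]
    apply ext5 <;> simp [e2]

theorem eichler_e2_e0_mem_commutator (c : F) (hc0 : c ≠ 0) (hc1 : c ≠ 1) (a : F) :
    eichlerO (QO F) e2 (a • e0) ∈ commutator (isometryGroup F ⇑(QO F)) := by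
  have huw : polar ⇑(QO F) e2 (a • e0) = 0 := by rw [polar_QO]; simp [e2, e0]
  have hsc : c ≠ 1 := by
    first
      | exact hc1
      | (intro h; apply hc1; rw [inv_eq_one] at h; exact h)
  apply eichlerO_mem_commutator (QO F) (d2 c hc0) e2 (a • e0) QO_e2 huw (c) hsc
  · rw [lin_d2]
    apply ext5 <;> simp [e2]
  · rw [lin_d2]
    apply ext5 <;> simp [e0]

theorem eichler_f2_e0_mem_commutator (c : F) (hc0 : c ≠ 0) (hc1 : c ≠ 1) (a : F) :
    eichlerO (QO F) f2 (a • e0) ∈ commutator (isometryGroup F ⇑(QO F)) := by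
  have huw : polar ⇑(QO F) f2 (a • e0) = 0 := by rw [polar_QO]; simp [f2, e0]
  have hsc : c⁻¹ ≠ 1 := by
    first
      | exact hc1
      | (intro h; apply hc1; rw [inv_eq_one] at h; exact h)
  apply eichlerO_mem_commutator (QO F) (d2 c hc0) f2 (a • e0) QO_f2 huw (c⁻¹) hsc
  · rw [lin_d2]
    apply ext5 <;> simp [f2]
  · rw [lin_d2]
    apply ext5 <;> simp [e0]

/-- a subgroup containing the images of the root elements contains `E5` -/
theorem E5_le_of_gens (S : Subgroup (isometryGroup F ⇑(QO F)))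
    (h : ∀ (r : Fin 8) (t : F), rhoQ ⟨xh r t, xh_mem r t⟩ ∈ S) : E5 F ≤ S := by
  rintro _ ⟨g, rfl⟩
  obtain ⟨x, hx⟩ := g
  refine Subgroup.closure_induction
    (p := fun x hx => rhoQ (⟨x, hx⟩ : G F) ∈ S) ?_ ?_ ?_ ?_ hx
  · rintro x ⟨r, t, rfl⟩
    exact h r t
  · have : (⟨1, one_mem (G F)⟩ : G F) = 1 := rfl
    show rhoQ (⟨1, one_mem (G F)⟩ : G F) ∈ _
    rw [this, map_one]
    exact one_mem _
  · intro x y hx hy ihx ihy
    have : (⟨x * y, mul_mem hx hy⟩ : G F) = ⟨x, hx⟩ * ⟨y, hy⟩ := rfl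
    rw [this, map_mul]
    exact mul_mem ihx ihy
  · intro x hx ihx
    have : (⟨x⁻¹, inv_mem hx⟩ : G F) = ⟨x, hx⟩⁻¹ := rfl
    rw [this, map_inv]
    exact inv_mem ihx

theorem E5_le_commutator (hF : ∃ a : F, a ≠ 0 ∧ a ≠ 1) :
    E5 F ≤ commutator (isometryGroup F ⇑(QO F)) := by
  obtain ⟨c, hc0, hc1⟩ := hF
  apply E5_le_of_gens
  intro r t
  fin_cases r
  · show rhoQ ⟨xh 0 t, xh_mem 0 t⟩ ∈ _
    rw [← eichler_f1_f2 t]
    exact eichler_f1_f2_mem_commutator c hc0 hc1 t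
  · show rhoQ ⟨xh 1 t, xh_mem 1 t⟩ ∈ _
    rw [← eichler_f2_e0 t]
    exact eichler_f2_e0_mem_commutator c hc0 hc1 t
  · show rhoQ ⟨xh 2 t, xh_mem 2 t⟩ ∈ _
    rw [← eichler_f1_e0 t]
    exact eichler_f1_e0_mem_commutator c hc0 hc1 t
  · show rhoQ ⟨xh 3 t, xh_mem 3 t⟩ ∈ _
    rw [← eichler_e1_f2 t]
    exact eichler_e1_f2_mem_commutator c hc0 hc1 t
  · have := eichler_f1_e2 (-t)
    rw [neg_neg] at this
    show rhoQ ⟨xh 4 t, xh_mem 4 t⟩ ∈ _
    rw [← this]
    exact eichler_f1_e2_mem_commutator c hc0 hc1 (-t)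
  · have := eichler_e1_e0 (-t)
    rw [neg_neg] at this
    show rhoQ ⟨xh 5 t, xh_mem 5 t⟩ ∈ _
    rw [← this]
    exact eichler_e1_e0_mem_commutator c hc0 hc1 (-t)
  · have := eichler_e2_e0 (-t)
    rw [neg_neg] at this
    show rhoQ ⟨xh 6 t, xh_mem 6 t⟩ ∈ _
    rw [← this]
    exact eichler_e2_e0_mem_commutator c hc0 hc1 (-t)
  · have := eichler_e1_e2 (-t)
    rw [neg_neg] at this
    show rhoQ ⟨xh 7 t, xh_mem 7 t⟩ ∈ _
    rw [← this]
    exact eichler_e1_e2_mem_commutator c hc0 hc1 (-t)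

/-- **`Ω₅(F)` is the image of `G`** -/
theorem E5_eq_commutator (hF : ∃ a : F, a ≠ 0 ∧ a ≠ 1) :
    E5 F = commutator (isometryGroup F ⇑(QO F)) :=
  le_antisymm (E5_le_commutator hF) commutator_le_E5

end Cfsg.Agent.Helper83.B2
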