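import Mathlib
import Cfsg.Agent.Helper83.D4Rep

/-!
# Generators of the Clifford algebra of the hyperbolic form in dimension `8`

A `CliffGen F A` is a family `g : Fin 8 → A` in an `F`-algebra `A` with `g k * g k = 0` and
`g k * g l + g l * g k = β(k, l)`, where `β(k, l) = 1` if `l = k + 4` and `0` otherwise.  We compute
the conjugation action of the elements `1 + τ g_a g_b` on the span of the `g k` and on the span of
the products `g k * g l`.
-/

set_option autoImplicit false

namespace Cfsg.Agent.Helper83.D4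

open Matrix

/-- the involution on indices -/
def sig (k : Fin 8) : Fin 8 := k + 4

theorem sig_sig : ∀ k : Fin 8, sig (sig k) = k := by decide

theorem sig_ne : ∀ k : Fin 8, sig k ≠ k := by decide

/-- the polar form on the basis vectors -/
def bet (k l : Fin 8) : ℤ := if l = sig k then 1 else 0

theorem bet_comm : ∀ k l : Fin 8, bet k l = bet l k := by decide

theorem bet_self : ∀ k : Fin 8, bet k k = 0 := by decide

theorem bet_sig : ∀ k : Fin 8, bet k (sig k) = 1 := by decide

theorem bet_eq_zero {k l : Fin 8} (h : l ≠ sig k) : bet k l = 0 := by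
  unfold bet
  rw [if_neg h]

/-- generators of the Clifford algebra of the hyperbolic quadratic form in dimension `8` -/
structure CliffGen (F : Type*) [Field F] (A : Type*) [Ring A] [Algebra F A] where
  g : Fin 8 → A
  sq : ∀ k, g k * g k = 0
  anti : ∀ k l, g k * g l + g l * g k = ((bet k l : ℤ) : F) • (1 : A)

variable {F : Type*} [Field F] {A : Type*} [Ring A] [Algebra F A] (C : CliffGen F A)

namespace CliffGen

theorem swap (k l : Fin 8) :
    C.g l * C.g k = ((bet k l : ℤ) : F) • (1 : A) - C.g k * C.g l := by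
  rw [← C.anti k l]
  abel

theorem three (a b c : Fin 8) :
    C.g a * C.g b * C.g c = ((bet b c : ℤ) : F) • C.g a - ((bet a c : ℤ) : F) • C.g b
      + C.g c * (C.g a * C.g b) := by
  have h1 := C.swap c b
  have h2 := C.swap c a
  calc C.g a * C.g b * C.g c = C.g a * (C.g b * C.g c) := mul_assoc _ _ _
    _ = ((bet c b : ℤ) : F) • C.g a - (C.g a * C.g c) * C.g b := by
      rw [h1, mul_sub, mul_smul_comm, mul_one, mul_assoc]
    _ = _ := by
      rw [h2, sub_mul, smul_mul_assoc, one_mul, mul_assoc, bet_comm c b, bet_comm c a]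
      abel

section root

variable {a b : Fin 8} (hab' : b ≠ sig a)

include hab' in
theorem anti_ab : C.g b * C.g a = -(C.g a * C.g b) := by
  rw [C.swap a b, bet_eq_zero hab']
  simp

include hab' in
theorem E_sq : C.g a * C.g b * (C.g a * C.g b) = 0 := by
  calc C.g a * C.g b * (C.g a * C.g b) = C.g a * (C.g b * C.g a) * C.g b := by
        simp only [mul_assoc]
    _ = 0 := by
      rw [C.anti_ab hab', mul_neg, neg_mul, ← mul_assoc, C.sq a, zero_mul, zero_mul, neg_zero]

theorem comm_E_g (a b c : Fin 8) :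
    C.g a * C.g b * C.g c - C.g c * (C.g a * C.g b)
      = ((bet b c : ℤ) : F) • C.g a - ((bet a c : ℤ) : F) • C.g b := by
  rw [C.three a b c]
  abel

include hab' in
theorem E_g_E (c : Fin 8) : C.g a * C.g b * C.g c * (C.g a * C.g b) = 0 := by
  rw [C.three a b c, add_mul, sub_mul, smul_mul_assoc, smul_mul_assoc, mul_assoc (C.g c),
    C.E_sq hab', mul_zero, add_zero, ← mul_assoc (C.g a) (C.g a), C.sq a, zero_mul, smul_zero,
    ← mul_assoc (C.g b), C.anti_ab hab', neg_mul, mul_assoc, C.sq b, mul_zero, neg_zero,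
    smul_zero, sub_zero]

/-- the root element `1 + τ g_a g_b` -/
def xe (a b : Fin 8) (τ : F) : A := 1 + τ • (C.g a * C.g b)

include hab' in
theorem xe_mul_neg (τ : F) : C.xe a b τ * C.xe a b (-τ) = 1 := by
  unfold xe
  rw [add_mul, mul_add, mul_add, one_mul, mul_one, one_mul, smul_mul_smul_comm, C.E_sq hab',
    smul_zero, add_zero, neg_smul]
  abel

include hab' in
theorem xe_neg_mul (τ : F) : C.xe a b (-τ) * C.xe a b τ = 1 := by
  have := C.xe_mul_neg hab' (-τ)
  rw [neg_neg] at this
  exact this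

include hab' in
theorem conj_g (τ : F) (c : Fin 8) :
    C.xe a b τ * C.g c * C.xe a b (-τ)
      = C.g c + τ • (((bet b c : ℤ) : F) • C.g a - ((bet a c : ℤ) : F) • C.g b) := by
  have h1 := C.E_g_E hab' c
  have h2 := C.comm_E_g a b c
  unfold xe
  simp only [add_mul, mul_add, one_mul, mul_one, smul_mul_assoc, mul_smul_comm]
  rw [h1, ← h2]
  module

end root

/-! ### the vector module -/

/-- the embedding of the vector module -/
def phiV : (Fin 8 → F) →ₗ[F] A where
  toFun v := ∑ k, v k • C.g k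
  map_add' := by
    intro v w
    simp only [Pi.add_apply, add_smul, Finset.sum_add_distrib]
  map_smul' := by
    intro c v
    simp only [Pi.smul_apply, smul_eq_mul, mul_smul, Finset.smul_sum, RingHom.id_apply]

theorem phiV_apply (v : Fin 8 → F) : C.phiV v = ∑ k, v k • C.g k := rfl

theorem phiV_single (k : Fin 8) (c : F) : C.phiV (Pi.single k c) = c • C.g k := by
  rw [phiV_apply, Finset.sum_eq_single k]
  · rw [Pi.single_eq_same]
  · intro l _ hl
    rw [Pi.single_eq_of_ne hl, zero_smul]
  · intro h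
    exact absurd (Finset.mem_univ k) h

/-- the matrix of the root element `1 + τ g_a g_b` on the vector module -/
def Pm (a b : Fin 8) (τ : F) : Matrix (Fin 8) (Fin 8) F :=
  1 + τ • (Matrix.single a (sig b) 1 - Matrix.single b (sig a) 1)

theorem Pm_mulVec (a b : Fin 8) (τ : F) (v : Fin 8 → F) :
    Pm a b τ *ᵥ v = v + τ • (v (sig b) • Pi.single a 1 - v (sig a) • Pi.single b 1) := by
  unfold Pm
  rw [Matrix.add_mulVec, Matrix.one_mulVec, Matrix.smul_mulVec, Matrix.sub_mulVec,
    Matrix.single_mulVec_eq, Matrix.single_mulVec_eq, one_mul, one_mul]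

theorem sum_bet (v : Fin 8 → F) (a : Fin 8) (x : A) :
    ∑ c, v c • (((bet a c : ℤ) : F) • x) = v (sig a) • x := by
  rw [Finset.sum_eq_single (sig a)]
  · rw [bet_sig, Int.cast_one, one_smul]
  · intro l _ hl
    rw [bet_eq_zero hl, Int.cast_zero, zero_smul, smul_zero]
  · intro h
    exact absurd (Finset.mem_univ _) h

section root2

variable {a b : Fin 8} (hab' : b ≠ sig a)

include hab' in
theorem conj_phiV (τ : F) (v : Fin 8 → F) :
    C.xe a b τ * C.phiV v * C.xe a b (-τ) = C.phiV (Pm a b τ *ᵥ v) := by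
  rw [Pm_mulVec, map_add, map_smul, map_sub, map_smul, map_smul, phiV_single, phiV_single,
    one_smul, one_smul]
  rw [phiV_apply, Finset.mul_sum, Finset.sum_mul]
  have : ∀ c, C.xe a b τ * (v c • C.g c) * C.xe a b (-τ)
      = v c • C.g c + τ • (v c • (((bet b c : ℤ) : F) • C.g a)
        - v c • (((bet a c : ℤ) : F) • C.g b)) := by
    intro c
    rw [mul_smul_comm, smul_mul_assoc, C.conj_g hab' τ c]
    module
  simp only [this]
  rw [Finset.sum_add_distrib, ← Finset.smul_sum, Finset.sum_sub_distrib, sum_bet, sum_bet]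

end root2

/-! ### the products of two generators -/

/-- linear combinations of the products `g k * g l` -/
def Psi : Matrix (Fin 8) (Fin 8) F →ₗ[F] A where
  toFun m := ∑ k, ∑ l, m k l • (C.g k * C.g l)
  map_add' := by
    intro m n
    simp only [Matrix.add_apply, add_smul, Finset.sum_add_distrib]
  map_smul' := by
    intro c m
    simp only [Matrix.smul_apply, smul_eq_mul, mul_smul, Finset.smul_sum, RingHom.id_apply]

theorem Psi_apply (m : Matrix (Fin 8) (Fin 8) F) :
    C.Psi m = ∑ k, ∑ l, m k l • (C.g k * C.g l) := rfl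

theorem phiV_mul (v w : Fin 8 → F) : C.phiV v * C.phiV w = C.Psi (Matrix.vecMulVec v w) := by
  rw [phiV_apply, phiV_apply, Psi_apply, Finset.sum_mul_sum]
  apply Finset.sum_congr rfl
  intro k _
  apply Finset.sum_congr rfl
  intro l _
  rw [smul_mul_smul_comm, Matrix.vecMulVec_apply]

theorem Psi_single (a b : Fin 8) (c : F) : C.Psi (Matrix.single a b c) = c • (C.g a * C.g b) := by
  have h : Matrix.single a b c = Matrix.vecMulVec (Pi.single a c) (Pi.single b 1) := by
    ext i j
    rw [Matrix.vecMulVec_apply, Matrix.single_apply, Pi.single_apply, Pi.single_apply]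
    by_cases h1 : a = i
    · by_cases h2 : b = j
      · simp [h1, h2]
      · have h2' : ¬ j = b := fun h => h2 h.symm
        simp [h2, h2']
    · have h1' : ¬ i = a := fun h => h1 h.symm
      simp [h1, h1']
  rw [h, ← phiV_mul, phiV_single, phiV_single, one_smul, smul_mul_assoc]

/-- conjugation acts on the products through the matrix on the vector module -/
theorem conj_Psi (x x' : A) (hx : x' * x = 1) (P : Matrix (Fin 8) (Fin 8) F)
    (hP : ∀ v, x * C.phiV v * x' = C.phiV (P *ᵥ v)) (m : Matrix (Fin 8) (Fin 8) F) :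
    x * C.Psi m * x' = C.Psi (P * m * Pᵀ) := by
  let f1 : Matrix (Fin 8) (Fin 8) F →ₗ[F] A :=
    (LinearMap.mulLeft F x) ∘ₗ (LinearMap.mulRight F x') ∘ₗ C.Psi
  let f2 : Matrix (Fin 8) (Fin 8) F →ₗ[F] A :=
    { toFun := fun m => C.Psi (P * m * Pᵀ)
      map_add' := by
        intro m n
        rw [Matrix.mul_add, Matrix.add_mul, map_add]
      map_smul' := by
        intro c m
        rw [Matrix.mul_smul, Matrix.smul_mul, map_smul, RingHom.id_apply] }
  have key : f1 = f2 := by
    apply Matrix.ext_linearMap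
    intro i j
    apply LinearMap.ext_ring
    show x * (C.Psi (Matrix.single i j 1) * x') = C.Psi (P * Matrix.single i j 1 * Pᵀ)
    have h1 : P * Matrix.single i j 1 * Pᵀ
        = Matrix.vecMulVec (P *ᵥ Pi.single i 1) (P *ᵥ Pi.single j 1) := by
      ext p q
      rw [Matrix.vecMulVec_apply, Matrix.mulVec_single_one, Matrix.mulVec_single_one]
      simp [Matrix.mul_apply, Matrix.single_apply, ite_and, Finset.sum_ite_eq, ite_mul]
    rw [h1, ← phiV_mul, ← hP, ← hP, phiV_single, phiV_single, one_smul, one_smul, Psi_single,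
      one_smul]
    calc x * (C.g i * C.g j * x') = x * C.g i * 1 * C.g j * x' := by
          simp only [mul_assoc, mul_one]
      _ = x * C.g i * x' * (x * C.g j * x') := by
          rw [← hx]
          simp only [mul_assoc]
  have := congrArg (fun f => f m) key
  simpa [f1, f2, mul_assoc] using this

end CliffGen

/-! ### coordinates on the span of the products -/

/-- index set of the adjoint module -/
abbrev I28 := Fin 4 ⊕ Fin 24

/-- first generator of the root vector `u` -/
def pa : Fin 24 → Fin 8 := ![4, 4, 3, 4, 2, 1, 5, 3, 5, 2, 3, 6, 2, 2, 1, 1, 1, 1, 0, 0, 0, 0, 0, 0]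
/-- second generator of the root vector `u` -/
def pb : Fin 24 → Fin 8 := ![5, 6, 4, 7, 4, 4, 6, 5, 7, 5, 6, 7, 3, 7, 6, 3, 7, 2, 5, 6, 3, 7, 2, 1]
/-- sign of the root vector `u` -/
def sg : Fin 24 → ℤ := ![-1, -1, 1, -1, -1, 1, 1, -1, 1, 1, 1, -1, 1, 1, 1, -1, -1, -1, 1, -1, 1, 1, 1, 1]

theorem pb_ne_sig_pa : ∀ u : Fin 24, pb u ≠ sig (pa u) := by decide

theorem sg_mul_sg : ∀ u : Fin 24, sg u * sg u = 1 := by decide

theorem sum_univ_24 {M : Type*} [AddCommMonoid M] (f : Fin 24 → M) :
    ∑ u, f u = f 0 + f 1 + f 2 + f 3 + f 4 + f 5 + f 6 + f 7 + f 8 + f 9 + f 10 + f 11 + f 12 + f 13 + f 14 + f 15 + f 16 + f 17 + f 18 + f 19 + f 20 + f 21 + f 22 + f 23 := by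
  simp only [Fin.sum_univ_castSucc, Fin.sum_univ_zero, zero_add]
  rfl

section coords

variable {R : Type*} [CommRing R]

/-- the constant term of the normal form -/
def ccR (m : Matrix (Fin 8) (Fin 8) R) (c : R) : R := c + m 4 0 + m 5 1 + m 6 2 + m 7 3

/-- the coordinates of `Ψ(m) + c` with respect to the Chevalley basis -/
def coordR (m : Matrix (Fin 8) (Fin 8) R) (c : R) : I28 → R :=
  Sum.elim ![m 0 4 - m 4 0, (m 1 5 - m 5 1) + (m 0 4 - m 4 0), -(ccR m c) - (m 3 7 - m 7 3),
      -(ccR m c)]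
    (fun u => ((sg u : ℤ) : R) * (m (pa u) (pb u) - m (pb u) (pa u)))

/-- the obstruction for `Ψ(m) + c` to lie in the Chevalley algebra -/
def trR (m : Matrix (Fin 8) (Fin 8) R) (c : R) : R :=
  (m 0 4 - m 4 0) + (m 1 5 - m 5 1) + (m 2 6 - m 6 2) + (m 3 7 - m 7 3) + 2 * ccR m c

end coords

namespace CliffGen

/-- the Chevalley basis -/
def B : I28 → A :=
  Sum.elim ![C.g 0 * C.g 4 - C.g 1 * C.g 5, C.g 1 * C.g 5 - C.g 2 * C.g 6,
      C.g 2 * C.g 6 - C.g 3 * C.g 7, C.g 2 * C.g 6 + C.g 3 * C.g 7 - 1]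
    (fun u => ((sg u : ℤ) : F) • (C.g (pa u) * C.g (pb u)))

set_option maxHeartbeats 4000000 in
/-- the normal form of `Ψ(m) + c` -/
theorem PsiC_eq (m : Matrix (Fin 8) (Fin 8) F) (c : F) :
    C.Psi m + c • (1 : A)
      = ∑ j, coordR m c j • C.B j + trR m c • (C.g 2 * C.g 6) := by
  have s_0_1 : C.g 1 * C.g 0 = - (C.g 0 * C.g 1) := by
    have h := C.swap 0 1
    have hb : bet 0 1 = 0 := by decide
    rw [hb, Int.cast_zero, zero_smul, zero_sub] at h
    exact h
  have s_0_2 : C.g 2 * C.g 0 = - (C.g 0 * C.g 2) := by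
    have h := C.swap 0 2
    have hb : bet 0 2 = 0 := by decide
    rw [hb, Int.cast_zero, zero_smul, zero_sub] at h
    exact h
  have s_0_3 : C.g 3 * C.g 0 = - (C.g 0 * C.g 3) := by
    have h := C.swap 0 3
    have hb : bet 0 3 = 0 := by decide
    rw [hb, Int.cast_zero, zero_smul, zero_sub] at h
    exact h
  have s_0_4 : C.g 4 * C.g 0 = (1 : A) - C.g 0 * C.g 4 := by
    have h := C.swap 0 4
    have hb : bet 0 4 = 1 := by decide
    rw [hb, Int.cast_one, one_smul] at h
    exact h
  have s_0_5 : C.g 5 * C.g 0 = - (C.g 0 * C.g 5) := by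
    have h := C.swap 0 5
    have hb : bet 0 5 = 0 := by decide
    rw [hb, Int.cast_zero, zero_smul, zero_sub] at h
    exact h
  have s_0_6 : C.g 6 * C.g 0 = - (C.g 0 * C.g 6) := by
    have h := C.swap 0 6
    have hb : bet 0 6 = 0 := by decide
    rw [hb, Int.cast_zero, zero_smul, zero_sub] at h
    exact h
  have s_0_7 : C.g 7 * C.g 0 = - (C.g 0 * C.g 7) := by
    have h := C.swap 0 7
    have hb : bet 0 7 = 0 := by decide
    rw [hb, Int.cast_zero, zero_smul, zero_sub] at h
    exact h
  have s_1_2 : C.g 2 * C.g 1 = - (C.g 1 * C.g 2) := by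
    have h := C.swap 1 2
    have hb : bet 1 2 = 0 := by decide
    rw [hb, Int.cast_zero, zero_smul, zero_sub] at h
    exact h
  have s_1_3 : C.g 3 * C.g 1 = - (C.g 1 * C.g 3) := by
    have h := C.swap 1 3
    have hb : bet 1 3 = 0 := by decide
    rw [hb, Int.cast_zero, zero_smul, zero_sub] at h
    exact h
  have s_1_4 : C.g 4 * C.g 1 = - (C.g 1 * C.g 4) := by
    have h := C.swap 1 4
    have hb : bet 1 4 = 0 := by decide
    rw [hb, Int.cast_zero, zero_smul, zero_sub] at h
    exact h
  have s_1_5 : C.g 5 * C.g 1 = (1 : A) - C.g 1 * C.g 5 := by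
    have h := C.swap 1 5
    have hb : bet 1 5 = 1 := by decide
    rw [hb, Int.cast_one, one_smul] at h
    exact h
  have s_1_6 : C.g 6 * C.g 1 = - (C.g 1 * C.g 6) := by
    have h := C.swap 1 6
    have hb : bet 1 6 = 0 := by decide
    rw [hb, Int.cast_zero, zero_smul, zero_sub] at h
    exact h
  have s_1_7 : C.g 7 * C.g 1 = - (C.g 1 * C.g 7) := by
    have h := C.swap 1 7
    have hb : bet 1 7 = 0 := by decide
    rw [hb, Int.cast_zero, zero_smul, zero_sub] at h
    exact h
  have s_2_3 : C.g 3 * C.g 2 = - (C.g 2 * C.g 3) := by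
    have h := C.swap 2 3
    have hb : bet 2 3 = 0 := by decide
    rw [hb, Int.cast_zero, zero_smul, zero_sub] at h
    exact h
  have s_2_4 : C.g 4 * C.g 2 = - (C.g 2 * C.g 4) := by
    have h := C.swap 2 4
    have hb : bet 2 4 = 0 := by decide
    rw [hb, Int.cast_zero, zero_smul, zero_sub] at h
    exact h
  have s_2_5 : C.g 5 * C.g 2 = - (C.g 2 * C.g 5) := by
    have h := C.swap 2 5
    have hb : bet 2 5 = 0 := by decide
    rw [hb, Int.cast_zero, zero_smul, zero_sub] at h
    exact h
  have s_2_6 : C.g 6 * C.g 2 = (1 : A) - C.g 2 * C.g 6 := by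
    have h := C.swap 2 6
    have hb : bet 2 6 = 1 := by decide
    rw [hb, Int.cast_one, one_smul] at h
    exact h
  have s_2_7 : C.g 7 * C.g 2 = - (C.g 2 * C.g 7) := by
    have h := C.swap 2 7
    have hb : bet 2 7 = 0 := by decide
    rw [hb, Int.cast_zero, zero_smul, zero_sub] at h
    exact h
  have s_3_4 : C.g 4 * C.g 3 = - (C.g 3 * C.g 4) := by
    have h := C.swap 3 4
    have hb : bet 3 4 = 0 := by decide
    rw [hb, Int.cast_zero, zero_smul, zero_sub] at h
    exact h
  have s_3_5 : C.g 5 * C.g 3 = - (C.g 3 * C.g 5) := by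
    have h := C.swap 3 5
    have hb : bet 3 5 = 0 := by decide
    rw [hb, Int.cast_zero, zero_smul, zero_sub] at h
    exact h
  have s_3_6 : C.g 6 * C.g 3 = - (C.g 3 * C.g 6) := by
    have h := C.swap 3 6
    have hb : bet 3 6 = 0 := by decide
    rw [hb, Int.cast_zero, zero_smul, zero_sub] at h
    exact h
  have s_3_7 : C.g 7 * C.g 3 = (1 : A) - C.g 3 * C.g 7 := by
    have h := C.swap 3 7
    have hb : bet 3 7 = 1 := by decide
    rw [hb, Int.cast_one, one_smul] at h
    exact h
  have s_4_5 : C.g 5 * C.g 4 = - (C.g 4 * C.g 5) := by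
    have h := C.swap 4 5
    have hb : bet 4 5 = 0 := by decide
    rw [hb, Int.cast_zero, zero_smul, zero_sub] at h
    exact h
  have s_4_6 : C.g 6 * C.g 4 = - (C.g 4 * C.g 6) := by
    have h := C.swap 4 6
    have hb : bet 4 6 = 0 := by decide
    rw [hb, Int.cast_zero, zero_smul, zero_sub] at h
    exact h
  have s_4_7 : C.g 7 * C.g 4 = - (C.g 4 * C.g 7) := by
    have h := C.swap 4 7
    have hb : bet 4 7 = 0 := by decide
    rw [hb, Int.cast_zero, zero_smul, zero_sub] at h
    exact h
  have s_5_6 : C.g 6 * C.g 5 = - (C.g 5 * C.g 6) := by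
    have h := C.swap 5 6
    have hb : bet 5 6 = 0 := by decide
    rw [hb, Int.cast_zero, zero_smul, zero_sub] at h
    exact h
  have s_5_7 : C.g 7 * C.g 5 = - (C.g 5 * C.g 7) := by
    have h := C.swap 5 7
    have hb : bet 5 7 = 0 := by decide
    rw [hb, Int.cast_zero, zero_smul, zero_sub] at h
    exact h
  have s_6_7 : C.g 7 * C.g 6 = - (C.g 6 * C.g 7) := by
    have h := C.swap 6 7
    have hb : bet 6 7 = 0 := by decide
    rw [hb, Int.cast_zero, zero_smul, zero_sub] at h
    exact h
  rw [Psi_apply, Fintype.sum_sum_type, Fin.sum_univ_four, sum_univ_24]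
  simp only [Fin.sum_univ_eight]
  simp only [coordR, trR, ccR, B, Sum.elim_inl, Sum.elim_inr, pa, pb, sg]
  simp only [Matrix.cons_val, Matrix.cons_val_zero, Matrix.cons_val_one]
  simp only [C.sq 0, C.sq 1, C.sq 2, C.sq 3, C.sq 4, C.sq 5, C.sq 6, C.sq 7, s_0_1, s_0_2, s_0_3, s_0_4, s_0_5, s_0_6, s_0_7, s_1_2, s_1_3, s_1_4, s_1_5, s_1_6, s_1_7, s_2_3, s_2_4, s_2_5, s_2_6, s_2_7, s_3_4, s_3_5, s_3_6, s_3_7, s_4_5, s_4_6, s_4_7, s_5_6, s_5_7, s_6_7]
  simp only [Int.cast_one, Int.cast_neg]
  module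

end CliffGen

/-! ### the action of the root elements on matrices of coefficients -/

section dLR

variable {R : Type*} [CommRing R]

/-- left multiplication by `E_{a,σ b} - E_{b,σ a}` -/
def dL (a b : Fin 8) (m : Matrix (Fin 8) (Fin 8) R) : Matrix (Fin 8) (Fin 8) R := fun k l =>
  (if k = a then m (sig b) l else 0) - (if k = b then m (sig a) l else 0)

/-- right multiplication by the transpose of `E_{a,σ b} - E_{b,σ a}` -/
def dR (a b : Fin 8) (m : Matrix (Fin 8) (Fin 8) R) : Matrix (Fin 8) (Fin 8) R := fun k l =>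
  (if l = a then m k (sig b) else 0) - (if l = b then m k (sig a) else 0)

theorem single_one_mul_apply (i j : Fin 8) (m : Matrix (Fin 8) (Fin 8) R) (k l : Fin 8) :
    (Matrix.single i j (1 : R) * m) k l = if k = i then m j l else 0 := by
  by_cases h : k = i
  · subst h
    rw [Matrix.single_mul_apply_same, one_mul, if_pos rfl]
  · rw [Matrix.single_mul_apply_of_ne _ _ _ _ _ h, if_neg h]

theorem mul_single_one_apply (i j : Fin 8) (m : Matrix (Fin 8) (Fin 8) R) (k l : Fin 8) :
    (m * Matrix.single i j (1 : R)) k l = if l = j then m k i else 0 := by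
  by_cases h : l = j
  · subst h
    rw [Matrix.mul_single_apply_same, mul_one, if_pos rfl]
  · rw [Matrix.mul_single_apply_of_ne _ _ _ _ _ h, if_neg h]

theorem D0_mul (a b : Fin 8) (m : Matrix (Fin 8) (Fin 8) R) :
    (Matrix.single a (sig b) (1 : R) - Matrix.single b (sig a) 1) * m = dL a b m := by
  ext k l
  rw [Matrix.sub_mul, Matrix.sub_apply, single_one_mul_apply, single_one_mul_apply]
  rfl

theorem mul_D0T (a b : Fin 8) (m : Matrix (Fin 8) (Fin 8) R) :
    m * (Matrix.single a (sig b) (1 : R) - Matrix.single b (sig a) 1)ᵀ = dR a b m := by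
  ext k l
  rw [Matrix.transpose_sub, Matrix.transpose_single, Matrix.transpose_single, Matrix.mul_sub,
    Matrix.sub_apply, mul_single_one_apply, mul_single_one_apply]
  rfl

end dLR

theorem Pm_conj (a b : Fin 8) (τ : F) (m : Matrix (Fin 8) (Fin 8) F) :
    CliffGen.Pm a b τ * m * (CliffGen.Pm a b τ)ᵀ
      = m + τ • (dL a b m + dR a b m) + (τ * τ) • dR a b (dL a b m) := by
  unfold CliffGen.Pm
  rw [Matrix.transpose_add, Matrix.transpose_one, Matrix.transpose_smul, Matrix.add_mul,
    Matrix.one_mul, Matrix.smul_mul, D0_mul, Matrix.mul_add, Matrix.mul_one, Matrix.mul_smul,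
    Matrix.add_mul, Matrix.smul_mul, mul_D0T, mul_D0T, smul_add, smul_smul]
  module

end Cfsg.Agent.Helper83.D4
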