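import Mathlib
import Cfsg.Prelude.Def_ChevD4
import Cfsg.Agent.Helper83.D4Cliff

/-!
# The matrices `x_r(t)` of the Chevalley datum `chevD4` as polynomials in `t`, and the integer
tables comparing them with the action of the root elements of the Clifford algebra
-/

set_option autoImplicit false
set_option maxRecDepth 100000

namespace Cfsg.Agent.Helper83.D4

open Matrix Cfsg Cfsg.Lie

/-- table of Cartan integers -/
def cartT (i : Fin 4) (r : Fin 24) : ℤ := (chevD4.cartanSR.getD i.val #[]).getD r.val 0

/-- table of coroot coefficients -/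
def corT (r : Fin 24) (i : Fin 4) : ℤ := (chevD4.coroot.getD r.val #[]).getD i.val 0

/-- the negative of a root -/
def negT (r : Fin 24) : Fin 24 := 23 - r

/-- the structure constants -/
def chainN (r s u : Fin 24) : ℤ :=
  ((chevD4.chainCoeff r.val s.val u.val).map fun km => km.2).sum

theorem negT_eq : ∀ r : Fin 24, chevD4.negIdx.getD r.val 0 = (negT r).val := by decide

theorem chain_one : ∀ r s u : Fin 24, ∀ km ∈ chevD4.chainCoeff r.val s.val u.val, km.1 = 1 := by
  decide +kernel

/-- the coefficient of `t` in `x_r(t)` -/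
def M1Z (r : Fin 24) : Matrix I28 I28 ℤ := fun row col =>
  match col with
  | Sum.inl i =>
    (match row with
     | Sum.inl _ => 0
     | Sum.inr u => if u = r then - cartT i r else 0)
  | Sum.inr s =>
    if s = r then 0
    else if s = negT r then
      (match row with
       | Sum.inl i => corT r i
       | Sum.inr _ => 0)
    else
      (match row with
       | Sum.inl _ => 0
       | Sum.inr u => chainN r s u)

/-- the coefficient of `t ^ 2` in `x_r(t)` -/
def M2Z (r : Fin 24) : Matrix I28 I28 ℤ := fun row col =>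
  match col with
  | Sum.inl _ => 0
  | Sum.inr s =>
    if s = negT r then
      (match row with
       | Sum.inl _ => 0
       | Sum.inr u => if u = r then -1 else 0)
    else 0

/-- the Chevalley basis as matrices of coefficients -/
def bZ : I28 → Matrix (Fin 8) (Fin 8) ℤ :=
  Sum.elim ![Matrix.single 0 4 1 - Matrix.single 1 5 1, Matrix.single 1 5 1 - Matrix.single 2 6 1,
      Matrix.single 2 6 1 - Matrix.single 3 7 1, Matrix.single 2 6 1 + Matrix.single 3 7 1]
    (fun u => sg u • Matrix.single (pa u) (pb u) 1)

/-- the constant terms of the Chevalley basis -/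
def γZ : I28 → ℤ := Sum.elim ![0, 0, 0, -1] (fun _ => 0)

theorem tableZ0 : ∀ j : I28, trR (bZ j) (γZ j) = 0 ∧
    ∀ i : I28, coordR (bZ j) (γZ j) i = if i = j then 1 else 0 := by
  decide +kernel

/-- the coefficient of `t` of the action of the root element `r` on a matrix of coefficients -/
def d1Z (r : Fin 24) (m : Matrix (Fin 8) (Fin 8) ℤ) : Matrix (Fin 8) (Fin 8) ℤ :=
  sg r • (dL (pa r) (pb r) m + dR (pa r) (pb r) m)

/-- the coefficient of `t ^ 2` of the action of the root element `r` on a matrix of coefficients -/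
def d2Z (r : Fin 24) (m : Matrix (Fin 8) (Fin 8) ℤ) : Matrix (Fin 8) (Fin 8) ℤ :=
  dR (pa r) (pb r) (dL (pa r) (pb r) m)

theorem tableZ1 : ∀ (r : Fin 24) (j : I28), trR (d1Z r (bZ j)) 0 = 0 ∧
    ∀ i : I28, coordR (d1Z r (bZ j)) 0 i = M1Z r i j := by
  decide +kernel

theorem tableZ2 : ∀ (r : Fin 24) (j : I28), trR (d2Z r (bZ j)) 0 = 0 ∧
    ∀ i : I28, coordR (d2Z r (bZ j)) 0 i = M2Z r i j := by
  decide +kernel

end Cfsg.Agent.Helper83.D4
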