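import Mathlib
import Cfsg.Agent.Helper83.D4Chev

/-!
# `x_r(t) = 1 + t M₁(r) + t² M₂(r)` for the Chevalley datum `chevD4`
-/

set_option autoImplicit false
set_option maxRecDepth 100000

namespace Cfsg.Agent.Helper83.D4

open Matrix Cfsg Cfsg.Lie

variable {F : Type*} [Field F]

/-- the matrix `x_r(t)` of `chevD4`, with explicit index types -/
def xM (r : Fin 24) (t : F) : Matrix I28 I28 F := chevD4.xMat F r t

/-- the chain polynomial -/
def chainPoly (r s u : Fin 24) (t : F) : F :=
  ((chevD4.chainCoeff r.val s.val u.val).map fun km => ((km.2 : ℤ) : F) * t ^ km.1).sum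

theorem xM_ll (r : Fin 24) (t : F) (i' i : Fin 4) :
    xM r t (Sum.inl i') (Sum.inl i) = if i' = i then 1 else 0 := rfl

theorem xM_rl (r : Fin 24) (t : F) (u : Fin 24) (i : Fin 4) :
    xM r t (Sum.inr u) (Sum.inl i) = if u = r then - ((cartT i r : ℤ) : F) * t else 0 := rfl

theorem xM_lr (r : Fin 24) (t : F) (i : Fin 4) (s : Fin 24) :
    xM r t (Sum.inl i) (Sum.inr s)
      = if s = r then 0 else if s = negT r then ((corT r i : ℤ) : F) * t else 0 := by
  have h : (s = negT r) = (s.val = chevD4.negIdx.getD r.val 0) := by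
    rw [negT_eq, Fin.ext_iff]
  simp only [h]
  rfl

theorem xM_rr (r : Fin 24) (t : F) (u s : Fin 24) :
    xM r t (Sum.inr u) (Sum.inr s)
      = if s = r then (if u = r then 1 else 0)
        else if s = negT r then
          (if u = s then 1 else if u = r then -(t ^ 2) else 0)
        else (if u = s then 1 else 0) + chainPoly r s u t := by
  have h : (s = negT r) = (s.val = chevD4.negIdx.getD r.val 0) := by
    rw [negT_eq, Fin.ext_iff]
  simp only [h]
  rfl

theorem list_sum_chain (t : F) (L : List (ℕ × ℤ)) (hL : ∀ km ∈ L, km.1 = 1) :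
    (L.map fun km => ((km.2 : ℤ) : F) * t ^ km.1).sum
      = t * (((L.map fun km => km.2).sum : ℤ) : F) := by
  induction L with
  | nil => simp
  | cons a L ih =>
    have h1 : a.1 = 1 := hL a (List.mem_cons_self)
    have h2 : ∀ km ∈ L, km.1 = 1 := fun km hkm => hL km (List.mem_cons_of_mem _ hkm)
    rw [List.map_cons, List.sum_cons, List.map_cons, List.sum_cons, ih h2, h1, pow_one]
    push_cast
    ring

theorem chainPoly_eq (r s u : Fin 24) (t : F) : chainPoly r s u t = t * ((chainN r s u : ℤ) : F) :=
  list_sum_chain t _ (chain_one r s u)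

theorem negT_ne : ∀ r : Fin 24, negT r ≠ r := by decide

/-- `x_r(t)` as a polynomial in `t` -/
theorem xM_eq (r : Fin 24) (t : F) :
    xM r t = 1 + t • (M1Z r).map (Int.cast : ℤ → F) + (t * t) • (M2Z r).map (Int.cast : ℤ → F) := by
  ext row col
  rw [Matrix.add_apply, Matrix.add_apply, Matrix.smul_apply, Matrix.smul_apply, Matrix.map_apply,
    Matrix.map_apply, Matrix.one_apply]
  rcases row with i' | u <;> rcases col with i | s
  · rw [xM_ll]
    simp [M1Z, M2Z]
  · rw [xM_lr]
    by_cases h1 : s = r
    · subst h1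
      simp [M1Z, M2Z, (negT_ne s).symm]
    · by_cases h2 : s = negT r
      · simp [M1Z, M2Z, h1, h2, mul_comm]
      · simp [M1Z, M2Z, h1, h2]
  · rw [xM_rl]
    by_cases h1 : u = r
    · simp [M1Z, M2Z, h1, mul_comm]
    · simp [M1Z, M2Z, h1]
  · rw [xM_rr, chainPoly_eq]
    by_cases h1 : s = r
    · subst h1
      by_cases h3 : u = s
      · simp [M1Z, M2Z, h3, (negT_ne s).symm]
      · have h3' : ¬ s = u := fun h => h3 h.symm
        simp [M1Z, M2Z, h3, h3', (negT_ne s).symm]
    · by_cases h2 : s = negT r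
      · subst h2
        have hn : negT r ≠ r := negT_ne r
        have hn' : r ≠ negT r := fun h => hn h.symm
        by_cases h3 : u = negT r
        · subst h3
          simp [M1Z, M2Z, hn]
        · by_cases h4 : u = r
          · subst h4
            simp [M1Z, M2Z, hn, hn', sq]
          · simp [M1Z, M2Z, hn, h3, h4]
      · by_cases h3 : u = s
        · simp [M1Z, M2Z, h1, h2, h3]
        · simp [M1Z, M2Z, h1, h2, h3]

end Cfsg.Agent.Helper83.D4
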