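import Mathlib
import Cfsg.Agent.Helper83.D4Chev2

/-!
# The root elements of the Clifford algebra act on the Chevalley basis through `chevD4.xMat`
-/

set_option autoImplicit false

namespace Cfsg.Agent.Helper83.D4

open Matrix Cfsg Cfsg.Lie

variable {F : Type*} [Field F] {A : Type*} [Ring A] [Algebra F A] (C : CliffGen F A)

/-! ### compatibility with the cast from the integers -/

section cast

variable {R S : Type*} [CommRing R] [CommRing S] (f : R →+* S)

theorem dL_map (a b : Fin 8) (m : Matrix (Fin 8) (Fin 8) R) :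
    dL a b (m.map f) = (dL a b m).map f := by
  ext k l
  simp only [dL, Matrix.map_apply]
  split_ifs <;> simp

theorem dR_map (a b : Fin 8) (m : Matrix (Fin 8) (Fin 8) R) :
    dR a b (m.map f) = (dR a b m).map f := by
  ext k l
  simp only [dR, Matrix.map_apply]
  split_ifs <;> simp

end cast

/-- the cast of integer matrices -/
def castM (m : Matrix (Fin 8) (Fin 8) ℤ) : Matrix (Fin 8) (Fin 8) F :=
  m.map (Int.castRingHom F)

theorem castM_apply (m : Matrix (Fin 8) (Fin 8) ℤ) (k l : Fin 8) :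
    castM (F := F) m k l = ((m k l : ℤ) : F) := rfl

theorem coordR_cast (m : Matrix (Fin 8) (Fin 8) ℤ) (c : ℤ) (i : I28) :
    coordR (castM (F := F) m) (c : F) i = ((coordR m c i : ℤ) : F) := by
  rcases i with i | u
  · fin_cases i <;> simp [coordR, ccR, castM_apply]
  · simp [coordR, castM_apply]

theorem trR_cast (m : Matrix (Fin 8) (Fin 8) ℤ) (c : ℤ) :
    trR (castM (F := F) m) (c : F) = ((trR m c : ℤ) : F) := by
  simp [trR, ccR, castM_apply]

theorem castM_add (m n : Matrix (Fin 8) (Fin 8) ℤ) :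
    castM (F := F) (m + n) = castM m + castM n := by
  ext k l
  rw [Matrix.add_apply, castM_apply, castM_apply, castM_apply, Matrix.add_apply, Int.cast_add]

theorem castM_sub (m n : Matrix (Fin 8) (Fin 8) ℤ) :
    castM (F := F) (m - n) = castM m - castM n := by
  ext k l
  rw [Matrix.sub_apply, castM_apply, castM_apply, castM_apply, Matrix.sub_apply, Int.cast_sub]

theorem castM_smul (c : ℤ) (m : Matrix (Fin 8) (Fin 8) ℤ) :
    castM (F := F) (c • m) = ((c : ℤ) : F) • castM m := by
  ext k l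
  rw [Matrix.smul_apply, castM_apply, castM_apply, Matrix.smul_apply, smul_eq_mul, smul_eq_mul,
    Int.cast_mul]

theorem castM_single (a b : Fin 8) (c : ℤ) :
    castM (F := F) (Matrix.single a b c) = Matrix.single a b ((c : ℤ) : F) := by
  ext k l
  rw [castM_apply, Matrix.single_apply, Matrix.single_apply]
  split_ifs <;> simp

theorem castM_dL (a b : Fin 8) (m : Matrix (Fin 8) (Fin 8) ℤ) :
    castM (F := F) (dL a b m) = dL a b (castM m) := (dL_map (Int.castRingHom F) a b m).symm

theorem castM_dR (a b : Fin 8) (m : Matrix (Fin 8) (Fin 8) ℤ) :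
    castM (F := F) (dR a b m) = dR a b (castM m) := (dR_map (Int.castRingHom F) a b m).symm

theorem d1Z_cast (r : Fin 24) (m : Matrix (Fin 8) (Fin 8) ℤ) :
    castM (F := F) (d1Z r m)
      = ((sg r : ℤ) : F) • (dL (pa r) (pb r) (castM m) + dR (pa r) (pb r) (castM m)) := by
  unfold d1Z
  rw [castM_smul, castM_add, castM_dL, castM_dR]

theorem d2Z_cast (r : Fin 24) (m : Matrix (Fin 8) (Fin 8) ℤ) :
    castM (F := F) (d2Z r m) = dR (pa r) (pb r) (dL (pa r) (pb r) (castM m)) := by
  unfold d2Z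
  rw [castM_dR, castM_dL]

/-! ### the Chevalley basis -/

namespace CliffGen

theorem B_eq (j : I28) :
    C.B j = C.Psi (castM (bZ j)) + ((γZ j : ℤ) : F) • (1 : A) := by
  have hsingle := castM_single (F := F)
  have hsub := castM_sub (F := F)
  have hadd := castM_add (F := F)
  rcases j with i | u
  · fin_cases i
    · show C.g 0 * C.g 4 - C.g 1 * C.g 5 = C.Psi (castM (Matrix.single 0 4 1 - Matrix.single 1 5 1))
        + (((0 : ℤ) : ℤ) : F) • (1 : A)
      rw [hsub, hsingle, hsingle, map_sub, Psi_single, Psi_single]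
      simp
    · show C.g 1 * C.g 5 - C.g 2 * C.g 6 = C.Psi (castM (Matrix.single 1 5 1 - Matrix.single 2 6 1))
        + (((0 : ℤ) : ℤ) : F) • (1 : A)
      rw [hsub, hsingle, hsingle, map_sub, Psi_single, Psi_single]
      simp
    · show C.g 2 * C.g 6 - C.g 3 * C.g 7 = C.Psi (castM (Matrix.single 2 6 1 - Matrix.single 3 7 1))
        + (((0 : ℤ) : ℤ) : F) • (1 : A)
      rw [hsub, hsingle, hsingle, map_sub, Psi_single, Psi_single]
      simp
    · show C.g 2 * C.g 6 + C.g 3 * C.g 7 - 1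
        = C.Psi (castM (Matrix.single 2 6 1 + Matrix.single 3 7 1)) + (((-1 : ℤ) : ℤ) : F) • (1 : A)
      rw [hadd, hsingle, hsingle, map_add, Psi_single, Psi_single]
      simp [sub_eq_add_neg]
  · show ((sg u : ℤ) : F) • (C.g (pa u) * C.g (pb u))
      = C.Psi (castM (sg u • Matrix.single (pa u) (pb u) 1)) + (((0 : ℤ) : ℤ) : F) • (1 : A)
    rw [castM_smul, castM_single, map_smul, Psi_single]
    simp

/-- the root elements -/
def xr (r : Fin 24) (t : F) : A := C.xe (pa r) (pb r) (t * ((sg r : ℤ) : F))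

theorem xr_mul_neg (r : Fin 24) (t : F) : C.xr r t * C.xr r (-t) = 1 := by
  unfold xr
  rw [neg_mul]
  exact C.xe_mul_neg (pb_ne_sig_pa r) _

theorem xr_neg_mul (r : Fin 24) (t : F) : C.xr r (-t) * C.xr r t = 1 := by
  have := C.xr_mul_neg r (-t)
  rw [neg_neg] at this
  exact this

theorem sg_sq (r : Fin 24) : ((sg r : ℤ) : F) * ((sg r : ℤ) : F) = 1 := by
  rw [← Int.cast_mul, sg_mul_sg, Int.cast_one]

/-- the action of the root elements on `Ψ(m) + c` -/
theorem conj_PsiC (r : Fin 24) (t : F) (m : Matrix (Fin 8) (Fin 8) ℤ) (c : ℤ) :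
    C.xr r t * (C.Psi (castM m) + ((c : ℤ) : F) • (1 : A)) * C.xr r (-t)
      = (C.Psi (castM m) + ((c : ℤ) : F) • (1 : A))
        + t • (C.Psi (castM (d1Z r m)) + (((0 : ℤ) : ℤ) : F) • (1 : A))
        + (t * t) • (C.Psi (castM (d2Z r m)) + (((0 : ℤ) : ℤ) : F) • (1 : A)) := by
  have hx : C.xr r (-t) * C.xr r t = 1 := C.xr_neg_mul r t
  have hx' : C.xr r t * C.xr r (-t) = 1 := C.xr_mul_neg r t
  have hP : ∀ v, C.xr r t * C.phiV v * C.xr r (-t)
      = C.phiV (Pm (pa r) (pb r) (t * ((sg r : ℤ) : F)) *ᵥ v) := by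
    intro v
    unfold xr
    rw [neg_mul]
    exact C.conj_phiV (pb_ne_sig_pa r) _ v
  rw [mul_add, add_mul, C.conj_Psi _ _ hx _ hP, mul_smul_comm, smul_mul_assoc, mul_one, hx',
    Pm_conj, map_add, map_add, map_smul, map_smul, d1Z_cast, d2Z_cast, map_smul]
  have e : t * ((sg r : ℤ) : F) * (t * ((sg r : ℤ) : F)) = t * t := by
    rw [mul_mul_mul_comm, sg_sq, mul_one]
  rw [e, Int.cast_zero, zero_smul, add_zero, add_zero, mul_smul]
  abel

/-- the normal form, for integer matrices of coefficients in the Chevalley algebra -/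
theorem PsiC_cast (m : Matrix (Fin 8) (Fin 8) ℤ) (c : ℤ) (h : trR m c = 0) :
    C.Psi (castM m) + ((c : ℤ) : F) • (1 : A)
      = ∑ i, ((coordR m c i : ℤ) : F) • C.B i := by
  rw [C.PsiC_eq, trR_cast, h, Int.cast_zero, zero_smul, add_zero]
  apply Finset.sum_congr rfl
  intro i _
  rw [coordR_cast]

/-- the root elements act on the Chevalley basis through the matrices `x_r(t)` of `chevD4` -/
theorem conj_B (r : Fin 24) (t : F) (j : I28) :
    C.xr r t * C.B j * C.xr r (-t) = ∑ i, xM r t i j • C.B i := by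
  rw [C.B_eq j, C.conj_PsiC, C.PsiC_cast _ _ (tableZ0 j).1, C.PsiC_cast _ _ (tableZ1 r j).1,
    C.PsiC_cast _ _ (tableZ2 r j).1, Finset.smul_sum, Finset.smul_sum, ← Finset.sum_add_distrib,
    ← Finset.sum_add_distrib]
  apply Finset.sum_congr rfl
  intro i _
  rw [(tableZ0 j).2 i, (tableZ1 r j).2 i, (tableZ2 r j).2 i, xM_eq, smul_smul, smul_smul,
    ← add_smul, ← add_smul]
  congr 1
  rw [Matrix.add_apply, Matrix.add_apply, Matrix.smul_apply, Matrix.smul_apply, Matrix.map_apply,
    Matrix.map_apply, Matrix.one_apply, smul_eq_mul, smul_eq_mul]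
  split_ifs <;> simp

end CliffGen

end Cfsg.Agent.Helper83.D4
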