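import Mathlib
import Cfsg.Agent.Helper83.D4Lie

/-!
# The spin module: explicit generators of the Clifford algebra in `M₁₆(F)`
-/

set_option autoImplicit false
set_option maxRecDepth 100000

namespace Cfsg.Agent.Helper83.D4

open Matrix

/-- `16 × 16` matrices -/
abbrev M16 (R : Type*) := Matrix (Fin 16) (Fin 16) R

/-- the Jordan–Wigner sign: the parity of the number of bits of `n` below position `i` -/
def jwSign (n i : ℕ) : ℤ :=
  if xor (xor (decide (0 < i) && n.testBit 0) (decide (1 < i) && n.testBit 1))
      (decide (2 < i) && n.testBit 2) then -1 else 1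

/-- creation (`k < 4`) and annihilation (`4 ≤ k`) operators on the exterior algebra of `ℤ⁴` -/
def gZ (k : Fin 8) : M16 ℤ := fun r c =>
  if k.val < 4 then
    (if !c.val.testBit k.val && r.val == c.val + 2 ^ k.val then jwSign c.val k.val else 0)
  else
    (if c.val.testBit (k.val - 4) && r.val + 2 ^ (k.val - 4) == c.val
      then jwSign c.val (k.val - 4) else 0)

theorem gZ_sq : ∀ k : Fin 8, gZ k * gZ k = 0 := by decide +kernel

theorem gZ_anti_le : ∀ k l : Fin 8, k ≤ l →
    gZ k * gZ l + gZ l * gZ k = bet k l • (1 : M16 ℤ) := by decide +kernel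

theorem gZ_anti (k l : Fin 8) : gZ k * gZ l + gZ l * gZ k = bet k l • (1 : M16 ℤ) := by
  rcases le_total k l with h | h
  · exact gZ_anti_le k l h
  · rw [add_comm, bet_comm]
    exact gZ_anti_le l k h

variable (F : Type*) [Field F]

/-- the generators of the Clifford algebra in `M₁₆(F)` -/
def spinGen : CliffGen F (M16 F) where
  g k := (Int.castRingHom F).mapMatrix (gZ k)
  sq := by
    intro k
    rw [← map_mul, gZ_sq, map_zero]
  anti := by
    intro k l
    rw [← map_mul, ← map_mul, ← map_add, gZ_anti, map_zsmul, map_one, Int.cast_smul_eq_zsmul]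

theorem spinGen_g (k : Fin 8) : (spinGen F).g k = (Int.castRingHom F).mapMatrix (gZ k) := rfl

end Cfsg.Agent.Helper83.D4
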