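import Mathlib
import Cfsg.Agent.Helper83.D4Spin

/-!
# Coordinates on the vector module and on the Chevalley algebra inside `M₁₆(F)`
-/

set_option autoImplicit false
set_option maxRecDepth 100000

namespace Cfsg.Agent.Helper83.D4

open Matrix

/-- row of the distinguished entry of the root vector `u` -/
def posR : Fin 24 → Fin 16 :=
  ![0, 0, 8, 0, 4, 2, 0, 8, 0, 4, 8, 0, 12, 4, 2, 10, 2, 6, 1, 1, 9, 1, 5, 3]
/-- column of the distinguished entry of the root vector `u` -/
def posC : Fin 24 → Fin 16 :=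
  ![3, 5, 1, 9, 1, 1, 6, 2, 10, 2, 4, 12, 0, 8, 4, 0, 8, 0, 2, 4, 0, 8, 0, 0]
/-- the distinguished entry of the root vector `u` -/
def eps : Fin 24 → ℤ :=
  ![1, 1, 1, 1, -1, 1, -1, -1, -1, 1, 1, 1, 1, 1, 1, -1, -1, -1, 1, -1, 1, 1, 1, 1]

section ring

variable {R : Type*} [CommRing R]

/-- coordinates on the Chevalley algebra, read off from matrix entries -/
def c28R (X : M16 R) : I28 → R :=
  Sum.elim ![X 1 1 - X 0 0, X 3 3 - X 0 0, X 7 7, - X 0 0]
    (fun u => ((eps u : ℤ) : R) * X (posR u) (posC u))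

/-- coordinates on the vector module, read off from matrix entries -/
def c8R (X : M16 R) : Fin 8 → R := ![X 1 0, X 2 0, X 4 0, X 8 0, X 0 1, X 0 2, X 0 4, X 0 8]

end ring

/-- the Chevalley basis over the integers -/
def BZ : I28 → M16 ℤ :=
  Sum.elim ![gZ 0 * gZ 4 - gZ 1 * gZ 5, gZ 1 * gZ 5 - gZ 2 * gZ 6, gZ 2 * gZ 6 - gZ 3 * gZ 7,
      gZ 2 * gZ 6 + gZ 3 * gZ 7 - 1]
    (fun u => sg u • (gZ (pa u) * gZ (pb u)))

theorem c28_BZ : ∀ j i : I28, c28R (BZ j) i = if i = j then 1 else 0 := by decide +kernel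

theorem c8_gZ : ∀ k l : Fin 8, c8R (gZ k) l = if l = k then 1 else 0 := by decide +kernel

variable (F : Type*) [Field F]

theorem c28R_map (X : M16 ℤ) (i : I28) :
    c28R ((Int.castRingHom F).mapMatrix X) i = ((c28R X i : ℤ) : F) := by
  rcases i with i | u
  · fin_cases i <;> simp [c28R, RingHom.mapMatrix_apply]
  · simp [c28R, RingHom.mapMatrix_apply]

theorem c8R_map (X : M16 ℤ) (l : Fin 8) :
    c8R ((Int.castRingHom F).mapMatrix X) l = ((c8R X l : ℤ) : F) := by
  fin_cases l <;> simp [c8R, RingHom.mapMatrix_apply]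

theorem spinGen_B (j : I28) : (spinGen F).B j = (Int.castRingHom F).mapMatrix (BZ j) := by
  rcases j with i | u
  · fin_cases i
    · show (spinGen F).g 0 * (spinGen F).g 4 - (spinGen F).g 1 * (spinGen F).g 5
        = (Int.castRingHom F).mapMatrix (gZ 0 * gZ 4 - gZ 1 * gZ 5)
      simp only [spinGen_g, map_sub, map_mul]
    · show (spinGen F).g 1 * (spinGen F).g 5 - (spinGen F).g 2 * (spinGen F).g 6
        = (Int.castRingHom F).mapMatrix (gZ 1 * gZ 5 - gZ 2 * gZ 6)
      simp only [spinGen_g, map_sub, map_mul]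
    · show (spinGen F).g 2 * (spinGen F).g 6 - (spinGen F).g 3 * (spinGen F).g 7
        = (Int.castRingHom F).mapMatrix (gZ 2 * gZ 6 - gZ 3 * gZ 7)
      simp only [spinGen_g, map_sub, map_mul]
    · show (spinGen F).g 2 * (spinGen F).g 6 + (spinGen F).g 3 * (spinGen F).g 7 - 1
        = (Int.castRingHom F).mapMatrix (gZ 2 * gZ 6 + gZ 3 * gZ 7 - 1)
      simp only [spinGen_g, map_sub, map_mul, map_add, map_one]
  · show ((sg u : ℤ) : F) • ((spinGen F).g (pa u) * (spinGen F).g (pb u))
      = (Int.castRingHom F).mapMatrix (sg u • (gZ (pa u) * gZ (pb u)))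
    rw [map_zsmul, map_mul, Int.cast_smul_eq_zsmul]
    rfl

theorem c28R_B (j i : I28) : c28R ((spinGen F).B j) i = if i = j then 1 else 0 := by
  rw [spinGen_B, c28R_map, c28_BZ]
  split_ifs <;> simp

theorem c8R_g (k l : Fin 8) : c8R ((spinGen F).g k) l = if l = k then 1 else 0 := by
  rw [spinGen_g, c8R_map, c8_gZ]
  split_ifs <;> simp

/-- coordinates on the Chevalley algebra as a linear map -/
def c28 : M16 F →ₗ[F] (I28 → F) where
  toFun := c28R
  map_add' := by
    intro X Y
    funext i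
    rcases i with i | u
    · fin_cases i <;> simp [c28R] <;> ring
    · simp [c28R]
      ring
  map_smul' := by
    intro c X
    funext i
    rcases i with i | u
    · fin_cases i <;> simp [c28R] <;> ring
    · simp [c28R]
      ring

/-- coordinates on the vector module as a linear map -/
def c8 : M16 F →ₗ[F] (Fin 8 → F) where
  toFun := c8R
  map_add' := by
    intro X Y
    funext l
    fin_cases l <;> simp [c8R]
  map_smul' := by
    intro c X
    funext l
    fin_cases l <;> simp [c8R]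

theorem c28_apply (X : M16 F) : c28 F X = c28R X := rfl
theorem c8_apply (X : M16 F) : c8 F X = c8R X := rfl

end Cfsg.Agent.Helper83.D4
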