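import Mathlib
import Cfsg.Prelude.Def_Classical
import Cfsg.Agent.Helper83.D4Spin2

/-!
# The group `G` generated by the root elements in `GL₁₆(F)` and its two representations
-/

set_option autoImplicit false

namespace Cfsg.Agent.Helper83.D4

open Matrix Cfsg Cfsg.Lie

variable {F : Type*} [Field F] {A : Type*} [Ring A] [Algebra F A]

/-! ### the square of a vector -/

theorem CliffGen.phiV_sq (C : CliffGen F A) (w : Fin 8 → F) :
    C.phiV w * C.phiV w = (w 0 * w 4 + w 1 * w 5 + w 2 * w 6 + w 3 * w 7) • (1 : A) := by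
  have h := C.PsiC_eq (Matrix.vecMulVec w w) 0
  rw [zero_smul, add_zero] at h
  rw [C.phiV_mul, h, Fintype.sum_sum_type, Fin.sum_univ_four]
  have h0 : ∀ u, coordR (Matrix.vecMulVec w w) 0 (Sum.inr u) = 0 := by
    intro u
    simp [coordR, Matrix.vecMulVec_apply, mul_comm]
  simp only [h0, zero_smul, Finset.sum_const_zero, add_zero]
  simp only [coordR, trR, ccR, CliffGen.B, Sum.elim_inl, Matrix.vecMulVec_apply]
  simp only [Matrix.cons_val, Matrix.cons_val_zero, Matrix.cons_val_one]
  module

/-! ### index conversions -/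

/-- index set of the orthogonal module -/
abbrev I8 := Fin 4 ⊕ Fin 4

/-- from `Fin 8` to `Fin 4 ⊕ Fin 4` -/
def ix : Fin 8 → I8 :=
  ![Sum.inl 0, Sum.inl 1, Sum.inl 2, Sum.inl 3, Sum.inr 0, Sum.inr 1, Sum.inr 2, Sum.inr 3]

/-- from `Fin 4 ⊕ Fin 4` to `Fin 8` -/
def xi : I8 → Fin 8 := Sum.elim ![0, 1, 2, 3] ![4, 5, 6, 7]

theorem ix_xi : ∀ a : I8, ix (xi a) = a := by decide
theorem xi_ix : ∀ k : Fin 8, xi (ix k) = k := by decide
theorem ix_sig : ∀ k : Fin 8, ix (sig k) = Sum.swap (ix k) := by decide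
theorem ix_injective : Function.Injective ix := fun k l h => by
  rw [← xi_ix k, ← xi_ix l, h]

/-! ### the root elements and the group -/

/-- the root elements -/
def xm (r : Fin 24) (t : F) : M16 F := (spinGen F).xr r t

theorem xm_mul_neg (r : Fin 24) (t : F) : xm r t * xm r (-t) = 1 := (spinGen F).xr_mul_neg r t
theorem xm_neg_mul (r : Fin 24) (t : F) : xm r (-t) * xm r t = 1 := (spinGen F).xr_neg_mul r t

/-- the root elements as invertible matrices -/
def xh (r : Fin 24) (t : F) : GL (Fin 16) F :=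
  ⟨xm r t, xm r (-t), xm_mul_neg r t, xm_neg_mul r t⟩

theorem xh_val (r : Fin 24) (t : F) : ((xh r t : GL (Fin 16) F) : M16 F) = xm r t := rfl

theorem xh_inv_val (r : Fin 24) (t : F) :
    (((xh r t)⁻¹ : GL (Fin 16) F) : M16 F) = xm r (-t) := rfl

theorem xh_inv (r : Fin 24) (t : F) : (xh r t)⁻¹ = xh r (-t) := by
  apply Units.ext
  rw [xh_inv_val, xh_val]

/-- the group generated by the root elements -/
def G (F : Type*) [Field F] : Subgroup (GL (Fin 16) F) :=
  Subgroup.closure {g | ∃ (r : Fin 24) (t : F), g = xh r t}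

theorem xh_mem (r : Fin 24) (t : F) : xh r t ∈ G F :=
  Subgroup.subset_closure ⟨r, t, rfl⟩

/-! ### the adjoint module -/

/-- the embedding of the adjoint module -/
def phiL : (I28 → F) →ₗ[F] M16 F where
  toFun v := ∑ j, v j • (spinGen F).B j
  map_add' := by
    intro v w
    simp only [Pi.add_apply, add_smul, Finset.sum_add_distrib]
  map_smul' := by
    intro c v
    simp only [Pi.smul_apply, smul_eq_mul, mul_smul, Finset.smul_sum, RingHom.id_apply]

theorem phiL_apply (v : I28 → F) : phiL v = ∑ j, v j • (spinGen F).B j := rfl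

/-- the adjoint module -/
def coordL (F : Type*) [Field F] : Coord F (M16 F) I28 where
  φ := phiL
  c := c28 F
  hc := by
    intro v
    rw [phiL_apply, map_sum]
    funext i
    rw [Finset.sum_apply, Finset.sum_eq_single i]
    · rw [map_smul, Pi.smul_apply, c28_apply, c28R_B, if_pos rfl, smul_eq_mul, mul_one]
    · intro j _ hj
      rw [map_smul, Pi.smul_apply, c28_apply, c28R_B, if_neg (Ne.symm hj), smul_zero]
    · intro h
      exact absurd (Finset.mem_univ i) h

theorem xm_conjL (r : Fin 24) (t : F) (v : I28 → F) :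
    xm r t * phiL v * xm r (-t) = phiL (xM r t *ᵥ v) := by
  rw [phiL_apply, phiL_apply, Finset.mul_sum, Finset.sum_mul]
  have h : ∀ j, xm r t * (v j • (spinGen F).B j) * xm r (-t)
      = ∑ i, (xM r t i j * v j) • (spinGen F).B i := by
    intro j
    rw [mul_smul_comm, smul_mul_assoc]
    unfold xm
    rw [(spinGen F).conj_B r t j, Finset.smul_sum]
    apply Finset.sum_congr rfl
    intro i _
    rw [smul_smul, mul_comm]
  simp only [h]
  rw [Finset.sum_comm]
  apply Finset.sum_congr rfl
  intro i _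
  rw [← Finset.sum_smul]
  rfl

/-! ### the orthogonal module -/

/-- the embedding of the orthogonal module -/
def phi8 : (I8 → F) →ₗ[F] M16 F := (spinGen F).phiV ∘ₗ (LinearMap.funLeft F F ix)

theorem phi8_apply (v : I8 → F) : phi8 v = (spinGen F).phiV (v ∘ ix) := rfl

theorem c8_phiV (w : Fin 8 → F) : c8 F ((spinGen F).phiV w) = w := by
  rw [CliffGen.phiV_apply, map_sum]
  funext l
  rw [Finset.sum_apply, Finset.sum_eq_single l]
  · rw [map_smul, Pi.smul_apply, c8_apply, c8R_g, if_pos rfl, smul_eq_mul, mul_one]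
  · intro k _ hk
    rw [map_smul, Pi.smul_apply, c8_apply, c8R_g, if_neg (Ne.symm hk), smul_zero]
  · intro h
    exact absurd (Finset.mem_univ l) h

/-- the orthogonal module -/
def coordV (F : Type*) [Field F] : Coord F (M16 F) I8 where
  φ := phi8
  c := (LinearMap.funLeft F F xi) ∘ₗ (c8 F)
  hc := by
    intro v
    rw [LinearMap.comp_apply, phi8_apply, c8_phiV]
    funext a
    rw [LinearMap.funLeft_apply, Function.comp_apply, ix_xi]

/-- the action of the root elements on the orthogonal module -/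
def f8 (r : Fin 24) (t : F) (v : I8 → F) : I8 → F :=
  v + (t * ((sg r : ℤ) : F)) • (v (Sum.swap (ix (pb r))) • Pi.single (ix (pa r)) (1 : F)
    - v (Sum.swap (ix (pa r))) • Pi.single (ix (pb r)) (1 : F))

theorem xm_conjV (r : Fin 24) (t : F) (v : I8 → F) :
    xm r t * phi8 v * xm r (-t) = phi8 (f8 r t v) := by
  rw [phi8_apply, phi8_apply]
  unfold xm CliffGen.xr
  rw [neg_mul, (spinGen F).conj_phiV (pb_ne_sig_pa r), CliffGen.Pm_mulVec]
  congr 1
  funext k
  simp only [f8, Function.comp_apply, Pi.add_apply, Pi.smul_apply, Pi.sub_apply, smul_eq_mul,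
    ix_sig, Pi.single_apply, ix_injective.eq_iff]

end Cfsg.Agent.Helper83.D4
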