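import Mathlib
import Cfsg.Agent.Helper83.D4Group

/-!
# The adjoint and the orthogonal representation of `G`
-/

set_option autoImplicit false

namespace Cfsg.Agent.Helper83.D4

open Matrix Cfsg Cfsg.Lie

variable {F : Type*} [Field F]

theorem coordL_φ (v : I28 → F) : (coordL F).φ v = phiL v := rfl
theorem coordV_φ (v : I8 → F) : (coordV F).φ v = phi8 v := rfl

theorem xh_mem_stabL (r : Fin 24) (t : F) : xh r t ∈ (coordL F).stab := by
  apply (coordL F).mem_stab_of (xh r t) (fun v => xM r t *ᵥ v) (fun v => xM r (-t) *ᵥ v)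
  · intro v
    rw [xh_val, xh_inv_val, coordL_φ, coordL_φ, xm_conjL]
  · intro v
    have := xm_conjL r (-t) v
    rw [neg_neg] at this
    rw [xh_val, xh_inv_val, coordL_φ, coordL_φ, this]

theorem xh_mem_stabV (r : Fin 24) (t : F) : xh r t ∈ (coordV F).stab := by
  apply (coordV F).mem_stab_of (xh r t) (f8 r t) (f8 r (-t))
  · intro v
    rw [xh_val, xh_inv_val, coordV_φ, coordV_φ, xm_conjV]
  · intro v
    have := xm_conjV r (-t) v
    rw [neg_neg] at this
    rw [xh_val, xh_inv_val, coordV_φ, coordV_φ, this]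

theorem G_le_stabL : G F ≤ (coordL F).stab := by
  unfold G
  rw [Subgroup.closure_le]
  rintro g ⟨r, t, rfl⟩
  exact xh_mem_stabL r t

theorem G_le_stabV : G F ≤ (coordV F).stab := by
  unfold G
  rw [Subgroup.closure_le]
  rintro g ⟨r, t, rfl⟩
  exact xh_mem_stabV r t

/-- the adjoint representation of `G` -/
noncomputable def Ad : G F →* GL I28 F :=
  (coordL F).rep.comp (Subgroup.inclusion G_le_stabL)

/-- the orthogonal representation of `G` -/
noncomputable def rho0 : G F →* GL I8 F :=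
  (coordV F).rep.comp (Subgroup.inclusion G_le_stabV)

theorem φ_Ad (g : G F) (v : I28 → F) :
    phiL (((Ad g : GL I28 F) : Matrix I28 I28 F) *ᵥ v)
      = ((g.1 : GL (Fin 16) F) : M16 F) * phiL v * (((g.1)⁻¹ : GL (Fin 16) F) : M16 F) :=
  (coordL F).φ_rep (Subgroup.inclusion G_le_stabL g) v

theorem φ_rho0 (g : G F) (v : I8 → F) :
    phi8 (((rho0 g : GL I8 F) : Matrix I8 I8 F) *ᵥ v)
      = ((g.1 : GL (Fin 16) F) : M16 F) * phi8 v * (((g.1)⁻¹ : GL (Fin 16) F) : M16 F) :=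
  (coordV F).φ_rep (Subgroup.inclusion G_le_stabV g) v

theorem Ad_xh (r : Fin 24) (t : F) :
    ((Ad ⟨xh r t, xh_mem r t⟩ : GL I28 F) : Matrix I28 I28 F) = xM r t := by
  apply (coordL F).rep_val_of (Subgroup.inclusion G_le_stabL ⟨xh r t, xh_mem r t⟩) (xM r t)
  intro v
  show ((xh r t : GL (Fin 16) F) : M16 F) * phiL v * (((xh r t)⁻¹ : GL (Fin 16) F) : M16 F)
    = phiL (xM r t *ᵥ v)
  rw [xh_val, xh_inv_val, xm_conjL]

theorem rho0_xh_mulVec (r : Fin 24) (t : F) (v : I8 → F) :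
    ((rho0 ⟨xh r t, xh_mem r t⟩ : GL I8 F) : Matrix I8 I8 F) *ᵥ v = f8 r t v := by
  apply (coordV F).rep_mulVec_of (Subgroup.inclusion G_le_stabV ⟨xh r t, xh_mem r t⟩) (f8 r t)
  intro v
  show ((xh r t : GL (Fin 16) F) : M16 F) * phi8 v * (((xh r t)⁻¹ : GL (Fin 16) F) : M16 F)
    = phi8 (f8 r t v)
  rw [xh_val, xh_inv_val, xm_conjV]

theorem Ad_eq_one_iff (g : G F) :
    Ad g = 1 ↔ ∀ v, ((g.1 : GL (Fin 16) F) : M16 F) * phiL v
      = phiL v * ((g.1 : GL (Fin 16) F) : M16 F) :=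
  (coordL F).rep_eq_one_iff (Subgroup.inclusion G_le_stabL g)

theorem rho0_eq_one_iff (g : G F) :
    rho0 g = 1 ↔ ∀ v, ((g.1 : GL (Fin 16) F) : M16 F) * phi8 v
      = phi8 v * ((g.1 : GL (Fin 16) F) : M16 F) :=
  (coordV F).rep_eq_one_iff (Subgroup.inclusion G_le_stabV g)

/-! ### the quadratic form -/

theorem phi8_sq (v : I8 → F) : phi8 v * phi8 v = (quadFormPlus 4 F v) • (1 : M16 F) := by
  rw [phi8_apply, CliffGen.phiV_sq]
  congr 1
  simp [quadFormPlus, Fin.sum_univ_four, ix]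

theorem quadFormPlus_rho0 (g : G F) (v : I8 → F) :
    quadFormPlus 4 F (((rho0 g : GL I8 F) : Matrix I8 I8 F) *ᵥ v) = quadFormPlus 4 F v := by
  have h1 := phi8_sq (((rho0 g : GL I8 F) : Matrix I8 I8 F) *ᵥ v)
  rw [φ_rho0] at h1
  have h2 : ((g.1 : GL (Fin 16) F) : M16 F) * phi8 v * (((g.1)⁻¹ : GL (Fin 16) F) : M16 F)
      * (((g.1 : GL (Fin 16) F) : M16 F) * phi8 v * (((g.1)⁻¹ : GL (Fin 16) F) : M16 F))
      = (quadFormPlus 4 F v) • (1 : M16 F) := by
    have e : ∀ A B C : M16 F, A * B * C * (A * B * C) = A * B * (C * A) * B * C := by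
      intro A B C
      simp only [mul_assoc]
    rw [e, ← Units.val_mul, inv_mul_cancel, Units.val_one, mul_one, mul_assoc _ (phi8 v) (phi8 v),
      phi8_sq, Matrix.mul_smul, Matrix.smul_mul, mul_one, ← Units.val_mul, mul_inv_cancel,
      Units.val_one]
  rw [h2] at h1
  have h3 := congrFun (congrFun h1 0) 0
  simpa using h3.symm

theorem rho0_mem (g : G F) : rho0 g ∈ isometryGroup F (quadFormPlus 4 F) := by
  intro u _
  exact quadFormPlus_rho0 g u

/-- the orthogonal representation, with values in the isometry group -/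
noncomputable def rho : G F →* isometryGroup F (quadFormPlus 4 F) :=
  rho0.codRestrict _ rho0_mem

theorem rho_val (g : G F) : ((rho g).1 : GL I8 F) = rho0 g := rfl

end Cfsg.Agent.Helper83.D4
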