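import Mathlib
import Cfsg.Agent.Helper83.D4Group2

/-!
# Matrices commuting with the generators of the Clifford algebra are scalar
-/

set_option autoImplicit false
set_option maxRecDepth 100000

namespace Cfsg.Agent.Helper83.D4

open Matrix Cfsg Cfsg.Lie

/-- the occupation numbers -/
def dbit (k : Fin 8) : Fin 16 → ℤ := fun S => if S.val.testBit k.val then 1 else 0

theorem gZ_number : ∀ k : Fin 8, k.val < 4 → gZ k * gZ (sig k) = Matrix.diagonal (dbit k) := by
  decide +kernel

theorem exists_bit : ∀ S T : Fin 16, S ≠ T →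
    ∃ k : Fin 8, k.val < 4 ∧ ((dbit k S = 1 ∧ dbit k T = 0) ∨ (dbit k S = 0 ∧ dbit k T = 1)) := by
  decide +kernel

theorem exists_lower : ∀ S : Fin 16, S ≠ 0 →
    ∃ (k : Fin 8) (S' : Fin 16), S'.val < S.val ∧ (gZ k S S' = 1 ∨ gZ k S S' = -1) := by
  decide +kernel

variable {F : Type*} [Field F]

theorem spinGen_number (k : Fin 8) (hk : k.val < 4) :
    (spinGen F).g k * (spinGen F).g (sig k)
      = Matrix.diagonal (fun S => ((dbit k S : ℤ) : F)) := by
  rw [spinGen_g, spinGen_g, ← map_mul, gZ_number k hk, RingHom.mapMatrix_apply,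
    Matrix.diagonal_map (map_zero _)]
  rfl

theorem spinGen_g_apply (k : Fin 8) (S T : Fin 16) :
    (spinGen F).g k S T = ((gZ k S T : ℤ) : F) := rfl

section scalar

variable (X : M16 F) (h : ∀ k, X * (spinGen F).g k = (spinGen F).g k * X)

include h in
theorem offdiag_zero (S T : Fin 16) (hST : S ≠ T) : X S T = 0 := by
  obtain ⟨k, hk, hbit⟩ := exists_bit S T hST
  have hc : X * ((spinGen F).g k * (spinGen F).g (sig k))
      = ((spinGen F).g k * (spinGen F).g (sig k)) * X := by
    rw [← mul_assoc, h k, mul_assoc, h (sig k), mul_assoc]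
  rw [spinGen_number k hk] at hc
  have he := congrFun (congrFun hc S) T
  rw [Matrix.mul_diagonal, Matrix.diagonal_mul] at he
  rcases hbit with ⟨h1, h2⟩ | ⟨h1, h2⟩
  · rw [h1, h2] at he
    simpa using he.symm
  · rw [h1, h2] at he
    simpa using he

include h in
theorem diag_step (k : Fin 8) (S S' : Fin 16) (hg : gZ k S S' = 1 ∨ gZ k S S' = -1) :
    X S S = X S' S' := by
  have he := congrFun (congrFun (h k) S) S'
  rw [Matrix.mul_apply, Matrix.mul_apply, Finset.sum_eq_single S, Finset.sum_eq_single S'] at he
  · rw [spinGen_g_apply] at he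
    rcases hg with hg | hg
    · rw [hg] at he
      simpa using he
    · rw [hg] at he
      simpa using he
  · intro U _ hU
    rw [offdiag_zero X h U S' hU, mul_zero]
  · intro h'
    exact absurd (Finset.mem_univ _) h'
  · intro U _ hU
    rw [offdiag_zero X h S U (Ne.symm hU), zero_mul]
  · intro h'
    exact absurd (Finset.mem_univ _) h'

include h in
theorem diag_eq (S : Fin 16) : X S S = X 0 0 := by
  induction' hn : S.val using Nat.strong_induction_on with n ih generalizing S
  by_cases hS : S = 0
  · rw [hS]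
  · obtain ⟨k, S', hlt, hg⟩ := exists_lower S hS
    rw [diag_step X h k S S' hg]
    exact ih S'.val (by rw [← hn]; exact hlt) S' rfl

include h in
/-- a matrix commuting with the generators of the Clifford algebra is scalar -/
theorem scalar_of_commute_g : ∃ c : F, X = c • (1 : M16 F) := by
  refine ⟨X 0 0, ?_⟩
  ext S T
  rw [Matrix.smul_apply, Matrix.one_apply]
  by_cases hST : S = T
  · subst hST
    rw [if_pos rfl, diag_eq X h S, smul_eq_mul, mul_one]
  · rw [if_neg hST, offdiag_zero X h S T hST, smul_zero]

end scalar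

end Cfsg.Agent.Helper83.D4
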