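import Mathlib
import Cfsg.Agent.Helper83.D4Scalar

/-!
# The kernels of the two representations of `G`
-/

set_option autoImplicit false
set_option maxRecDepth 100000

namespace Cfsg.Agent.Helper83.D4

open Matrix Cfsg Cfsg.Lie

variable {F : Type*} [Field F] {A : Type*} [Ring A] [Algebra F A] (C : CliffGen F A)

namespace CliffGen

/-- the commutator of two products of generators -/
theorem comm_EE (a b c d : Fin 8) :
    C.g a * C.g b * (C.g c * C.g d) - C.g c * C.g d * (C.g a * C.g b)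
      = ((bet b c : ℤ) : F) • (C.g a * C.g d) - ((bet a c : ℤ) : F) • (C.g b * C.g d)
        + ((bet b d : ℤ) : F) • (C.g c * C.g a) - ((bet a d : ℤ) : F) • (C.g c * C.g b) := by
  have h1 := C.three a b c
  have h2 := C.three a b d
  have e : C.g a * C.g b * (C.g c * C.g d)
      = ((bet b c : ℤ) : F) • (C.g a * C.g d) - ((bet a c : ℤ) : F) • (C.g b * C.g d)
        + (((bet b d : ℤ) : F) • (C.g c * C.g a) - ((bet a d : ℤ) : F) • (C.g c * C.g b)
          + C.g c * C.g d * (C.g a * C.g b)) := by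
    rw [← mul_assoc (C.g a * C.g b) (C.g c) (C.g d), h1, add_mul, sub_mul, smul_mul_assoc,
      smul_mul_assoc, mul_assoc (C.g c) (C.g a * C.g b) (C.g d), h2, mul_add, mul_sub,
      mul_smul_comm, mul_smul_comm, ← mul_assoc (C.g c) (C.g d)]
  rw [e]
  abel

theorem cartan0 : C.B (Sum.inl 0) = C.B (Sum.inr 18) * C.B (Sum.inr 5)
    - C.B (Sum.inr 5) * C.B (Sum.inr 18) := by
  have h := C.comm_EE 0 5 1 4
  have b1 : bet 5 1 = 1 := by decide
  have b2 : bet 0 1 = 0 := by decide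
  have b3 : bet 5 4 = 0 := by decide
  have b4 : bet 0 4 = 1 := by decide
  rw [b1, b2, b3, b4] at h
  simp only [Int.cast_one, Int.cast_zero, one_smul, zero_smul, sub_zero, add_zero] at h
  show C.g 0 * C.g 4 - C.g 1 * C.g 5
    = ((1 : ℤ) : F) • (C.g 0 * C.g 5) * (((1 : ℤ) : F) • (C.g 1 * C.g 4))
      - ((1 : ℤ) : F) • (C.g 1 * C.g 4) * (((1 : ℤ) : F) • (C.g 0 * C.g 5))
  rw [Int.cast_one, one_smul, one_smul, h]

theorem cartan1 : C.B (Sum.inl 1) = C.B (Sum.inr 14) * C.B (Sum.inr 9)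
    - C.B (Sum.inr 9) * C.B (Sum.inr 14) := by
  have h := C.comm_EE 1 6 2 5
  have b1 : bet 6 2 = 1 := by decide
  have b2 : bet 1 2 = 0 := by decide
  have b3 : bet 6 5 = 0 := by decide
  have b4 : bet 1 5 = 1 := by decide
  rw [b1, b2, b3, b4] at h
  simp only [Int.cast_one, Int.cast_zero, one_smul, zero_smul, sub_zero, add_zero] at h
  show C.g 1 * C.g 5 - C.g 2 * C.g 6
    = ((1 : ℤ) : F) • (C.g 1 * C.g 6) * (((1 : ℤ) : F) • (C.g 2 * C.g 5))
      - ((1 : ℤ) : F) • (C.g 2 * C.g 5) * (((1 : ℤ) : F) • (C.g 1 * C.g 6))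
  rw [Int.cast_one, one_smul, one_smul, h]

theorem cartan2 : C.B (Sum.inl 2) = C.B (Sum.inr 13) * C.B (Sum.inr 10)
    - C.B (Sum.inr 10) * C.B (Sum.inr 13) := by
  have h := C.comm_EE 2 7 3 6
  have b1 : bet 7 3 = 1 := by decide
  have b2 : bet 2 3 = 0 := by decide
  have b3 : bet 7 6 = 0 := by decide
  have b4 : bet 2 6 = 1 := by decide
  rw [b1, b2, b3, b4] at h
  simp only [Int.cast_one, Int.cast_zero, one_smul, zero_smul, sub_zero, add_zero] at h
  show C.g 2 * C.g 6 - C.g 3 * C.g 7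
    = ((1 : ℤ) : F) • (C.g 2 * C.g 7) * (((1 : ℤ) : F) • (C.g 3 * C.g 6))
      - ((1 : ℤ) : F) • (C.g 3 * C.g 6) * (((1 : ℤ) : F) • (C.g 2 * C.g 7))
  rw [Int.cast_one, one_smul, one_smul, h]

theorem cartan3 : C.B (Sum.inl 3) = C.B (Sum.inr 12) * C.B (Sum.inr 11)
    - C.B (Sum.inr 11) * C.B (Sum.inr 12) := by
  have h := C.comm_EE 2 3 6 7
  have b1 : bet 3 6 = 0 := by decide
  have b2 : bet 2 6 = 1 := by decide
  have b3 : bet 3 7 = 1 := by decide
  have b4 : bet 2 7 = 0 := by decide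
  rw [b1, b2, b3, b4] at h
  have hs := C.swap 2 6
  rw [b2] at hs
  simp only [Int.cast_one, Int.cast_zero, one_smul, zero_smul, sub_zero, zero_sub] at h hs
  show C.g 2 * C.g 6 + C.g 3 * C.g 7 - 1
    = ((1 : ℤ) : F) • (C.g 2 * C.g 3) * (((-1 : ℤ) : F) • (C.g 6 * C.g 7))
      - ((-1 : ℤ) : F) • (C.g 6 * C.g 7) * (((1 : ℤ) : F) • (C.g 2 * C.g 3))
  rw [Int.cast_one, one_smul, Int.cast_neg, Int.cast_one, neg_smul, one_smul, mul_neg, neg_mul]
  have h' : C.g 2 * C.g 3 * (C.g 6 * C.g 7)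
      = C.g 6 * C.g 7 * (C.g 2 * C.g 3) + (-(C.g 3 * C.g 7) + C.g 6 * C.g 2) := by
    rw [← h]
    abel
  rw [h', hs]
  abel

/-- an element commuting with the root vectors commutes with the Chevalley basis -/
theorem commute_B (X : A) (h : ∀ r : Fin 24, X * C.B (Sum.inr r) = C.B (Sum.inr r) * X)
    (j : I28) : X * C.B j = C.B j * X := by
  have key : ∀ r s : Fin 24, X * (C.B (Sum.inr r) * C.B (Sum.inr s) - C.B (Sum.inr s) * C.B (Sum.inr r))
      = (C.B (Sum.inr r) * C.B (Sum.inr s) - C.B (Sum.inr s) * C.B (Sum.inr r)) * X := by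
    intro r s
    rw [mul_sub, sub_mul, ← mul_assoc, h r, mul_assoc, h s, ← mul_assoc, ← mul_assoc, h s,
      mul_assoc (C.B (Sum.inr s)), h r, mul_assoc, mul_assoc]
  rcases j with i | r
  · fin_cases i
    · show X * C.B (Sum.inl 0) = C.B (Sum.inl 0) * X
      rw [C.cartan0]
      exact key 18 5
    · show X * C.B (Sum.inl 1) = C.B (Sum.inl 1) * X
      rw [C.cartan1]
      exact key 14 9
    · show X * C.B (Sum.inl 2) = C.B (Sum.inl 2) * X
      rw [C.cartan2]
      exact key 13 10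
    · show X * C.B (Sum.inl 3) = C.B (Sum.inl 3) * X
      rw [C.cartan3]
      exact key 12 11
  · exact h r

theorem xr_eq (r : Fin 24) (t : F) : C.xr r t = 1 + t • C.B (Sum.inr r) := by
  show 1 + (t * ((sg r : ℤ) : F)) • (C.g (pa r) * C.g (pb r))
    = 1 + t • (((sg r : ℤ) : F) • (C.g (pa r) * C.g (pb r)))
  rw [smul_smul]

theorem B_sq (r : Fin 24) : C.B (Sum.inr r) * C.B (Sum.inr r) = 0 := by
  show ((sg r : ℤ) : F) • (C.g (pa r) * C.g (pb r)) * (((sg r : ℤ) : F) • (C.g (pa r) * C.g (pb r)))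
    = 0
  rw [smul_mul_smul_comm, C.E_sq (pb_ne_sig_pa r), smul_zero]

end CliffGen

end Cfsg.Agent.Helper83.D4
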