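import Mathlib
import Cfsg.Agent.Helper83.D4Scalar2

/-!
# The kernel of the adjoint representation is the preimage of the centre of the image of the
orthogonal representation
-/

set_option autoImplicit false

namespace Cfsg.Agent.Helper83.D4

open Matrix Cfsg Cfsg.Lie

variable {F : Type*} [Field F]

theorem phi8_single (k : Fin 8) : phi8 (Pi.single (ix k) (1 : F)) = (spinGen F).g k := by
  rw [phi8_apply]
  have : (Pi.single (ix k) (1 : F) : I8 → F) ∘ ix = Pi.single k 1 := by
    funext l
    simp only [Function.comp_apply, Pi.single_apply, ix_injective.eq_iff]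
  rw [this, CliffGen.phiV_single, one_smul]

theorem phiL_single (j : I28) : phiL (Pi.single j (1 : F)) = (spinGen F).B j := by
  rw [phiL_apply, Finset.sum_eq_single j]
  · rw [Pi.single_eq_same, one_smul]
  · intro i _ hi
    rw [Pi.single_eq_of_ne hi, zero_smul]
  · intro h
    exact absurd (Finset.mem_univ j) h

theorem smul_one_commute (c : F) (X : M16 F) : (c • (1 : M16 F)) * X = X * (c • (1 : M16 F)) := by
  rw [Matrix.smul_mul, Matrix.mul_smul, one_mul, mul_one]

theorem rho0_eq_one_iff_scalar (g : G F) :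
    rho0 g = 1 ↔ ∃ c : F, ((g.1 : GL (Fin 16) F) : M16 F) = c • (1 : M16 F) := by
  rw [rho0_eq_one_iff]
  constructor
  · intro h
    apply scalar_of_commute_g
    intro k
    rw [← phi8_single, h]
  · rintro ⟨c, hc⟩ v
    rw [hc, smul_one_commute]

theorem rho_eq_one_iff_scalar (g : G F) :
    rho g = 1 ↔ ∃ c : F, ((g.1 : GL (Fin 16) F) : M16 F) = c • (1 : M16 F) := by
  rw [← rho0_eq_one_iff_scalar]
  constructor
  · intro h
    have := congrArg Subtype.val h
    exact this
  · intro h
    apply Subtype.ext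
    exact h

theorem Ad_eq_one_iff_commute (g : G F) :
    Ad g = 1 ↔ ∀ r : Fin 24, ((g.1 : GL (Fin 16) F) : M16 F) * (spinGen F).B (Sum.inr r)
      = (spinGen F).B (Sum.inr r) * ((g.1 : GL (Fin 16) F) : M16 F) := by
  rw [Ad_eq_one_iff]
  constructor
  · intro h r
    rw [← phiL_single, h]
  · intro h v
    rw [phiL_apply, Finset.mul_sum, Finset.sum_mul]
    apply Finset.sum_congr rfl
    intro j _
    rw [mul_smul_comm, smul_mul_assoc, (spinGen F).commute_B _ h j]

theorem xm_eq (r : Fin 24) (t : F) : xm r t = 1 + t • (spinGen F).B (Sum.inr r) :=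
  (spinGen F).xr_eq r t

theorem B_zero_zero (r : Fin 24) : (spinGen F).B (Sum.inr r) 0 0 = 0 := by
  have h := c28R_B F (Sum.inr r) (Sum.inl 3)
  rw [if_neg (by simp)] at h
  have h' : c28R ((spinGen F).B (Sum.inr r)) (Sum.inl 3) = - (spinGen F).B (Sum.inr r) 0 0 := rfl
  rw [h'] at h
  exact neg_eq_zero.1 h

/-- if `g x g⁻¹ = μ x` for a root element `x` then `μ = 1` -/
theorem mu_eq_one (g : GL (Fin 16) F) (r : Fin 24) (μ : F)
    (h : (g : M16 F) * xm r 1 * ((g⁻¹ : GL (Fin 16) F) : M16 F) = μ • xm r 1) : μ = 1 := by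
  set E := (spinGen F).B (Sum.inr r) with hE
  have hEE : E * E = 0 := (spinGen F).B_sq r
  have hx : xm r (1 : F) = 1 + E := by rw [xm_eq, one_smul]
  have hA : (xm r (1 : F) - 1) * (xm r (1 : F) - 1) = 0 := by
    rw [hx, add_sub_cancel_left, hEE]
  have h1 : μ • xm r (1 : F) - 1
      = (g : M16 F) * (xm r (1 : F) - 1) * ((g⁻¹ : GL (Fin 16) F) : M16 F) := by
    rw [mul_sub, sub_mul, h, mul_one, ← Units.val_mul, mul_inv_cancel, Units.val_one]
  have h2 : (μ • xm r (1 : F) - 1) * (μ • xm r (1 : F) - 1) = 0 := by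
    rw [h1]
    have e : ∀ A B C : M16 F, A * B * C * (A * B * C) = A * (B * (C * A) * B) * C := by
      intro A B C
      simp only [mul_assoc]
    rw [e, ← Units.val_mul, inv_mul_cancel, Units.val_one, mul_one, hA, mul_zero, zero_mul]
  have h3 : (μ • xm r (1 : F) - 1) * (μ • xm r (1 : F) - 1)
      = ((μ - 1) ^ 2) • (1 : M16 F) + (2 * μ * (μ - 1)) • E := by
    rw [hx]
    have e1 : μ • ((1 : M16 F) + E) - 1 = (μ - 1) • (1 : M16 F) + μ • E := by
      module
    rw [e1, add_mul, mul_add, mul_add, smul_mul_smul_comm, smul_mul_smul_comm, smul_mul_smul_comm,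
      smul_mul_smul_comm, hEE, one_mul, mul_one, one_mul]
    module
  rw [h3] at h2
  have h4 := congrFun (congrFun h2 0) 0
  rw [Matrix.add_apply, Matrix.smul_apply, Matrix.smul_apply, hE, B_zero_zero, Matrix.one_apply_eq,
    Matrix.zero_apply] at h4
  have h5 : (μ - 1) ^ 2 = 0 := by simpa using h4
  have h6 : μ - 1 = 0 := pow_eq_zero_iff (two_ne_zero) |>.1 h5
  linear_combination h6

/-- an element of the kernel of the adjoint representation is central in `G` -/
theorem commute_of_Ad_eq_one (g : G F) (h : Ad g = 1) (k : G F) : g * k = k * g := by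
  rw [Ad_eq_one_iff_commute] at h
  have hgen : ∀ (r : Fin 24) (t : F), g.1 * xh r t = xh r t * g.1 := by
    intro r t
    apply Units.ext
    rw [Units.val_mul, Units.val_mul, xh_val, xm_eq, mul_add, add_mul, mul_one, one_mul,
      mul_smul_comm, smul_mul_assoc, h r]
  have hle : G F ≤ Subgroup.centralizer {g.1} := by
    unfold G
    rw [Subgroup.closure_le]
    rintro x ⟨r, t, rfl⟩
    rw [SetLike.mem_coe, Subgroup.mem_centralizer_iff]
    intro y hy
    rw [Set.mem_singleton_iff] at hy
    rw [hy]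
    exact hgen r t
  have hk := hle k.2
  rw [Subgroup.mem_centralizer_iff] at hk
  apply Subtype.ext
  exact hk g.1 rfl

/-- the kernel of the adjoint representation is the preimage of the centre of the image of the
orthogonal representation -/
theorem Ad_eq_one_iff_central (g : G F) :
    Ad g = 1 ↔ ∀ k : G F, rho (g * k * g⁻¹ * k⁻¹) = 1 := by
  constructor
  · intro h k
    rw [commute_of_Ad_eq_one g h k]
    simp
  · intro h
    rw [Ad_eq_one_iff_commute]
    intro r
    obtain ⟨c, hc⟩ := (rho_eq_one_iff_scalar _).1 (h ⟨xh r 1, xh_mem r 1⟩)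
    have hc' : ((g.1 : GL (Fin 16) F) : M16 F) * xm r 1 * (((g.1)⁻¹ : GL (Fin 16) F) : M16 F)
        * xm r (-1) = c • (1 : M16 F) := by
      rw [← hc]
      rfl
    have h1 : ((g.1 : GL (Fin 16) F) : M16 F) * xm r 1 * (((g.1)⁻¹ : GL (Fin 16) F) : M16 F)
        = c • xm r 1 := by
      have := congrArg (fun X => X * xm r (1 : F)) hc'
      beta_reduce at this
      rw [mul_assoc, xm_neg_mul, mul_one, Matrix.smul_mul, one_mul] at this
      exact this
    have hc1 : c = 1 := mu_eq_one g.1 r c h1
    rw [hc1, one_smul] at h1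
    have h2 := congrArg (fun X => X * ((g.1 : GL (Fin 16) F) : M16 F)) h1
    beta_reduce at h2
    rw [mul_assoc, ← Units.val_mul, inv_mul_cancel, Units.val_one, mul_one] at h2
    rw [xm_eq, one_smul, mul_add, add_mul, mul_one, one_mul] at h2
    exact add_left_cancel h2

end Cfsg.Agent.Helper83.D4
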