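import Mathlib
import Cfsg.Agent.Helper5.EichlerO
import Cfsg.Agent.Helper44.StdForms
import Cfsg.Agent.Helper44.StdHyp
import Cfsg.Agent.Helper83.B2Orth4
import Cfsg.Agent.Helper83.D4Kernel

/-!
# The image of `G` in the orthogonal group `O₈⁺(F)`: root elements as Eichler transformations
-/

set_option autoImplicit false

namespace Cfsg.Agent.Helper83.D4

open Matrix Cfsg Cfsg.Lie QuadraticMap
open Cfsg.Agent.Helper5 Cfsg.Agent.Helper44 Cfsg.Agent.Helper45.OmegaParity

variable {F : Type*} [Field F]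

/-- the quadratic form `x₁y₁ + x₂y₂ + x₃y₃ + x₄y₄` -/
abbrev Q8 (F : Type*) [Field F] : QuadraticForm F (I8 → F) := plusForm 4 F

/-- the involution on the coordinates -/
abbrev sw (a : I8) : I8 := Sum.swap a

theorem sw_sw (a : I8) : sw (sw a) = a := Sum.swap_swap a

theorem sw_ne : ∀ a : I8, sw a ≠ a := by decide

theorem sw_injective : Function.Injective sw := Sum.swap_leftInverse.injective

/-- the standard basis -/
def dl (a : I8) : I8 → F := Pi.single a 1

theorem dl_apply (a b : I8) : (dl a : I8 → F) b = if b = a then 1 else 0 := by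
  unfold dl
  rw [Pi.single_apply]

theorem dl_self (a : I8) : (dl a : I8 → F) a = 1 := by rw [dl_apply, if_pos rfl]

theorem dl_ne {a b : I8} (h : b ≠ a) : (dl a : I8 → F) b = 0 := by rw [dl_apply, if_neg h]

theorem Q8_dl (a : I8) : Q8 F (dl a) = 0 := by
  rcases a with j | j
  · exact (isHypPair_plusForm 4 j).Qa
  · exact (isHypPair_plusForm 4 j).Qb

theorem polar_dl (a : I8) (x : I8 → F) : polar ⇑(Q8 F) (dl a) x = x (sw a) := by
  rcases a with j | j
  · exact (isHypPair_plusForm 4 j).polar_a x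
  · exact (isHypPair_plusForm 4 j).polar_b x

theorem polar_dl' (a : I8) (x : I8 → F) : polar ⇑(Q8 F) x (dl a) = x (sw a) := by
  rw [QuadraticMap.polar_comm, polar_dl]

theorem Q8_smul_dl (c : F) (a : I8) : Q8 F (c • dl a) = 0 := by
  rw [QuadraticMap.map_smul, Q8_dl, smul_zero]

theorem polar_dl_dl (a b : I8) : polar ⇑(Q8 F) (dl a) (dl b) = if sw a = b then (1 : F) else 0 := by
  rw [polar_dl, dl_apply]

/-- a vector is the sum of its coordinates -/
theorem eq_sum_dl (x : I8 → F) : x = ∑ b, x b • dl b := by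
  funext c
  rw [Finset.sum_apply, Finset.sum_eq_single c]
  · rw [Pi.smul_apply, dl_self, smul_eq_mul, mul_one]
  · intro b _ hb
    rw [Pi.smul_apply, dl_ne (Ne.symm hb), smul_zero]
  · intro h
    exact absurd (Finset.mem_univ c) h

/-! ### the root elements -/

/-- the root elements of the orthogonal group -/
noncomputable def X (a b : I8) (t : F) : isometryGroup F ⇑(Q8 F) :=
  eichlerO (Q8 F) (dl a) (t • dl b)

theorem polar_dl_smul_dl {a b : I8} (hab' : b ≠ sw a) (t : F) :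
    polar ⇑(Q8 F) (dl a) (t • dl b) = 0 := by
  rw [polar_dl, Pi.smul_apply, dl_ne (Ne.symm hab'), smul_zero]

theorem lin_X {a b : I8} (hab' : b ≠ sw a) (t : F) (x : I8 → F) :
    lin (Q8 F) (X a b t) x = x + (t * x (sw b)) • dl a - (t * x (sw a)) • dl b := by
  unfold X
  rw [lin_eichlerO (Q8 F) (Q8_dl a) (polar_dl_smul_dl hab' t), Q8_smul_dl, zero_mul, zero_smul,
    sub_zero, QuadraticMap.polar_smul_left, polar_dl, polar_dl, smul_eq_mul]
  module

theorem X_symm {a b : I8} (hab' : b ≠ sw a) (t : F) : X a b t = X b a (-t) := by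
  have hba' : a ≠ sw b := by
    intro h
    apply hab'
    rw [h, sw_sw]
  apply isom_ext
  intro x
  rw [lin_X hab', lin_X hba']
  module

/-- the orthogonal representation with values in the isometry group of `Q8` -/
noncomputable def rhoQ : G F →* isometryGroup F ⇑(Q8 F) := rho

theorem lin_rhoQ (g : G F) (x : I8 → F) :
    lin (Q8 F) (rhoQ g) x = ((rho0 g : GL I8 F) : Matrix I8 I8 F) *ᵥ x := rfl

theorem lin_rhoQ_xh (r : Fin 24) (t : F) (x : I8 → F) :
    lin (Q8 F) (rhoQ ⟨xh r t, xh_mem r t⟩) x = f8 r t x := by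
  rw [lin_rhoQ, rho0_xh_mulVec]

theorem ix_pb_ne : ∀ r : Fin 24, ix (pb r) ≠ sw (ix (pa r)) := by decide

theorem rhoQ_xh (r : Fin 24) (t : F) :
    rhoQ ⟨xh r t, xh_mem r t⟩ = X (ix (pa r)) (ix (pb r)) (t * ((sg r : ℤ) : F)) := by
  apply isom_ext
  intro x
  rw [lin_rhoQ_xh, lin_X (ix_pb_ne r)]
  unfold f8 dl
  module

/-- the image of `G` in the orthogonal group -/
noncomputable def E8 (F : Type*) [Field F] : Subgroup (isometryGroup F ⇑(Q8 F)) :=
  (rhoQ (F := F)).range

theorem rhoQ_mem (g : G F) : rhoQ g ∈ E8 F := ⟨g, rfl⟩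

theorem pair_cover : ∀ a b : I8, a ≠ b → b ≠ sw a →
    ∃ r : Fin 24, (ix (pa r) = a ∧ ix (pb r) = b) ∨ (ix (pa r) = b ∧ ix (pb r) = a) := by
  decide

theorem sg_cast_sq (r : Fin 24) : ((sg r : ℤ) : F) * ((sg r : ℤ) : F) = 1 := by
  rw [← Int.cast_mul, sg_mul_sg, Int.cast_one]

theorem X_mem {a b : I8} (hab : a ≠ b) (hab' : b ≠ sw a) (t : F) : X a b t ∈ E8 F := by
  obtain ⟨r, ⟨h1, h2⟩ | ⟨h1, h2⟩⟩ := pair_cover a b hab hab'
  · have := rhoQ_xh r (t * ((sg r : ℤ) : F))
    rw [mul_assoc, sg_cast_sq, mul_one, h1, h2] at this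
    rw [← this]
    exact rhoQ_mem _
  · rw [X_symm hab']
    have := rhoQ_xh r (-t * ((sg r : ℤ) : F))
    rw [mul_assoc, sg_cast_sq, mul_one, h1, h2] at this
    rw [← this]
    exact rhoQ_mem _

end Cfsg.Agent.Helper83.D4
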