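import Mathlib
import Cfsg.Agent.Helper83.D4Orth1

/-!
# Moving vectors with elements of `E8`; `E8` is the group of all Eichler transformations
-/

set_option autoImplicit false

namespace Cfsg.Agent.Helper83.D4

open Matrix Cfsg Cfsg.Lie QuadraticMap
open Cfsg.Agent.Helper5 Cfsg.Agent.Helper44 Cfsg.Agent.Helper45.OmegaParity

variable {F : Type*} [Field F]

local notation "L" => lin (Q8 F)

/-- the unipotent radical of the stabiliser of a basis vector lies in `E8` -/
theorem eichler_dl_mem (a : I8) (w : I8 → F) (hw : w (sw a) = 0) :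
    eichlerO (Q8 F) (dl a) w ∈ E8 F := by
  have key : polar ⇑(Q8 F) (dl a) (∑ b, w b • dl b) = 0
      ∧ eichlerO (Q8 F) (dl a) (∑ b, w b • dl b) ∈ E8 F := by
    refine Finset.sum_induction (fun b => w b • (dl b : I8 → F))
      (fun v => polar ⇑(Q8 F) (dl a) v = 0 ∧ eichlerO (Q8 F) (dl a) v ∈ E8 F) ?_ ?_ ?_
    · rintro v1 v2 ⟨h1, h1'⟩ ⟨h2, h2'⟩
      refine ⟨by rw [QuadraticMap.polar_add_right, h1, h2, add_zero], ?_⟩
      rw [← eichlerO_mul (Q8 F) (Q8_dl a) h1 h2]
      exact mul_mem h1' h2'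
    · refine ⟨QuadraticMap.polar_zero_right _ _, ?_⟩
      rw [eichlerO_zero]
      exact one_mem _
    · intro b _
      by_cases hb1 : b = sw a
      · rw [hb1, hw, zero_smul]
        refine ⟨QuadraticMap.polar_zero_right _ _, ?_⟩
        rw [eichlerO_zero]
        exact one_mem _
      · refine ⟨polar_dl_smul_dl hb1 _, ?_⟩
        by_cases hb2 : b = a
        · rw [hb2]
          have := eichlerO_add_smul (Q8 F) (Q8_dl (F := F) a)
            (QuadraticMap.polar_zero_right _ _) (w a)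
          rw [zero_add] at this
          rw [this, eichlerO_zero]
          exact one_mem _
        · exact X_mem (Ne.symm hb2) hb1 (w b)
  rw [← eq_sum_dl w] at key
  exact key.2

theorem lin_X_dl {a b k : I8} (hab' : b ≠ sw a) (t : F) (h1 : k ≠ sw b) (h2 : k ≠ sw a) :
    L (X a b t) (dl k) = dl k := by
  rw [lin_X hab', dl_ne (Ne.symm h1), dl_ne (Ne.symm h2)]
  simp

/-- the coordinates of a vector orthogonal to fixed basis vectors are preserved -/
theorem coord_eq_zero_of_fix (g : isometryGroup F ⇑(Q8 F)) (J : I8 → Prop)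
    (hJ : ∀ k, J k → J (sw k)) (hg : ∀ k, J k → L g (dl k) = dl k) (x : I8 → F)
    (hxJ : ∀ k, J k → x k = 0) (k : I8) (hk : J k) : (L g x) k = 0 := by
  have h1 : polar ⇑(Q8 F) (L g x) (L g (dl (sw k))) = x k := by
    rw [polar_lin, polar_dl', sw_sw]
  rw [hg (sw k) (hJ k hk), polar_dl', sw_sw] at h1
  rw [h1, hxJ k hk]

section moves

variable (a : I8) (J : I8 → Prop) (hJ : ∀ k, J k → J (sw k)) (ha : ¬ J a)

include hJ ha in
theorem exists_coord_ne_zero_aux (x : I8 → F)
    (h : x a ≠ 0 ∨ ∃ c, ¬ J c ∧ c ≠ a ∧ c ≠ sw a ∧ x c ≠ 0) :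
    ∃ g ∈ E8 F, (∀ k, J k → L g (dl k) = dl k) ∧ (L g x) a ≠ 0 := by
  by_cases h1 : x a ≠ 0
  · exact ⟨1, one_mem _, fun k _ => lin_one_apply _ _, by rw [lin_one_apply]; exact h1⟩
  · rw [not_not] at h1
    rcases h with h | ⟨c, hcJ, hca, hca', hxc⟩
    · exact absurd h1 h
    · have hb' : sw c ≠ sw a := fun hh => hca (sw_injective hh)
      have hab : a ≠ sw c := by
        intro hh
        apply hca'
        rw [hh, sw_sw]
      refine ⟨X a (sw c) 1, X_mem hab hb' 1, ?_, ?_⟩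
      · intro k hk
        apply lin_X_dl hb'
        · rw [sw_sw]
          intro hh
          exact hcJ (hh ▸ hk)
        · intro hh
          apply ha
          have := hJ k hk
          rw [hh, sw_sw] at this
          exact this
      · rw [lin_X hb', sw_sw]
        simp only [Pi.add_apply, Pi.sub_apply, Pi.smul_apply, dl_self, dl_ne hab, h1, smul_eq_mul]
        simpa using hxc

include hJ ha in
theorem exists_coord_ne_zero (hc : ∃ c, ¬ J c ∧ c ≠ a ∧ c ≠ sw a) (x : I8 → F) (hx0 : x ≠ 0)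
    (hxJ : ∀ k, J k → x k = 0) :
    ∃ g ∈ E8 F, (∀ k, J k → L g (dl k) = dl k) ∧ (L g x) a ≠ 0 := by
  by_cases h : x a ≠ 0 ∨ ∃ c, ¬ J c ∧ c ≠ a ∧ c ≠ sw a ∧ x c ≠ 0
  · exact exists_coord_ne_zero_aux a J hJ ha x h
  · rw [not_or, not_not] at h
    obtain ⟨h1, h2⟩ := h
    have h2' : ∀ c, ¬ J c → c ≠ a → c ≠ sw a → x c = 0 := by
      intro c hcJ hca hca'
      by_contra hne
      exact h2 ⟨c, hcJ, hca, hca', hne⟩
    have h3 : x (sw a) ≠ 0 := by
      intro h3
      apply hx0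
      funext k
      by_cases hk : J k
      · exact hxJ k hk
      · by_cases hka : k = a
        · rw [hka]; exact h1
        · by_cases hka' : k = sw a
          · rw [hka']; exact h3
          · exact h2' k hk hka hka'
    obtain ⟨c, hcJ, hca, hca'⟩ := hc
    have hac : a ≠ sw c := by
      intro hh
      apply hca'
      rw [hh, sw_sw]
    have hfix1 : ∀ k, J k → L (X c a (1 : F)) (dl k) = dl k := by
      intro k hk
      apply lin_X_dl hac
      · intro hh
        apply ha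
        have := hJ k hk
        rw [hh, sw_sw] at this
        exact this
      · intro hh
        apply hcJ
        have := hJ k hk
        rw [hh, sw_sw] at this
        exact this
    have hy : (L (X c a (1 : F)) x) c ≠ 0 := by
      rw [lin_X hac]
      simp only [Pi.add_apply, Pi.sub_apply, Pi.smul_apply, dl_self, dl_ne hca, smul_eq_mul]
      rw [h2' c hcJ hca hca']
      simpa using h3
    obtain ⟨g, hg, hgfix, hgne⟩ := exists_coord_ne_zero_aux a J hJ ha (L (X c a (1 : F)) x)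
      (Or.inr ⟨c, hcJ, hca, hca', hy⟩)
    refine ⟨g * X c a 1, mul_mem hg (X_mem hca hac 1), ?_, ?_⟩
    · intro k hk
      rw [lin_mul_apply, hfix1 k hk, hgfix k hk]
    · rw [lin_mul_apply]
      exact hgne

include hJ ha in
/-- a singular vector vanishing on `J` is moved to a multiple of `dl a` by an element of `E8`
fixing the basis vectors in `J` -/
theorem exists_move (hc : ∃ c, ¬ J c ∧ c ≠ a ∧ c ≠ sw a) (x : I8 → F) (hxQ : Q8 F x = 0)
    (hx0 : x ≠ 0) (hxJ : ∀ k, J k → x k = 0) :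
    ∃ g ∈ E8 F, (∀ k, J k → L g (dl k) = dl k) ∧ ∃ μ : F, μ ≠ 0 ∧ L g x = μ • dl a := by
  obtain ⟨g0, hg0, hfix0, hne⟩ := exists_coord_ne_zero a J hJ ha hc x hx0 hxJ
  set y := L g0 x with hy
  have hyQ : Q8 F y = 0 := by rw [hy, lin_isometry, hxQ]
  have hyJ : ∀ k, J k → y k = 0 := coord_eq_zero_of_fix g0 J hJ hfix0 x hxJ
  have huu' : polar ⇑(Q8 F) (dl a) (dl (sw a) : I8 → F) = 1 := by
    rw [polar_dl, dl_self]
  have hpy : polar ⇑(Q8 F) (dl (sw a)) y = y a := by rw [polar_dl, sw_sw]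
  have hane : polar ⇑(Q8 F) (dl (sw a)) y ≠ 0 := by rw [hpy]; exact hne
  obtain ⟨w, hw, hmove, hperp⟩ := B2.eichler_move (Q8 F) (dl a) (dl (sw a)) y (Q8_dl a)
    (Q8_dl (sw a)) huu' hyQ hane
  have hw' : w (sw (sw a)) = 0 := by rw [← polar_dl (sw a) w]; exact hw
  refine ⟨eichlerO (Q8 F) (dl (sw a)) w * g0, mul_mem (eichler_dl_mem (sw a) w hw') hg0, ?_,
    y a, hne, ?_⟩
  · intro k hk
    have hka : k ≠ a := fun hh => ha (hh ▸ hk)
    have hka' : k ≠ sw a := by
      intro hh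
      apply ha
      have := hJ k hk
      rw [hh, sw_sw] at this
      exact this
    rw [lin_mul_apply, hfix0 k hk]
    apply B2.lin_eichlerO_fix (Q8 F) (Q8_dl (sw a)) hw
    · rw [polar_dl, sw_sw, dl_ne (Ne.symm hka)]
    · apply hperp
      · rw [polar_dl, dl_ne (Ne.symm hka')]
      · rw [polar_dl, sw_sw, dl_ne (Ne.symm hka)]
      · rw [polar_dl']
        exact hyJ (sw k) (hJ k hk)
  · rw [lin_mul_apply, ← hy, hmove, hpy]

include hJ ha in
/-- the partner of `dl a` is moved to a multiple of `dl (sw a)` by an element of `E8` fixing `dl a`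
and the basis vectors in `J` -/
theorem exists_move_partner (y : I8 → F) (hyQ : Q8 F y = 0) (hya : y (sw a) ≠ 0)
    (hyJ : ∀ k, J k → y k = 0) :
    ∃ g ∈ E8 F, (∀ k, J k → L g (dl k) = dl k) ∧ L g (dl a) = dl a
      ∧ L g y = y (sw a) • dl (sw a) := by
  have huu' : polar ⇑(Q8 F) (dl (sw a)) (dl a : I8 → F) = 1 := by
    rw [polar_dl, sw_sw, dl_self]
  have hpy : polar ⇑(Q8 F) (dl a) y = y (sw a) := polar_dl a y
  have hane : polar ⇑(Q8 F) (dl a) y ≠ 0 := by rw [hpy]; exact hya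
  obtain ⟨w, hw, hmove, hperp⟩ := B2.eichler_move (Q8 F) (dl (sw a)) (dl a) y (Q8_dl (sw a))
    (Q8_dl a) huu' hyQ hane
  have hw' : w (sw a) = 0 := by rw [← polar_dl a w]; exact hw
  refine ⟨eichlerO (Q8 F) (dl a) w, eichler_dl_mem a w hw', ?_, ?_, ?_⟩
  · intro k hk
    have hka : k ≠ a := fun hh => ha (hh ▸ hk)
    have hka' : k ≠ sw a := by
      intro hh
      apply ha
      have := hJ k hk
      rw [hh, sw_sw] at this
      exact this
    apply B2.lin_eichlerO_fix (Q8 F) (Q8_dl a) hw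
    · rw [polar_dl, dl_ne (Ne.symm hka')]
    · apply hperp
      · rw [polar_dl, sw_sw, dl_ne (Ne.symm hka)]
      · rw [polar_dl, dl_ne (Ne.symm hka')]
      · rw [polar_dl']
        exact hyJ (sw k) (hJ k hk)
  · exact B2.lin_eichlerO_self (Q8 F) (Q8_dl a) hw
  · rw [hmove, hpy]

end moves

/-! ### `E8` is the group of all Eichler transformations -/

/-- every Eichler transformation lies in `E8` -/
theorem eichlerO_mem_E8 (u w : I8 → F) : eichlerO (Q8 F) u w ∈ E8 F := by
  by_cases h : Q8 F u = 0 ∧ polar ⇑(Q8 F) u w = 0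
  swap
  · unfold eichlerO
    rw [dif_neg h]
    exact one_mem _
  obtain ⟨hu, huw⟩ := h
  by_cases hu0 : u = 0
  · have : eichlerO (Q8 F) u w = 1 := by
      apply isom_ext
      intro x
      rw [lin_eichlerO (Q8 F) hu huw, lin_one_apply, hu0]
      simp
    rw [this]
    exact one_mem _
  obtain ⟨g, hg, -, μ, hμ, hgu⟩ := exists_move (Sum.inl 0) (fun _ => False) (fun _ h => h)
    (fun h => h) ⟨Sum.inl 1, fun h => h, by decide, by decide⟩ u hu hu0 (fun _ h => h.elim)
  have hconj := eichlerO_conj (Q8 F) g hu huw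
  rw [hgu] at hconj
  have hpol : polar ⇑(Q8 F) (dl (Sum.inl 0)) (L g w) = 0 := by
    have h1 : polar ⇑(Q8 F) (L g u) (L g w) = 0 := by rw [polar_lin, huw]
    rw [hgu, QuadraticMap.polar_smul_left, smul_eq_mul] at h1
    rcases mul_eq_zero.1 h1 with h2 | h2
    · exact absurd h2 hμ
    · exact h2
  rw [eichlerO_smul_left (Q8 F) (Q8_dl _) hpol] at hconj
  have hmem : g * eichlerO (Q8 F) u w * g⁻¹ ∈ E8 F := by
    rw [hconj]
    apply eichler_dl_mem
    rw [Pi.smul_apply, ← polar_dl (Sum.inl 0) (L g w), hpol, smul_zero]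
  have : eichlerO (Q8 F) u w = g⁻¹ * (g * eichlerO (Q8 F) u w * g⁻¹) * g := by group
  rw [this]
  exact mul_mem (mul_mem (inv_mem hg) hmem) hg

theorem eichlerGroup_le_E8 : eichlerGroup (Q8 F) ≤ E8 F := by
  unfold eichlerGroup
  rw [Subgroup.closure_le]
  rintro g ⟨u, w, -, -, rfl⟩
  exact eichlerO_mem_E8 u w

theorem rhoQ_mem_eichlerGroup (x : GL (Fin 16) F) (hx : x ∈ G F) :
    rhoQ ⟨x, hx⟩ ∈ eichlerGroup (Q8 F) := by
  refine Subgroup.closure_induction
    (p := fun x hx => rhoQ (⟨x, hx⟩ : G F) ∈ eichlerGroup (Q8 F)) ?_ ?_ ?_ ?_ hx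
  · rintro x ⟨r, t, rfl⟩
    rw [rhoQ_xh]
    exact eichlerO_mem_eichlerGroup _ _ _
  · have : (⟨1, one_mem (G F)⟩ : G F) = 1 := rfl
    show rhoQ (⟨1, one_mem (G F)⟩ : G F) ∈ _
    rw [this, map_one]
    exact one_mem _
  · intro x y hx hy ihx ihy
    have : (⟨x * y, mul_mem hx hy⟩ : G F) = ⟨x, hx⟩ * ⟨y, hy⟩ := rfl
    rw [this, map_mul]
    exact mul_mem ihx ihy
  · intro x hx ihx
    have : (⟨x⁻¹, inv_mem hx⟩ : G F) = ⟨x, hx⟩⁻¹ := rfl
    rw [this, map_inv]
    exact inv_mem ihx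

theorem E8_le_eichlerGroup : E8 F ≤ eichlerGroup (Q8 F) := by
  rintro _ ⟨g, rfl⟩
  exact rhoQ_mem_eichlerGroup g.1 g.2

theorem E8_eq_eichlerGroup : E8 F = eichlerGroup (Q8 F) :=
  le_antisymm E8_le_eichlerGroup eichlerGroup_le_E8

instance E8_normal : (E8 F).Normal := by
  rw [E8_eq_eichlerGroup]
  infer_instance

end Cfsg.Agent.Helper83.D4
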