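import Mathlib
import Cfsg.Agent.Helper5.OrthSimpleStd
import Cfsg.Agent.Helper5.Siegel3
import Cfsg.Agent.Helper83.D4Orth2

/-!
# `E8` is perfect; torus elements and the swap
-/

set_option autoImplicit false

namespace Cfsg.Agent.Helper83.D4

open Matrix Cfsg Cfsg.Lie QuadraticMap
open Cfsg.Agent.Helper5 Cfsg.Agent.Helper44 Cfsg.Agent.Helper45.OmegaParity
open scoped commutatorElement

variable {F : Type*} [Field F]

local notation "L" => lin (Q8 F)

/-! ### `E8` lies in the commutator subgroup -/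

/-- three hyperbolic pairs -/
noncomputable def hypTriple8 (F : Type*) [Field F] : HypTriple (Q8 F) :=
  HypTriple.ofPairs (Q8 F) (fun i => Sum.inl ⟨i.val, by omega⟩) (fun i => Sum.inr ⟨i.val, by omega⟩)
    (by
      intro i j h
      have := Sum.inr_injective h
      exact Fin.ext (by simpa using congrArg Fin.val this))
    (fun i j => Sum.inl_ne_inr)
    (fun i => isHypPair_plusForm 4 _)

theorem E8_le_commutator : E8 F ≤ commutator (isometryGroup F ⇑(Q8 F)) := by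
  rw [E8_eq_eichlerGroup, commutator_def]
  refine le_trans (eichlerGroup_le_commutator (Q8 F) (nondegenerate_plusForm 4) (by decide)
    (hypTriple8 F)) ?_
  exact Subgroup.commutator_mono le_top le_top

/-! ### isometries are determined by their values on the basis -/

theorem isom_ext_basis {g h : isometryGroup F ⇑(Q8 F)} (H : ∀ k, L g (dl k) = L h (dl k)) :
    g = h := by
  apply isom_ext
  intro x
  rw [eq_sum_dl x, map_sum, map_sum]
  apply Finset.sum_congr rfl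
  intro b _
  rw [map_smul, map_smul, H b]

/-! ### torus elements -/

/-- the frame of two orthogonal hyperbolic pairs of basis vectors -/
noncomputable def frame (p q : I8) (hq1 : q ≠ p) (hq2 : q ≠ sw p) : Frame4 (Q8 F) where
  p₁ := dl p
  r₁ := dl q
  p₂ := dl (sw p)
  r₂ := dl (sw q)
  Qp₁ := Q8_dl p
  Qr₁ := Q8_dl q
  Qp₂ := Q8_dl (sw p)
  Qr₂ := Q8_dl (sw q)
  p₁r₁ := by rw [polar_dl, dl_ne (Ne.symm hq2)]
  p₂r₂ := by
    rw [polar_dl, sw_sw, dl_ne]
    intro h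
    apply hq2
    rw [h, sw_sw]
  p₁p₂ := by rw [polar_dl, dl_self]
  p₁r₂ := by
    rw [polar_dl, dl_ne]
    intro h
    exact hq1 (sw_injective h).symm
  r₁p₂ := by
    rw [polar_dl, dl_ne]
    intro h
    exact hq1 (sw_injective h)
  r₁r₂ := by rw [polar_dl, dl_self]

/-- the diagonal matrix of `SL₂` -/
def diagSL (c : F) (hc : c ≠ 0) : Matrix.SpecialLinearGroup (Fin 2) F :=
  ⟨!![c, 0; 0, c⁻¹], by simp [Matrix.det_fin_two, hc]⟩

/-- upper unitriangular matrices -/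
def upSL (t : F) : Matrix.SpecialLinearGroup (Fin 2) F :=
  ⟨!![1, t; 0, 1], by simp [Matrix.det_fin_two]⟩

/-- lower unitriangular matrices -/
def loSL (t : F) : Matrix.SpecialLinearGroup (Fin 2) F :=
  ⟨!![1, 0; t, 1], by simp [Matrix.det_fin_two]⟩

theorem diagSL_eq (c : F) (hc : c ≠ 0) :
    diagSL c hc = upSL c * loSL (-c⁻¹) * upSL c * (upSL (-1) * loSL 1 * upSL (-1)) := by
  have hM : (!![c, 0; 0, c⁻¹] : Matrix (Fin 2) (Fin 2) F)
      = !![1, c; 0, 1] * !![1, 0; -c⁻¹, 1] * !![1, c; 0, 1]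
        * (!![1, -1; 0, 1] * !![1, 0; 1, 1] * !![1, -1; 0, 1]) := by
    ext i j
    fin_cases i <;> fin_cases j <;> simp [Matrix.mul_apply, Fin.sum_univ_two, hc]
  apply Subtype.ext
  exact hM

/-- the torus element scaling `dl p`, `dl q` by `c` and their partners by `c⁻¹` -/
noncomputable def tor (p q : I8) (hq1 : q ≠ p) (hq2 : q ≠ sw p) (c : F) (hc : c ≠ 0) :
    isometryGroup F ⇑(Q8 F) :=
  (frame p q hq1 hq2).hom (diagSL c hc)

theorem tor_mem (p q : I8) (hq1 : q ≠ p) (hq2 : q ≠ sw p) (c : F) (hc : c ≠ 0) :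
    tor p q hq1 hq2 c hc ∈ E8 F := by
  have hup : ∀ t : F, (frame p q hq1 hq2).hom (upSL t) ∈ E8 F := by
    intro t
    rw [(frame p q hq1 hq2).hom_upper (upSL t) rfl rfl rfl]
    exact eichlerO_mem_E8 _ _
  have hlo : ∀ t : F, (frame p q hq1 hq2).hom (loSL t) ∈ E8 F := by
    intro t
    rw [(frame p q hq1 hq2).hom_lower (loSL t) rfl rfl rfl]
    exact eichlerO_mem_E8 _ _
  unfold tor
  rw [diagSL_eq, map_mul, map_mul, map_mul, map_mul, map_mul]
  exact mul_mem (mul_mem (mul_mem (hup _) (hlo _)) (hup _))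
    (mul_mem (mul_mem (hup _) (hlo _)) (hup _))

theorem lin_tor (p q : I8) (hq1 : q ≠ p) (hq2 : q ≠ sw p) (c : F) (hc : c ≠ 0) (x : I8 → F) :
    L (tor p q hq1 hq2 c hc) x = x + ((c - 1) * x p) • dl p + ((c⁻¹ - 1) * x (sw q)) • dl (sw q)
      + ((c⁻¹ - 1) * x (sw p)) • dl (sw p) + ((c - 1) * x q) • dl q := by
  unfold tor
  rw [Frame4.lin_hom, Frame4.L_apply]
  show x + ((c - 1) * polar ⇑(Q8 F) x (dl (sw p)) + 0 * polar ⇑(Q8 F) x (dl q)) • dl p
    + (0 * polar ⇑(Q8 F) x (dl (sw p)) + (c⁻¹ - 1) * polar ⇑(Q8 F) x (dl q)) • dl (sw q)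
    + ((c⁻¹ - 1) * polar ⇑(Q8 F) x (dl p) - 0 * polar ⇑(Q8 F) x (dl (sw q))) • dl (sw p)
    + (-0 * polar ⇑(Q8 F) x (dl p) + (c - 1) * polar ⇑(Q8 F) x (dl (sw q))) • dl q = _
  rw [polar_dl', polar_dl', polar_dl', polar_dl', sw_sw, sw_sw]
  simp

/-- the scalars of a torus element -/
def torCoef (p q : I8) (c : F) (k : I8) : F :=
  if k = p ∨ k = q then c else if k = sw p ∨ k = sw q then c⁻¹ else 1

theorem lin_tor_dl (p q : I8) (hq1 : q ≠ p) (hq2 : q ≠ sw p) (c : F) (hc : c ≠ 0) (k : I8) :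
    L (tor p q hq1 hq2 c hc) (dl k) = torCoef p q c k • dl k := by
  have hp : sw p ≠ p := sw_ne p
  have hq : sw q ≠ q := sw_ne q
  have hq3 : sw q ≠ p := by
    intro h
    apply hq2
    rw [← h, sw_sw]
  have hq4 : sw q ≠ sw p := fun h => hq1 (sw_injective h)
  rw [lin_tor]
  unfold torCoef
  by_cases h1 : k = p
  · subst h1
    rw [if_pos (Or.inl rfl), dl_self, dl_ne hq3, dl_ne hp, dl_ne hq1]
    module
  by_cases h2 : k = q
  · subst h2
    rw [if_pos (Or.inr rfl), dl_self, dl_ne (Ne.symm hq1), dl_ne hq, dl_ne (Ne.symm hq2)]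
    module
  rw [if_neg (by tauto)]
  by_cases h3 : k = sw p
  · subst h3
    rw [if_pos (Or.inl rfl), dl_self, dl_ne hp.symm, dl_ne hq4, dl_ne hq2]
    module
  by_cases h4 : k = sw q
  · subst h4
    rw [if_pos (Or.inr rfl), dl_self, dl_ne hq3.symm, dl_ne hq4.symm, dl_ne hq.symm]
    module
  rw [if_neg (by tauto), dl_ne (Ne.symm h1), dl_ne (Ne.symm h2), dl_ne (Ne.symm h3),
    dl_ne (Ne.symm h4)]
  module

end Cfsg.Agent.Helper83.D4
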