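import Mathlib
import Cfsg.Agent.Helper83.D4Orth3

/-!
# Every isometry is diagonal or a diagonal times the swap, modulo `E8`
-/

set_option autoImplicit false

namespace Cfsg.Agent.Helper83.D4

open Matrix Cfsg Cfsg.Lie QuadraticMap
open Cfsg.Agent.Helper5 Cfsg.Agent.Helper44 Cfsg.Agent.Helper45.OmegaParity

variable {F : Type*} [Field F]

local notation "L" => lin (Q8 F)

theorem lin_ne_zero8 (T : isometryGroup F ⇑(Q8 F)) {x : I8 → F} (hx : x ≠ 0) : L T x ≠ 0 := by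
  intro h
  apply hx
  have := lin_inv_apply (Q8 F) T x
  rw [h, map_zero] at this
  exact this.symm

theorem dl_ne_zero (a : I8) : (dl a : I8 → F) ≠ 0 := by
  intro h
  have := congrFun h a
  rw [dl_self] at this
  exact one_ne_zero this

/-- `M` scales the basis vector `dl k` -/
def Sc (M : isometryGroup F ⇑(Q8 F)) (k : I8) : Prop :=
  ∃ c : F, c ≠ 0 ∧ L M (dl k) = c • dl k

theorem coord_of_scaled (M : isometryGroup F ⇑(Q8 F)) (k : I8) (c : F)
    (h : L M (dl k) = c • dl k) (v : I8 → F) : c * (L M v) (sw k) = v (sw k) := by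
  have h1 : polar ⇑(Q8 F) (L M (dl k)) (L M v) = v (sw k) := by rw [polar_lin, polar_dl]
  rw [h, QuadraticMap.polar_smul_left, polar_dl, smul_eq_mul] at h1
  exact h1

theorem lin_inv_of_scaled (M : isometryGroup F ⇑(Q8 F)) (k l : I8) (c : F) (hc : c ≠ 0)
    (h : L M (dl k) = c • dl l) : L M⁻¹ (dl l) = c⁻¹ • dl k := by
  have h1 := lin_inv_apply (Q8 F) M (dl k)
  rw [h, map_smul] at h1
  rw [← h1, smul_smul, inv_mul_cancel₀ hc, one_smul]

theorem vanish_of_scaled (J : I8 → Prop) (hJ : ∀ k, J k → J (sw k))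
    (T : isometryGroup F ⇑(Q8 F)) (hT : ∀ k, J k → Sc T k) (b : I8)
    (hb : ¬ J b) (k : I8) (hk : J k) : (L T (dl b)) k = 0 := by
  obtain ⟨c, hc, hck⟩ := hT (sw k) (hJ k hk)
  have h1 := coord_of_scaled T (sw k) c hck (dl b)
  rw [sw_sw] at h1
  have hkb : k ≠ b := fun h => hb (h ▸ hk)
  rw [dl_ne hkb] at h1
  rcases mul_eq_zero.1 h1 with h2 | h2
  · exact absurd h2 hc
  · exact h2

section step

variable (a : I8) (J : I8 → Prop) (hJ : ∀ k, J k → J (sw k)) (ha : ¬ J a)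

include hJ ha in
/-- one step of the reduction: a further hyperbolic pair of basis vectors is scaled -/
theorem step (hc : ∃ c, ¬ J c ∧ c ≠ a ∧ c ≠ sw a) (T : isometryGroup F ⇑(Q8 F))
    (hT : ∀ k, J k → Sc T k) :
    ∃ g ∈ E8 F, ∀ k, (J k ∨ k = a ∨ k = sw a) → Sc (g * T) k := by
  have ha' : ¬ J (sw a) := by
    intro h
    apply ha
    have := hJ _ h
    rw [sw_sw] at this
    exact this
  -- move `T (dl a)` to a multiple of `dl a`
  obtain ⟨g1, hg1, hfix1, μ, hμ, hmove1⟩ := exists_move a J hJ ha hc (L T (dl a))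
    (by rw [lin_isometry, Q8_dl]) (lin_ne_zero8 T (dl_ne_zero a))
    (vanish_of_scaled J hJ T hT a ha)
  have hT1 : ∀ k, J k → Sc (g1 * T) k := by
    intro k hk
    obtain ⟨c, hc, hck⟩ := hT k hk
    exact ⟨c, hc, by rw [lin_mul_apply, hck, map_smul, hfix1 k hk]⟩
  have hT1a : L (g1 * T) (dl a) = μ • dl a := by rw [lin_mul_apply, hmove1]
  -- move `T (dl (sw a))` to a multiple of `dl (sw a)`
  have hya : μ * (L (g1 * T) (dl (sw a))) (sw a) = 1 := by
    have := coord_of_scaled (g1 * T) a μ hT1a (dl (sw a))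
    rw [dl_self] at this
    exact this
  have hya' : (L (g1 * T) (dl (sw a))) (sw a) ≠ 0 := by
    intro h
    rw [h, mul_zero] at hya
    exact zero_ne_one hya
  obtain ⟨g2, hg2, hfix2, hfix2a, hmove2⟩ := exists_move_partner a J hJ ha
    (L (g1 * T) (dl (sw a))) (by rw [lin_isometry, Q8_dl]) hya'
    (vanish_of_scaled J hJ (g1 * T) hT1 (sw a) ha')
  refine ⟨g2 * g1, mul_mem hg2 hg1, ?_⟩
  intro k hk
  rw [mul_assoc]
  rcases hk with hk | hk | hk
  · obtain ⟨c, hc, hck⟩ := hT1 k hk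
    exact ⟨c, hc, by rw [lin_mul_apply, hck, map_smul, hfix2 k hk]⟩
  · rw [hk]
    exact ⟨μ, hμ, by rw [lin_mul_apply, hT1a, map_smul, hfix2a]⟩
  · rw [hk]
    exact ⟨_, hya', by rw [lin_mul_apply, hmove2]⟩

end step

/-- the first three hyperbolic pairs -/
def J3 (k : I8) : Prop :=
  (((False ∨ k = Sum.inl 0 ∨ k = sw (Sum.inl 0)) ∨ k = Sum.inl 1 ∨ k = sw (Sum.inl 1))
    ∨ k = Sum.inl 2 ∨ k = sw (Sum.inl 2))

theorem J3_iff : ∀ k : I8, J3 k ↔ (k ≠ Sum.inl 3 ∧ k ≠ Sum.inr 3) := by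
  unfold J3
  decide

/-- every isometry scales the first three hyperbolic pairs of basis vectors, modulo `E8` -/
theorem exists_scaled3 (T : isometryGroup F ⇑(Q8 F)) :
    ∃ g ∈ E8 F, ∀ k, J3 k → Sc (g * T) k := by
  obtain ⟨g1, hg1, h1⟩ := step (Sum.inl 0) (fun _ => False) (fun _ h => h) (fun h => h)
    ⟨Sum.inl 3, fun h => h, by decide, by decide⟩ T (fun _ h => h.elim)
  obtain ⟨g2, hg2, h2⟩ := step (Sum.inl 1)
    (fun k => False ∨ k = Sum.inl 0 ∨ k = sw (Sum.inl 0))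
    (by decide) (by decide) ⟨Sum.inl 3, by decide, by decide, by decide⟩ (g1 * T) h1
  obtain ⟨g3, hg3, h3⟩ := step (Sum.inl 2)
    (fun k => (False ∨ k = Sum.inl 0 ∨ k = sw (Sum.inl 0)) ∨ k = Sum.inl 1 ∨ k = sw (Sum.inl 1))
    (by decide) (by decide) ⟨Sum.inl 3, by decide, by decide, by decide⟩ (g2 * (g1 * T)) h2
  refine ⟨g3 * (g2 * g1), mul_mem hg3 (mul_mem hg2 hg1), ?_⟩
  intro k hk
  have : g3 * (g2 * g1) * T = g3 * (g2 * (g1 * T)) := by simp only [mul_assoc]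
  rw [this]
  exact h3 k hk

end Cfsg.Agent.Helper83.D4
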