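import Mathlib
import Cfsg.Agent.Helper83.D4Orth4

/-!
# The commutator subgroup of `O₈⁺(F)` is `E8`
-/

set_option autoImplicit false

namespace Cfsg.Agent.Helper83.D4

open Matrix Cfsg Cfsg.Lie QuadraticMap
open Cfsg.Agent.Helper5 Cfsg.Agent.Helper44 Cfsg.Agent.Helper45.OmegaParity

variable {F : Type*} [Field F]

local notation "L" => lin (Q8 F)

/-- the last hyperbolic pair -/
abbrev ia : I8 := Sum.inl 3
abbrev ib : I8 := Sum.inr 3

/-! ### the swap -/

/-- the isometry interchanging `dl ia` and `dl ib` -/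
noncomputable def swp : isometryGroup F ⇑(Q8 F) :=
  isoOfLin (Q8 F) (LinearEquiv.funCongrLeft F F (Equiv.swap ia ib)) (by
    intro v
    show quadFormPlus 4 F (v ∘ (Equiv.swap ia ib)) = quadFormPlus 4 F v
    simp only [quadFormPlus, Fin.sum_univ_four, Function.comp_apply]
    have e0 : Equiv.swap ia ib (Sum.inl 0) = Sum.inl 0 := by decide
    have e1 : Equiv.swap ia ib (Sum.inl 1) = Sum.inl 1 := by decide
    have e2 : Equiv.swap ia ib (Sum.inl 2) = Sum.inl 2 := by decide
    have e3 : Equiv.swap ia ib (Sum.inl 3) = Sum.inr 3 := by decide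
    have f0 : Equiv.swap ia ib (Sum.inr 0) = Sum.inr 0 := by decide
    have f1 : Equiv.swap ia ib (Sum.inr 1) = Sum.inr 1 := by decide
    have f2 : Equiv.swap ia ib (Sum.inr 2) = Sum.inr 2 := by decide
    have f3 : Equiv.swap ia ib (Sum.inr 3) = Sum.inl 3 := by decide
    rw [e0, e1, e2, e3, f0, f1, f2, f3]
    ring)

theorem lin_swp (x : I8 → F) : L swp x = x ∘ (Equiv.swap ia ib) := by
  unfold swp
  rw [lin_isoOfLin]
  rfl

theorem lin_swp_dl (k : I8) : L swp (dl k : I8 → F) = dl (Equiv.swap ia ib k) := by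
  rw [lin_swp]
  funext j
  rw [Function.comp_apply, dl_apply, dl_apply]
  have : (Equiv.swap ia ib j = k) = (j = Equiv.swap ia ib k) := by
    apply propext
    constructor
    · intro h
      rw [← h, Equiv.swap_apply_self]
    · intro h
      rw [h, Equiv.swap_apply_self]
  simp only [this]

theorem swap_of_J3 (k : I8) (hk : J3 k) : Equiv.swap ia ib k = k := by
  rw [J3_iff] at hk
  exact Equiv.swap_apply_of_ne_of_ne hk.1 hk.2

/-! ### the hyperbolic plane -/

theorem eq_plane (v : I8 → F) (hv : ∀ k, J3 k → v k = 0) : v = v ia • dl ia + v ib • dl ib := by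
  funext k
  by_cases hk : J3 k
  · have hk' := (J3_iff k).1 hk
    rw [hv k hk, Pi.add_apply, Pi.smul_apply, Pi.smul_apply, dl_ne hk'.1, dl_ne hk'.2]
    simp
  · rw [J3_iff, not_and_or, not_not, not_not] at hk
    rcases hk with hk | hk
    · rw [hk, Pi.add_apply, Pi.smul_apply, Pi.smul_apply, dl_self, dl_ne (by decide)]
      simp
    · rw [hk, Pi.add_apply, Pi.smul_apply, Pi.smul_apply, dl_self, dl_ne (by decide)]
      simp

theorem Q8_plane (c d : F) : Q8 F (c • dl ia + d • dl ib) = c * d := by
  have h2 : (dl ib : I8 → F) (sw ia) = 1 := dl_self _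
  rw [QuadraticMap.map_add ⇑(Q8 F), Q8_smul_dl, Q8_smul_dl, QuadraticMap.polar_smul_left,
    QuadraticMap.polar_smul_right, polar_dl, h2]
  simp

theorem polar_plane (c d c' d' : F) :
    polar ⇑(Q8 F) (c • dl ia + d • dl ib) (c' • dl ia + d' • dl ib) = c * d' + d * c' := by
  simp only [QuadraticMap.polar_add_left, QuadraticMap.polar_add_right,
    QuadraticMap.polar_smul_left, QuadraticMap.polar_smul_right, polar_dl, smul_eq_mul]
  have h1 : (dl ia : I8 → F) (sw ia) = 0 := dl_ne (by decide)
  have h2 : (dl ib : I8 → F) (sw ia) = 1 := dl_self _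
  have h3 : (dl ia : I8 → F) (sw ib) = 1 := dl_self _
  have h4 : (dl ib : I8 → F) (sw ib) = 0 := dl_ne (by decide)
  rw [h1, h2, h3, h4]
  ring

theorem J3_sw : ∀ k : I8, J3 k → J3 (sw k) := by
  unfold J3
  decide

/-- every isometry is diagonal or a diagonal times the swap, modulo `E8` -/
theorem exists_diag_or_swap (T : isometryGroup F ⇑(Q8 F)) :
    ∃ g ∈ E8 F, (∀ k, Sc (g * T) k) ∨ (∀ k, Sc (g * T * swp) k) := by
  obtain ⟨g, hg, hsc⟩ := exists_scaled3 T
  refine ⟨g, hg, ?_⟩
  set M := g * T with hM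
  have hna : ¬ J3 ia := by rw [J3_iff]; simp
  have hnb : ¬ J3 ib := by rw [J3_iff]; simp
  have hx := eq_plane (L M (dl ia)) (vanish_of_scaled J3 J3_sw M hsc ia hna)
  have hy := eq_plane (L M (dl ib)) (vanish_of_scaled J3 J3_sw M hsc ib hnb)
  set xa := (L M (dl ia)) ia with hxa
  set xb := (L M (dl ia)) ib with hxb
  set ya := (L M (dl ib)) ia with hya
  set yb := (L M (dl ib)) ib with hyb
  have hQx : xa * xb = 0 := by
    have : Q8 F (L M (dl ia)) = 0 := by rw [lin_isometry, Q8_dl]
    rw [hx, Q8_plane] at this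
    exact this
  have hQy : ya * yb = 0 := by
    have : Q8 F (L M (dl ib)) = 0 := by rw [lin_isometry, Q8_dl]
    rw [hy, Q8_plane] at this
    exact this
  have hpol : xa * yb + xb * ya = 1 := by
    have : polar ⇑(Q8 F) (L M (dl ia)) (L M (dl ib)) = 1 := by
      rw [polar_lin, polar_dl]
      exact dl_self _
    rw [hx, hy, polar_plane] at this
    exact this
  by_cases hxa0 : xa = 0
  · -- the swap case
    right
    have h1 : xb * ya = 1 := by rw [hxa0, zero_mul, zero_add] at hpol; exact hpol
    have hxb0 : xb ≠ 0 := by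
      intro h
      rw [h, zero_mul] at h1
      exact zero_ne_one h1
    have hya0 : ya ≠ 0 := by
      intro h
      rw [h, mul_zero] at h1
      exact zero_ne_one h1
    have hyb0 : yb = 0 := by
      rcases mul_eq_zero.1 hQy with h | h
      · exact absurd h hya0
      · exact h
    intro k
    by_cases hk : J3 k
    · obtain ⟨c, hc, hck⟩ := hsc k hk
      refine ⟨c, hc, ?_⟩
      rw [lin_mul_apply, lin_swp_dl, swap_of_J3 k hk, hck]
    · rw [J3_iff, not_and_or, not_not, not_not] at hk
      rcases hk with hk | hk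
      · rw [hk]
        refine ⟨ya, hya0, ?_⟩
        rw [lin_mul_apply, lin_swp_dl, Equiv.swap_apply_left, hy, hyb0, zero_smul, add_zero]
      · rw [hk]
        refine ⟨xb, hxb0, ?_⟩
        rw [lin_mul_apply, lin_swp_dl, Equiv.swap_apply_right, hx, hxa0, zero_smul, zero_add]
  · -- the diagonal case
    left
    have hxb0 : xb = 0 := by
      rcases mul_eq_zero.1 hQx with h | h
      · exact absurd h hxa0
      · exact h
    have h1 : xa * yb = 1 := by rw [hxb0, zero_mul, add_zero] at hpol; exact hpol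
    have hyb0 : yb ≠ 0 := by
      intro h
      rw [h, mul_zero] at h1
      exact zero_ne_one h1
    have hya0 : ya = 0 := by
      rcases mul_eq_zero.1 hQy with h | h
      · exact h
      · exact absurd h hyb0
    intro k
    by_cases hk : J3 k
    · exact hsc k hk
    · rw [J3_iff, not_and_or, not_not, not_not] at hk
      rcases hk with hk | hk
      · rw [hk]
        refine ⟨xa, hxa0, ?_⟩
        rw [hx, hxb0, zero_smul, add_zero]
      · rw [hk]
        refine ⟨yb, hyb0, ?_⟩
        rw [hy, hya0, zero_smul, zero_add]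

end Cfsg.Agent.Helper83.D4
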