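import Mathlib
import Cfsg.Agent.Helper83.D4Orth5

/-!
# `Ω₈⁺(F) = E8`
-/

set_option autoImplicit false

namespace Cfsg.Agent.Helper83.D4

open Matrix Cfsg Cfsg.Lie QuadraticMap
open Cfsg.Agent.Helper5 Cfsg.Agent.Helper44 Cfsg.Agent.Helper45.OmegaParity
open scoped commutatorElement

variable {F : Type*} [Field F]

local notation "L" => lin (Q8 F)

/-- the auxiliary index for the torus elements -/
abbrev ip : I8 := Sum.inl 2

/-- a diagonal isometry scaling `dl ia` by a square and fixing the first three hyperbolic pairs lies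
in `E8` -/
theorem dsq_mem (N : isometryGroup F ⇑(Q8 F)) (c : F) (hc : c ≠ 0)
    (h1 : ∀ k, J3 k → L N (dl k) = dl k) (h2 : L N (dl ia) = (c * c) • dl ia)
    (h3 : L N (dl ib) = (c⁻¹ * c⁻¹) • dl ib) : N ∈ E8 F := by
  have hN : N = tor ip ia (by decide) (by decide) c hc
      * tor ip ib (by decide) (by decide) c⁻¹ (inv_ne_zero hc) := by
    apply isom_ext_basis
    intro k
    rw [lin_mul_apply, lin_tor_dl, map_smul, lin_tor_dl, smul_smul]
    by_cases hk : J3 k
    · rw [h1 k hk]
      have hk' := (J3_iff k).1 hk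
      by_cases hkp : k = ip
      · subst hkp
        have e1 : torCoef ip ib c⁻¹ ip = c⁻¹ := by
          unfold torCoef
          rw [if_pos (Or.inl rfl)]
        have e2 : torCoef ip ia c ip = c := by
          unfold torCoef
          rw [if_pos (Or.inl rfl)]
        rw [e1, e2, inv_mul_cancel₀ hc, one_smul]
      · by_cases hkp' : k = sw ip
        · subst hkp'
          have e1 : torCoef ip ib c⁻¹ (sw ip) = c⁻¹⁻¹ := by
            unfold torCoef
            rw [if_neg (by decide), if_pos (Or.inl rfl)]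
          have e2 : torCoef ip ia c (sw ip) = c⁻¹ := by
            unfold torCoef
            rw [if_neg (by decide), if_pos (Or.inl rfl)]
          rw [e1, e2, inv_inv, mul_inv_cancel₀ hc, one_smul]
        · have hka : k ≠ sw ia := hk'.2
          have hkb : k ≠ sw ib := hk'.1
          have e1 : torCoef ip ib c⁻¹ k = 1 := by
            unfold torCoef
            rw [if_neg (by tauto), if_neg (by tauto)]
          have e2 : torCoef ip ia c k = 1 := by
            unfold torCoef
            rw [if_neg (by tauto), if_neg (by tauto)]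
          rw [e1, e2, one_mul, one_smul]
    · rw [J3_iff, not_and_or, not_not, not_not] at hk
      rcases hk with hk | hk
      · rw [hk, h2]
        have e1 : torCoef ip ib c⁻¹ ia = c⁻¹⁻¹ := by
          unfold torCoef
          rw [if_neg (by decide), if_pos (Or.inr (by decide))]
        have e2 : torCoef ip ia c ia = c := by
          unfold torCoef
          rw [if_pos (Or.inr rfl)]
        rw [e1, e2, inv_inv]
      · rw [hk, h3]
        have e1 : torCoef ip ib c⁻¹ ib = c⁻¹ := by
          unfold torCoef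
          rw [if_pos (Or.inr rfl)]
        have e2 : torCoef ip ia c ib = c⁻¹ := by
          unfold torCoef
          rw [if_neg (by decide), if_pos (Or.inr (by decide))]
        rw [e1, e2]
  rw [hN]
  exact mul_mem (tor_mem _ _ _ _ _ _) (tor_mem _ _ _ _ _ _)

/-- diagonal isometries commute -/
theorem diag_commute (D D' : isometryGroup F ⇑(Q8 F)) (hD : ∀ k, Sc D k) (hD' : ∀ k, Sc D' k) :
    D * D' = D' * D := by
  apply isom_ext_basis
  intro k
  obtain ⟨c, -, hc⟩ := hD k
  obtain ⟨c', -, hc'⟩ := hD' k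
  rw [lin_mul_apply, lin_mul_apply, hc, hc', map_smul, map_smul, hc, hc', smul_smul, smul_smul,
    mul_comm]

/-- the swap commutes with the diagonal isometries modulo `E8` -/
theorem comm_swp_diag (D : isometryGroup F ⇑(Q8 F)) (hD : ∀ k, Sc D k) :
    (D * swp)⁻¹ * (swp * D) ∈ E8 F := by
  obtain ⟨ca, hca, hDa⟩ := hD ia
  obtain ⟨cb, hcb, hDb⟩ := hD ib
  have hab : ca * cb = 1 := by
    have : polar ⇑(Q8 F) (L D (dl ia)) (L D (dl ib)) = 1 := by
      rw [polar_lin, polar_dl]
      exact dl_self _
    rw [hDa, hDb, QuadraticMap.polar_smul_left, QuadraticMap.polar_smul_right, polar_dl] at this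
    have h2 : (dl ib : I8 → F) (sw ia) = 1 := dl_self _
    rw [h2] at this
    simpa [mul_comm] using this
  have hcb' : cb = ca⁻¹ := eq_inv_of_mul_eq_one_right hab
  have hDSa : L (D * swp) (dl ia) = cb • dl ib := by
    rw [lin_mul_apply, lin_swp_dl, Equiv.swap_apply_left, hDb]
  have hDSb : L (D * swp) (dl ib) = ca • dl ia := by
    rw [lin_mul_apply, lin_swp_dl, Equiv.swap_apply_right, hDa]
  apply dsq_mem _ ca hca
  · intro k hk
    obtain ⟨c, hc, hck⟩ := hD k
    have h1 : L (D * swp) (dl k) = c • dl k := by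
      rw [lin_mul_apply, lin_swp_dl, swap_of_J3 k hk, hck]
    rw [lin_mul_apply, lin_mul_apply, hck, map_smul, lin_swp_dl, swap_of_J3 k hk, map_smul,
      lin_inv_of_scaled (D * swp) k k c hc h1, smul_smul, mul_inv_cancel₀ hc, one_smul]
  · rw [lin_mul_apply, lin_mul_apply, hDa, map_smul, lin_swp_dl, Equiv.swap_apply_left, map_smul,
      lin_inv_of_scaled (D * swp) ia ib cb hcb hDSa, smul_smul, hcb', inv_inv]
  · rw [lin_mul_apply, lin_mul_apply, hDb, map_smul, lin_swp_dl, Equiv.swap_apply_right, map_smul,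
      lin_inv_of_scaled (D * swp) ib ia ca hca hDSb, smul_smul, hcb']

/-- the commutator subgroup of the orthogonal group lies in `E8` -/
theorem commutator_le_E8 : commutator (isometryGroup F ⇑(Q8 F)) ≤ E8 F := by
  rw [commutator_def, Subgroup.commutator_le]
  intro T _ T' _
  rw [← QuotientGroup.eq_one_iff (N := E8 F)]
  set π : isometryGroup F ⇑(Q8 F) → isometryGroup F ⇑(Q8 F) ⧸ E8 F := fun x => (x : _) with hπ
  have hπmul : ∀ x y, π (x * y) = π x * π y := fun x y => QuotientGroup.mk_mul _ x y
  have hπinv : ∀ x, π x⁻¹ = (π x)⁻¹ := fun x => QuotientGroup.mk_inv _ x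
  have hπE : ∀ g ∈ E8 F, π g = 1 := fun g hg => (QuotientGroup.eq_one_iff g).2 hg
  -- the structure of the images
  have hstruct : ∀ T : isometryGroup F ⇑(Q8 F), ∃ D : isometryGroup F ⇑(Q8 F), (∀ k, Sc D k) ∧
      (π T = π D ∨ π T = π D * (π swp)⁻¹) := by
    intro T
    obtain ⟨g, hg, h | h⟩ := exists_diag_or_swap T
    · refine ⟨g * T, h, Or.inl ?_⟩
      rw [hπmul, hπE g hg, one_mul]
    · refine ⟨g * T * swp, h, Or.inr ?_⟩
      rw [hπmul, hπmul, hπE g hg, one_mul, mul_assoc, mul_inv_cancel, mul_one]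
  have hDD : ∀ D D' : isometryGroup F ⇑(Q8 F), (∀ k, Sc D k) → (∀ k, Sc D' k) →
      Commute (π D) (π D') := by
    intro D D' hD hD'
    show π D * π D' = π D' * π D
    rw [← hπmul, ← hπmul, diag_commute D D' hD hD']
  have hSD : ∀ D : isometryGroup F ⇑(Q8 F), (∀ k, Sc D k) → Commute (π swp) (π D) := by
    intro D hD
    show π swp * π D = π D * π swp
    rw [← hπmul, ← hπmul]
    exact (QuotientGroup.eq.2 (comm_swp_diag D hD)).symm
  obtain ⟨D, hD, hT⟩ := hstruct T
  obtain ⟨D', hD', hT'⟩ := hstruct T'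
  have hcomm : Commute (π T) (π T') := by
    rcases hT with hT | hT <;> rcases hT' with hT' | hT' <;> rw [hT, hT']
    · exact hDD D D' hD hD'
    · exact (hDD D D' hD hD').mul_right ((hSD D hD).symm.inv_right)
    · exact (hDD D D' hD hD').mul_left ((hSD D' hD').inv_left)
    · exact ((hDD D D' hD hD').mul_right ((hSD D hD).symm.inv_right)).mul_left
        (((hSD D' hD').inv_left).mul_right ((Commute.refl (π swp)).inv_inv))
  show π ⁅T, T'⁆ = 1
  rw [commutatorElement_def, hπmul, hπmul, hπmul, hπinv, hπinv, hcomm.eq]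
  group

/-- **`Ω₈⁺(F)` is the image of `G`** -/
theorem E8_eq_commutator : E8 F = commutator (isometryGroup F ⇑(Q8 F)) :=
  le_antisymm E8_le_commutator commutator_le_E8

end Cfsg.Agent.Helper83.D4
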