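import Mathlib
import Cfsg.Agent.Helper83.D4Orth6

/-!
# `D₄(F) ≅ PΩ₈⁺(F)`
-/

set_option autoImplicit false

namespace Cfsg.Agent.Helper83.D4

open Matrix Cfsg Cfsg.Lie QuadraticMap
open Cfsg.Agent.Helper5 Cfsg.Agent.Helper44 Cfsg.Agent.Helper45.OmegaParity

variable {F : Type*} [Field F]

/-- the adjoint representation, with values in the general linear group of the coordinate module
of `chevD4` -/
noncomputable def AdC : G F →* GL chevD4.Idx F := Ad

theorem AdC_xh (r : Fin 24) (t : F) :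
    ((AdC ⟨xh r t, xh_mem r t⟩ : GL chevD4.Idx F) : Matrix chevD4.Idx chevD4.Idx F)
      = chevD4.xMat F r t := Ad_xh r t

theorem AdC_mem (g : G F) : AdC g ∈ chevD4.group F := by
  obtain ⟨x, hx⟩ := g
  refine Subgroup.closure_induction
    (p := fun x hx => AdC (⟨x, hx⟩ : G F) ∈ chevD4.group F) ?_ ?_ ?_ ?_ hx
  · rintro x ⟨r, t, rfl⟩
    exact Subgroup.subset_closure ⟨r, t, AdC_xh r t⟩
  · have : (⟨1, one_mem (G F)⟩ : G F) = 1 := rfl
    show AdC (⟨1, one_mem (G F)⟩ : G F) ∈ _
    rw [this, map_one]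
    exact one_mem _
  · intro x y hx hy ihx ihy
    have : (⟨x * y, mul_mem hx hy⟩ : G F) = ⟨x, hx⟩ * ⟨y, hy⟩ := rfl
    rw [this, map_mul]
    exact mul_mem ihx ihy
  · intro x hx ihx
    have : (⟨x⁻¹, inv_mem hx⟩ : G F) = ⟨x, hx⟩⁻¹ := rfl
    rw [this, map_inv]
    exact inv_mem ihx

theorem AdC_range : (AdC (F := F)).range = chevD4.group F := by
  apply le_antisymm
  · rintro _ ⟨g, rfl⟩
    exact AdC_mem g
  · unfold ChevalleyDatum.group
    rw [Subgroup.closure_le]
    rintro g ⟨r, t, hg⟩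
    refine ⟨⟨xh r t, xh_mem r t⟩, ?_⟩
    apply Units.ext
    rw [hg]
    exact AdC_xh r t

theorem rho_range : (rho (F := F)).range = Omega F (quadFormPlus 4 F) :=
  E8_eq_commutator

theorem rho_mem_Omega (g : G F) : rho g ∈ Omega F (quadFormPlus 4 F) := by
  rw [← rho_range]
  exact ⟨g, rfl⟩

/-- the orthogonal representation with values in `Ω₈⁺(F)` -/
noncomputable def rhoΩ : G F →* ↥(Omega F (quadFormPlus 4 F)) :=
  (rho (F := F)).codRestrict _ rho_mem_Omega

theorem rhoΩ_surjective : Function.Surjective (rhoΩ (F := F)) := by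
  rintro ⟨z, hz⟩
  rw [← rho_range] at hz
  obtain ⟨g, hg⟩ := hz
  exact ⟨g, Subtype.ext hg⟩

/-- the projective orthogonal representation -/
noncomputable def psi : G F →* POmega F (quadFormPlus 4 F) :=
  (QuotientGroup.mk' (Subgroup.center (Omega F (quadFormPlus 4 F)))).comp rhoΩ

theorem psi_surjective : Function.Surjective (psi (F := F)) :=
  (QuotientGroup.mk'_surjective _).comp rhoΩ_surjective

theorem psi_ker : (psi (F := F)).ker = (AdC (F := F)).ker := by
  ext g
  rw [MonoidHom.mem_ker, MonoidHom.mem_ker]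
  show ((rhoΩ g : ↥(Omega F (quadFormPlus 4 F))) :
      ↥(Omega F (quadFormPlus 4 F)) ⧸ Subgroup.center (Omega F (quadFormPlus 4 F))) = 1 ↔ Ad g = 1
  rw [QuotientGroup.eq_one_iff, Subgroup.mem_center_iff, Ad_eq_one_iff_central]
  constructor
  · intro h k
    have h1 := h (rhoΩ k)
    have h2 : rho k * rho g = rho g * rho k := congrArg Subtype.val h1
    rw [map_mul, map_mul, map_mul, map_inv, map_inv, ← h2]
    group
  · intro h z
    obtain ⟨k, rfl⟩ := rhoΩ_surjective z
    apply Subtype.ext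
    show rho k * rho g = rho g * rho k
    have h1 := h k
    rw [map_mul, map_mul, map_mul, map_inv, map_inv] at h1
    have h2 : rho g * rho k = rho k * rho g := by
      have := congrArg (fun x => x * rho k * rho g) h1
      simpa [mul_assoc] using this
    exact h2.symm

/-- **`D₄(F) ≅ PΩ₈⁺(F)`** over every field -/
theorem chevD4_equiv_POmega :
    Nonempty (↥(chevD4.group F) ≃* POmega F (quadFormPlus 4 F)) := by
  have e1 : ↥(chevD4.group F) ≃* ↥(AdC (F := F)).range :=
    MulEquiv.subgroupCongr AdC_range.symm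
  have e2 : ↥(AdC (F := F)).range ≃* G F ⧸ (AdC (F := F)).ker :=
    (QuotientGroup.quotientKerEquivRange AdC).symm
  have e3 : G F ⧸ (AdC (F := F)).ker ≃* G F ⧸ (psi (F := F)).ker :=
    QuotientGroup.quotientMulEquivOfEq psi_ker.symm
  have e4 : G F ⧸ (psi (F := F)).ker ≃* POmega F (quadFormPlus 4 F) :=
    QuotientGroup.quotientKerEquivOfSurjective psi psi_surjective
  exact ⟨e1.trans (e2.trans (e3.trans e4))⟩

end Cfsg.Agent.Helper83.D4
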