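import Mathlib
import Cfsg.Prelude.Def_E6

/-!
# Tables for the 27-dimensional module of E₆ (generated)

`mons` lists the 45 signed monomials of `cubicT`; `rowTab` gives, for each root index `r` of `chevE6`
and each coordinate `a`, the unique non-zero entry `(b, s)` of row `a` of the root vector `E_r`
(if there is one).
-/

set_option autoImplicit false

namespace Cfsg.Agent.Helper83.E6C

open Cfsg.Lie

/-- all 27 coordinates, in the order of their codes -/
def allI27 : List I27 := [(0,0,0), (0,0,1), (0,0,2), (0,1,0), (0,1,1), (0,1,2), (0,2,0), (0,2,1), (0,2,2), (1,0,0), (1,0,1), (1,0,2), (1,1,0), (1,1,1), (1,1,2), (1,2,0), (1,2,1), (1,2,2), (2,0,0), (2,0,1), (2,0,2), (2,1,0), (2,1,1), (2,1,2), (2,2,0), (2,2,1), (2,2,2)]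

/-- the code of a coordinate -/
def enc (a : I27) : ℕ := 9 * a.1.val + 3 * a.2.1.val + a.2.2.val

/-- the 45 signed monomials of the cubic form -/
def mons : List (I27 × I27 × I27 × ℤ) := [((0,0,0), (0,1,1), (0,2,2), 1), ((0,0,0), (0,1,2), (0,2,1), -1), ((0,0,1), (0,1,0), (0,2,2), -1), ((0,0,1), (0,1,2), (0,2,0), 1), ((0,0,2), (0,1,0), (0,2,1), 1), ((0,0,2), (0,1,1), (0,2,0), -1), ((1,0,0), (1,1,1), (1,2,2), 1), ((1,0,0), (1,1,2), (1,2,1), -1), ((1,0,1), (1,1,0), (1,2,2), -1), ((1,0,1), (1,1,2), (1,2,0), 1), ((1,0,2), (1,1,0), (1,2,1), 1), ((1,0,2), (1,1,1), (1,2,0), -1), ((2,0,0), (2,1,1), (2,2,2), 1), ((2,0,0), (2,1,2), (2,2,1), -1), ((2,0,1), (2,1,0), (2,2,2), -1), ((2,0,1), (2,1,2), (2,2,0), 1), ((2,0,2), (2,1,0), (2,2,1), 1), ((2,0,2), (2,1,1), (2,2,0), -1), ((0,0,0), (1,0,0), (2,0,0), -1), ((0,0,0), (1,0,1), (2,1,0), -1), ((0,0,0), (1,0,2), (2,2,0), -1), ((0,0,1), (1,1,0), (2,0,0), -1), ((0,0,1), (1,1,1), (2,1,0), -1), ((0,0,1), (1,1,2), (2,2,0), -1), ((0,0,2), (1,2,0), (2,0,0), -1), ((0,0,2), (1,2,1), (2,1,0), -1), ((0,0,2), (1,2,2), (2,2,0), -1), ((0,1,0), (1,0,0), (2,0,1), -1), ((0,1,0), (1,0,1), (2,1,1), -1), ((0,1,0),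 (1,0,2), (2,2,1), -1), ((0,1,1), (1,1,0), (2,0,1), -1), ((0,1,1), (1,1,1), (2,1,1), -1), ((0,1,1), (1,1,2), (2,2,1), -1), ((0,1,2), (1,2,0), (2,0,1), -1), ((0,1,2), (1,2,1), (2,1,1), -1), ((0,1,2), (1,2,2), (2,2,1), -1), ((0,2,0), (1,0,0), (2,0,2), -1), ((0,2,0), (1,0,1), (2,1,2), -1), ((0,2,0), (1,0,2), (2,2,2), -1), ((0,2,1), (1,1,0), (2,0,2), -1), ((0,2,1), (1,1,1), (2,1,2), -1), ((0,2,1), (1,1,2), (2,2,2), -1), ((0,2,2), (1,2,0), (2,0,2), -1), ((0,2,2), (1,2,1), (2,1,2), -1), ((0,2,2), (1,2,2), (2,2,2), -1)]

/-- rows of the root vector 0 -/
def row0 : List (Option (I27 × ℤ)) := [some ((1,1,1), -1), some ((1,0,1), 1), none, none, none, none, none, none, none, none, none, none, none, none, none, some ((2,2,0), 1), none, some ((2,0,0), -1), none, none, none, none, some ((0,2,2), -1), some ((0,1,2), 1), none, none, none]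

/-- rows of the root vector 1 -/
def row1 : List (Option (I27 × ℤ)) := [some ((1,1,0), 1), some ((1,0,0), -1), none, none, none, none, none, none, none, none, none, none, none, none, none, none, some ((2,2,0), 1), some ((2,1,0), -1), none, some ((0,2,2), 1), some ((0,1,2), -1), none, none, none, none, none, none]

/-- rows of the root vector 2 -/
def row2 : List (Option (I27 × ℤ)) := [some ((2,2,1), 1), none, none, some ((2,2,0), -1), none, none, none, none, none, none, none, none, none, none, some ((0,2,2), 1), none, none, some ((0,2,1), -1), none, none, some ((1,0,1), 1), none, none, some ((1,0,0), -1), none, none, none]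

/-- rows of the root vector 3 -/
def row3 : List (Option (I27 × ℤ)) := [some ((0,0,2), -1), none, none, some ((0,1,2), -1), none, none, some ((0,2,2), -1), none, none, none, none, none, none, none, none, some ((1,0,0), 1), some ((1,0,1), 1), some ((1,0,2), 1), none, none, none, none, none, none, none, none, none]

/-- rows of the root vector 4 -/
def row4 : List (Option (I27 × ℤ)) := [some ((2,2,2), 1), none, none, none, none, none, some ((2,2,0), -1), none, none, none, none, none, none, none, some ((0,1,2), -1), none, none, some ((0,1,1), 1), none, some ((1,0,1), -1), none, none, some ((1,0,0), 1), none, none, none, none]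

/-- rows of the root vector 5 -/
def row5 : List (Option (I27 × ℤ)) := [none, some ((2,2,1), 1), none, none, some ((2,2,0), -1), none, none, none, none, none, none, some ((0,2,2), -1), none, none, none, none, none, some ((0,2,0), 1), none, none, some ((1,1,1), 1), none, none, some ((1,1,0), -1), none, none, none]

/-- rows of the root vector 6 -/
def row6 : List (Option (I27 × ℤ)) := [none, some ((0,0,2), -1), none, none, some ((0,1,2), -1), none, none, some ((0,2,2), -1), none, none, none, none, none, none, none, some ((1,1,0), 1), some ((1,1,1), 1), some ((1,1,2), 1), none, none, none, none, none, none, none, none, none]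

/-- rows of the root vector 7 -/
def row7 : List (Option (I27 × ℤ)) := [none, some ((2,2,2), 1), none, none, none, none, none, some ((2,2,0), -1), none, none, none, some ((0,1,2), 1), none, none, none, none, none, some ((0,1,0), -1), none, some ((1,1,1), -1), none, none, some ((1,1,0), 1), none, none, none, none]

/-- rows of the root vector 8 -/
def row8 : List (Option (I27 × ℤ)) := [none, none, none, some ((1,1,1), -1), some ((1,0,1), 1), none, none, none, none, none, none, none, none, none, none, some ((2,2,1), 1), none, some ((2,0,1), -1), none, none, none, some ((0,2,2), 1), none, some ((0,0,2), -1), none, none, none]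

/-- rows of the root vector 9 -/
def row9 : List (Option (I27 × ℤ)) := [none, none, none, none, none, none, none, none, none, none, none, some ((1,0,1), -1), none, none, some ((1,1,1), -1), none, none, some ((1,2,1), -1), none, none, none, some ((2,2,0), 1), some ((2,2,1), 1), some ((2,2,2), 1), none, none, none]

/-- rows of the root vector 10 -/
def row10 : List (Option (I27 × ℤ)) := [none, none, none, none, none, none, some ((1,1,1), 1), some ((1,0,1), -1), none, none, none, none, none, none, none, some ((2,2,2), -1), none, some ((2,0,2), 1), none, none, none, some ((0,1,2), 1), some ((0,0,2), -1), none, none, none, none]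

/-- rows of the root vector 11 -/
def row11 : List (Option (I27 × ℤ)) := [none, none, none, some ((1,1,0), 1), some ((1,0,0), -1), none, none, none, none, none, none, none, none, none, none, none, some ((2,2,1), 1), some ((2,1,1), -1), some ((0,2,2), -1), none, some ((0,0,2), 1), none, none, none, none, none, none]

/-- rows of the root vector 12 -/
def row12 : List (Option (I27 × ℤ)) := [none, none, none, none, none, none, none, none, none, none, none, some ((1,0,0), 1), none, none, some ((1,1,0), 1), none, none, some ((1,2,0), 1), some ((2,2,0), -1), some ((2,2,1), -1), some ((2,2,2), -1), none, none, none, none, none, none]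

/-- rows of the root vector 13 -/
def row13 : List (Option (I27 × ℤ)) := [none, none, none, none, none, none, some ((1,1,0), -1), some ((1,0,0), 1), none, none, none, none, none, none, none, none, some ((2,2,2), -1), some ((2,1,2), 1), some ((0,1,2), -1), some ((0,0,2), 1), none, none, none, none, none, none, none]

/-- rows of the root vector 14 -/
def row14 : List (Option (I27 × ℤ)) := [none, none, none, some ((2,2,2), 1), none, none, some ((2,2,1), -1), none, none, none, none, none, none, none, some ((0,0,2), 1), none, none, some ((0,0,1), -1), some ((1,0,1), 1), none, none, some ((1,0,0), -1), none, none, none, none, none]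

/-- rows of the root vector 15 -/
def row15 : List (Option (I27 × ℤ)) := [none, none, none, none, some ((2,2,2), 1), none, none, some ((2,2,1), -1), none, none, none, some ((0,0,2), -1), none, none, none, none, none, some ((0,0,0), 1), some ((1,1,1), 1), none, none, some ((1,1,0), -1), none, none, none, none, none]

/-- rows of the root vector 16 -/
def row16 : List (Option (I27 × ℤ)) := [some ((0,2,0), 1), some ((0,2,1), 1), some ((0,2,2), 1), none, none, none, none, none, none, none, none, none, none, none, none, none, none, none, none, none, some ((2,0,0), -1), none, none, some ((2,1,0), -1), none, none, some ((2,2,0), -1)]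

/-- rows of the root vector 17 -/
def row17 : List (Option (I27 × ℤ)) := [some ((1,1,2), 1), some ((1,0,2), -1), none, none, none, none, none, none, none, none, none, none, none, none, none, some ((2,1,0), 1), some ((2,0,0), -1), none, none, none, none, none, none, none, none, some ((0,2,2), 1), some ((0,1,2), -1)]

/-- rows of the root vector 18 -/
def row18 : List (Option (I27 × ℤ)) := [some ((0,1,0), -1), some ((0,1,1), -1), some ((0,1,2), -1), none, none, none, none, none, none, none, none, none, none, none, none, none, none, none, none, some ((2,0,0), 1), none, none, some ((2,1,0), 1), none, none, some ((2,2,0), 1), none]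

/-- rows of the root vector 19 -/
def row19 : List (Option (I27 × ℤ)) := [some ((2,0,1), -1), none, none, some ((2,0,0), 1), none, none, none, none, none, none, none, none, some ((0,2,2), -1), none, none, some ((0,2,1), 1), none, none, none, none, none, none, none, some ((1,0,2), -1), none, none, some ((1,0,1), 1)]

/-- rows of the root vector 20 -/
def row20 : List (Option (I27 × ℤ)) := [some ((1,2,1), -1), none, some ((1,0,1), 1), none, none, none, none, none, none, none, none, none, some ((2,2,0), -1), none, some ((2,0,0), 1), none, none, none, none, none, none, none, some ((0,2,1), 1), some ((0,1,1), -1), none, none, none]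

/-- rows of the root vector 21 -/
def row21 : List (Option (I27 × ℤ)) := [some ((2,0,2), 1), none, none, none, none, none, some ((2,0,0), -1), none, none, none, none, none, some ((0,1,2), -1), none, none, some ((0,1,1), 1), none, none, none, none, none, none, some ((1,0,2), -1), none, none, some ((1,0,1), 1), none]

/-- rows of the root vector 22 -/
def row22 : List (Option (I27 × ℤ)) := [none, some ((2,0,1), -1), none, none, some ((2,0,0), 1), none, none, none, none, some ((0,2,2), 1), none, none, none, none, none, some ((0,2,0), -1), none, none, none, none, none, none, none, some ((1,1,2), -1), none, none, some ((1,1,1), 1)]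

/-- rows of the root vector 23 -/
def row23 : List (Option (I27 × ℤ)) := [none, some ((1,2,1), -1), some ((1,1,1), 1), none, none, none, none, none, none, some ((2,2,0), 1), none, some ((2,0,0), -1), none, none, none, none, none, none, none, none, none, none, some ((0,2,0), -1), some ((0,1,0), 1), none, none, none]

/-- rows of the root vector 24 -/
def row24 : List (Option (I27 × ℤ)) := [none, some ((2,0,2), 1), none, none, none, none, none, some ((2,0,0), -1), none, some ((0,1,2), 1), none, none, none, none, none, some ((0,1,0), -1), none, none, none, none, none, none, some ((1,1,2), -1), none, none, some ((1,1,1), 1), none]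

/-- rows of the root vector 25 -/
def row25 : List (Option (I27 × ℤ)) := [none, none, none, none, none, none, none, none, none, some ((1,0,1), -1), none, none, some ((1,1,1), -1), none, none, some ((1,2,1), -1), none, none, none, none, none, some ((2,0,0), 1), some ((2,0,1), 1), some ((2,0,2), 1), none, none, none]

/-- rows of the root vector 26 -/
def row26 : List (Option (I27 × ℤ)) := [some ((2,1,1), -1), none, none, some ((2,1,0), 1), none, none, none, none, none, none, none, none, none, some ((0,2,2), -1), none, none, some ((0,2,1), 1), none, none, none, some ((1,0,2), 1), none, none, none, none, none, some ((1,0,0), -1)]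

/-- rows of the root vector 27 -/
def row27 : List (Option (I27 × ℤ)) := [some ((1,2,0), 1), none, some ((1,0,0), -1), none, none, none, none, none, none, none, none, none, none, some ((2,2,0), -1), some ((2,1,0), 1), none, none, none, none, some ((0,2,1), -1), some ((0,1,1), 1), none, none, none, none, none, none]

/-- rows of the root vector 28 -/
def row28 : List (Option (I27 × ℤ)) := [some ((2,1,2), 1), none, none, none, none, none, some ((2,1,0), -1), none, none, none, none, none, none, some ((0,1,2), -1), none, none, some ((0,1,1), 1), none, none, some ((1,0,2), 1), none, none, none, none, none, some ((1,0,0), -1), none]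

/-- rows of the root vector 29 -/
def row29 : List (Option (I27 × ℤ)) := [some ((0,0,1), -1), none, none, some ((0,1,1), -1), none, none, some ((0,2,1), -1), none, none, none, none, none, some ((1,0,0), 1), some ((1,0,1), 1), some ((1,0,2), 1), none, none, none, none, none, none, none, none, none, none, none, none]

/-- rows of the root vector 30 -/
def row30 : List (Option (I27 × ℤ)) := [none, some ((2,1,1), 1), none, none, some ((2,1,0), -1), none, none, none, none, none, some ((0,2,2), -1), none, none, none, none, none, some ((0,2,0), 1), none, none, none, some ((1,1,2), -1), none, none, none, none, none, some ((1,1,0), 1)]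

/-- rows of the root vector 31 -/
def row31 : List (Option (I27 × ℤ)) := [none, some ((1,2,0), -1), some ((1,1,0), 1), none, none, none, none, none, none, none, some ((2,2,0), -1), some ((2,1,0), 1), none, none, none, none, none, none, none, some ((0,2,0), -1), some ((0,1,0), 1), none, none, none, none, none, none]

/-- rows of the root vector 32 -/
def row32 : List (Option (I27 × ℤ)) := [none, some ((2,1,2), -1), none, none, none, none, none, some ((2,1,0), 1), none, none, some ((0,1,2), -1), none, none, none, none, none, some ((0,1,0), 1), none, none, some ((1,1,2), -1), none, none, none, none, none, some ((1,1,0), 1), none]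

/-- rows of the root vector 33 -/
def row33 : List (Option (I27 × ℤ)) := [none, none, none, some ((0,2,0), 1), some ((0,2,1), 1), some ((0,2,2), 1), none, none, none, none, none, none, none, none, none, none, none, none, none, none, some ((2,0,1), -1), none, none, some ((2,1,1), -1), none, none, some ((2,2,1), -1)]

/-- rows of the root vector 34 -/
def row34 : List (Option (I27 × ℤ)) := [none, none, some ((2,2,1), -1), none, none, some ((2,2,0), 1), none, none, none, none, none, some ((0,2,1), -1), none, none, some ((0,2,0), 1), none, none, none, none, none, some ((1,2,1), -1), none, none, some ((1,2,0), 1), none, none, none]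

/-- rows of the root vector 35 -/
def row35 : List (Option (I27 × ℤ)) := [none, none, none, some ((1,1,2), -1), some ((1,0,2), 1), none, none, none, none, none, none, none, none, none, none, some ((2,1,1), -1), some ((2,0,1), 1), none, none, none, none, none, none, none, some ((0,2,2), 1), none, some ((0,0,2), -1)]

/-- rows of the root vector 36 -/
def row36 : List (Option (I27 × ℤ)) := [none, none, some ((2,2,2), -1), none, none, none, none, none, some ((2,2,0), 1), none, none, some ((0,1,1), 1), none, none, some ((0,1,0), -1), none, none, none, none, some ((1,2,1), 1), none, none, some ((1,2,0), -1), none, none, none, none]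

/-- rows of the root vector 37 -/
def row37 : List (Option (I27 × ℤ)) := [none, none, none, none, none, none, some ((1,1,2), 1), some ((1,0,2), -1), none, none, none, none, none, none, none, some ((2,1,2), 1), some ((2,0,2), -1), none, none, none, none, none, none, none, some ((0,1,2), 1), some ((0,0,2), -1), none]

/-- rows of the root vector 38 -/
def row38 : List (Option (I27 × ℤ)) := [none, none, none, none, none, none, some ((0,1,0), 1), some ((0,1,1), 1), some ((0,1,2), 1), none, none, none, none, none, none, none, none, none, none, some ((2,0,2), -1), none, none, some ((2,1,2), -1), none, none, some ((2,2,2), -1), none]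

/-- rows of the root vector 39 -/
def row39 : List (Option (I27 × ℤ)) := [none, none, none, some ((1,2,1), 1), none, some ((1,0,1), -1), none, none, none, none, none, none, some ((2,2,1), 1), none, some ((2,0,1), -1), none, none, none, none, none, none, some ((0,2,1), 1), none, some ((0,0,1), -1), none, none, none]

/-- rows of the root vector 40 -/
def row40 : List (Option (I27 × ℤ)) := [none, none, none, some ((2,0,2), 1), none, none, some ((2,0,1), -1), none, none, none, none, none, some ((0,0,2), 1), none, none, some ((0,0,1), -1), none, none, none, none, none, some ((1,0,2), 1), none, none, some ((1,0,1), -1), none, none]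

/-- rows of the root vector 41 -/
def row41 : List (Option (I27 × ℤ)) := [none, none, none, none, none, none, some ((1,2,1), 1), none, some ((1,0,1), -1), none, none, none, some ((2,2,2), 1), none, some ((2,0,2), -1), none, none, none, none, none, none, some ((0,1,1), -1), some ((0,0,1), 1), none, none, none, none]

/-- rows of the root vector 42 -/
def row42 : List (Option (I27 × ℤ)) := [none, some ((0,0,0), -1), none, none, some ((0,1,0), -1), none, none, some ((0,2,0), -1), none, some ((1,1,0), 1), some ((1,1,1), 1), some ((1,1,2), 1), none, none, none, none, none, none, none, none, none, none, none, none, none, none, none]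

/-- rows of the root vector 43 -/
def row43 : List (Option (I27 × ℤ)) := [none, none, none, none, some ((1,2,1), 1), some ((1,1,1), -1), none, none, none, some ((2,2,1), -1), none, some ((2,0,1), 1), none, none, none, none, none, none, none, none, none, some ((0,2,0), -1), none, some ((0,0,0), 1), none, none, none]

/-- rows of the root vector 44 -/
def row44 : List (Option (I27 × ℤ)) := [none, none, none, none, some ((2,0,2), 1), none, none, some ((2,0,1), -1), none, some ((0,0,2), -1), none, none, none, none, none, some ((0,0,0), 1), none, none, none, none, none, some ((1,1,2), 1), none, none, some ((1,1,1), -1), none, none]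

/-- rows of the root vector 45 -/
def row45 : List (Option (I27 × ℤ)) := [none, none, none, none, none, none, none, some ((1,2,1), 1), some ((1,1,1), -1), some ((2,2,2), -1), none, some ((2,0,2), 1), none, none, none, none, none, none, none, none, none, some ((0,1,0), 1), some ((0,0,0), -1), none, none, none, none]

/-- rows of the root vector 46 -/
def row46 : List (Option (I27 × ℤ)) := [none, none, none, none, none, none, none, none, none, none, some ((1,0,0), -1), none, none, some ((1,1,0), -1), none, none, some ((1,2,0), -1), none, some ((2,1,0), 1), some ((2,1,1), 1), some ((2,1,2), 1), none, none, none, none, none, none]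

/-- rows of the root vector 47 -/
def row47 : List (Option (I27 × ℤ)) := [none, none, none, some ((1,2,0), -1), none, some ((1,0,0), 1), none, none, none, none, none, none, none, some ((2,2,1), 1), some ((2,1,1), -1), none, none, none, some ((0,2,1), -1), none, some ((0,0,1), 1), none, none, none, none, none, none]

/-- rows of the root vector 48 -/
def row48 : List (Option (I27 × ℤ)) := [none, none, none, some ((2,1,2), 1), none, none, some ((2,1,1), -1), none, none, none, none, none, none, some ((0,0,2), 1), none, none, some ((0,0,1), -1), none, some ((1,0,2), -1), none, none, none, none, none, some ((1,0,0), 1), none, none]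

/-- rows of the root vector 49 -/
def row49 : List (Option (I27 × ℤ)) := [none, none, none, none, none, none, some ((1,2,0), -1), none, some ((1,0,0), 1), none, none, none, none, some ((2,2,2), 1), some ((2,1,2), -1), none, none, none, some ((0,1,1), 1), some ((0,0,1), -1), none, none, none, none, none, none, none]

/-- rows of the root vector 50 -/
def row50 : List (Option (I27 × ℤ)) := [none, none, none, none, some ((1,2,0), 1), some ((1,1,0), -1), none, none, none, none, some ((2,2,1), 1), some ((2,1,1), -1), none, none, none, none, none, none, some ((0,2,0), -1), none, some ((0,0,0), 1), none, none, none, none, none, none]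

/-- rows of the root vector 51 -/
def row51 : List (Option (I27 × ℤ)) := [none, none, none, none, some ((2,1,2), -1), none, none, some ((2,1,1), 1), none, none, some ((0,0,2), 1), none, none, none, none, none, some ((0,0,0), -1), none, some ((1,1,2), 1), none, none, none, none, none, some ((1,1,0), -1), none, none]

/-- rows of the root vector 52 -/
def row52 : List (Option (I27 × ℤ)) := [none, none, none, none, none, none, none, some ((1,2,0), 1), some ((1,1,0), -1), none, some ((2,2,2), 1), some ((2,1,2), -1), none, none, none, none, none, none, some ((0,1,0), 1), some ((0,0,0), -1), none, none, none, none, none, none, none]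

/-- rows of the root vector 53 -/
def row53 : List (Option (I27 × ℤ)) := [none, none, none, some ((0,0,0), -1), some ((0,0,1), -1), some ((0,0,2), -1), none, none, none, none, none, none, none, none, none, none, none, none, some ((2,0,1), 1), none, none, some ((2,1,1), 1), none, none, some ((2,2,1), 1), none, none]

/-- rows of the root vector 54 -/
def row54 : List (Option (I27 × ℤ)) := [none, none, none, none, none, some ((2,2,2), -1), none, none, some ((2,2,1), 1), none, none, some ((0,0,1), -1), none, none, some ((0,0,0), 1), none, none, none, some ((1,2,1), -1), none, none, some ((1,2,0), 1), none, none, none, none, none]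

/-- rows of the root vector 55 -/
def row55 : List (Option (I27 × ℤ)) := [none, none, none, none, none, none, some ((0,0,0), 1), some ((0,0,1), 1), some ((0,0,2), 1), none, none, none, none, none, none, none, none, none, some ((2,0,2), -1), none, none, some ((2,1,2), -1), none, none, some ((2,2,2), -1), none, none]

/-- rows of the root vector 56 -/
def row56 : List (Option (I27 × ℤ)) := [some ((1,2,2), 1), none, some ((1,0,2), -1), none, none, none, none, none, none, none, none, none, some ((2,1,0), -1), some ((2,0,0), 1), none, none, none, none, none, none, none, none, none, none, none, some ((0,2,1), -1), some ((0,1,1), 1)]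

/-- rows of the root vector 57 -/
def row57 : List (Option (I27 × ℤ)) := [none, some ((1,2,2), -1), some ((1,1,2), 1), none, none, none, none, none, none, some ((2,1,0), -1), some ((2,0,0), 1), none, none, none, none, none, none, none, none, none, none, none, none, none, none, some ((0,2,0), -1), some ((0,1,0), 1)]

/-- rows of the root vector 58 -/
def row58 : List (Option (I27 × ℤ)) := [none, none, some ((2,0,1), 1), none, none, some ((2,0,0), -1), none, none, none, some ((0,2,1), 1), none, none, some ((0,2,0), -1), none, none, none, none, none, none, none, none, none, none, some ((1,2,2), 1), none, none, some ((1,2,1), -1)]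

/-- rows of the root vector 59 -/
def row59 : List (Option (I27 × ℤ)) := [none, none, none, none, none, none, none, none, none, some ((1,0,2), 1), none, none, some ((1,1,2), 1), none, none, some ((1,2,2), 1), none, none, none, none, none, none, none, none, some ((2,0,0), -1), some ((2,0,1), -1), some ((2,0,2), -1)]

/-- rows of the root vector 60 -/
def row60 : List (Option (I27 × ℤ)) := [none, none, some ((2,0,2), 1), none, none, none, none, none, some ((2,0,0), -1), some ((0,1,1), -1), none, none, some ((0,1,0), 1), none, none, none, none, none, none, none, none, none, some ((1,2,2), -1), none, none, some ((1,2,1), 1), none]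

/-- rows of the root vector 61 -/
def row61 : List (Option (I27 × ℤ)) := [none, none, some ((2,1,1), -1), none, none, some ((2,1,0), 1), none, none, none, none, some ((0,2,1), -1), none, none, some ((0,2,0), 1), none, none, none, none, none, none, some ((1,2,2), 1), none, none, none, none, none, some ((1,2,0), -1)]

/-- rows of the root vector 62 -/
def row62 : List (Option (I27 × ℤ)) := [none, none, none, none, none, none, none, none, none, none, some ((1,0,2), -1), none, none, some ((1,1,2), -1), none, none, some ((1,2,2), -1), none, none, none, none, none, none, none, some ((2,1,0), 1), some ((2,1,1), 1), some ((2,1,2), 1)]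

/-- rows of the root vector 63 -/
def row63 : List (Option (I27 × ℤ)) := [none, none, some ((2,1,2), -1), none, none, none, none, none, some ((2,1,0), 1), none, some ((0,1,1), 1), none, none, some ((0,1,0), -1), none, none, none, none, none, some ((1,2,2), -1), none, none, none, none, none, some ((1,2,0), 1), none]

/-- rows of the root vector 64 -/
def row64 : List (Option (I27 × ℤ)) := [none, none, none, some ((1,2,2), -1), none, some ((1,0,2), 1), none, none, none, none, none, none, some ((2,1,1), 1), some ((2,0,1), -1), none, none, none, none, none, none, none, none, none, none, some ((0,2,1), -1), none, some ((0,0,1), 1)]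

/-- rows of the root vector 65 -/
def row65 : List (Option (I27 × ℤ)) := [none, none, some ((0,0,1), -1), none, none, some ((0,1,1), -1), none, none, some ((0,2,1), -1), none, none, none, some ((1,2,0), 1), some ((1,2,1), 1), some ((1,2,2), 1), none, none, none, none, none, none, none, none, none, none, none, none]

/-- rows of the root vector 66 -/
def row66 : List (Option (I27 × ℤ)) := [none, none, none, none, none, none, some ((1,2,2), 1), none, some ((1,0,2), -1), none, none, none, some ((2,1,2), -1), some ((2,0,2), 1), none, none, none, none, none, none, none, none, none, none, some ((0,1,1), -1), some ((0,0,1), 1), none]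

/-- rows of the root vector 67 -/
def row67 : List (Option (I27 × ℤ)) := [none, none, none, none, some ((1,2,2), 1), some ((1,1,2), -1), none, none, none, some ((2,1,1), 1), some ((2,0,1), -1), none, none, none, none, none, none, none, none, none, none, none, none, none, some ((0,2,0), -1), none, some ((0,0,0), 1)]

/-- rows of the root vector 68 -/
def row68 : List (Option (I27 × ℤ)) := [none, none, some ((0,0,0), -1), none, none, some ((0,1,0), -1), none, none, some ((0,2,0), -1), some ((1,2,0), 1), some ((1,2,1), 1), some ((1,2,2), 1), none, none, none, none, none, none, none, none, none, none, none, none, none, none, none]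

/-- rows of the root vector 69 -/
def row69 : List (Option (I27 × ℤ)) := [none, none, none, none, none, none, none, some ((1,2,2), -1), some ((1,1,2), 1), some ((2,1,2), -1), some ((2,0,2), 1), none, none, none, none, none, none, none, none, none, none, none, none, none, some ((0,1,0), -1), some ((0,0,0), 1), none]

/-- rows of the root vector 70 -/
def row70 : List (Option (I27 × ℤ)) := [none, none, none, none, none, some ((2,0,2), -1), none, none, some ((2,0,1), 1), some ((0,0,1), -1), none, none, some ((0,0,0), 1), none, none, none, none, none, none, none, none, some ((1,2,2), -1), none, none, some ((1,2,1), 1), none, none]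

/-- rows of the root vector 71 -/
def row71 : List (Option (I27 × ℤ)) := [none, none, none, none, none, some ((2,1,2), 1), none, none, some ((2,1,1), -1), none, some ((0,0,1), 1), none, none, some ((0,0,0), -1), none, none, none, none, some ((1,2,2), -1), none, none, none, none, none, some ((1,2,0), 1), none, none]

/-- rows of the root vectors -/
def rowTab : List (List (Option (I27 × ℤ))) := [row0, row1, row2, row3, row4, row5, row6, row7, row8, row9, row10, row11, row12, row13, row14, row15, row16, row17, row18, row19, row20, row21, row22, row23, row24, row25, row26, row27, row28, row29, row30, row31, row32, row33, row34, row35, row36, row37, row38, row39, row40, row41, row42, row43, row44, row45, row46, row47, row48, row49, row50, row51, row52, row53, row54, row55, row56, row57, row58, row59, row60, row61, row62, row63, row64, row65, row66, row67, row68, row69, row70, row71]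

/-- for each coordinate, the pairs completing it to a monomial -/
def linkTab : List (List (I27 × I27 × ℤ)) := [
  [((0,1,1), (0,2,2), 1), ((0,1,2), (0,2,1), -1), ((1,0,0), (2,0,0), -1), ((1,0,1), (2,1,0), -1), ((1,0,2), (2,2,0), -1)],
  [((0,1,0), (0,2,2), -1), ((0,1,2), (0,2,0), 1), ((1,1,0), (2,0,0), -1), ((1,1,1), (2,1,0), -1), ((1,1,2), (2,2,0), -1)],
  [((0,1,0), (0,2,1), 1), ((0,1,1), (0,2,0), -1), ((1,2,0), (2,0,0), -1), ((1,2,1), (2,1,0), -1), ((1,2,2), (2,2,0), -1)],
  [((0,0,1), (0,2,2), -1), ((0,0,2), (0,2,1), 1), ((1,0,0), (2,0,1), -1), ((1,0,1), (2,1,1), -1), ((1,0,2), (2,2,1), -1)],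
  [((0,0,0), (0,2,2), 1), ((0,0,2), (0,2,0), -1), ((1,1,0), (2,0,1), -1), ((1,1,1), (2,1,1), -1), ((1,1,2), (2,2,1), -1)],
  [((0,0,0), (0,2,1), -1), ((0,0,1), (0,2,0), 1), ((1,2,0), (2,0,1), -1), ((1,2,1), (2,1,1), -1), ((1,2,2), (2,2,1), -1)],
  [((0,0,1), (0,1,2), 1), ((0,0,2), (0,1,1), -1), ((1,0,0), (2,0,2), -1), ((1,0,1), (2,1,2), -1), ((1,0,2), (2,2,2), -1)],
  [((0,0,0), (0,1,2), -1), ((0,0,2), (0,1,0), 1), ((1,1,0), (2,0,2), -1), ((1,1,1), (2,1,2), -1), ((1,1,2), (2,2,2), -1)],
  [((0,0,0), (0,1,1), 1), ((0,0,1), (0,1,0), -1), ((1,2,0), (2,0,2), -1), ((1,2,1), (2,1,2), -1), ((1,2,2), (2,2,2), -1)],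
  [((1,1,1), (1,2,2), 1), ((1,1,2), (1,2,1), -1), ((0,0,0), (2,0,0), -1), ((0,1,0), (2,0,1), -1), ((0,2,0), (2,0,2), -1)],
  [((1,1,0), (1,2,2), -1), ((1,1,2), (1,2,0), 1), ((0,0,0), (2,1,0), -1), ((0,1,0), (2,1,1), -1), ((0,2,0), (2,1,2), -1)],
  [((1,1,0), (1,2,1), 1), ((1,1,1), (1,2,0), -1), ((0,0,0), (2,2,0), -1), ((0,1,0), (2,2,1), -1), ((0,2,0), (2,2,2), -1)],
  [((1,0,1), (1,2,2), -1), ((1,0,2), (1,2,1), 1), ((0,0,1), (2,0,0), -1), ((0,1,1), (2,0,1), -1), ((0,2,1), (2,0,2), -1)],
  [((1,0,0), (1,2,2), 1), ((1,0,2), (1,2,0), -1), ((0,0,1), (2,1,0), -1), ((0,1,1), (2,1,1), -1), ((0,2,1), (2,1,2), -1)],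
  [((1,0,0), (1,2,1), -1), ((1,0,1), (1,2,0), 1), ((0,0,1), (2,2,0), -1), ((0,1,1), (2,2,1), -1), ((0,2,1), (2,2,2), -1)],
  [((1,0,1), (1,1,2), 1), ((1,0,2), (1,1,1), -1), ((0,0,2), (2,0,0), -1), ((0,1,2), (2,0,1), -1), ((0,2,2), (2,0,2), -1)],
  [((1,0,0), (1,1,2), -1), ((1,0,2), (1,1,0), 1), ((0,0,2), (2,1,0), -1), ((0,1,2), (2,1,1), -1), ((0,2,2), (2,1,2), -1)],
  [((1,0,0), (1,1,1), 1), ((1,0,1), (1,1,0), -1), ((0,0,2), (2,2,0), -1), ((0,1,2), (2,2,1), -1), ((0,2,2), (2,2,2), -1)],
  [((2,1,1), (2,2,2), 1), ((2,1,2), (2,2,1), -1), ((0,0,0), (1,0,0), -1), ((0,0,1), (1,1,0), -1), ((0,0,2), (1,2,0), -1)],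
  [((2,1,0), (2,2,2), -1), ((2,1,2), (2,2,0), 1), ((0,1,0), (1,0,0), -1), ((0,1,1), (1,1,0), -1), ((0,1,2), (1,2,0), -1)],
  [((2,1,0), (2,2,1), 1), ((2,1,1), (2,2,0), -1), ((0,2,0), (1,0,0), -1), ((0,2,1), (1,1,0), -1), ((0,2,2), (1,2,0), -1)],
  [((2,0,1), (2,2,2), -1), ((2,0,2), (2,2,1), 1), ((0,0,0), (1,0,1), -1), ((0,0,1), (1,1,1), -1), ((0,0,2), (1,2,1), -1)],
  [((2,0,0), (2,2,2), 1), ((2,0,2), (2,2,0), -1), ((0,1,0), (1,0,1), -1), ((0,1,1), (1,1,1), -1), ((0,1,2), (1,2,1), -1)],
  [((2,0,0), (2,2,1), -1), ((2,0,1), (2,2,0), 1), ((0,2,0), (1,0,1), -1), ((0,2,1), (1,1,1), -1), ((0,2,2), (1,2,1), -1)],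
  [((2,0,1), (2,1,2), 1), ((2,0,2), (2,1,1), -1), ((0,0,0), (1,0,2), -1), ((0,0,1), (1,1,2), -1), ((0,0,2), (1,2,2), -1)],
  [((2,0,0), (2,1,2), -1), ((2,0,2), (2,1,0), 1), ((0,1,0), (1,0,2), -1), ((0,1,1), (1,1,2), -1), ((0,1,2), (1,2,2), -1)],
  [((2,0,0), (2,1,1), 1), ((2,0,1), (2,1,0), -1), ((0,2,0), (1,0,2), -1), ((0,2,1), (1,1,2), -1), ((0,2,2), (1,2,2), -1)]]

/-- for each pair of coordinates, the third coordinate of their monomial -/
def thirdTab : List (List (Option (I27 × ℤ))) := [
  [none, none, none, none, some ((0,2,2), 1), some ((0,2,1), -1), none, some ((0,1,2), -1), some ((0,1,1), 1), some ((2,0,0), -1), some ((2,1,0), -1), some ((2,2,0), -1), none, none, none, none, none, none, some ((1,0,0), -1), none, none, some ((1,0,1), -1), none, none, some ((1,0,2), -1), none, none],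
  [none, none, none, some ((0,2,2), -1), none, some ((0,2,0), 1), some ((0,1,2), 1), none, some ((0,1,0), -1), none, none, none, some ((2,0,0), -1), some ((2,1,0), -1), some ((2,2,0), -1), none, none, none, some ((1,1,0), -1), none, none, some ((1,1,1), -1), none, none, some ((1,1,2), -1), none, none],
  [none, none, none, some ((0,2,1), 1), some ((0,2,0), -1), none, some ((0,1,1), -1), some ((0,1,0), 1), none, none, none, none, none, none, none, some ((2,0,0), -1), some ((2,1,0), -1), some ((2,2,0), -1), some ((1,2,0), -1), none, none, some ((1,2,1), -1), none, none, some ((1,2,2), -1), none, none],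
  [none, some ((0,2,2), -1), some ((0,2,1), 1), none, none, none, none, some ((0,0,2), 1), some ((0,0,1), -1), some ((2,0,1), -1), some ((2,1,1), -1), some ((2,2,1), -1), none, none, none, none, none, none, none, some ((1,0,0), -1), none, none, some ((1,0,1), -1), none, none, some ((1,0,2), -1), none],
  [some ((0,2,2), 1), none, some ((0,2,0), -1), none, none, none, some ((0,0,2), -1), none, some ((0,0,0), 1), none, none, none, some ((2,0,1), -1), some ((2,1,1), -1), some ((2,2,1), -1), none, none, none, none, some ((1,1,0), -1), none, none, some ((1,1,1), -1), none, none, some ((1,1,2), -1), none],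
  [some ((0,2,1), -1), some ((0,2,0), 1), none, none, none, none, some ((0,0,1), 1), some ((0,0,0), -1), none, none, none, none, none, none, none, some ((2,0,1), -1), some ((2,1,1), -1), some ((2,2,1), -1), none, some ((1,2,0), -1), none, none, some ((1,2,1), -1), none, none, some ((1,2,2), -1), none],
  [none, some ((0,1,2), 1), some ((0,1,1), -1), none, some ((0,0,2), -1), some ((0,0,1), 1), none, none, none, some ((2,0,2), -1), some ((2,1,2), -1), some ((2,2,2), -1), none, none, none, none, none, none, none, none, some ((1,0,0), -1), none, none, some ((1,0,1), -1), none, none, some ((1,0,2), -1)],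
  [some ((0,1,2), -1), none, some ((0,1,0), 1), some ((0,0,2), 1), none, some ((0,0,0), -1), none, none, none, none, none, none, some ((2,0,2), -1), some ((2,1,2), -1), some ((2,2,2), -1), none, none, none, none, none, some ((1,1,0), -1), none, none, some ((1,1,1), -1), none, none, some ((1,1,2), -1)],
  [some ((0,1,1), 1), some ((0,1,0), -1), none, some ((0,0,1), -1), some ((0,0,0), 1), none, none, none, none, none, none, none, none, none, none, some ((2,0,2), -1), some ((2,1,2), -1), some ((2,2,2), -1), none, none, some ((1,2,0), -1), none, none, some ((1,2,1), -1), none, none, some ((1,2,2), -1)],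
  [some ((2,0,0), -1), none, none, some ((2,0,1), -1), none, none, some ((2,0,2), -1), none, none, none, none, none, none, some ((1,2,2), 1), some ((1,2,1), -1), none, some ((1,1,2), -1), some ((1,1,1), 1), some ((0,0,0), -1), some ((0,1,0), -1), some ((0,2,0), -1), none, none, none, none, none, none],
  [some ((2,1,0), -1), none, none, some ((2,1,1), -1), none, none, some ((2,1,2), -1), none, none, none, none, none, some ((1,2,2), -1), none, some ((1,2,0), 1), some ((1,1,2), 1), none, some ((1,1,0), -1), none, none, none, some ((0,0,0), -1), some ((0,1,0), -1), some ((0,2,0), -1), none, none, none],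
  [some ((2,2,0), -1), none, none, some ((2,2,1), -1), none, none, some ((2,2,2), -1), none, none, none, none, none, some ((1,2,1), 1), some ((1,2,0), -1), none, some ((1,1,1), -1), some ((1,1,0), 1), none, none, none, none, none, none, none, some ((0,0,0), -1), some ((0,1,0), -1), some ((0,2,0), -1)],
  [none, some ((2,0,0), -1), none, none, some ((2,0,1), -1), none, none, some ((2,0,2), -1), none, none, some ((1,2,2), -1), some ((1,2,1), 1), none, none, none, none, some ((1,0,2), 1), some ((1,0,1), -1), some ((0,0,1), -1), some ((0,1,1), -1), some ((0,2,1), -1), none, none, none, none, none, none],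
  [none, some ((2,1,0), -1), none, none, some ((2,1,1), -1), none, none, some ((2,1,2), -1), none, some ((1,2,2), 1), none, some ((1,2,0), -1), none, none, none, some ((1,0,2), -1), none, some ((1,0,0), 1), none, none, none, some ((0,0,1), -1), some ((0,1,1), -1), some ((0,2,1), -1), none, none, none],
  [none, some ((2,2,0), -1), none, none, some ((2,2,1), -1), none, none, some ((2,2,2), -1), none, some ((1,2,1), -1), some ((1,2,0), 1), none, none, none, none, some ((1,0,1), 1), some ((1,0,0), -1), none, none, none, none, none, none, none, some ((0,0,1), -1), some ((0,1,1), -1), some ((0,2,1), -1)],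
  [none, none, some ((2,0,0), -1), none, none, some ((2,0,1), -1), none, none, some ((2,0,2), -1), none, some ((1,1,2), 1), some ((1,1,1), -1), none, some ((1,0,2), -1), some ((1,0,1), 1), none, none, none, some ((0,0,2), -1), some ((0,1,2), -1), some ((0,2,2), -1), none, none, none, none, none, none],
  [none, none, some ((2,1,0), -1), none, none, some ((2,1,1), -1), none, none, some ((2,1,2), -1), some ((1,1,2), -1), none, some ((1,1,0), 1), some ((1,0,2), 1), none, some ((1,0,0), -1), none, none, none, none, none, none, some ((0,0,2), -1), some ((0,1,2), -1), some ((0,2,2), -1), none, none, none],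
  [none, none, some ((2,2,0), -1), none, none, some ((2,2,1), -1), none, none, some ((2,2,2), -1), some ((1,1,1), 1), some ((1,1,0), -1), none, some ((1,0,1), -1), some ((1,0,0), 1), none, none, none, none, none, none, none, none, none, none, some ((0,0,2), -1), some ((0,1,2), -1), some ((0,2,2), -1)],
  [some ((1,0,0), -1), some ((1,1,0), -1), some ((1,2,0), -1), none, none, none, none, none, none, some ((0,0,0), -1), none, none, some ((0,0,1), -1), none, none, some ((0,0,2), -1), none, none, none, none, none, none, some ((2,2,2), 1), some ((2,2,1), -1), none, some ((2,1,2), -1), some ((2,1,1), 1)],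
  [none, none, none, some ((1,0,0), -1), some ((1,1,0), -1), some ((1,2,0), -1), none, none, none, some ((0,1,0), -1), none, none, some ((0,1,1), -1), none, none, some ((0,1,2), -1), none, none, none, none, none, some ((2,2,2), -1), none, some ((2,2,0), 1), some ((2,1,2), 1), none, some ((2,1,0), -1)],
  [none, none, none, none, none, none, some ((1,0,0), -1), some ((1,1,0), -1), some ((1,2,0), -1), some ((0,2,0), -1), none, none, some ((0,2,1), -1), none, none, some ((0,2,2), -1), none, none, none, none, none, some ((2,2,1), 1), some ((2,2,0), -1), none, some ((2,1,1), -1), some ((2,1,0), 1), none],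
  [some ((1,0,1), -1), some ((1,1,1), -1), some ((1,2,1), -1), none, none, none, none, none, none, none, some ((0,0,0), -1), none, none, some ((0,0,1), -1), none, none, some ((0,0,2), -1), none, none, some ((2,2,2), -1), some ((2,2,1), 1), none, none, none, none, some ((2,0,2), 1), some ((2,0,1), -1)],
  [none, none, none, some ((1,0,1), -1), some ((1,1,1), -1), some ((1,2,1), -1), none, none, none, none, some ((0,1,0), -1), none, none, some ((0,1,1), -1), none, none, some ((0,1,2), -1), none, some ((2,2,2), 1), none, some ((2,2,0), -1), none, none, none, some ((2,0,2), -1), none, some ((2,0,0), 1)],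
  [none, none, none, none, none, none, some ((1,0,1), -1), some ((1,1,1), -1), some ((1,2,1), -1), none, some ((0,2,0), -1), none, none, some ((0,2,1), -1), none, none, some ((0,2,2), -1), none, some ((2,2,1), -1), some ((2,2,0), 1), none, none, none, none, some ((2,0,1), 1), some ((2,0,0), -1), none],
  [some ((1,0,2), -1), some ((1,1,2), -1), some ((1,2,2), -1), none, none, none, none, none, none, none, none, some ((0,0,0), -1), none, none, some ((0,0,1), -1), none, none, some ((0,0,2), -1), none, some ((2,1,2), 1), some ((2,1,1), -1), none, some ((2,0,2), -1), some ((2,0,1), 1), none, none, none],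
  [none, none, none, some ((1,0,2), -1), some ((1,1,2), -1), some ((1,2,2), -1), none, none, none, none, none, some ((0,1,0), -1), none, none, some ((0,1,1), -1), none, none, some ((0,1,2), -1), some ((2,1,2), -1), none, some ((2,1,0), 1), some ((2,0,2), 1), none, some ((2,0,0), -1), none, none, none],
  [none, none, none, none, none, none, some ((1,0,2), -1), some ((1,1,2), -1), some ((1,2,2), -1), none, none, some ((0,2,0), -1), none, none, some ((0,2,1), -1), none, none, some ((0,2,2), -1), some ((2,1,1), 1), some ((2,1,0), -1), none, some ((2,0,1), -1), some ((2,0,0), 1), none, none, none, none]]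

end Cfsg.Agent.Helper83.E6C
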