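import Mathlib
import Cfsg.Prelude.Def_E6
import Cfsg.Agent.Helper83.E6CData

/-!
# Cubic forms given by a list of signed monomials

The polarisations `Dl`, `Bl` of the cubic form `Tl`, their values on basis vectors, and the cubic
form `cubicT` of `Def_E6` as the form of the list `mons`.
-/

set_option autoImplicit false
set_option linter.unusedSectionVars false
set_option linter.unnecessarySeqFocus false

namespace Cfsg.Agent.Helper83.E6C

open Cfsg.Lie Matrix

section Generic

variable {ι : Type*} {F : Type*} [CommRing F]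

/-- the cubic form of a list of signed monomials -/
def Tl (M : List (ι × ι × ι × ℤ)) (v : ι → F) : F :=
  (M.map fun m => (m.2.2.2 : F) * (v m.1 * v m.2.1 * v m.2.2.1)).sum

/-- the derivative of the cubic form at `x` in the direction `w` -/
def Dl (M : List (ι × ι × ι × ℤ)) (x w : ι → F) : F :=
  (M.map fun m => (m.2.2.2 : F) * (w m.1 * x m.2.1 * x m.2.2.1 + x m.1 * w m.2.1 * x m.2.2.1 +
    x m.1 * x m.2.1 * w m.2.2.1)).sum

/-- the symmetric trilinear form of the cubic form -/
def Bl (M : List (ι × ι × ι × ℤ)) (x y w : ι → F) : F :=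
  (M.map fun m => (m.2.2.2 : F) * (x m.1 * y m.2.1 * w m.2.2.1 + x m.1 * w m.2.1 * y m.2.2.1 +
    y m.1 * x m.2.1 * w m.2.2.1 + w m.1 * x m.2.1 * y m.2.2.1 + y m.1 * w m.2.1 * x m.2.2.1 +
    w m.1 * y m.2.1 * x m.2.2.1)).sum

theorem Tl_add_smul (M : List (ι × ι × ι × ℤ)) (x w : ι → F) (t : F) :
    Tl M (x + t • w) = Tl M x + t * Dl M x w + t ^ 2 * Dl M w x + t ^ 3 * Tl M w := by
  induction M with
  | nil => simp [Tl, Dl]
  | cons m M ih =>
    simp only [Tl, Dl, List.map_cons, List.sum_cons] at ih ⊢
    rw [ih]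
    simp only [Pi.add_apply, Pi.smul_apply, smul_eq_mul]
    ring

theorem Dl_add (M : List (ι × ι × ι × ℤ)) (x y w : ι → F) :
    Dl M (x + y) w = Dl M x w + Dl M y w + Bl M x y w := by
  induction M with
  | nil => simp [Dl, Bl]
  | cons m M ih =>
    simp only [Bl, Dl, List.map_cons, List.sum_cons] at ih ⊢
    rw [ih]
    simp only [Pi.add_apply]
    ring

theorem Bl_smul_left (M : List (ι × ι × ι × ℤ)) (c : F) (x y w : ι → F) :
    Bl M (c • x) y w = c * Bl M x y w := by
  induction M with
  | nil => simp [Bl]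
  | cons m M ih =>
    simp only [Bl, List.map_cons, List.sum_cons] at ih ⊢
    rw [ih]
    simp only [Pi.smul_apply, smul_eq_mul]
    ring

variable [DecidableEq ι]

/-- the pairs completing `σ` to a monomial -/
def linkl (M : List (ι × ι × ι × ℤ)) (σ : ι) : List (ι × ι × ℤ) :=
  M.flatMap fun m => (if m.1 = σ then [(m.2.1, m.2.2.1, m.2.2.2)] else []) ++
    ((if m.2.1 = σ then [(m.1, m.2.2.1, m.2.2.2)] else []) ++
    (if m.2.2.1 = σ then [(m.1, m.2.1, m.2.2.2)] else []))

theorem Bl_single (M : List (ι × ι × ι × ℤ)) (σ : ι) (y w : ι → F) :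
    Bl M (Pi.single σ 1) y w =
      ((linkl M σ).map fun p => (p.2.2 : F) * (y p.1 * w p.2.1 + y p.2.1 * w p.1)).sum := by
  induction M with
  | nil => simp [Bl, linkl]
  | cons m M ih =>
    simp only [Bl, linkl, List.map_cons, List.sum_cons, List.flatMap_cons, List.map_append,
      List.sum_append] at ih ⊢
    rw [ih]
    simp only [Pi.single_apply]
    split_ifs <;> simp <;> ring

theorem Dl_single_right (M : List (ι × ι × ι × ℤ)) (ρ : ι) (v : ι → F) :
    Dl M v (Pi.single ρ 1) = ((linkl M ρ).map fun p => (p.2.2 : F) * (v p.1 * v p.2.1)).sum := by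
  induction M with
  | nil => simp [Dl, linkl]
  | cons m M ih =>
    simp only [Dl, linkl, List.map_cons, List.sum_cons, List.flatMap_cons, List.map_append,
      List.sum_append] at ih ⊢
    rw [ih]
    simp only [Pi.single_apply]
    split_ifs <;> simp <;> ring

theorem Dl_single_left (M : List (ι × ι × ι × ℤ))
    (hM : ∀ m ∈ M, m.1 ≠ m.2.1 ∧ m.1 ≠ m.2.2.1 ∧ m.2.1 ≠ m.2.2.1) (μ : ι) (w : ι → F) :
    Dl M (Pi.single μ 1) w = 0 := by
  induction M with
  | nil => simp [Dl]
  | cons m M ih =>
    simp only [Dl, List.map_cons, List.sum_cons] at ih ⊢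
    rw [ih (fun m' hm' => hM m' (List.mem_cons_of_mem _ hm'))]
    obtain ⟨h1, h2, h3⟩ := hM m List.mem_cons_self
    simp only [Pi.single_apply]
    split_ifs <;> simp_all

/-- the bilinear form `B(e_σ, ·, ·)` of a list of pairs -/
def pairS (L : List (ι × ι × ℤ)) (y w : ι → F) : F :=
  (L.map fun p => (p.2.2 : F) * (y p.1 * w p.2.1 + y p.2.1 * w p.1)).sum

/-- the partners of `b` in a list of pairs -/
def partnerl (L : List (ι × ι × ℤ)) (b : ι) : List (ι × ℤ) :=
  L.flatMap fun p => (if p.2.1 = b then [(p.1, p.2.2)] else []) ++ (if p.1 = b then [(p.2.1, p.2.2)] else [])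

theorem pairS_single_right (L : List (ι × ι × ℤ)) (b : ι) (y : ι → F) :
    pairS L y (Pi.single b 1) = ((partnerl L b).map fun q => (q.2 : F) * y q.1).sum := by
  induction L with
  | nil => simp [pairS, partnerl]
  | cons p L ih =>
    simp only [pairS, partnerl, List.map_cons, List.sum_cons, List.flatMap_cons, List.map_append,
      List.sum_append] at ih ⊢
    rw [ih]
    simp only [Pi.single_apply]
    split_ifs <;> simp <;> ring

theorem pairS_single_left (L : List (ι × ι × ℤ)) (b : ι) (w : ι → F) :
    pairS L (Pi.single b 1) w = ((partnerl L b).map fun q => (q.2 : F) * w q.1).sum := by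
  induction L with
  | nil => simp [pairS, partnerl]
  | cons p L ih =>
    simp only [pairS, partnerl, List.map_cons, List.sum_cons, List.flatMap_cons, List.map_append,
      List.sum_append] at ih ⊢
    rw [ih]
    simp only [Pi.single_apply]
    split_ifs <;> simp <;> ring

theorem pairS_smul_left (L : List (ι × ι × ℤ)) (c : F) (y w : ι → F) :
    pairS L (c • y) w = c * pairS L y w := by
  induction L with
  | nil => simp [pairS]
  | cons p L ih =>
    simp only [pairS, List.map_cons, List.sum_cons] at ih ⊢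
    rw [ih]
    simp only [Pi.smul_apply, smul_eq_mul]
    ring

theorem pairS_smul_right (L : List (ι × ι × ℤ)) (c : F) (y w : ι → F) :
    pairS L y (c • w) = c * pairS L y w := by
  induction L with
  | nil => simp [pairS]
  | cons p L ih =>
    simp only [pairS, List.map_cons, List.sum_cons] at ih ⊢
    rw [ih]
    simp only [Pi.smul_apply, smul_eq_mul]
    ring

theorem pairS_eq_zero (L : List (ι × ι × ℤ)) (y w : ι → F)
    (h : ∀ p ∈ L, y p.1 = 0 ∧ y p.2.1 = 0) : pairS L y w = 0 := by
  induction L with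
  | nil => simp [pairS]
  | cons p L ih =>
    simp only [pairS, List.map_cons, List.sum_cons] at ih ⊢
    rw [ih (fun q hq => h q (List.mem_cons_of_mem _ hq)), (h p List.mem_cons_self).1,
      (h p List.mem_cons_self).2]
    ring

end Generic

end Cfsg.Agent.Helper83.E6C
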