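import Mathlib
import Cfsg.Prelude.Def_E6
import Cfsg.Agent.Helper83.E6CBasic

/-!
# The cubic form of `Def_E6` and its invariance under the isometry group
-/

set_option autoImplicit false

namespace Cfsg.Agent.Helper83.E6C

open Cfsg.Lie Matrix

theorem mem_allI27 : ∀ a : I27, a ∈ allI27 := by decide

/-- the pairs completing `σ` to a monomial of `cubicT` -/
def link (σ : I27) : List (I27 × I27 × ℤ) := linkTab.getD (enc σ) []

/-- the third coordinate of the monomial through `σ` and `b`, with its sign -/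
def third (σ b : I27) : Option (I27 × ℤ) := (thirdTab.getD (enc σ) []).getD (enc b) none

theorem link_eq : ∀ σ : I27, linkl mons σ = link σ := by decide +kernel

theorem third_eq : ∀ σ b : I27, partnerl (link σ) b = (third σ b).toList := by decide +kernel

theorem third_sign : ∀ σ b : I27, ∀ q ∈ third σ b, q.2 = 1 ∨ q.2 = -1 := by decide +kernel

theorem mons_distinct : ∀ m ∈ mons, m.1 ≠ m.2.1 ∧ m.1 ≠ m.2.2.1 ∧ m.2.1 ≠ m.2.2.1 := by decide +kernel

theorem cubicT_eq {F : Type*} [CommRing F] (v : I27 → F) : cubicT v = Tl mons v := by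
  unfold cubicT
  simp only [Matrix.det_fin_three, Matrix.trace, Matrix.diag, Matrix.mul_apply, Fin.sum_univ_three,
    mat3, Matrix.of_apply, Tl, mons, List.map_cons, List.map_nil, List.sum_cons, List.sum_nil]
  push_cast
  ring

section Inv

variable {F : Type*} [Field F]

theorem mem_E6univ_iff (g : GL I27 F) :
    g ∈ E6univ F ↔ ∀ v, Tl mons ((g : Matrix I27 I27 F) *ᵥ v) = Tl mons v := by
  show (∀ v, cubicT ((Units.coeHom (Matrix I27 I27 F) g) *ᵥ v) = cubicT v) ↔ _
  simp only [Units.coeHom_apply, cubicT_eq]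

theorem exists_ne_zero_one [Fintype F] (hF : 3 ≤ Fintype.card F) : ∃ a : F, a ≠ 0 ∧ a ≠ 1 := by
  classical
  by_contra h
  push Not at h
  have h2 : Fintype.card F ≤ 2 := by
    calc Fintype.card F = (Finset.univ : Finset F).card := rfl
      _ ≤ ({0, 1} : Finset F).card := Finset.card_le_card (fun a _ => by
          by_cases h0 : a = 0
          · simp [h0]
          · simp [h a h0])
      _ ≤ 2 := Finset.card_le_two
  omega

variable (hF : ∃ a : F, a ≠ 0 ∧ a ≠ 1)
include hF

theorem Dl_inv (g : GL I27 F) (hg : g ∈ E6univ F) (x w : I27 → F) :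
    Dl mons ((g : Matrix I27 I27 F) *ᵥ x) ((g : Matrix I27 I27 F) *ᵥ w) = Dl mons x w := by
  obtain ⟨a0, h0, h1⟩ := hF
  rw [mem_E6univ_iff] at hg
  have key : ∀ t : F, t * (Dl mons ((g : Matrix I27 I27 F) *ᵥ x) ((g : Matrix I27 I27 F) *ᵥ w) - Dl mons x w) +
      t ^ 2 * (Dl mons ((g : Matrix I27 I27 F) *ᵥ w) ((g : Matrix I27 I27 F) *ᵥ x) - Dl mons w x) = 0 := by
    intro t
    have h := hg (x + t • w)
    rw [Matrix.mulVec_add, Matrix.mulVec_smul, Tl_add_smul, Tl_add_smul, hg x, hg w] at h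
    linear_combination h
  have k1 := key 1
  have k2 := key a0
  have hB : Dl mons ((g : Matrix I27 I27 F) *ᵥ w) ((g : Matrix I27 I27 F) *ᵥ x) - Dl mons w x = 0 := by
    have h3 : a0 * (a0 - 1) * (Dl mons ((g : Matrix I27 I27 F) *ᵥ w) ((g : Matrix I27 I27 F) *ᵥ x) - Dl mons w x) = 0 := by
      linear_combination k2 - a0 * k1
    rcases mul_eq_zero.mp h3 with h | h
    · rcases mul_eq_zero.mp h with h | h
      · exact absurd h h0
      · exact absurd (sub_eq_zero.mp h) h1
    · exact h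
  linear_combination k1 - hB

theorem Bl_inv (g : GL I27 F) (hg : g ∈ E6univ F) (x y w : I27 → F) :
    Bl mons ((g : Matrix I27 I27 F) *ᵥ x) ((g : Matrix I27 I27 F) *ᵥ y) ((g : Matrix I27 I27 F) *ᵥ w) =
      Bl mons x y w := by
  have e1 := Dl_add mons ((g : Matrix I27 I27 F) *ᵥ x) ((g : Matrix I27 I27 F) *ᵥ y) ((g : Matrix I27 I27 F) *ᵥ w)
  have e2 := Dl_add mons x y w
  rw [← Matrix.mulVec_add, Dl_inv hF g hg, Dl_inv hF g hg, Dl_inv hF g hg] at e1
  linear_combination e2 - e1

omit hF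

/-- column `σ` of `g` is a multiple of the basis vector -/
def ColFix (g : GL I27 F) (σ : I27) : Prop := ∀ a, a ≠ σ → (g : Matrix I27 I27 F) a σ = 0

theorem mulVec_bv (g : GL I27 F) (μ : I27) :
    (g : Matrix I27 I27 F) *ᵥ Pi.single μ 1 = fun a => (g : Matrix I27 I27 F) a μ := by
  rw [Matrix.mulVec_single_one]
  rfl

theorem colfix_mulVec (g : GL I27 F) (σ : I27) (h : ColFix g σ) :
    (g : Matrix I27 I27 F) *ᵥ Pi.single σ 1 = (g : Matrix I27 I27 F) σ σ • Pi.single σ 1 := by
  rw [mulVec_bv]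
  funext a
  by_cases ha : a = σ
  · subst ha
    simp
  · simp [h a ha, ha]

theorem mulVec_inv_cancel (g : GL I27 F) (u : I27 → F) :
    (g : Matrix I27 I27 F) *ᵥ ((g⁻¹ : GL I27 F) : Matrix I27 I27 F) *ᵥ u = u := by
  rw [Matrix.mulVec_mulVec, ← Units.val_mul, mul_inv_cancel, Units.val_one, Matrix.one_mulVec]

theorem diag_ne_zero (g : GL I27 F) (σ : I27) (h : ColFix g σ) : (g : Matrix I27 I27 F) σ σ ≠ 0 := by
  intro h0
  have h1 : ((g⁻¹ * g : GL I27 F) : Matrix I27 I27 F) σ σ = 1 := by simp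
  rw [Units.val_mul, Matrix.mul_apply] at h1
  have h2 : ∑ a, ((g⁻¹ : GL I27 F) : Matrix I27 I27 F) σ a * (g : Matrix I27 I27 F) a σ = 0 :=
    Finset.sum_eq_zero (fun a _ => by
      by_cases ha : a = σ
      · subst ha
        rw [h0, mul_zero]
      · rw [h a ha, mul_zero])
  rw [h2] at h1
  exact zero_ne_one h1

include hF

theorem star (g : GL I27 F) (hg : g ∈ E6univ F) (σ : I27) (hσ : ColFix g σ) (y w : I27 → F) :
    (g : Matrix I27 I27 F) σ σ * pairS (link σ) ((g : Matrix I27 I27 F) *ᵥ y) ((g : Matrix I27 I27 F) *ᵥ w) =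
      pairS (link σ) y w := by
  have h := Bl_inv hF g hg (Pi.single σ 1) y w
  rw [colfix_mulVec g σ hσ, Bl_smul_left, Bl_single, Bl_single, link_eq] at h
  exact h

omit hF in
theorem sign_ne_zero (σ b : I27) (q : I27 × ℤ) (hq : third σ b = some q) : ((q.2 : ℤ) : F) ≠ 0 := by
  rcases third_sign σ b q (by rw [hq]; exact rfl) with h | h
  · rw [h]; simp
  · rw [h]; simp

/-- a zero of column `μ` forced by a fixed column `σ` collinear with `μ` -/
theorem zeroA (g : GL I27 F) (hg : g ∈ E6univ F) (σ μ b : I27) (hσ : ColFix g σ)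
    (h1 : third σ μ = none) (q : I27 × ℤ) (h2 : third σ b = some q) :
    (g : Matrix I27 I27 F) q.1 μ = 0 := by
  have h := star hF g hg σ hσ (Pi.single μ 1) (((g⁻¹ : GL I27 F) : Matrix I27 I27 F) *ᵥ Pi.single b 1)
  rw [mulVec_inv_cancel, pairS_single_right, pairS_single_left, third_eq, third_eq, h1, h2, mulVec_bv] at h
  simp only [Option.toList_some, Option.toList_none, List.map_cons, List.map_nil, List.sum_cons,
    List.sum_nil, add_zero] at h
  have hd := diag_ne_zero g σ hσ
  have hs := sign_ne_zero (F := F) σ b q h2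
  rcases mul_eq_zero.mp h with h | h
  · exact absurd h hd
  · rcases mul_eq_zero.mp h with h | h
    · exact absurd h hs
    · exact h

/-- the relation between two fixed columns `σ`, `τ` and column `μ` -/
theorem rel3 (g : GL I27 F) (hg : g ∈ E6univ F) (σ τ μ : I27) (hσ : ColFix g σ) (hτ : ColFix g τ)
    (q : I27 × ℤ) (h2 : third σ τ = some q) :
    (g : Matrix I27 I27 F) σ σ * ((g : Matrix I27 I27 F) τ τ * (g : Matrix I27 I27 F) q.1 μ) =
      if q.1 = μ then 1 else 0 := by
  have h := star hF g hg σ hσ (Pi.single τ 1) (Pi.single μ 1)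
  rw [colfix_mulVec g τ hτ, pairS_smul_left, pairS_single_left, pairS_single_left, third_eq, h2, mulVec_bv] at h
  simp only [Option.toList_some, List.map_cons, List.map_nil, List.sum_cons, List.sum_nil, add_zero,
    Pi.single_apply] at h
  have hs := sign_ne_zero (F := F) σ τ q h2
  apply mul_left_cancel₀ hs
  linear_combination h

/-- some entry of column `μ` in the link of a fixed column `σ` symplectic to `μ` does not vanish -/
theorem nonzeroS (g : GL I27 F) (hg : g ∈ E6univ F) (σ μ : I27) (hσ : ColFix g σ)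
    (q : I27 × ℤ) (h2 : third σ μ = some q) :
    ∃ p ∈ link σ, (g : Matrix I27 I27 F) p.1 μ ≠ 0 ∨ (g : Matrix I27 I27 F) p.2.1 μ ≠ 0 := by
  by_contra hcon
  push Not at hcon
  have h := star hF g hg σ hσ (Pi.single μ 1) (Pi.single q.1 1)
  rw [mulVec_bv g μ, pairS_eq_zero (link σ) _ _ hcon, pairS_single_left, third_eq, h2] at h
  simp only [Option.toList_some, List.map_cons, List.map_nil, List.sum_cons, List.sum_nil, add_zero,
    Pi.single_eq_same, mul_one, mul_zero] at h
  exact sign_ne_zero (F := F) σ μ q h2 h.symm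

/-- column `μ` of an isometry is a white vector -/
theorem white (g : GL I27 F) (hg : g ∈ E6univ F) (μ ρ : I27) :
    ((link ρ).map fun p => (p.2.2 : F) * ((g : Matrix I27 I27 F) p.1 μ * (g : Matrix I27 I27 F) p.2.1 μ)).sum = 0 := by
  have h := Dl_inv hF g hg (Pi.single μ 1) (((g⁻¹ : GL I27 F) : Matrix I27 I27 F) *ᵥ Pi.single ρ 1)
  rw [mulVec_inv_cancel, Dl_single_left mons mons_distinct, mulVec_bv, Dl_single_right, link_eq] at h
  exact h

end Inv

end Cfsg.Agent.Helper83.E6C
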