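import Mathlib

/-!
# Ring identities for root elements `1 + t • A` with `A * A = 0`
-/

set_option autoImplicit false
set_option linter.unusedSimpArgs false

namespace Cfsg.Agent.Helper83.E6C

variable {F R : Type*} [Field F] [Ring R] [Algebra F R]

/-- the root element `1 + t • A` -/
def xr (A : R) (t : F) : R := 1 + t • A

theorem xr_mul (A : R) (hA : A * A = 0) (t u : F) : xr A t * xr A u = xr A (t + u) := by
  unfold xr
  simp only [mul_add, add_mul, mul_one, one_mul, smul_mul_assoc, mul_smul_comm, hA, smul_zero, add_zero]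
  module

theorem xr_zero (A : R) : xr A (0 : F) = 1 := by
  unfold xr
  rw [zero_smul, add_zero]

theorem xr_comm (A B : R) (hA : A * A = 0) (hB : B * B = 0) (hABA : A * B * A = 0) (hBAB : B * A * B = 0)
    (t u : F) : xr B (-u) * xr A (-t) * xr B u * xr A t = 1 - (t * u) • (A * B - B * A) := by
  have hA' : ∀ X : R, A * (A * X) = 0 := fun X => by rw [← mul_assoc, hA, zero_mul]
  have hB' : ∀ X : R, B * (B * X) = 0 := fun X => by rw [← mul_assoc, hB, zero_mul]
  have h1 : A * (B * A) = 0 := by rw [← mul_assoc, hABA]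
  have h1' : ∀ X : R, A * (B * (A * X)) = 0 := fun X => by rw [← mul_assoc, ← mul_assoc, hABA, zero_mul]
  have h2 : B * (A * B) = 0 := by rw [← mul_assoc, hBAB]
  have h2' : ∀ X : R, B * (A * (B * X)) = 0 := fun X => by rw [← mul_assoc, ← mul_assoc, hBAB, zero_mul]
  unfold xr
  simp only [mul_add, add_mul, mul_sub, sub_mul, mul_one, one_mul, smul_mul_assoc, mul_smul_comm, smul_add,
    smul_sub, smul_smul, mul_assoc, hA, hB, hA', hB', h1, h1', h2, h2', smul_zero, add_zero, zero_add,
    sub_zero, mul_zero, zero_mul]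
  module

theorem hr_formula (A B : R) (hA : A * A = 0) (hB : B * B = 0) (hABA : A * B * A = A) (hBAB : B * A * B = B)
    (t : F) (ht : t ≠ 0) :
    xr A t * xr B (-t⁻¹) * xr A t * (xr A (-1 : F) * xr B (-(-1 : F)⁻¹) * xr A (-1 : F)) =
      1 + (t - 1) • (A * B) + (t⁻¹ - 1) • (B * A) := by
  have hA' : ∀ X : R, A * (A * X) = 0 := fun X => by rw [← mul_assoc, hA, zero_mul]
  have hB' : ∀ X : R, B * (B * X) = 0 := fun X => by rw [← mul_assoc, hB, zero_mul]
  have h1 : A * (B * A) = A := by rw [← mul_assoc, hABA]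
  have h1' : ∀ X : R, A * (B * (A * X)) = A * X := fun X => by rw [← mul_assoc, ← mul_assoc, hABA]
  have h2 : B * (A * B) = B := by rw [← mul_assoc, hBAB]
  have h2' : ∀ X : R, B * (A * (B * X)) = B * X := fun X => by rw [← mul_assoc, ← mul_assoc, hBAB]
  have e : (-(-1 : F)⁻¹) = 1 := by norm_num
  have hts : t * t⁻¹ = 1 := mul_inv_cancel₀ ht
  rw [e]
  generalize t⁻¹ = s at hts ⊢
  unfold xr
  simp only [mul_add, add_mul, mul_sub, sub_mul, mul_one, one_mul, smul_mul_assoc, mul_smul_comm, smul_add,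
    smul_sub, smul_smul, mul_assoc, hA, hB, hA', hB', h1, h1', h2, h2', smul_zero, add_zero, zero_add,
    sub_zero, one_smul, neg_smul, mul_neg, neg_mul, neg_neg, smul_neg, mul_zero, zero_mul]
  have e1 : s * t = 1 := by rw [mul_comm]; exact hts
  simp only [hts, e1, mul_one, one_mul, one_smul, neg_zero, add_zero]
  module

theorem hr_mul (P Q : R) (hP : P * P = P) (hQ : Q * Q = Q) (hPQ : P * Q = 0) (hQP : Q * P = 0)
    (t u : F) :
    (1 + (t - 1) • P + (t⁻¹ - 1) • Q) * (1 + (u - 1) • P + (u⁻¹ - 1) • Q) =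
      1 + (t * u - 1) • P + ((t * u)⁻¹ - 1) • Q := by
  rw [mul_inv]
  simp only [mul_add, add_mul, mul_one, one_mul, smul_mul_assoc, mul_smul_comm, smul_add,
    smul_smul, hP, hQ, hPQ, hQP, smul_zero, add_zero, zero_add]
  module

end Cfsg.Agent.Helper83.E6C
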