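import Mathlib
import Cfsg.Prelude.Def_E6
import Cfsg.Prelude.Def_ChevStructure
import Cfsg.Prelude.Def_ChevE6
import Cfsg.Agent.Helper83.E6CData
import Cfsg.Agent.Helper83.E6CAlg

/-!
# The root vectors of E₆ on the 27-dimensional module, as row-monomial matrices
-/

set_option autoImplicit false

namespace Cfsg.Agent.Helper83.E6C

open Cfsg.Lie Matrix

/-- sparse rows: at most one non-zero entry -/
abbrev SRow := Option (I27 × ℤ)

/-- row `a` of the root vector `r` -/
def rowE (r : ℕ) (a : I27) : SRow := (rowTab.getD r []).getD (enc a) none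

/-- the entry of a sparse row in column `b` -/
def rowVal (o : SRow) (b : I27) : ℤ :=
  match o with
  | some q => if q.1 = b then q.2 else 0
  | none => 0

/-- the matrix with given sparse rows -/
def RM (f : I27 → SRow) : Matrix I27 I27 ℤ := fun a b => rowVal (f a) b

/-- the rows of a product -/
def comp (f g : I27 → SRow) (a : I27) : SRow :=
  match f a with
  | some q =>
    (match g q.1 with
    | some q' => some (q'.1, q.2 * q'.2)
    | none => none)
  | none => none

theorem RM_mul (f g : I27 → SRow) : RM f * RM g = RM (comp f g) := by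
  funext a b
  rw [Matrix.mul_apply]
  unfold RM comp
  cases hf : f a with
  | none => simp [rowVal]
  | some q =>
    simp only [rowVal]
    rw [Finset.sum_eq_single q.1]
    · rw [if_pos rfl]
      cases hg : g q.1 with
      | none => simp
      | some q' => simp [mul_ite]
    · intro c _ hc
      rw [if_neg (Ne.symm hc), zero_mul]
    · intro h
      exact absurd (Finset.mem_univ _) h

theorem RM_eq_zero (f : I27 → SRow) (h : ∀ a, f a = none) : RM f = 0 := by
  funext a b
  show rowVal (f a) b = 0
  rw [h a]
  rfl

theorem RM_congr (f g : I27 → SRow) (h : ∀ a, f a = g a) : RM f = RM g := by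
  funext a b
  show rowVal (f a) b = rowVal (g a) b
  rw [h a]

/-- the support of a sparse row -/
def supp (o : SRow) : List I27 :=
  match o with
  | some q => [q.1]
  | none => []

theorem rowVal_of_not_mem (o : SRow) (b : I27) (h : b ∉ supp o) : rowVal o b = 0 := by
  cases o with
  | none => rfl
  | some q =>
    simp only [supp, List.mem_singleton] at h
    simp only [rowVal]
    rw [if_neg (fun e => h e.symm)]

/-- check of `o1 - o2 = N • o3` for sparse rows -/
def rowChk (o1 o2 o3 : SRow) (N : ℤ) : Bool :=
  (supp o1 ++ (supp o2 ++ supp o3)).all fun b => decide (rowVal o1 b - rowVal o2 b = N * rowVal o3 b)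

theorem rowChk_sound (o1 o2 o3 : SRow) (N : ℤ) (h : rowChk o1 o2 o3 N = true) (b : I27) :
    rowVal o1 b - rowVal o2 b = N * rowVal o3 b := by
  by_cases hb : b ∈ supp o1 ++ (supp o2 ++ supp o3)
  · have := (List.all_eq_true.mp h) b hb
    exact of_decide_eq_true this
  · simp only [List.mem_append, not_or] at hb
    rw [rowVal_of_not_mem o1 b hb.1, rowVal_of_not_mem o2 b hb.2.1, rowVal_of_not_mem o3 b hb.2.2]
    ring

theorem RM_sub (f1 f2 f3 : I27 → SRow) (N : ℤ) (h : ∀ a, rowChk (f1 a) (f2 a) (f3 a) N = true) :
    RM f1 - RM f2 = N • RM f3 := by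
  funext a b
  show rowVal (f1 a) b - rowVal (f2 a) b = N • rowVal (f3 a) b
  rw [rowChk_sound _ _ _ N (h a) b, smul_eq_mul]

/-! ### The checks -/

/-- `E_r * E_r = 0` -/
def sqOK (r : ℕ) : Bool := allI27.all fun a => (comp (rowE r) (rowE r) a).isNone

/-- `E_r E_{-r} E_r = E_r` and `E_r E_{-r}` is a diagonal idempotent -/
def sl2OK (r : ℕ) : Bool :=
  allI27.all fun a => decide (comp (comp (rowE r) (rowE (chevE6.neg r))) (rowE r) a = rowE r a) &&
    decide (comp (rowE r) (rowE (chevE6.neg r)) a = if (rowE r a).isSome then some (a, 1) else none)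

/-- the relations between `E_r` and `E_s` for `s ≠ ± r` -/
def relOK (r s : ℕ) : Bool :=
  (s == r || s == chevE6.neg r) ||
  ((allI27.all fun a => (comp (comp (rowE r) (rowE s)) (rowE r) a).isNone) &&
    (match chevE6.commTerms r s with
    | [] => allI27.all fun a => rowChk (comp (rowE r) (rowE s) a) (comp (rowE s) (rowE r) a) none 0
    | [(k, N, i, j)] => i == 1 && j == 1 && decide (k < 72) &&
        allI27.all fun a => rowChk (comp (rowE r) (rowE s) a) (comp (rowE s) (rowE r) a) (rowE k a) N
    | _ => false))

set_option maxRecDepth 100000 in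
theorem sq_all : (List.range 72).all sqOK = true := by decide +kernel

set_option maxRecDepth 100000 in
theorem sl2_all : (List.range 72).all (fun r => sl2OK r && decide (chevE6.neg r < 72) &&
    decide (chevE6.neg (chevE6.neg r) = r)) = true := by decide +kernel

set_option maxRecDepth 100000 in
theorem rel_all : (List.range 72).all (fun r => (List.range 72).all fun s => relOK r s) = true := by
  decide +kernel

end Cfsg.Agent.Helper83.E6C
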