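import Mathlib
import Cfsg.Prelude.Def_Steinberg
import Cfsg.Agent.Helper83.E6CRoot

/-!
# Root elements of E₆ on the 27-dimensional module and Steinberg's relations
-/

set_option autoImplicit false

namespace Cfsg.Agent.Helper83.E6C

open Cfsg.Lie Matrix

theorem nroots_eq : chevE6.nroots = 72 := rfl

theorem rowE_of_ge (r : ℕ) (hr : 72 ≤ r) (a : I27) : rowE r a = none := by
  unfold rowE
  have h : rowTab.getD r [] = [] := List.getD_eq_default _ _ (by show rowTab.length ≤ r; exact hr)
  rw [h]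
  rfl

theorem RM_rowE_of_ge (r : ℕ) (hr : 72 ≤ r) : RM (rowE r) = 0 := RM_eq_zero _ (rowE_of_ge r hr)

theorem all_range {p : ℕ → Bool} {n : ℕ} (h : (List.range n).all p = true) (r : ℕ) (hr : r < n) : p r = true :=
  (List.all_eq_true.mp h) r (List.mem_range.mpr hr)

theorem all_I27 {p : I27 → Bool} (h : allI27.all p = true) (a : I27) : p a = true :=
  (List.all_eq_true.mp h) a (by revert a; decide)

theorem RM_sq (r : ℕ) : RM (rowE r) * RM (rowE r) = 0 := by
  by_cases hr : r < 72
  · rw [RM_mul]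
    refine RM_eq_zero _ (fun a => ?_)
    have h := all_I27 (all_range sq_all r hr) a
    exact Option.isNone_iff_eq_none.mp h
  · rw [RM_rowE_of_ge r (not_lt.mp hr), mul_zero]

theorem neg_lt (r : ℕ) (hr : r < 72) : chevE6.neg r < 72 := by
  have h := all_range sl2_all r hr
  simp only [Bool.and_eq_true, decide_eq_true_eq] at h
  exact h.1.2

theorem neg_neg' (r : ℕ) (hr : r < 72) : chevE6.neg (chevE6.neg r) = r := by
  have h := all_range sl2_all r hr
  simp only [Bool.and_eq_true, decide_eq_true_eq] at h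
  exact h.2

theorem RM_sl2 (r : ℕ) (hr : r < 72) :
    RM (rowE r) * RM (rowE (chevE6.neg r)) * RM (rowE r) = RM (rowE r) := by
  rw [RM_mul, RM_mul]
  refine RM_congr _ _ (fun a => ?_)
  have h := all_range sl2_all r hr
  simp only [Bool.and_eq_true, decide_eq_true_eq] at h
  have h2 := all_I27 h.1.1 a
  simp only [Bool.and_eq_true, decide_eq_true_eq] at h2
  exact h2.1

/-- the weights `a` with `a - r` a weight -/
def upper (r : ℕ) (a : I27) : Bool := (rowE r a).isSome

theorem RM_proj (r : ℕ) (hr : r < 72) :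
    RM (rowE r) * RM (rowE (chevE6.neg r)) = Matrix.diagonal fun a => if upper r a then 1 else 0 := by
  rw [RM_mul]
  funext a b
  have h := all_range sl2_all r hr
  simp only [Bool.and_eq_true, decide_eq_true_eq] at h
  have h2 := all_I27 h.1.1 a
  simp only [Bool.and_eq_true, decide_eq_true_eq] at h2
  show rowVal (comp (rowE r) (rowE (chevE6.neg r)) a) b = _
  rw [h2.2]
  unfold upper
  by_cases hu : (rowE r a).isSome = true
  · rw [if_pos hu, Matrix.diagonal_apply, if_pos hu]
    rfl
  · rw [if_neg hu, Matrix.diagonal_apply, if_neg hu]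
    simp [rowVal]

theorem rel_cases (r s : ℕ) (hr : r < 72) (hs : s < 72) (h1 : s ≠ r) (h2 : s ≠ chevE6.neg r) :
    RM (rowE r) * RM (rowE s) * RM (rowE r) = 0 ∧
    ((chevE6.commTerms r s = [] ∧ RM (rowE r) * RM (rowE s) - RM (rowE s) * RM (rowE r) = 0) ∨
      (∃ k N, k < 72 ∧ chevE6.commTerms r s = [(k, N, 1, 1)] ∧
        RM (rowE r) * RM (rowE s) - RM (rowE s) * RM (rowE r) = N • RM (rowE k))) := by
  have h := all_range (all_range rel_all r hr) s hs
  unfold relOK at h
  simp only [Bool.or_eq_true, beq_iff_eq, h1, h2, or_self, false_or, Bool.and_eq_true] at h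
  obtain ⟨ht, hm⟩ := h
  refine ⟨?_, ?_⟩
  · rw [RM_mul, RM_mul]
    exact RM_eq_zero _ (fun a => Option.isNone_iff_eq_none.mp (all_I27 ht a))
  · split at hm
    · rename_i hc
      left
      refine ⟨hc, ?_⟩
      rw [RM_mul, RM_mul, RM_sub _ _ (fun _ => none) 0 (fun a => all_I27 hm a), zero_smul]
    · rename_i k N i j hc
      simp only [Bool.and_eq_true, beq_iff_eq, decide_eq_true_eq] at hm
      obtain ⟨⟨⟨hi, hj⟩, hk⟩, hm⟩ := hm
      right
      subst hi hj
      refine ⟨k, N, hk, hc, ?_⟩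
      rw [RM_mul, RM_mul, RM_sub _ _ (rowE k) N (fun a => all_I27 hm a)]
    · exact absurd hm (by simp)

section Field

variable (F : Type*) [Field F]

/-- the root vector `E_r` over `F` -/
def Emat (r : ℕ) : Matrix I27 I27 F := (Int.castRingHom F).mapMatrix (RM (rowE r))

theorem Emat_apply (r : ℕ) (a b : I27) : Emat F r a b = ((rowVal (rowE r a) b : ℤ) : F) := rfl

theorem Emat_sq (r : ℕ) : Emat F r * Emat F r = 0 := by
  unfold Emat
  rw [← map_mul, RM_sq, map_zero]

theorem Emat_of_ge (r : ℕ) (hr : 72 ≤ r) : Emat F r = 0 := by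
  unfold Emat
  rw [RM_rowE_of_ge r hr, map_zero]

theorem Emat_sl2 (r : ℕ) (hr : r < 72) : Emat F r * Emat F (chevE6.neg r) * Emat F r = Emat F r := by
  unfold Emat
  rw [← map_mul, ← map_mul, RM_sl2 r hr]

theorem Emat_proj (r : ℕ) (hr : r < 72) :
    Emat F r * Emat F (chevE6.neg r) = Matrix.diagonal fun a => if upper r a then (1 : F) else 0 := by
  unfold Emat
  rw [← map_mul, RM_proj r hr]
  funext a b
  simp only [RingHom.mapMatrix_apply, Matrix.map_apply, Matrix.diagonal_apply]
  split_ifs <;> simp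

/-- the root element `x_r(t)` -/
def x27 (r : ℕ) (t : F) : Matrix I27 I27 F := xr (Emat F r) t

theorem x27_mul (r : ℕ) (t u : F) : x27 F r t * x27 F r u = x27 F r (t + u) := xr_mul _ (Emat_sq F r) t u

/-- the root element `x_r(t)` as an invertible matrix -/
def x27GL (r : ℕ) (t : F) : GL I27 F :=
  ⟨x27 F r t, x27 F r (-t), by rw [x27_mul, add_neg_cancel]; exact xr_zero _,
    by rw [x27_mul, neg_add_cancel]; exact xr_zero _⟩

theorem x27GL_val (r : ℕ) (t : F) : ((x27GL F r t : GL I27 F) : Matrix I27 I27 F) = x27 F r t := rfl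

theorem x27GL_mul (r : ℕ) (t u : F) : x27GL F r t * x27GL F r u = x27GL F r (t + u) :=
  Units.ext (x27_mul F r t u)

theorem x27GL_inv (r : ℕ) (t : F) : (x27GL F r t)⁻¹ = x27GL F r (-t) := Units.ext (by rfl)

theorem x27GL_of_ge (r : ℕ) (hr : 72 ≤ r) (t : F) : x27GL F r t = 1 := by
  apply Units.ext
  show xr (Emat F r) t = 1
  rw [Emat_of_ge F r hr]
  unfold xr
  rw [smul_zero, add_zero]

/-- the map on generators -/
def gen27 (p : Fin chevE6.nroots × F) : GL I27 F := x27GL F p.1.val p.2

theorem lift_stX (r : ℕ) (t : F) : FreeGroup.lift (gen27 F) (chevE6.stX r t) = x27GL F r t := by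
  unfold ChevalleyDatum.stX
  by_cases h : r < chevE6.nroots
  · rw [dif_pos h, FreeGroup.lift_apply_of]
    rfl
  · rw [dif_neg h, map_one, x27GL_of_ge F r (not_lt.mp h)]

/-- the product of the root elements of a word -/
def word27 (w : List (ℕ × F)) : GL I27 F := (w.map fun p => x27GL F p.1 p.2).prod

theorem lift_stWord (w : List (ℕ × F)) : FreeGroup.lift (gen27 F) (chevE6.stWord w) = word27 F w := by
  unfold ChevalleyDatum.stWord word27
  rw [map_list_prod, List.map_map]
  congr 1
  apply List.map_congr_left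
  intro p _
  exact lift_stX F p.1 p.2

theorem comm_rel (r s : ℕ) (hr : r < 72) (hs : s < 72) (h1 : s ≠ r) (h2 : s ≠ chevE6.neg r) (t u : F) :
    (x27GL F s u)⁻¹ * (x27GL F r t)⁻¹ * x27GL F s u * x27GL F r t = word27 F (chevE6.commWord F r s t u) := by
  obtain ⟨h3, h4⟩ := rel_cases r s hr hs h1 h2
  have h1' : r ≠ s := fun e => h1 e.symm
  have h2' : r ≠ chevE6.neg s := fun e => h2 (by rw [e, neg_neg' s hs])
  obtain ⟨h5, -⟩ := rel_cases s r hs hr h1' h2'
  have hABA : Emat F r * Emat F s * Emat F r = 0 := by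
    unfold Emat
    rw [← map_mul, ← map_mul, h3, map_zero]
  have hBAB : Emat F s * Emat F r * Emat F s = 0 := by
    unfold Emat
    rw [← map_mul, ← map_mul, h5, map_zero]
  apply Units.ext
  rw [x27GL_inv, x27GL_inv, Units.val_mul, Units.val_mul, Units.val_mul]
  show xr (Emat F s) (-u) * xr (Emat F r) (-t) * xr (Emat F s) u * xr (Emat F r) t = _
  rw [xr_comm (Emat F r) (Emat F s) (Emat_sq F r) (Emat_sq F s) hABA hBAB]
  unfold ChevalleyDatum.commWord word27
  rcases h4 with ⟨hc, h0⟩ | ⟨k, N, hk, hc, hN⟩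
  · rw [hc]
    have : Emat F r * Emat F s - Emat F s * Emat F r = 0 := by
      unfold Emat
      rw [← map_mul, ← map_mul, ← map_sub, h0, map_zero]
    rw [this, smul_zero, sub_zero]
    rfl
  · rw [hc]
    have : Emat F r * Emat F s - Emat F s * Emat F r = (N : F) • Emat F k := by
      unfold Emat
      rw [← map_mul, ← map_mul, ← map_sub, hN]
      funext a b
      show (((N • RM (rowE k)) a b : ℤ) : F) = (N : F) • ((RM (rowE k) a b : ℤ) : F)
      rw [Matrix.smul_apply, smul_eq_mul, Int.cast_mul, smul_eq_mul]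
    rw [this]
    simp only [List.map_cons, List.map_nil, List.prod_cons, List.prod_nil, mul_one, pow_one]
    show _ = xr (Emat F k) _
    unfold xr
    rw [smul_smul, sub_eq_add_neg, ← neg_smul]
    congr 2
    ring

end Field

end Cfsg.Agent.Helper83.E6C
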