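import Mathlib
import Cfsg.Prelude.Def_Steinberg
import Cfsg.Agent.Helper83.E6CRoot2

/-!
# The torus elements and the homomorphism from the Steinberg group
-/

set_option autoImplicit false

namespace Cfsg.Agent.Helper83.E6C

open Cfsg.Lie Matrix

variable (F : Type*) [Field F]

/-- the diagonal entries of `h_r(t)` -/
def hdiag (r : ℕ) (t : F) (a : I27) : F :=
  1 + (t - 1) * (if upper r a then 1 else 0) + (t⁻¹ - 1) * (if upper (chevE6.neg r) a then 1 else 0)

theorem word27_hWord (r : ℕ) (hr : r < 72) (t : F) (ht : t ≠ 0) :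
    ((word27 F (chevE6.hWord r t) : GL I27 F) : Matrix I27 I27 F) = Matrix.diagonal (hdiag F r t) := by
  unfold ChevalleyDatum.hWord ChevalleyDatum.nWord word27
  simp only [List.cons_append, List.nil_append, List.map_cons, List.map_nil, List.prod_cons, List.prod_nil,
    mul_one, Units.val_mul, x27GL_val]
  have h := hr_formula (Emat F r) (Emat F (chevE6.neg r)) (Emat_sq F r) (Emat_sq F _) (Emat_sl2 F r hr)
    (by
      have := Emat_sl2 F (chevE6.neg r) (neg_lt r hr)
      rw [neg_neg' r hr] at this
      exact this) t ht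
  unfold x27
  simp only [mul_assoc] at h ⊢
  rw [h, Emat_proj F r hr]
  have hq := Emat_proj F (chevE6.neg r) (neg_lt r hr)
  rw [neg_neg' r hr] at hq
  rw [hq]
  funext a b
  unfold hdiag
  by_cases hab : a = b
  · subst hab
    simp only [Matrix.add_apply, Matrix.one_apply_eq, Matrix.smul_apply, Matrix.diagonal_apply_eq, smul_eq_mul]
  · simp only [Matrix.add_apply, Matrix.one_apply_ne hab, Matrix.smul_apply, Matrix.diagonal_apply_ne _ hab,
      smul_eq_mul, mul_zero, add_zero]

theorem hdiag_mul (r : ℕ) (hr : r < 72) (t u : F) (a : I27) :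
    hdiag F r t a * hdiag F r u a = hdiag F r (t * u) a := by
  -- the two conditions exclude each other
  have hex : ¬ (upper r a = true ∧ upper (chevE6.neg r) a = true) := by
    intro ⟨h1, h2⟩
    have hp := Emat_proj ℚ r hr
    have hq := Emat_proj ℚ (chevE6.neg r) (neg_lt r hr)
    rw [neg_neg' r hr] at hq
    have h0 : (Emat ℚ r * Emat ℚ (chevE6.neg r)) * (Emat ℚ (chevE6.neg r) * Emat ℚ r) = 0 := by
      rw [mul_assoc, ← mul_assoc (Emat ℚ (chevE6.neg r)), Emat_sq, zero_mul, mul_zero]
    rw [hp, hq, Matrix.diagonal_mul_diagonal] at h0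
    have := congrFun (congrFun h0 a) a
    rw [Matrix.diagonal_apply_eq, if_pos h1, if_pos h2] at this
    norm_num at this
  unfold hdiag
  rw [mul_inv]
  by_cases h1 : upper r a = true
  · have h2 : ¬ upper (chevE6.neg r) a = true := fun h2 => hex ⟨h1, h2⟩
    rw [if_pos h1, if_neg h2]
    ring
  · rw [if_neg h1]
    by_cases h2 : upper (chevE6.neg r) a = true
    · rw [if_pos h2]
      ring
    · rw [if_neg h2]
      ring

theorem h_rel (r : ℕ) (hr : r < 72) (t u : F) (ht : t ≠ 0) (hu : u ≠ 0) :
    word27 F (chevE6.hWord r t) * word27 F (chevE6.hWord r u) = word27 F (chevE6.hWord r (t * u)) := by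
  apply Units.ext
  rw [Units.val_mul, word27_hWord F r hr t ht, word27_hWord F r hr u hu,
    word27_hWord F r hr (t * u) (mul_ne_zero ht hu), Matrix.diagonal_mul_diagonal]
  congr 1
  funext a
  exact hdiag_mul F r hr t u a

theorem lift_rels : ∀ g ∈ chevE6.steinbergRels F, FreeGroup.lift (gen27 F) g = 1 := by
  intro g hg
  rcases hg with (⟨r, t₁, t₂, hr, rfl⟩ | ⟨r, s, t, u, hr, hs, h1, h2, rfl⟩) | ⟨r, t₁, t₂, hr, h1, h2, rfl⟩
  · rw [map_mul, map_mul, map_inv, lift_stX, lift_stX, lift_stX, x27GL_mul, mul_inv_cancel]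
  · rw [map_mul, map_mul, map_mul, map_mul, map_inv, map_inv, map_inv, lift_stX, lift_stX, lift_stWord,
      comm_rel F r s hr hs h1 h2, mul_inv_cancel]
  · unfold ChevalleyDatum.stH
    rw [map_mul, map_mul, map_inv, lift_stWord, lift_stWord, lift_stWord, h_rel F r hr t₁ t₂ h1 h2,
      mul_inv_cancel]

/-- the homomorphism from the Steinberg group to `GL₂₇` -/
def psi0 : chevE6.SteinbergGroup F →* GL I27 F := PresentedGroup.toGroup (lift_rels F)

theorem psi0_stGen (r : ℕ) (t : F) : psi0 F (chevE6.stGen F r t) = x27GL F r t := by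
  show FreeGroup.lift (gen27 F) (chevE6.stX r t) = x27GL F r t
  exact lift_stX F r t

/-- the subgroup generated by the root elements -/
def G0 : Subgroup (GL I27 F) := Subgroup.closure {g | ∃ (r : ℕ) (t : F), g = x27GL F r t}

theorem range_psi0 : (psi0 F).range = G0 F := by
  apply le_antisymm
  · rintro _ ⟨x, rfl⟩
    induction x using PresentedGroup.induction_on with
    | _ z =>
      show FreeGroup.lift (gen27 F) z ∈ G0 F
      induction z using FreeGroup.induction_on with
      | C1 => rw [map_one]; exact Subgroup.one_mem _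
      | of p =>
        rw [FreeGroup.lift_apply_of]
        exact Subgroup.subset_closure ⟨p.1.val, p.2, rfl⟩
      | inv_of p ih => rw [map_inv]; exact Subgroup.inv_mem _ ih
      | mul x y ihx ihy => rw [map_mul]; exact Subgroup.mul_mem _ ihx ihy
  · unfold G0
    rw [Subgroup.closure_le]
    rintro _ ⟨r, t, rfl⟩
    exact ⟨chevE6.stGen F r t, psi0_stGen F r t⟩

end Cfsg.Agent.Helper83.E6C
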