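import Mathlib
import Cfsg.Agent.Helper83.E6CForm
import Cfsg.Agent.Helper83.E6CRoot3

/-!
# The root elements preserve the cubic form
-/

set_option autoImplicit false
set_option linter.unusedSectionVars false
set_option linter.unnecessarySeqFocus false

namespace Cfsg.Agent.Helper83.E6C

open Cfsg.Lie Matrix

section Generic

variable {ι : Type*} [DecidableEq ι] {F : Type*} [CommRing F]

/-- the action of a sparse row on a vector -/
def rowAct (o : Option (ι × ℤ)) (v : ι → F) : F :=
  match o with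
  | some q => (q.2 : F) * v q.1
  | none => 0

/-- the monomials of the derivative of a cubic form along a row-monomial matrix -/
def dterms (M : List (ι × ι × ι × ℤ)) (f : ι → Option (ι × ℤ)) : List (ι × ι × ι × ℤ) :=
  M.flatMap fun m =>
    (match f m.1 with
      | some q => [(q.1, m.2.1, m.2.2.1, m.2.2.2 * q.2)]
      | none => []) ++
    ((match f m.2.1 with
      | some q => [(m.1, q.1, m.2.2.1, m.2.2.2 * q.2)]
      | none => []) ++
    (match f m.2.2.1 with
      | some q => [(m.1, m.2.1, q.1, m.2.2.2 * q.2)]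
      | none => []))

theorem Dl_rowAct (M : List (ι × ι × ι × ℤ)) (f : ι → Option (ι × ℤ)) (v : ι → F) :
    Dl M v (fun a => rowAct (f a) v) = Tl (dterms M f) v := by
  induction M with
  | nil => simp [Dl, Tl, dterms]
  | cons m M ih =>
    simp only [Dl, Tl, dterms, List.map_cons, List.sum_cons, List.flatMap_cons, List.map_append,
      List.sum_append] at ih ⊢
    rw [ih]
    cases f m.1 <;> cases f m.2.1 <;> cases f m.2.2.1 <;> simp [rowAct] <;> ring

theorem Tl_Dl_zero (M : List (ι × ι × ι × ℤ)) (u v : ι → F)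
    (h : ∀ m ∈ M, u m.1 * u m.2.1 = 0 ∧ u m.1 * u m.2.2.1 = 0 ∧ u m.2.1 * u m.2.2.1 = 0) :
    Tl M u = 0 ∧ Dl M u v = 0 := by
  induction M with
  | nil => simp [Dl, Tl]
  | cons m M ih =>
    obtain ⟨h1, h2, h3⟩ := h m List.mem_cons_self
    obtain ⟨i1, i2⟩ := ih (fun m' hm' => h m' (List.mem_cons_of_mem _ hm'))
    simp only [Dl, Tl, List.map_cons, List.sum_cons] at i1 i2 ⊢
    rw [i1, i2]
    constructor
    · linear_combination (m.2.2.2 : F) * u m.2.2.1 * h1
    · linear_combination (m.2.2.2 : F) * v m.1 * h3 + (m.2.2.2 : F) * v m.2.1 * h2 +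
        (m.2.2.2 : F) * v m.2.2.1 * h1

/-- the coefficient of a monomial in a list -/
def coefL (L : List (ι × ι × ι × ℤ)) (k : ι × ι × ι) : ℤ :=
  (L.map fun m => if (m.1, m.2.1, m.2.2.1) = k then m.2.2.2 else 0).sum

theorem Tl_eq_sum_coef [Fintype ι] (L : List (ι × ι × ι × ℤ)) (v : ι → F) :
    Tl L v = ∑ k : ι × ι × ι, (coefL L k : F) * (v k.1 * v k.2.1 * v k.2.2) := by
  induction L with
  | nil => simp [Tl, coefL]
  | cons m L ih =>
    simp only [Tl, coefL, List.map_cons, List.sum_cons] at ih ⊢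
    rw [ih]
    simp only [Int.cast_add, add_mul, Finset.sum_add_distrib]
    congr 1
    rw [Finset.sum_eq_single (m.1, m.2.1, m.2.2.1)]
    · simp
    · intro k _ hk
      rw [if_neg (Ne.symm hk)]
      simp
    · intro h
      exact absurd (Finset.mem_univ _) h

theorem coefL_of_not_mem (L : List (ι × ι × ι × ℤ)) (k : ι × ι × ι)
    (h : ∀ m ∈ L, (m.1, m.2.1, m.2.2.1) ≠ k) : coefL L k = 0 := by
  induction L with
  | nil => rfl
  | cons m L ih =>
    simp only [coefL, List.map_cons, List.sum_cons] at ih ⊢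
    rw [ih (fun m' hm' => h m' (List.mem_cons_of_mem _ hm')), if_neg (h m List.mem_cons_self), add_zero]

theorem Tl_eq_zero_of_cancel [Fintype ι] (L : List (ι × ι × ι × ℤ))
    (h : ∀ m ∈ L, coefL L (m.1, m.2.1, m.2.2.1) = 0) (v : ι → F) : Tl L v = 0 := by
  rw [Tl_eq_sum_coef]
  apply Finset.sum_eq_zero
  intro k _
  by_cases hk : ∃ m ∈ L, (m.1, m.2.1, m.2.2.1) = k
  · obtain ⟨m, hm, rfl⟩ := hk
    rw [h m hm, Int.cast_zero, zero_mul]
  · push Not at hk
    rw [coefL_of_not_mem L k hk, Int.cast_zero, zero_mul]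

end Generic

/-- sort the coordinates of a monomial by their codes -/
def sortM (m : I27 × I27 × I27 × ℤ) : I27 × I27 × I27 × ℤ :=
  if enc m.1 ≤ enc m.2.1 then
    if enc m.2.1 ≤ enc m.2.2.1 then (m.1, m.2.1, m.2.2.1, m.2.2.2)
    else if enc m.1 ≤ enc m.2.2.1 then (m.1, m.2.2.1, m.2.1, m.2.2.2) else (m.2.2.1, m.1, m.2.1, m.2.2.2)
  else
    if enc m.1 ≤ enc m.2.2.1 then (m.2.1, m.1, m.2.2.1, m.2.2.2)
    else if enc m.2.1 ≤ enc m.2.2.1 then (m.2.1, m.2.2.1, m.1, m.2.2.2) else (m.2.2.1, m.2.1, m.1, m.2.2.2)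

theorem Tl_sortM {F : Type*} [CommRing F] (L : List (I27 × I27 × I27 × ℤ)) (v : I27 → F) :
    Tl (L.map sortM) v = Tl L v := by
  induction L with
  | nil => rfl
  | cons m L ih =>
    simp only [Tl, List.map_cons, List.sum_cons] at ih ⊢
    rw [ih]
    congr 1
    unfold sortM
    split_ifs <;> simp <;> ring

/-- at most one of three -/
def amo (x y z : Bool) : Bool := !(x && y) && !(x && z) && !(y && z)

/-- the check that `x_r(t)` preserves the cubic form -/
def invOK (r : ℕ) : Bool :=
  (mons.all fun m => amo (rowE r m.1).isSome (rowE r m.2.1).isSome (rowE r m.2.2.1).isSome) &&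
  (let L := (dterms mons (rowE r)).map sortM
   L.all fun m => decide (coefL L (m.1, m.2.1, m.2.2.1) = 0))

set_option maxRecDepth 100000 in
theorem inv_all : (List.range 72).all invOK = true := by decide +kernel

end Cfsg.Agent.Helper83.E6C
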