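import Mathlib
import Cfsg.Agent.Helper83.E6CInv

/-!
# The root elements lie in the isometry group of the cubic form
-/

set_option autoImplicit false

namespace Cfsg.Agent.Helper83.E6C

open Cfsg.Lie Matrix

section Mem

variable (F : Type*) [Field F]

theorem Emat_mulVec (r : ℕ) (v : I27 → F) : Emat F r *ᵥ v = fun a => rowAct (rowE r a) v := by
  funext a
  show ∑ b, Emat F r a b * v b = _
  simp only [Emat_apply]
  cases h : rowE r a with
  | none => simp [rowVal, rowAct]
  | some q =>
    simp only [rowVal, rowAct]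
    rw [Finset.sum_eq_single q.1]
    · simp
    · intro b _ hb
      rw [if_neg (Ne.symm hb)]
      simp
    · intro h
      exact absurd (Finset.mem_univ _) h

theorem rowAct_mul_eq_zero (o1 o2 : Option (I27 × ℤ)) (v : I27 → F)
    (h : (!(o1.isSome && o2.isSome)) = true) : rowAct o1 v * rowAct o2 v = 0 := by
  cases o1 with
  | none => simp [rowAct]
  | some q1 =>
    cases o2 with
    | none => simp [rowAct]
    | some q2 => simp at h

theorem x27_mem (r : ℕ) (t : F) : x27GL F r t ∈ E6univ F := by
  by_cases hr : r < 72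
  · rw [mem_E6univ_iff]
    intro v
    rw [x27GL_val]
    unfold x27 xr
    rw [Matrix.add_mulVec, Matrix.one_mulVec, Matrix.smul_mulVec, Emat_mulVec, Tl_add_smul]
    have h := all_range inv_all r hr
    unfold invOK at h
    rw [Bool.and_eq_true] at h
    obtain ⟨h1, h2⟩ := h
    have hz := Tl_Dl_zero mons (fun a => rowAct (rowE r a) v) v (fun m hm => by
      have := (List.all_eq_true.mp h1) m hm
      unfold amo at this
      simp only [Bool.and_eq_true] at this
      exact ⟨rowAct_mul_eq_zero F _ _ v this.1.1, rowAct_mul_eq_zero F _ _ v this.1.2,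
        rowAct_mul_eq_zero F _ _ v this.2⟩)
    have hc : Tl (dterms mons (rowE r)) v = 0 := by
      rw [← Tl_sortM (dterms mons (rowE r))]
      exact Tl_eq_zero_of_cancel _ (fun m hm => of_decide_eq_true ((List.all_eq_true.mp h2) m hm)) v
    rw [hz.1, hz.2, Dl_rowAct, hc]
    ring
  · rw [x27GL_of_ge F r (not_lt.mp hr)]
    exact Subgroup.one_mem _

theorem G0_le : G0 F ≤ E6univ F := by
  unfold G0
  rw [Subgroup.closure_le]
  rintro _ ⟨r, t, rfl⟩
  exact x27_mem F r t

end Mem

end Cfsg.Agent.Helper83.E6C
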