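import Mathlib
import Cfsg.Agent.Helper83.E6CInv2

/-!
# Elimination: an isometry of the cubic form is a product of root elements

`PS S` says that every isometry whose columns `σ ∈ S` are multiples of basis vectors lies in the group
`G0` generated by the root elements. One step of the elimination adds a coordinate to `S`.
-/

set_option autoImplicit false

namespace Cfsg.Agent.Helper83.E6C

open Cfsg.Lie Matrix

/-! ### Checks on the tables -/

theorem link_third : ∀ σ : I27, ∀ p ∈ link σ,
    third σ p.2.1 = some (p.1, p.2.2) ∧ third σ p.1 = some (p.2.1, p.2.2) := by decide +kernel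

theorem link_sign : ∀ σ : I27, ∀ p ∈ link σ, p.2.2 = 1 ∨ p.2.2 = -1 := by decide +kernel

set_option maxRecDepth 100000 in
theorem rowE_sign_all : (List.range 72).all (fun r => allI27.all fun a =>
    match rowE r a with
    | some q => decide (q.2 = 1 ∨ q.2 = -1)
    | none => true) = true := by decide +kernel

theorem rowE_sign (r : ℕ) (a : I27) (q : I27 × ℤ) (h : rowE r a = some q) : q.2 = 1 ∨ q.2 = -1 := by
  by_cases hr : r < 72
  · have := all_I27 (all_range rowE_sign_all r hr) a
    rw [h] at this
    exact of_decide_eq_true this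
  · rw [rowE_of_ge r (not_lt.mp hr)] at h
    exact absurd h (by simp)

section Field

variable {F : Type*} [Field F]

theorem rowE_sign_ne (r : ℕ) (a : I27) (q : I27 × ℤ) (h : rowE r a = some q) : ((q.2 : ℤ) : F) ≠ 0 := by
  rcases rowE_sign r a q h with h | h
  · rw [h]; simp
  · rw [h]; simp

theorem link_sign_ne (σ : I27) (p : I27 × I27 × ℤ) (h : p ∈ link σ) : ((p.2.2 : ℤ) : F) ≠ 0 := by
  rcases link_sign σ p h with h | h
  · rw [h]; simp
  · rw [h]; simp

/-- the columns in `S` are multiples of basis vectors -/
def FixS (g : GL I27 F) (S : List I27) : Prop := ∀ σ ∈ S, ColFix g σ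

variable (F) in
/-- every isometry fixing the lines of `S` is a product of root elements -/
def PS (S : List I27) : Prop := ∀ g : GL I27 F, g ∈ E6univ F → FixS g S → g ∈ G0 F

theorem x27GL_mem_G0 (r : ℕ) (t : F) : x27GL F r t ∈ G0 F := Subgroup.subset_closure ⟨r, t, rfl⟩

theorem x27_mul_apply (r : ℕ) (t : F) (g : GL I27 F) (a c : I27) :
    ((x27GL F r t * g : GL I27 F) : Matrix I27 I27 F) a c =
      (g : Matrix I27 I27 F) a c + t * rowAct (rowE r a) (fun b => (g : Matrix I27 I27 F) b c) := by
  rw [Units.val_mul, x27GL_val]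
  unfold x27 xr
  rw [add_mul, one_mul, smul_mul_assoc, Matrix.add_apply, Matrix.smul_apply, smul_eq_mul]
  congr 2
  have := congrFun (Emat_mulVec F r (fun b => (g : Matrix I27 I27 F) b c)) a
  exact this

/-- the root vector `α` kills the basis vectors of `S` -/
def colZero (S : List I27) (α : ℕ) : Bool :=
  allI27.all fun a =>
    match rowE α a with
    | some q => decide (q.1 ∉ S)
    | none => true

theorem fix_mul (S : List I27) (α : ℕ) (h : colZero S α = true) (t : F) (g : GL I27 F) (hg : FixS g S) :
    FixS (x27GL F α t * g) S := by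
  intro σ hσ a ha
  rw [x27_mul_apply, hg σ hσ a ha, zero_add]
  have h1 := all_I27 h a
  cases hq : rowE α a with
  | none => simp [rowAct]
  | some q =>
    rw [hq] at h1
    have h2 : q.1 ∉ S := of_decide_eq_true h1
    have h3 : q.1 ≠ σ := fun e => h2 (e ▸ hσ)
    simp only [rowAct]
    rw [hg σ hσ q.1 h3, mul_zero, mul_zero]

/-! ### Zeros forced by the fixed columns -/

/-- entries of column `μ` which vanish for every isometry fixing the lines of `S` -/
def Z0 (S : List I27) (μ : I27) : List I27 :=
  (S.flatMap fun σ => if third σ μ = none then (link σ).flatMap (fun p => [p.1, p.2.1]) else []) ++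
  (S.flatMap fun σ => S.flatMap fun τ =>
    match third σ τ with
    | some q => if q.1 = μ then [] else [q.1]
    | none => [])

variable (hF : ∃ a : F, a ≠ 0 ∧ a ≠ 1)
include hF

theorem Z0_sound (S : List I27) (μ : I27) (g : GL I27 F) (hg : g ∈ E6univ F) (hS : FixS g S) :
    ∀ a ∈ Z0 S μ, (g : Matrix I27 I27 F) a μ = 0 := by
  intro a ha
  unfold Z0 at ha
  rw [List.mem_append] at ha
  rcases ha with ha | ha
  · rw [List.mem_flatMap] at ha
    obtain ⟨σ, hσ, ha⟩ := ha
    split_ifs at ha with h1
    · rw [List.mem_flatMap] at ha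
      obtain ⟨p, hp, ha⟩ := ha
      obtain ⟨e1, e2⟩ := link_third σ p hp
      simp only [List.mem_cons, List.not_mem_nil, or_false] at ha
      rcases ha with rfl | rfl
      · exact zeroA hF g hg σ μ p.2.1 (hS σ hσ) h1 _ e1
      · exact zeroA hF g hg σ μ p.1 (hS σ hσ) h1 _ e2
    · exact absurd ha (List.not_mem_nil)
  · rw [List.mem_flatMap] at ha
    obtain ⟨σ, hσ, ha⟩ := ha
    rw [List.mem_flatMap] at ha
    obtain ⟨τ, hτ, ha⟩ := ha
    cases hq : third σ τ with
    | none =>
      rw [hq] at ha
      exact absurd ha (List.not_mem_nil)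
    | some q =>
      rw [hq] at ha
      simp only at ha
      split_ifs at ha with h1
      · exact absurd ha (List.not_mem_nil)
      · rw [List.mem_singleton] at ha
        subst ha
        have h := rel3 hF g hg σ τ μ (hS σ hσ) (hS τ hτ) q hq
        rw [if_neg h1] at h
        rcases mul_eq_zero.mp h with h | h
        · exact absurd h (diag_ne_zero g σ (hS σ hσ))
        · rcases mul_eq_zero.mp h with h | h
          · exact absurd h (diag_ne_zero g τ (hS τ hτ))
          · exact h

/-! ### The pivot -/

/-- the pivot is forced to be non-zero -/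
def pivot1 (S : List I27) (μ : I27) : Bool :=
  S.any fun σ => S.any fun τ =>
    match third σ τ with
    | some q => decide (q.1 = μ)
    | none => false

theorem pivot1_sound (S : List I27) (μ : I27) (h : pivot1 S μ = true) (g : GL I27 F) (hg : g ∈ E6univ F)
    (hS : FixS g S) : (g : Matrix I27 I27 F) μ μ ≠ 0 := by
  unfold pivot1 at h
  rw [List.any_eq_true] at h
  obtain ⟨σ, hσ, h⟩ := h
  rw [List.any_eq_true] at h
  obtain ⟨τ, hτ, h⟩ := h
  cases hq : third σ τ with
  | none =>
    rw [hq] at h
    exact absurd h (by simp)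
  | some q =>
    rw [hq] at h
    have h1 : q.1 = μ := of_decide_eq_true h
    have h2 := rel3 hF g hg σ τ μ (hS σ hσ) (hS τ hτ) q hq
    rw [if_pos h1, h1] at h2
    intro h0
    rw [h0, mul_zero, mul_zero] at h2
    exact zero_ne_one h2

omit hF

/-- a path of root vectors from `ν` to `μ` -/
def pathOK (S : List I27) (μ : I27) : I27 → List (ℕ × I27) → Bool
  | ν, [] => decide (ν = μ)
  | ν, p :: rest => colZero S p.1 &&
      (match rowE p.1 p.2 with
      | some q => decide (q.1 = ν)
      | none => false) && pathOK S μ p.2 rest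

theorem reach (S : List I27) (μ : I27) : ∀ (path : List (ℕ × I27)) (ν : I27), pathOK S μ ν path = true →
    ∀ g : GL I27 F, FixS g S → (g : Matrix I27 I27 F) ν μ ≠ 0 →
      ∃ n ∈ G0 F, FixS (n * g) S ∧ ((n * g : GL I27 F) : Matrix I27 I27 F) μ μ ≠ 0
  | [], ν, h, g, hS, hν => by
    have e : ν = μ := of_decide_eq_true h
    subst e
    exact ⟨1, Subgroup.one_mem _, by rwa [one_mul], by rwa [one_mul]⟩
  | p :: rest, ν, h, g, hS, hν => by
    unfold pathOK at h
    simp only [Bool.and_eq_true] at h
    obtain ⟨⟨h1, h2⟩, h3⟩ := h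
    by_cases h0 : (g : Matrix I27 I27 F) p.2 μ = 0
    · cases hq : rowE p.1 p.2 with
      | none =>
        rw [hq] at h2
        exact absurd h2 (by simp)
      | some q =>
        rw [hq] at h2
        have e : q.1 = ν := of_decide_eq_true h2
        have hS1 := fix_mul S p.1 h1 (1 : F) g hS
        have hne : ((x27GL F p.1 1 * g : GL I27 F) : Matrix I27 I27 F) p.2 μ ≠ 0 := by
          rw [x27_mul_apply, h0, zero_add, one_mul, hq]
          simp only [rowAct]
          rw [e]
          exact mul_ne_zero (rowE_sign_ne p.1 p.2 q hq) hν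
        obtain ⟨n, hn, hS2, hne2⟩ := reach S μ rest p.2 h3 (x27GL F p.1 1 * g) hS1 hne
        refine ⟨n * x27GL F p.1 1, Subgroup.mul_mem _ hn (x27GL_mem_G0 _ _), ?_, ?_⟩
        · rwa [mul_assoc]
        · rwa [mul_assoc]
    · exact reach S μ rest p.2 h3 g hS h0

/-- the data for finding a non-zero pivot -/
structure P2Data where
  /-- a fixed coordinate symplectic to the pivot, if any -/
  s0 : Option I27
  /-- the paths from the possible non-zero coordinates to the pivot -/
  paths : List (I27 × List (ℕ × I27))

/-- `a` is a zero or the start of a path -/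
def covered (S : List I27) (μ : I27) (d : P2Data) (a : I27) : Bool :=
  decide (a ∈ Z0 S μ) || d.paths.any fun p => decide (p.1 = a)

/-- the check of the data for the pivot -/
def p2OK (S : List I27) (μ : I27) (d : P2Data) : Bool :=
  (match d.s0 with
    | none => allI27.all fun a => covered S μ d a
    | some σ => decide (σ ∈ S) && (third σ μ).isSome &&
        (link σ).all fun p => covered S μ d p.1 && covered S μ d p.2.1) &&
  d.paths.all fun p => pathOK S μ p.1 p.2

theorem col_ne_zero (g : GL I27 F) (μ : I27) : ∃ a, (g : Matrix I27 I27 F) a μ ≠ 0 := by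
  by_contra hcon
  push Not at hcon
  have h1 : ((g⁻¹ * g : GL I27 F) : Matrix I27 I27 F) μ μ = 1 := by simp
  rw [Units.val_mul, Matrix.mul_apply] at h1
  have h2 : ∑ a, ((g⁻¹ : GL I27 F) : Matrix I27 I27 F) μ a * (g : Matrix I27 I27 F) a μ = 0 :=
    Finset.sum_eq_zero (fun a _ => by rw [hcon a, mul_zero])
  rw [h2] at h1
  exact zero_ne_one h1

include hF

theorem p2_sound (S : List I27) (μ : I27) (d : P2Data) (h : p2OK S μ d = true) (g : GL I27 F)
    (hg : g ∈ E6univ F) (hS : FixS g S) :
    ∃ n ∈ G0 F, FixS (n * g) S ∧ ((n * g : GL I27 F) : Matrix I27 I27 F) μ μ ≠ 0 := by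
  unfold p2OK at h
  rw [Bool.and_eq_true] at h
  obtain ⟨h1, h2⟩ := h
  have key : ∀ a, covered S μ d a = true → (g : Matrix I27 I27 F) a μ ≠ 0 →
      ∃ n ∈ G0 F, FixS (n * g) S ∧ ((n * g : GL I27 F) : Matrix I27 I27 F) μ μ ≠ 0 := by
    intro a ha hne
    unfold covered at ha
    rw [Bool.or_eq_true] at ha
    rcases ha with ha | ha
    · exact absurd (Z0_sound hF S μ g hg hS a (of_decide_eq_true ha)) hne
    · rw [List.any_eq_true] at ha
      obtain ⟨p, hp, hpa⟩ := ha
      have e : p.1 = a := of_decide_eq_true hpa
      have hpath := (List.all_eq_true.mp h2) p hp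
      rw [e] at hpath
      exact reach S μ p.2 a hpath g hS hne
  cases hs0 : d.s0 with
  | none =>
    rw [hs0] at h1
    obtain ⟨a, ha⟩ := col_ne_zero g μ
    exact key a (all_I27 h1 a) ha
  | some σ =>
    rw [hs0] at h1
    simp only [Bool.and_eq_true, decide_eq_true_eq] at h1
    obtain ⟨⟨hσ, h3⟩, h4⟩ := h1
    obtain ⟨q, hq⟩ := Option.isSome_iff_exists.mp h3
    obtain ⟨p, hp, hne⟩ := nonzeroS hF g hg σ μ (hS σ hσ) q hq
    have h5 := (List.all_eq_true.mp h4) p hp
    rw [Bool.and_eq_true] at h5
    rcases hne with hne | hne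
    · exact key p.1 h5.1 hne
    · exact key p.2.1 h5.2 hne

omit hF

/-! ### Clearing and killing entries of the pivot column -/

/-- a move of the elimination -/
inductive Move
  | clear (α : ℕ) (tgt : I27)
  | kill (ρ ν : I27)

/-- the coordinate that a move makes zero -/
def moveZ : Move → I27
  | .clear _ tgt => tgt
  | .kill _ ν => ν

/-- the check of a clearing move -/
def clearOK (S : List I27) (μ : I27) (Z : List I27) (α : ℕ) (tgt : I27) : Bool :=
  colZero S α &&
    (match rowE α tgt with
    | some q => decide (q.1 = μ)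
    | none => false) &&
    (μ :: Z).all fun a =>
      match rowE α a with
      | some q => decide (q.1 ∈ Z)
      | none => true

/-- the check of a killing move -/
def killOK (μ : I27) (Z : List I27) (ρ ν : I27) : Bool :=
  match (link ρ).filter (fun p => decide (p.1 ∉ Z) && decide (p.2.1 ∉ Z)) with
  | [p] => (decide (p.1 = μ) && decide (p.2.1 = ν)) || (decide (p.1 = ν) && decide (p.2.1 = μ))
  | _ => false

/-- the check of a move -/
def moveOK (S : List I27) (μ : I27) (Z : List I27) : Move → Bool
  | .clear α tgt => clearOK S μ Z α tgt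
  | .kill ρ ν => killOK μ Z ρ ν

/-- the state of the elimination of column `μ` -/
def Good (S : List I27) (μ : I27) (Z : List I27) (g : GL I27 F) : Prop :=
  g ∈ E6univ F ∧ FixS g S ∧ (g : Matrix I27 I27 F) μ μ ≠ 0 ∧ ∀ a ∈ Z, (g : Matrix I27 I27 F) a μ = 0

theorem sum_filter_of_zero {α : Type*} (L : List α) (p : α → Bool) (f : α → F)
    (h : ∀ x ∈ L, p x = false → f x = 0) : (L.map f).sum = ((L.filter p).map f).sum := by
  induction L with
  | nil => rfl
  | cons x L ih =>
    rw [List.map_cons, List.sum_cons, ih (fun y hy => h y (List.mem_cons_of_mem _ hy))]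
    by_cases hx : p x = true
    · rw [List.filter_cons_of_pos hx, List.map_cons, List.sum_cons]
    · rw [List.filter_cons_of_neg hx, h x List.mem_cons_self (by simpa using hx), zero_add]

include hF

theorem move_sound (S : List I27) (μ : I27) (Z : List I27) (m : Move) (h : moveOK S μ Z m = true)
    (g : GL I27 F) (hg : Good S μ Z g) : ∃ n ∈ G0 F, Good S μ (moveZ m :: Z) (n * g) := by
  obtain ⟨hgE, hS, hμ, hZ⟩ := hg
  cases m with
  | clear α tgt =>
    change clearOK S μ Z α tgt = true at h
    unfold clearOK at h
    simp only [Bool.and_eq_true] at h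
    obtain ⟨⟨h1, h2⟩, h3⟩ := h
    cases hq : rowE α tgt with
    | none =>
      rw [hq] at h2
      exact absurd h2 (by simp)
    | some q =>
      rw [hq] at h2
      have e : q.1 = μ := of_decide_eq_true h2
      have hs := rowE_sign_ne (F := F) α tgt q hq
      -- rows in `μ :: Z` do not change
      have hrow : ∀ a ∈ μ :: Z, ∀ t : F, ((x27GL F α t * g : GL I27 F) : Matrix I27 I27 F) a μ =
          (g : Matrix I27 I27 F) a μ := by
        intro a ha t
        rw [x27_mul_apply]
        have h4 := (List.all_eq_true.mp h3) a ha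
        cases hqa : rowE α a with
        | none => simp [rowAct]
        | some q' =>
          rw [hqa] at h4
          have h5 : q'.1 ∈ Z := of_decide_eq_true h4
          simp only [rowAct]
          rw [hZ q'.1 h5, mul_zero, mul_zero, add_zero]
      let t : F := -((g : Matrix I27 I27 F) tgt μ) / ((q.2 : F) * (g : Matrix I27 I27 F) μ μ)
      refine ⟨x27GL F α t, x27GL_mem_G0 _ _, Subgroup.mul_mem _ (x27_mem F α t) hgE, fix_mul S α h1 t g hS, ?_, ?_⟩
      · rw [hrow μ List.mem_cons_self t]
        exact hμ
      · intro a ha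
        simp only [moveZ, List.mem_cons] at ha
        rcases ha with rfl | ha
        · rw [x27_mul_apply, hq]
          simp only [rowAct]
          rw [e]
          show _ + -((g : Matrix I27 I27 F) a μ) / ((q.2 : F) * (g : Matrix I27 I27 F) μ μ) * _ = 0
          field_simp
          ring
        · rw [hrow a (List.mem_cons_of_mem _ ha) t]
          exact hZ a ha
  | kill ρ ν =>
    change killOK μ Z ρ ν = true at h
    unfold killOK at h
    refine ⟨1, Subgroup.one_mem _, ?_⟩
    rw [one_mul]
    refine ⟨hgE, hS, hμ, ?_⟩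
    intro a ha
    simp only [moveZ, List.mem_cons] at ha
    rcases ha with rfl | ha
    · have hw := white hF g hgE μ ρ
      rw [sum_filter_of_zero (link ρ) (fun p => decide (p.1 ∉ Z) && decide (p.2.1 ∉ Z)) _ (fun p _ hp => by
        simp only [Bool.and_eq_false_iff, decide_eq_false_iff_not, not_not] at hp
        rcases hp with hp | hp
        · rw [hZ p.1 hp, zero_mul, mul_zero]
        · rw [hZ p.2.1 hp, mul_zero, mul_zero])] at hw
      split at h
      · rename_i p hfil
        rw [hfil] at hw
        simp only [List.map_cons, List.map_nil, List.sum_cons, List.sum_nil, add_zero] at hw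
        have hpm : p ∈ link ρ := by
          have : p ∈ (link ρ).filter (fun p => decide (p.1 ∉ Z) && decide (p.2.1 ∉ Z)) := by
            rw [hfil]
            exact List.mem_singleton_self p
          exact (List.mem_filter.mp this).1
        have hs := link_sign_ne (F := F) ρ p hpm
        simp only [Bool.or_eq_true, Bool.and_eq_true, decide_eq_true_eq] at h
        rcases mul_eq_zero.mp hw with hw | hw
        · exact absurd hw hs
        · rcases h with ⟨e1, e2⟩ | ⟨e1, e2⟩
          · rw [e1, e2] at hw
            rcases mul_eq_zero.mp hw with hw | hw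
            · exact absurd hw hμ
            · exact hw
          · rw [e1, e2] at hw
            rcases mul_eq_zero.mp hw with hw | hw
            · exact hw
            · exact absurd hw hμ
      · exact absurd h (by simp)
    · exact hZ a ha

omit hF

/-- run the moves, returning the final list of zeros -/
def movesOK (S : List I27) (μ : I27) : List I27 → List Move → Option (List I27)
  | Z, [] => some Z
  | Z, m :: ms => if moveOK S μ Z m = true then movesOK S μ (moveZ m :: Z) ms else none

include hF

theorem moves_sound (S : List I27) (μ : I27) : ∀ (ms : List Move) (Z Z' : List I27),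
    movesOK S μ Z ms = some Z' → ∀ g : GL I27 F, Good S μ Z g → ∃ n ∈ G0 F, Good S μ Z' (n * g)
  | [], Z, Z', h, g, hg => by
    simp only [movesOK, Option.some.injEq] at h
    subst h
    exact ⟨1, Subgroup.one_mem _, by rwa [one_mul]⟩
  | m :: ms, Z, Z', h, g, hg => by
    unfold movesOK at h
    split_ifs at h with h1
    obtain ⟨n1, hn1, hg1⟩ := move_sound hF S μ Z m h1 g hg
    obtain ⟨n2, hn2, hg2⟩ := moves_sound S μ ms _ Z' h (n1 * g) hg1
    exact ⟨n2 * n1, Subgroup.mul_mem _ hn2 hn1, by rwa [mul_assoc]⟩

omit hF

/-- one step of the elimination -/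
structure Step where
  /-- the column to be cleared -/
  mu : I27
  /-- the data for the pivot, if it is not forced -/
  p2 : Option P2Data
  /-- the moves -/
  moves : List Move

/-- the check of a step -/
def stepOK (S : List I27) (st : Step) : Bool :=
  (match st.p2 with
    | none => pivot1 S st.mu
    | some d => p2OK S st.mu d) &&
  (match movesOK S st.mu (Z0 S st.mu) st.moves with
    | some Z => allI27.all fun a => decide (a = st.mu) || decide (a ∈ Z)
    | none => false)

include hF

theorem step_sound (S : List I27) (st : Step) (h : stepOK S st = true) (hP : PS F (st.mu :: S)) :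
    PS F S := by
  intro g hg hS
  unfold stepOK at h
  rw [Bool.and_eq_true] at h
  obtain ⟨h1, h2⟩ := h
  -- the pivot
  have hpiv : ∃ n ∈ G0 F, FixS (n * g) S ∧ ((n * g : GL I27 F) : Matrix I27 I27 F) st.mu st.mu ≠ 0 := by
    cases hp : st.p2 with
    | none =>
      rw [hp] at h1
      exact ⟨1, Subgroup.one_mem _, by rwa [one_mul], by
        rw [one_mul]
        exact pivot1_sound hF S st.mu h1 g hg hS⟩
    | some d =>
      rw [hp] at h1
      exact p2_sound hF S st.mu d h1 g hg hS
  obtain ⟨n1, hn1, hS1, hμ1⟩ := hpiv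
  have hg1 : n1 * g ∈ E6univ F := Subgroup.mul_mem _ (G0_le F hn1) hg
  have hgood : Good S st.mu (Z0 S st.mu) (n1 * g) := ⟨hg1, hS1, hμ1, Z0_sound hF S st.mu _ hg1 hS1⟩
  cases hm : movesOK S st.mu (Z0 S st.mu) st.moves with
  | none =>
    rw [hm] at h2
    exact absurd h2 (by simp)
  | some Z =>
    rw [hm] at h2
    obtain ⟨n2, hn2, hg2, hS2, hμ2, hZ2⟩ := moves_sound hF S st.mu st.moves _ Z hm (n1 * g) hgood
    have hfix : FixS (n2 * (n1 * g)) (st.mu :: S) := by
      intro σ hσ
      rw [List.mem_cons] at hσ
      rcases hσ with rfl | hσ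
      · intro a ha
        have h3 := all_I27 h2 a
        simp only [Bool.or_eq_true, decide_eq_true_eq] at h3
        rcases h3 with h3 | h3
        · exact absurd h3 ha
        · exact hZ2 a h3
      · exact hS2 σ hσ
    have hmem := hP _ hg2 hfix
    have e : g = n1⁻¹ * (n2⁻¹ * (n2 * (n1 * g))) := by group
    rw [e]
    exact Subgroup.mul_mem _ (Subgroup.inv_mem _ hn1) (Subgroup.mul_mem _ (Subgroup.inv_mem _ hn2) hmem)

omit hF

/-- the check of a plan -/
def planOK : List I27 → List Step → Bool
  | _, [] => true
  | S, st :: rest => stepOK S st && planOK (st.mu :: S) rest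

/-- the fixed coordinates at the end of a plan -/
def planEnd : List I27 → List Step → List I27
  | S, [] => S
  | S, st :: rest => planEnd (st.mu :: S) rest

include hF

theorem plan_sound : ∀ (plan : List Step) (S : List I27), planOK S plan = true →
    PS F (planEnd S plan) → PS F S
  | [], S, _, hP => hP
  | st :: rest, S, h, hP => by
    unfold planOK at h
    rw [Bool.and_eq_true] at h
    exact step_sound hF S st h.1 (plan_sound rest (st.mu :: S) h.2 hP)

omit hF

end Field

end Cfsg.Agent.Helper83.E6C
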