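import Mathlib
import Cfsg.Agent.Helper83.E6CElim

/-!
# The plan of the elimination (generated) and its check
-/

set_option autoImplicit false

namespace Cfsg.Agent.Helper83.E6C

open Cfsg.Lie

/-- step 0 of the elimination -/
def step0 : Step :=
  { mu := (0,0,0),
    p2 := some { s0 := none, paths := [((0,0,0), []), ((0,0,1), [(29, (0,0,0))]), ((0,0,2), [(3, (0,0,0))]), ((0,1,0), [(18, (0,0,0))]), ((0,1,1), [(4, (1,2,2)), (56, (0,0,0))]), ((0,1,2), [(0, (2,1,2)), (28, (0,0,0))]), ((0,2,0), [(16, (0,0,0))]), ((0,2,1), [(2, (1,2,2)), (56, (0,0,0))]), ((0,2,2), [(0, (2,1,1)), (26, (0,0,0))]), ((1,0,0), [(1, (0,0,1)), (29, (0,0,0))]), ((1,0,1), [(0, (0,0,1)), (29, (0,0,0))]), ((1,0,2), [(3, (1,2,2)), (56, (0,0,0))]), ((1,1,0), [(1, (0,0,0))]), ((1,1,1), [(0, (0,0,0))]), ((1,1,2), [(17, (0,0,0))]), ((1,2,0), [(27, (0,0,0))]), ((1,2,1), [(20, (0,0,0))]), ((1,2,2), [(56, (0,0,0))]), ((2,0,0), [(0, (1,2,2)), (56, (0,0,0))]), ((2,0,1), [(19, (0,0,0))]), ((2,0,2), [(21, (0,0,0))]),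 ((2,1,0), [(1, (1,2,2)), (56, (0,0,0))]), ((2,1,1), [(26, (0,0,0))]), ((2,1,2), [(28, (0,0,0))]), ((2,2,0), [(0, (1,2,0)), (27, (0,0,0))]), ((2,2,1), [(2, (0,0,0))]), ((2,2,2), [(4, (0,0,0))])] },
    moves := [.clear 15 (1,2,2), .clear 42 (0,0,1), .clear 43 (2,1,2), .clear 44 (1,2,0), .kill (0,2,2) (0,1,1), .clear 45 (2,1,1), .kill (0,1,2) (0,2,1), .kill (1,0,1) (2,1,0), .kill (2,0,0) (1,0,0), .kill (2,2,0) (1,0,2), .clear 50 (2,0,2), .clear 51 (1,2,1), .clear 52 (2,0,1), .kill (1,0,0) (2,0,0), .kill (2,1,0) (1,0,1), .clear 53 (0,1,0), .clear 54 (1,1,2), .kill (0,2,1) (0,1,2), .clear 55 (0,2,0), .kill (0,1,1) (0,2,2), .kill (1,0,2) (2,2,0), .clear 67 (2,2,2), .clear 68 (0,0,2), .clear 69 (2,2,1), .clear 70 (1,1,0), .clear 71 (1,1,1)] }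

/-- step 1 of the elimination -/
def step1 : Step :=
  { mu := (0,1,1),
    p2 := some { s0 := some (0,0,0), paths := [((0,1,1), []), ((0,2,2), [(5, (1,0,2)), (35, (0,1,1))]), ((0,1,2), [(6, (0,1,1))]), ((0,2,1), [(33, (0,1,1))]), ((1,0,0), [(11, (0,1,1))]), ((2,0,0), [(22, (0,1,1))]), ((1,0,1), [(8, (0,1,1))]), ((2,1,0), [(30, (0,1,1))]), ((1,0,2), [(35, (0,1,1))]), ((2,2,0), [(5, (0,1,1))])] },
    moves := [.clear 4 (1,2,2), .clear 18 (0,0,1), .clear 20 (2,1,2), .clear 21 (1,2,0), .kill (0,2,2) (0,0,0), .kill (1,1,1) (2,1,1), .clear 27 (2,0,2), .clear 28 (1,2,1), .kill (1,1,0) (2,0,1), .clear 29 (0,1,0), .kill (0,0,2) (0,2,0), .kill (2,2,1) (1,1,2), .clear 36 (1,0,2), .kill (0,2,0) (0,0,2), .clear 38 (0,2,1), .kill (1,1,2) (2,2,1), .clear 41 (2,1,0), .kill (2,0,1) (1,1,0), .clear 49 (2,0,0), .kill (0,0,0) (0,2,2), .kill (2,1,1) (1,1,1), .clear 56 (2,2,2), .clear 60 (1,0,0), .clear 63 (1,0,1), .clear 65 (0,1,2), .clear 66 (2,2,0)] }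

/-- step 2 of the elimination -/
def step2 : Step :=
  { mu := (0,2,2),
    p2 := none,
    moves := [.clear 0 (2,1,1), .clear 1 (2,0,1), .clear 2 (1,1,2), .clear 3 (0,2,0), .kill (0,1,1) (0,0,0), .kill (2,2,2) (1,2,2), .clear 5 (1,0,2), .clear 6 (0,2,1), .kill (0,1,0) (0,0,1), .clear 8 (2,1,0), .kill (1,2,1) (2,1,2), .kill (2,0,2) (1,2,0), .clear 11 (2,0,0), .kill (0,0,0) (0,1,1), .kill (0,0,1) (0,1,0), .kill (1,2,0) (2,0,2), .kill (2,1,2) (1,2,1), .clear 16 (0,0,2), .clear 17 (2,2,1), .clear 19 (1,1,0), .clear 22 (1,0,0), .kill (1,2,2) (2,2,2), .clear 26 (1,1,1), .clear 30 (1,0,1), .clear 33 (0,1,2), .clear 35 (2,2,0)] }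

/-- step 3 of the elimination -/
def step3 : Step :=
  { mu := (0,0,1),
    p2 := some { s0 := some (0,2,2), paths := [((0,0,1), []), ((0,1,0), [(7, (1,2,2)), (57, (0,0,1))]), ((1,2,0), [(31, (0,0,1))]), ((2,0,2), [(24, (0,0,1))]), ((1,2,1), [(23, (0,0,1))]), ((2,1,2), [(32, (0,0,1))]), ((1,2,2), [(57, (0,0,1))]), ((2,2,2), [(7, (0,0,1))])] },
    moves := [.clear 14 (1,2,2), .clear 39 (2,1,2), .clear 40 (1,2,0), .kill (0,2,2) (0,1,0), .clear 47 (2,0,2), .clear 48 (1,2,1), .clear 64 (2,2,2)] }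

/-- step 4 of the elimination -/
def step4 : Step :=
  { mu := (0,1,0),
    p2 := none,
    moves := [.clear 7 (1,2,2), .clear 23 (2,1,2), .clear 24 (1,2,0), .kill (0,2,2) (0,0,1), .clear 31 (2,0,2), .clear 32 (1,2,1), .clear 57 (2,2,2)] }

/-- step 5 of the elimination -/
def step5 : Step :=
  { mu := (0,0,2),
    p2 := some { s0 := some (0,1,0), paths := [((0,0,2), []), ((2,0,1), [(58, (0,0,2))]), ((2,1,1), [(61, (0,0,2))]), ((2,2,1), [(34, (0,0,2))])] },
    moves := [.clear 10 (2,1,1), .clear 13 (2,0,1), .clear 37 (2,2,1)] }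

/-- step 6 of the elimination -/
def step6 : Step :=
  { mu := (0,2,0),
    p2 := none,
    moves := [.clear 34 (1,1,2), .clear 58 (1,1,0), .clear 61 (1,1,1)] }

/-- step 7 of the elimination -/
def step7 : Step :=
  { mu := (0,1,2),
    p2 := none,
    moves := [] }

/-- step 8 of the elimination -/
def step8 : Step :=
  { mu := (0,2,1),
    p2 := none,
    moves := [] }

/-- step 9 of the elimination -/
def step9 : Step :=
  { mu := (1,0,0),
    p2 := some { s0 := some (0,2,0), paths := [((1,0,0), []), ((1,0,1), [(25, (1,0,0))]), ((1,0,2), [(59, (1,0,0))])] },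
    moves := [.clear 12 (1,0,2), .clear 46 (1,0,1)] }

/-- step 10 of the elimination -/
def step10 : Step :=
  { mu := (2,0,0),
    p2 := none,
    moves := [.clear 25 (2,1,0), .clear 59 (2,2,0)] }

/-- step 11 of the elimination -/
def step11 : Step :=
  { mu := (1,1,0),
    p2 := none,
    moves := [] }

/-- step 12 of the elimination -/
def step12 : Step :=
  { mu := (1,2,0),
    p2 := none,
    moves := [] }

/-- step 13 of the elimination -/
def step13 : Step :=
  { mu := (2,0,1),
    p2 := none,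
    moves := [] }

/-- step 14 of the elimination -/
def step14 : Step :=
  { mu := (2,0,2),
    p2 := none,
    moves := [] }

/-- step 15 of the elimination -/
def step15 : Step :=
  { mu := (1,0,1),
    p2 := some { s0 := some (1,2,0), paths := [((1,0,1), []), ((1,0,2), [(62, (1,0,1))])] },
    moves := [.clear 9 (1,0,2)] }

/-- step 16 of the elimination -/
def step16 : Step :=
  { mu := (1,1,2),
    p2 := none,
    moves := [.clear 62 (1,1,1)] }

/-- step 17 of the elimination -/
def step17 : Step :=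
  { mu := (1,2,1),
    p2 := none,
    moves := [] }

/-- step 18 of the elimination -/
def step18 : Step :=
  { mu := (1,0,2),
    p2 := none,
    moves := [] }

/-- step 19 of the elimination -/
def step19 : Step :=
  { mu := (1,1,1),
    p2 := none,
    moves := [] }

/-- step 20 of the elimination -/
def step20 : Step :=
  { mu := (1,2,2),
    p2 := none,
    moves := [] }

/-- step 21 of the elimination -/
def step21 : Step :=
  { mu := (2,1,0),
    p2 := none,
    moves := [] }

/-- step 22 of the elimination -/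
def step22 : Step :=
  { mu := (2,1,1),
    p2 := none,
    moves := [] }

/-- step 23 of the elimination -/
def step23 : Step :=
  { mu := (2,1,2),
    p2 := none,
    moves := [] }

/-- step 24 of the elimination -/
def step24 : Step :=
  { mu := (2,2,0),
    p2 := none,
    moves := [] }

/-- step 25 of the elimination -/
def step25 : Step :=
  { mu := (2,2,1),
    p2 := none,
    moves := [] }

/-- step 26 of the elimination -/
def step26 : Step :=
  { mu := (2,2,2),
    p2 := none,
    moves := [] }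

/-- the plan of the elimination -/
def thePlan : List Step := [step0, step1, step2, step3, step4, step5, step6, step7, step8, step9, step10, step11, step12, step13, step14, step15, step16, step17, step18, step19, step20, step21, step22, step23, step24, step25, step26]

set_option maxRecDepth 100000 in
theorem thePlan_ok : planOK [] thePlan = true := by decide +kernel

theorem thePlan_end : ∀ a : I27, a ∈ planEnd [] thePlan := by decide +kernel

end Cfsg.Agent.Helper83.E6C
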