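import Mathlib
import Cfsg.Agent.Helper83.E6CPlan

/-!
# Diagonal isometries of the cubic form are products of root elements, and the elimination
-/

set_option autoImplicit false

namespace Cfsg.Agent.Helper83.E6C

open Cfsg.Lie Matrix

section Field

variable {F : Type*} [Field F]

theorem word27_mem (w : List (ℕ × F)) : word27 F w ∈ G0 F := by
  unfold word27
  apply Subgroup.list_prod_mem
  intro x hx
  rw [List.mem_map] at hx
  obtain ⟨p, _, rfl⟩ := hx
  exact x27GL_mem_G0 _ _

/-- a move of the normalisation of a diagonal isometry -/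
inductive TMove
  | scale (β : ℕ) (a : I27)
  | prop (a b c : I27)

/-- the coordinate normalised by a move -/
def tmoveZ : TMove → I27
  | .scale _ a => a
  | .prop _ _ c => c

/-- the check of a scaling move -/
def scaleOK (N : List I27) (β : ℕ) (a : I27) : Bool :=
  decide (β < 72) && upper β a && !(upper (chevE6.neg β) a) &&
    N.all fun σ => !(upper β σ) && !(upper (chevE6.neg β) σ)

/-- the check of a propagation move -/
def propOK (N : List I27) (a b c : I27) : Bool :=
  decide (a ∈ N) && decide (b ∈ N) &&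
    (match third a b with
    | some q => decide (q.1 = c)
    | none => false)

/-- the check of a move -/
def tmoveOK (N : List I27) : TMove → Bool
  | .scale β a => scaleOK N β a
  | .prop a b c => propOK N a b c

/-- the state of the normalisation -/
def DGood (N : List I27) (g : GL I27 F) : Prop :=
  g ∈ E6univ F ∧ (∀ σ, ColFix g σ) ∧ ∀ a ∈ N, (g : Matrix I27 I27 F) a a = 1

variable (hF : ∃ a : F, a ≠ 0 ∧ a ≠ 1)
include hF

theorem tmove_sound (N : List I27) (m : TMove) (h : tmoveOK N m = true) (g : GL I27 F) (hg : DGood N g) :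
    ∃ n ∈ G0 F, DGood (tmoveZ m :: N) (n * g) := by
  obtain ⟨hgE, hS, hN⟩ := hg
  cases m with
  | scale β a =>
    change scaleOK N β a = true at h
    unfold scaleOK at h
    simp only [Bool.and_eq_true, decide_eq_true_eq, Bool.not_eq_true'] at h
    obtain ⟨⟨⟨hβ, h1⟩, h2⟩, h3⟩ := h
    have hd := diag_ne_zero g a (hS a)
    let t : F := ((g : Matrix I27 I27 F) a a)⁻¹
    have ht : t ≠ 0 := inv_ne_zero hd
    have hval : ∀ i j, ((word27 F (chevE6.hWord β t) * g : GL I27 F) : Matrix I27 I27 F) i j =
        hdiag F β t i * (g : Matrix I27 I27 F) i j := by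
      intro i j
      rw [Units.val_mul, word27_hWord F β hβ t ht, Matrix.diagonal_mul]
    refine ⟨word27 F (chevE6.hWord β t), word27_mem _, Subgroup.mul_mem _ (G0_le F (word27_mem _)) hgE, ?_, ?_⟩
    · intro σ i hi
      rw [hval, hS σ i hi, mul_zero]
    · intro i hi
      simp only [tmoveZ, List.mem_cons] at hi
      rw [hval]
      rcases hi with rfl | hi
      · unfold hdiag
        rw [if_pos h1, if_neg (by rw [h2]; simp)]
        show (1 + (t - 1) * 1 + (t⁻¹ - 1) * 0) * _ = 1
        rw [mul_zero, add_zero, mul_one, add_sub_cancel]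
        exact inv_mul_cancel₀ hd
      · have h4 := (List.all_eq_true.mp h3) i hi
        simp only [Bool.and_eq_true, Bool.not_eq_true'] at h4
        unfold hdiag
        rw [if_neg (by rw [h4.1]; simp), if_neg (by rw [h4.2]; simp), mul_zero, mul_zero, add_zero, add_zero,
          one_mul]
        exact hN i hi
  | prop a b c =>
    change propOK N a b c = true at h
    unfold propOK at h
    simp only [Bool.and_eq_true, decide_eq_true_eq] at h
    obtain ⟨⟨ha, hb⟩, h3⟩ := h
    refine ⟨1, Subgroup.one_mem _, ?_⟩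
    rw [one_mul]
    refine ⟨hgE, hS, ?_⟩
    intro i hi
    simp only [tmoveZ, List.mem_cons] at hi
    rcases hi with rfl | hi
    · cases hq : third a b with
      | none =>
        rw [hq] at h3
        exact absurd h3 (by simp)
      | some q =>
        rw [hq] at h3
        have e : q.1 = i := of_decide_eq_true h3
        have h4 := rel3 hF g hgE a b i (hS a) (hS b) q hq
        rw [if_pos e, e, hN a ha, hN b hb, one_mul, one_mul] at h4
        exact h4
    · exact hN i hi

omit hF

/-- run the moves of the normalisation -/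
def tmovesEnd : List I27 → List TMove → Option (List I27)
  | N, [] => some N
  | N, m :: ms => if tmoveOK N m = true then tmovesEnd (tmoveZ m :: N) ms else none

include hF

theorem tmoves_sound : ∀ (ms : List TMove) (N N' : List I27), tmovesEnd N ms = some N' →
    ∀ g : GL I27 F, DGood N g → ∃ n ∈ G0 F, DGood N' (n * g)
  | [], N, N', h, g, hg => by
    simp only [tmovesEnd, Option.some.injEq] at h
    subst h
    exact ⟨1, Subgroup.one_mem _, by rwa [one_mul]⟩
  | m :: ms, N, N', h, g, hg => by
    unfold tmovesEnd at h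
    split_ifs at h with h1
    obtain ⟨n1, hn1, hg1⟩ := tmove_sound hF N m h1 g hg
    obtain ⟨n2, hn2, hg2⟩ := tmoves_sound ms _ N' h (n1 * g) hg1
    exact ⟨n2 * n1, Subgroup.mul_mem _ hn2 hn1, by rwa [mul_assoc]⟩

omit hF

/-- the plan of the normalisation -/
def torusPlan : List TMove := [.scale 0 (0,0,0), .scale 5 (0,0,1), .scale 63 (0,0,2), .scale 33 (0,1,0), .prop (0,0,1) (0,1,0) (0,2,2), .prop (0,0,2) (0,1,0) (0,2,1), .prop (0,0,0) (0,2,2) (0,1,1), .prop (0,0,0) (0,2,1) (0,1,2), .prop (0,0,1) (0,1,2) (0,2,0), .scale 59 (1,0,0), .prop (0,0,0) (1,0,0) (2,0,0), .prop (0,0,1) (2,0,0) (1,1,0), .prop (0,0,2) (2,0,0) (1,2,0), .prop (0,1,0) (1,0,0) (2,0,1), .prop (0,2,2) (1,2,0) (2,0,2), .scale 62 (1,0,1), .prop (0,0,0) (1,0,1) (2,1,0), .prop (0,0,1) (2,1,0) (1,1,1), .prop (0,0,2) (2,1,0) (1,2,1), .prop (0,1,0) (1,0,1) (2,1,1), .prop (0,2,2) (1,2,1) (2,1,2), .prop (1,0,0) (1,1,1) (1,2,2), .prop (1,0,0) (1,2,1) (1,1,2), .prop (2,0,0) (2,1,1) (2,2,2), .prop (2,0,0) (2,1,2) (2,2,1), .prop (1,1,0) (1,2,1)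 (1,0,2), .prop (2,0,1) (2,1,2) (2,2,0)]

theorem torusPlan_ok : ∃ N', tmovesEnd [] torusPlan = some N' ∧ ∀ a : I27, a ∈ N' := by
  refine ⟨_, rfl, ?_⟩
  decide +kernel

include hF

theorem diag_mem (g : GL I27 F) (hg : g ∈ E6univ F) (hS : ∀ σ, ColFix g σ) : g ∈ G0 F := by
  obtain ⟨N', h1, h2⟩ := torusPlan_ok
  obtain ⟨n, hn, -, hS', hN⟩ := tmoves_sound hF torusPlan [] N' h1 g ⟨hg, hS, fun a ha => absurd ha (List.not_mem_nil)⟩
  have h1 : n * g = 1 := by
    apply Units.ext
    funext i j
    by_cases hij : i = j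
    · subst hij
      rw [hN i (h2 i), Units.val_one, Matrix.one_apply_eq]
    · rw [hS' j i hij, Units.val_one, Matrix.one_apply_ne hij]
  have e : g = n⁻¹ := by
    rw [eq_inv_iff_mul_eq_one, ← h1]
    have := mul_eq_one_iff_eq_inv.mp h1
    rw [this, inv_mul_cancel, mul_inv_cancel]
  rw [e]
  exact Subgroup.inv_mem _ hn

/-- every isometry of the cubic form is a product of root elements -/
theorem E6univ_le_G0 : E6univ F ≤ G0 F := by
  intro g hg
  have hP : PS F (planEnd [] thePlan) := by
    intro g hg hS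
    exact diag_mem hF g hg (fun σ => hS σ (thePlan_end σ))
  exact plan_sound hF thePlan [] thePlan_ok hP g hg (fun σ hσ => absurd hσ (List.not_mem_nil))

theorem E6univ_eq_G0 : E6univ F = G0 F := le_antisymm (E6univ_le_G0 hF) (G0_le F)

omit hF

end Field

end Cfsg.Agent.Helper83.E6C
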