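import Mathlib
import Cfsg.Agent.Helper5.SLn

/-!
# Regular unipotent generation of `SL_n` (helper83): general lemmas on elementary transvections

`Has H i j t` : the elementary transvection `E_ij(t)` lies in the subgroup `H`.
-/

set_option autoImplicit false
set_option linter.unusedSimpArgs false

namespace Cfsg.Agent.Helper83.RegUnip

open Matrix Matrix.SpecialLinearGroup
open scoped commutatorElement

section
variable {ι F : Type*} [DecidableEq ι] [Fintype ι] [Field F]

theorem mul_single_apply' (M : Matrix ι ι F) (i j : ι) (t : F) (x y : ι) :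
    (M * Matrix.single i j t) x y = if y = j then M x i * t else 0 := by
  by_cases h : y = j
  · subst h
    rw [if_pos rfl, Matrix.mul_single_apply_same]
  · rw [if_neg h, Matrix.mul_single_apply_of_ne _ _ _ _ _ h]

theorem single_mul_apply' (M : Matrix ι ι F) (i j : ι) (t : F) (x y : ι) :
    (Matrix.single i j t * M) x y = if x = i then t * M j y else 0 := by
  by_cases h : x = i
  · subst h
    rw [if_pos rfl, Matrix.single_mul_apply_same]
  · rw [if_neg h, Matrix.single_mul_apply_of_ne _ _ _ _ _ h]

/-- general commutator relation `[E_ik(s), E_kj(t)] = E_ij(st)`. -/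
theorem comm_tv {i j k : ι} (hij : i ≠ j) (hik : i ≠ k) (hkj : k ≠ j) (s t : F) :
    ⁅transvection hik s, transvection hkj t⁆ = transvection hij (s * t) := by
  rw [commutatorElement_def, transvection_inv, transvection_inv]
  apply Subtype.ext
  simp only [coe_mul, transvection_coe]
  simp only [mul_add, add_mul, mul_one, one_mul, single_mul_single_same,
    single_mul_single_of_ne _ _ _ _ hik.symm, single_mul_single_of_ne _ _ _ _ hkj.symm,
    single_mul_single_of_ne _ _ _ _ hij.symm, single_mul_single_of_ne _ _ _ _ hij,
    single_mul_single_of_ne _ _ _ _ hik, single_mul_single_of_ne _ _ _ _ hkj,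
    add_zero, zero_add, Matrix.mul_zero, Matrix.zero_mul]
  ext x y
  simp only [Matrix.add_apply, Matrix.single_apply, Matrix.one_apply]
  by_cases h1 : i = x <;> by_cases h2 : k = x <;> by_cases h3 : k = y <;> by_cases h4 : j = y <;>
    (try subst h1) <;> (try subst h2) <;> (try subst h3) <;> (try subst h4) <;>
    simp_all [eq_comm]

/-- the `SL₂(ℤ)` identity `X(-1) Y(1) X(1) Y(-1) X(1) = Y(-1)`. -/
theorem sl2_identity {i j : ι} (hij : i ≠ j) :
    transvection hij (-1 : F) * transvection hij.symm 1 * transvection hij 1 *
      transvection hij.symm (-1) * transvection hij 1 = transvection hij.symm (-1) := by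
  apply Subtype.ext
  simp only [coe_mul, transvection_coe]
  have hji := hij.symm
  simp only [mul_add, add_mul, mul_one, one_mul, single_mul_single_same,
    single_mul_single_of_ne _ _ _ _ hij, single_mul_single_of_ne _ _ _ _ hji,
    add_zero, zero_add, Matrix.mul_zero, Matrix.zero_mul]
  ext x y
  simp only [Matrix.add_apply, Matrix.single_apply, Matrix.one_apply]
  by_cases h1 : i = x <;> by_cases h2 : j = x <;> by_cases h3 : i = y <;> by_cases h4 : j = y <;>
    (try subst h1) <;> (try subst h2) <;> (try subst h3) <;> (try subst h4) <;>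
    simp_all [eq_comm]

/-- `E_ij(t) ∈ H` (for the proof of `i ≠ j`, if any). -/
def Has (H : Subgroup (SpecialLinearGroup ι F)) (i j : ι) (t : F) : Prop :=
  ∀ h : i ≠ j, transvection h t ∈ H

variable {H : Subgroup (SpecialLinearGroup ι F)}

theorem Has.zero (i j : ι) : Has H i j 0 := by
  intro h
  rw [transvection_coeff_zero]
  exact one_mem _

theorem Has.neg {i j : ι} {t : F} (h : Has H i j t) : Has H i j (-t) := by
  intro hij
  rw [← transvection_inv]
  exact inv_mem (h hij)

theorem Has.add {i j : ι} {s t : F} (h1 : Has H i j s) (h2 : Has H i j t) : Has H i j (s + t) := by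
  intro hij
  rw [transvection_add]
  exact mul_mem (h1 hij) (h2 hij)

theorem Has.mul {i j k : ι} {s t : F} (hik : i ≠ k) (hkj : k ≠ j)
    (h1 : Has H i k s) (h2 : Has H k j t) : Has H i j (s * t) := by
  intro hij
  rw [← comm_tv hij hik hkj s t, commutatorElement_def]
  exact mul_mem (mul_mem (mul_mem (h1 hik) (h2 hkj)) (inv_mem (h1 hik))) (inv_mem (h2 hkj))

theorem eq_top_of_has [Nontrivial ι] (h : ∀ (i j : ι) (t : F), Has H i j t) : H = ⊤ := by
  rw [eq_top_iff, ← Cfsg.Agent.Helper5.closure_transvection_eq_top, Subgroup.closure_le]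
  rintro M ⟨i, j, hij, a, rfl⟩
  exact h i j a hij

end

end Cfsg.Agent.Helper83.RegUnip
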