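import Mathlib
import Cfsg.Agent.Helper83.RegUnip1

/-!
# Regular unipotent generation of `SL_n` (helper83): superdiagonal matrices and their powers
-/

set_option autoImplicit false
set_option linter.unusedSimpArgs false

namespace Cfsg.Agent.Helper83.RegUnip

open Matrix

section
variable {F : Type*} [Field F]

/-- the matrix with entries `r i` at positions `(i, i+1)`. -/
def SD (N : ℕ) (r : ℕ → F) : Matrix (Fin N) (Fin N) F :=
  Matrix.of fun i j => if j.val = i.val + 1 then r i.val else 0

theorem SD_pow (N : ℕ) (r : ℕ → F) (k : ℕ) :
    (SD N r) ^ k = Matrix.of fun i j =>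
      if j.val = i.val + k then ∏ l ∈ Finset.range k, r (i.val + l) else 0 := by
  induction k with
  | zero =>
    ext i j
    simp only [pow_zero, Matrix.one_apply, Matrix.of_apply, add_zero, Finset.range_zero,
      Finset.prod_empty, Fin.ext_iff]
    by_cases h : i.val = j.val
    · rw [if_pos h, if_pos h.symm]
    · rw [if_neg h, if_neg (fun h' => h h'.symm)]
  | succ k ih =>
    rw [pow_succ', ih]
    ext i j
    rw [Matrix.mul_apply]
    simp only [SD, Matrix.of_apply]
    have hj := j.isLt
    by_cases hi : i.val + 1 < N
    · rw [Finset.sum_eq_single (⟨i.val + 1, hi⟩ : Fin N)]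
      · rw [if_pos rfl]
        by_cases hjk : j.val = i.val + (k + 1)
        · rw [if_pos hjk, if_pos (by simp only []; omega), Finset.prod_range_succ']
          rw [mul_comm]
          congr 1
          · apply Finset.prod_congr rfl
            intro l _
            congr 1
            simp only []
            omega
        · rw [if_neg hjk, if_neg (by simp only []; omega), mul_zero]
      · intro z _ hz
        rw [if_neg, zero_mul]
        intro h
        apply hz
        exact Fin.ext h
      · intro h
        exact absurd (Finset.mem_univ _) h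
    · rw [Finset.sum_eq_zero]
      · rw [if_neg]
        omega
      · intro z _
        have hz := z.isLt
        rw [if_neg (by omega), zero_mul]

theorem SD_isNilpotent (N : ℕ) (r : ℕ → F) : IsNilpotent (SD N r) := by
  refine ⟨N, ?_⟩
  rw [SD_pow]
  ext i j
  have hj := j.isLt
  simp only [Matrix.of_apply, Matrix.zero_apply]
  rw [if_neg]
  omega

theorem SD_pow_ne_zero (N : ℕ) (hN : 1 ≤ N) (r : ℕ → F) (hr : ∀ l, l < N - 1 → r l ≠ 0) :
    (SD N r) ^ (N - 1) ≠ 0 := by
  rw [SD_pow]
  intro h
  have h1 := congrFun (congrFun h (⟨0, by omega⟩ : Fin N)) (⟨N - 1, by omega⟩ : Fin N)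
  simp only [Matrix.of_apply, Matrix.zero_apply, zero_add, if_true] at h1
  rw [Finset.prod_eq_zero_iff] at h1
  obtain ⟨l, hl, hl0⟩ := h1
  exact hr l (Finset.mem_range.1 hl) hl0

end

end Cfsg.Agent.Helper83.RegUnip
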