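import Mathlib
import Cfsg.Agent.Helper9.SpGen.Final

/-!
# `Sp₄(K)`, `K` of characteristic two, from a Coxeter monomial, a regular unipotent and one long
root element (abstract part of S2281, `n = 2`, `q` even)

Let `X` satisfy the Steinberg relations of type `C₂` over a field of characteristic two and let
`G1` be a subgroup containing

* a monomial element `n` inducing the `4`-cycle `1 → 2 → -1 → -2 → 1` (all coefficients `1`),
* `v = x_a(1) x_b(1)` (`a = e₁ - e₂`, `b = 2e₂`),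
* `x_b(θ)` where every nonzero element of `K` is a positive power of `θ`.

Then `G1` contains all root subgroups.  With `B = {t | x_long(t) ∈ G1}` and
`A = {s | x_short(s) ∈ G1}` (well defined thanks to `n`) one has `B ⊆ A` and `A² ⊆ B` (commutators
with `v`) and `t ∈ B, u ∈ A, tu ∈ A → tu² ∈ B` (the relation `[x_b(t), x_a(u)] =
x_{a+b}(tu) x_{2a+b}(tu²)`), hence `θ^k ∈ B` for all `k ≥ 1` by induction.
-/

set_option autoImplicit false

namespace Cfsg.Agent.Helper83.Sp4E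

open Matrix Cfsg.Agent.Helper96.StN Cfsg.Agent.Helper96.StC Cfsg.Agent.Helper9.SpGen

universe u v

variable {K : Type u} [Field K] {D : Type v} [Group D]
  {X : Fin 2 ⊕ Fin 2 → Fin 2 ⊕ Fin 2 → K → D} {G1 : Subgroup D}

/-- the index `1` -/
abbrev i0 : Fin 2 ⊕ Fin 2 := Sum.inl 0
/-- the index `2` -/
abbrev i1 : Fin 2 ⊕ Fin 2 := Sum.inl 1
/-- the index `-1` -/
abbrev j0 : Fin 2 ⊕ Fin 2 := Sum.inr 0
/-- the index `-2` -/
abbrev j1 : Fin 2 ⊕ Fin 2 := Sum.inr 1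

theorem index_cases (p : Fin 2 ⊕ Fin 2) : p = i0 ∨ p = i1 ∨ p = j0 ∨ p = j1 := by
  revert p
  decide

theorem conj_mem {n : D} {π : Equiv.Perm (Fin 2 ⊕ Fin 2)}
    (hn : IsMono X n π (fun _ => (1 : K))) (hnG : n ∈ G1) {p q : Fin 2 ⊕ Fin 2} (hpq : p ≠ q)
    {t : K} (h : X p q t ∈ G1) : X (π p) (π q) t ∈ G1 := by
  have h1 := hn.2 p q hpq t
  simp only [inv_one, mul_one, one_mul] at h1
  rw [← h1]
  exact mul_mem (mul_mem hnG h) (inv_mem hnG)

theorem neg_mem_iff (hX : SpRel X) {p q : Fin 2 ⊕ Fin 2} (hpq : p ≠ q) {t : K} :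
    X p q (-t) ∈ G1 ↔ X p q t ∈ G1 := by
  rw [← Cfsg.Agent.Helper9.SpGen.X_neg hX hpq]
  exact inv_mem_iff

theorem commute_same (hX : SpRel X) {p q : Fin 2 ⊕ Fin 2} (hpq : p ≠ q) (s t : K) :
    Commute (X p q s) (X p q t) := by
  show X p q s * X p q t = X p q t * X p q s
  rw [← hX.add p q hpq, ← hX.add p q hpq, add_comm]

section main

variable (hX : SpRel X) (h2 : (2 : K) = 0) {n : D} {π : Equiv.Perm (Fin 2 ⊕ Fin 2)}
  (hn : IsMono X n π (fun _ => (1 : K))) (hnG : n ∈ G1)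
  (hπ0 : π i0 = i1) (hπ1 : π i1 = j0) (hπ2 : π j0 = j1) (hπ3 : π j1 = i0)
  (hv : X i0 i1 1 * X i1 j1 1 ∈ G1)

include hX h2 hn hnG hπ0 hπ1 hπ2 hπ3 hv

/-- the key commutator: for `t` long and `u` short -/
theorem comm_long_short (t u : K) :
    X i1 j1 t * X i0 i1 u * (X i1 j1 t)⁻¹ * (X i0 i1 u)⁻¹ =
      X i1 j0 (-(t * u)) * X i0 j0 (-(t * u ^ 2)) := by
  have hs := hX.sym i0 i1 (by decide) (by decide) u
  have e1 : eps K i0 i1 = 1 := by simp [eps]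
  rw [e1, one_mul] at hs
  change X i0 i1 u = X j1 j0 (-u) at hs
  have h6 := hX.r6 i1 j0 (by decide) (by decide) t (-u)
  have e2 : eps K i1 j0 = -1 := by simp [eps]
  have e3 : bar i1 = j1 := rfl
  have e4 : bar j0 = i0 := rfl
  rw [e2, e3, e4] at h6
  rw [hs, h6]
  congr 2 <;> ring

/-- long parameters: `L₁ → L₀` -/
theorem long10 {t : K} (h : X i1 j1 t ∈ G1) : X i0 j0 t ∈ G1 := by
  have h1 := conj_mem hn hnG (by decide) h
  rw [hπ1, hπ3] at h1
  have h2' := conj_mem hn hnG (by decide) h1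
  rw [hπ2, hπ0] at h2'
  have h3 := conj_mem hn hnG (by decide) h2'
  rw [hπ3, hπ1] at h3
  exact h3

/-- long parameters: `L₀ → L₁` -/
theorem long01 {t : K} (h : X i0 j0 t ∈ G1) : X i1 j1 t ∈ G1 := by
  have h1 := conj_mem hn hnG (by decide) h
  rw [hπ0, hπ2] at h1
  exact h1

/-- short parameters: `S₀ → S₁` -/
theorem short01 {t : K} (h : X i0 i1 t ∈ G1) : X i1 j0 t ∈ G1 := by
  have h1 := conj_mem hn hnG (by decide) h
  rw [hπ0, hπ1] at h1
  exact h1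

/-- short parameters: `S₁ → S₀` -/
theorem short10 {t : K} (h : X i1 j0 t ∈ G1) : X i0 i1 t ∈ G1 := by
  have h1 := conj_mem hn hnG (by decide) h
  rw [hπ1, hπ2] at h1
  have h2' := conj_mem hn hnG (by decide) h1
  rw [hπ2, hπ3] at h2'
  have h3 := conj_mem hn hnG (by decide) h2'
  rw [hπ3, hπ0] at h3
  exact h3

/-- (E1) -/
theorem stepE {t u : K} (ht : X i1 j1 t ∈ G1) (hu : X i0 i1 u ∈ G1)
    (htu : X i0 i1 (t * u) ∈ G1) : X i1 j1 (t * u ^ 2) ∈ G1 := by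
  have hc : X i1 j0 (-(t * u)) * X i0 j0 (-(t * u ^ 2)) ∈ G1 := by
    rw [← comm_long_short hX h2 hn hnG hπ0 hπ1 hπ2 hπ3 hv]
    exact mul_mem (mul_mem (mul_mem ht hu) (inv_mem ht)) (inv_mem hu)
  have h1 : X i1 j0 (-(t * u)) ∈ G1 :=
    (neg_mem_iff hX (by decide)).2 (short01 hX h2 hn hnG hπ0 hπ1 hπ2 hπ3 hv htu)
  have h3 : X i0 j0 (-(t * u ^ 2)) ∈ G1 := by
    have := mul_mem (inv_mem h1) hc
    rwa [inv_mul_cancel_left] at this
  exact long01 hX h2 hn hnG hπ0 hπ1 hπ2 hπ3 hv ((neg_mem_iff hX (by decide)).1 h3)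

/-- (V1) `B ⊆ A` -/
theorem stepV1 {t : K} (ht : X i1 j1 t ∈ G1) : X i0 i1 t ∈ G1 := by
  have hc : X i1 j0 (-(t * 1)) * X i0 j0 (-(t * 1 ^ 2)) ∈ G1 := by
    rw [← comm_long_short hX h2 hn hnG hπ0 hπ1 hπ2 hπ3 hv]
    -- `[x_b(t), x_a(1)] = [x_b(t), v]`
    have hB : X i1 j1 1 * (X i1 j1 t)⁻¹ * (X i1 j1 1)⁻¹ = (X i1 j1 t)⁻¹ := by
      rw [(commute_same hX (by decide) 1 t).inv_right.eq, mul_inv_cancel_right]
    have e : X i1 j1 t * X i0 i1 1 * (X i1 j1 t)⁻¹ * (X i0 i1 1)⁻¹ =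
        X i1 j1 t * (X i0 i1 1 * X i1 j1 1) * (X i1 j1 t)⁻¹ * (X i0 i1 1 * X i1 j1 1)⁻¹ := by
      calc X i1 j1 t * X i0 i1 1 * (X i1 j1 t)⁻¹ * (X i0 i1 1)⁻¹
          = X i1 j1 t * X i0 i1 1 * (X i1 j1 1 * (X i1 j1 t)⁻¹ * (X i1 j1 1)⁻¹) *
              (X i0 i1 1)⁻¹ := by rw [hB]
        _ = _ := by group
    rw [e]
    exact mul_mem (mul_mem (mul_mem ht hv) (inv_mem ht)) (inv_mem hv)
  rw [mul_one, one_pow, mul_one] at hc
  have h0 : X i0 j0 (-t) ∈ G1 :=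
    (neg_mem_iff hX (by decide)).2 (long10 hX h2 hn hnG hπ0 hπ1 hπ2 hπ3 hv ht)
  have h1 : X i1 j0 (-t) ∈ G1 := by
    have := mul_mem hc (inv_mem h0)
    rwa [mul_inv_cancel_right] at this
  exact short10 hX h2 hn hnG hπ0 hπ1 hπ2 hπ3 hv ((neg_mem_iff hX (by decide)).1 h1)

/-- (V2) `A² ⊆ B` -/
theorem stepV2 {s : K} (hs : X i0 i1 s ∈ G1) : X i1 j1 (s ^ 2) ∈ G1 := by
  -- `x_a(1)` commutes with `x_{a+b}` (characteristic two) and with `x_{2a+b}`
  have hc1 : ∀ w : K, Commute (X i0 i1 1) (X i1 j0 w) := by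
    intro w
    have h5 := hX.r5 i0 i1 (by decide) (by decide) 1 w
    have e3 : bar i0 = j0 := rfl
    rw [e3, h2, zero_mul, zero_mul, Cfsg.Agent.Helper9.SpGen.X_zero hX (by decide)] at h5
    have h6 := mul_inv_eq_one.mp h5
    rw [mul_inv_eq_iff_eq_mul] at h6
    exact h6
  have hc2 : ∀ w : K, Commute (X i0 i1 1) (X i0 j0 w) :=
    fun w => hX.comm i0 i1 i0 j0 (by decide) (by decide) (by decide) (by decide) (by decide)
      (by decide) 1 w
  have hc : X i1 j0 (-(1 * s)) * X i0 j0 (-(1 * s ^ 2)) ∈ G1 := by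
    have hcomm := comm_long_short hX h2 hn hnG hπ0 hπ1 hπ2 hπ3 hv 1 s
    have hA : X i0 i1 s * (X i0 i1 1)⁻¹ * (X i0 i1 s)⁻¹ = (X i0 i1 1)⁻¹ := by
      rw [(commute_same hX (by decide) s 1).inv_right.eq, mul_inv_cancel_right]
    have hY : Commute (X i0 i1 1) (X i1 j0 (-(1 * s)) * X i0 j0 (-(1 * s ^ 2))) :=
      (hc1 _).mul_right (hc2 _)
    have e : X i1 j0 (-(1 * s)) * X i0 j0 (-(1 * s ^ 2)) =
        (X i0 i1 1 * X i1 j1 1) * X i0 i1 s * (X i0 i1 1 * X i1 j1 1)⁻¹ * (X i0 i1 s)⁻¹ := by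
      symm
      calc (X i0 i1 1 * X i1 j1 1) * X i0 i1 s * (X i0 i1 1 * X i1 j1 1)⁻¹ * (X i0 i1 s)⁻¹
          = X i0 i1 1 * (X i1 j1 1 * X i0 i1 s * (X i1 j1 1)⁻¹ * (X i0 i1 s)⁻¹) *
              (X i0 i1 s * (X i0 i1 1)⁻¹ * (X i0 i1 s)⁻¹) := by group
        _ = X i0 i1 1 * (X i1 j0 (-(1 * s)) * X i0 j0 (-(1 * s ^ 2))) * (X i0 i1 1)⁻¹ := by
            rw [hcomm, hA]
        _ = _ := by rw [hY.eq, mul_inv_cancel_right]
    rw [e]
    exact mul_mem (mul_mem (mul_mem hv hs) (inv_mem hv)) (inv_mem hs)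
  rw [one_mul, one_mul] at hc
  have h1 : X i1 j0 (-s) ∈ G1 :=
    (neg_mem_iff hX (by decide)).2 (short01 hX h2 hn hnG hπ0 hπ1 hπ2 hπ3 hv hs)
  have h3 : X i0 j0 (-(s ^ 2)) ∈ G1 := by
    have := mul_mem (inv_mem h1) hc
    rwa [inv_mul_cancel_left] at this
  exact long01 hX h2 hn hnG hπ0 hπ1 hπ2 hπ3 hv ((neg_mem_iff hX (by decide)).1 h3)

/-- all positive powers of `θ` are long parameters -/
theorem pow_mem {θ : K} (hθ : X i1 j1 θ ∈ G1) : ∀ k : ℕ, 0 < k → X i1 j1 (θ ^ k) ∈ G1 := by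
  intro k
  induction k using Nat.strong_induction_on with
  | _ k ih =>
    intro hk
    rcases Nat.even_or_odd' k with ⟨j, rfl | rfl⟩
    · have hj : 0 < j := by omega
      have h1 := ih j (by omega) hj
      have h2' := stepV1 hX h2 hn hnG hπ0 hπ1 hπ2 hπ3 hv h1
      have h3 := stepV2 hX h2 hn hnG hπ0 hπ1 hπ2 hπ3 hv h2'
      rwa [← pow_mul, mul_comm] at h3
    · rcases Nat.eq_zero_or_pos j with rfl | hj
      · simpa using hθ
      · have h1 := stepV1 hX h2 hn hnG hπ0 hπ1 hπ2 hπ3 hv (ih j (by omega) hj)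
        have h2' := stepV1 hX h2 hn hnG hπ0 hπ1 hπ2 hπ3 hv (ih (j + 1) (by omega) (by omega))
        have e : θ * θ ^ j = θ ^ (j + 1) := by ring
        have h3 := stepE hX h2 hn hnG hπ0 hπ1 hπ2 hπ3 hv hθ h1 (by rw [e]; exact h2')
        have e2 : θ * (θ ^ j) ^ 2 = θ ^ (2 * j + 1) := by ring
        rwa [e2] at h3

/-- the abstract generation statement -/
theorem eq_top_of_data
    (hcl : Subgroup.closure {g : D | ∃ p q, p ≠ q ∧ ∃ t, g = X p q t} = ⊤)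
    {θ : K} (hθ : X i1 j1 θ ∈ G1) (hgen : ∀ x : K, x ≠ 0 → ∃ k : ℕ, 0 < k ∧ x = θ ^ k) :
    G1 = ⊤ := by
  have L1 : RootIn X G1 i1 j1 := by
    intro x
    by_cases hx : x = 0
    · rw [hx, Cfsg.Agent.Helper9.SpGen.X_zero hX (by decide)]
      exact one_mem _
    · obtain ⟨k, hk, rfl⟩ := hgen x hx
      exact pow_mem hX h2 hn hnG hπ0 hπ1 hπ2 hπ3 hv hθ k hk
  have S0 : RootIn X G1 i0 i1 := fun x => stepV1 hX h2 hn hnG hπ0 hπ1 hπ2 hπ3 hv (L1 x)
  have L2 : RootIn X G1 j0 i0 := by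
    have := RootIn.conj hn hnG (by decide) L1
    rwa [hπ1, hπ3] at this
  have L3 : RootIn X G1 j1 i1 := by
    have := RootIn.conj hn hnG (by decide) L2
    rwa [hπ2, hπ0] at this
  have L0 : RootIn X G1 i0 j0 := by
    have := RootIn.conj hn hnG (by decide) L3
    rwa [hπ3, hπ1] at this
  have S1 : RootIn X G1 i1 j0 := by
    have := RootIn.conj hn hnG (by decide) S0
    rwa [hπ0, hπ1] at this
  have S2 : RootIn X G1 j0 j1 := by
    have := RootIn.conj hn hnG (by decide) S1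
    rwa [hπ1, hπ2] at this
  have S3 : RootIn X G1 j1 i0 := by
    have := RootIn.conj hn hnG (by decide) S2
    rwa [hπ2, hπ3] at this
  have T0 : RootIn X G1 j1 j0 := RootIn.sym hX (by decide) (by decide) S0
  have T1 : RootIn X G1 i0 j1 := RootIn.sym hX (by decide) (by decide) S1
  have T2 : RootIn X G1 i1 i0 := RootIn.sym hX (by decide) (by decide) S2
  have T3 : RootIn X G1 j0 i1 := RootIn.sym hX (by decide) (by decide) S3
  apply eq_top_of_rootIn hcl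
  · intro p q hpq hq
    rcases index_cases p with rfl | rfl | rfl | rfl <;>
      rcases index_cases q with rfl | rfl | rfl | rfl <;>
      first
        | exact absurd rfl hpq
        | exact absurd rfl hq
        | assumption
  · intro p
    rcases index_cases p with rfl | rfl | rfl | rfl <;> assumption

end main

end Cfsg.Agent.Helper83.Sp4E
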