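import Mathlib
import Cfsg.Agent.Helper83.Sp4EvenA

/-!
# `Sp₄(q)`, `q ≥ 4` even, is generated by three conjugate regular unipotents (S2281, `n = 2`)

`u = x_a(1) x_b(1)` (`a = e₁ - e₂`, `b = 2e₂`).  Over the prime field `u` is conjugate to the
Coxeter monomial matrix `n` (the permutation matrix of a `4`-cycle is a regular unipotent in
characteristic two): `g u g⁻¹ = n` for `g = x_{-a}(1) x_{-a-b}(1) x_{-b}(1)`.  The torus element
`h = diag(λ, λ, λ⁻¹, λ⁻¹)` centralizes `x_a(1)` and `u⁻¹ (h u h⁻¹) = x_b(λ² - 1)`.  With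
`λ² - 1 = θ` a generator of the multiplicative group, `Sp4EvenA` applies.
-/

set_option autoImplicit false

namespace Cfsg.Agent.Helper83.Sp4E

open Matrix Cfsg.Agent.Helper96.StN Cfsg.Agent.Helper96.StC Cfsg.Agent.Helper29.StCM
  Cfsg.Agent.Helper19.SpBN Cfsg.Agent.Helper9.SpGen

universe u

/-! ### the finite computations over the prime field -/

/-- the rotation of the four indices -/
abbrev rot2 : Equiv.Perm (Fin 2 ⊕ Fin 2) := rot 2 (by norm_num)

theorem rot2_i0 : rot2 i0 = i1 := by decide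
theorem rot2_i1 : rot2 i1 = j0 := by decide
theorem rot2_j0 : rot2 j0 = j1 := by decide
theorem rot2_j1 : rot2 j1 = i0 := by decide

/-- `g u = n g` over the prime field -/
theorem key0 :
    spM i1 i0 (1 : ZMod 2) * spM j0 i1 1 * spM j1 i1 1 * (spM i0 i1 1 * spM i1 j1 1) =
      monoM rot2 (cn (ZMod 2) 2) * (spM i1 i0 1 * spM j0 i1 1 * spM j1 i1 1) := by
  decide +kernel

/-- `(u - 1)⁴ = 0` over the prime field -/
theorem nil0 : (spM i0 i1 (1 : ZMod 2) * spM i1 j1 1 - 1) ^ 4 = 0 := by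
  decide +kernel

/-- `(u - 1)³ ≠ 0` over the prime field -/
theorem reg0 : ((spM i0 i1 (1 : ZMod 2) * spM i1 j1 1 - 1 :
    Matrix (Fin 2 ⊕ Fin 2) (Fin 2 ⊕ Fin 2) (ZMod 2)) ^ 3) i0 j0 = 1 := by
  decide +kernel


/-! ### transfer to a field of characteristic two -/

section transfer

variable (F : Type u) [Field F] [CharP F 2]

/-- the embedding of the prime field -/
noncomputable def phi : ZMod 2 →+* F := ZMod.castHom (dvd_refl 2) F

theorem phi_eps (p q : Fin 2 ⊕ Fin 2) : phi F (eps (ZMod 2) p q) = eps F p q := by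
  unfold eps
  split_ifs
  · rw [map_one]
  · rw [map_neg, map_one]

theorem spM_map (p q : Fin 2 ⊕ Fin 2) (t : ZMod 2) :
    (phi F).mapMatrix (spM p q t) = spM p q (phi F t) := by
  unfold spM
  split_ifs with h
  · rw [map_add, map_one, RingHom.mapMatrix_apply, Matrix.map_single]
  · rw [map_sub, map_add, map_one, RingHom.mapMatrix_apply, RingHom.mapMatrix_apply,
      Matrix.map_single, Matrix.map_single, map_mul, phi_eps]

theorem spM_one_map (p q : Fin 2 ⊕ Fin 2) :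
    (phi F).mapMatrix (spM p q (1 : ZMod 2)) = spM p q (1 : F) := by
  rw [spM_map, map_one]

theorem monoM_map (π : Equiv.Perm (Fin 2 ⊕ Fin 2)) :
    (phi F).mapMatrix (monoM π (cn (ZMod 2) 2)) = monoM π (cn F 2) := by
  ext r k
  simp only [RingHom.mapMatrix_apply, Matrix.map_apply, monoM, cn]
  split_ifs <;> simp [CharTwo.neg_eq]

/-- `g u = n g` -/
theorem key :
    spM i1 i0 (1 : F) * spM j0 i1 1 * spM j1 i1 1 * (spM i0 i1 1 * spM i1 j1 1) =
      monoM rot2 (cn F 2) * (spM i1 i0 1 * spM j0 i1 1 * spM j1 i1 1) := by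
  have h := congrArg (phi F).mapMatrix key0
  simpa only [map_mul, spM_one_map, monoM_map] using h

theorem nil : (spM i0 i1 (1 : F) * spM i1 j1 1 - 1) ^ 4 = 0 := by
  have h := congrArg (phi F).mapMatrix nil0
  simpa only [map_pow, map_sub, map_mul, map_one, map_zero, spM_one_map] using h

theorem reg : (spM i0 i1 (1 : F) * spM i1 j1 1 - 1) ^ 3 ≠ 0 := by
  intro h0
  have e : (phi F).mapMatrix ((spM i0 i1 (1 : ZMod 2) * spM i1 j1 1 - 1) ^ 3) =
      (spM i0 i1 (1 : F) * spM i1 j1 1 - 1) ^ 3 := by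
    simp only [map_pow, map_sub, map_mul, map_one, spM_one_map]
  have h1 : ((phi F).mapMatrix ((spM i0 i1 (1 : ZMod 2) * spM i1 j1 1 - 1) ^ 3)) i0 j0 = 1 := by
    rw [RingHom.mapMatrix_apply, Matrix.map_apply, reg0, map_one]
  rw [e, h0] at h1
  exact zero_ne_one h1

end transfer


/-! ### the assembly -/

section final

variable {F : Type u} [Field F] [Fintype F] [CharP F 2]

omit [Fintype F] in
theorem cn_eq_one : cn F 2 = fun _ => (1 : F) := by
  funext p
  unfold cn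
  split_ifs
  · exact CharTwo.neg_eq 1
  · rfl

theorem four_le_card (hF : Fintype.card F ≠ 2) : 4 ≤ Fintype.card F := by
  obtain ⟨n, -, hc⟩ := FiniteField.card F 2
  have hn : (n : ℕ) ≠ 1 := by
    intro h
    rw [h, pow_one] at hc
    exact hF hc
  have h2 : 2 ≤ (n : ℕ) := by
    have := n.pos
    omega
  calc 4 = 2 ^ 2 := by norm_num
    _ ≤ 2 ^ (n : ℕ) := Nat.pow_le_pow_right (by norm_num) h2
    _ = Fintype.card F := hc.symm

/-- **S2281 for `n = 2`, `q` even**: `Sp₄(F)`, `F` a finite field of characteristic two with more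
than two elements, is generated by three conjugate regular unipotent elements. -/
theorem exists_triple_two_even (hF : Fintype.card F ≠ 2) :
    ∃ u g h : Matrix.symplecticGroup (Fin 2) F,
      IsNilpotent ((u : Matrix (Fin 2 ⊕ Fin 2) (Fin 2 ⊕ Fin 2) F) - 1) ∧
      ((u : Matrix (Fin 2 ⊕ Fin 2) (Fin 2 ⊕ Fin 2) F) - 1) ^ (2 * 2 - 1) ≠ 0 ∧
      Subgroup.closure ({u, g * u * g⁻¹, h * u * h⁻¹} :
        Set (Matrix.symplecticGroup (Fin 2) F)) = ⊤ := by
  classical
  have h4 := four_le_card hF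
  obtain ⟨θ, hθ0, hgen, hθ2⟩ := exists_field_generator F
  have hθ1 : θ ≠ 1 := by
    intro h
    exact hθ2 h4 (by rw [h, one_pow])
  obtain ⟨lam, hlam⟩ := FiniteField.isSquare_of_char_two (ringChar.eq F 2) (θ + 1)
  have hl0 : lam ≠ 0 := by
    intro h
    rw [h, mul_zero] at hlam
    apply hθ1
    have h1 : θ = -1 := eq_neg_of_add_eq_zero_left hlam
    rw [h1, CharTwo.neg_eq]
  have hX : SpRel (XS F 2) := XS_spRel
  -- the Coxeter monomial
  have hπ := rot_bar 2 (by norm_num)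
  have hcn : ∀ k, cn F 2 k * cn F 2 (bar k) * sgn F k = sgn F (rot2 k) :=
    cn_cond (by norm_num) (pos_rot 2 (by norm_num))
  let n : SpG F 2 := ⟨monoM rot2 (cn F 2), monoM_mem hπ hcn⟩
  have hn : IsMono (XS F 2) n rot2 (cn F 2) := isMono_of_coe hπ hcn rfl
  rw [cn_eq_one] at hn
  -- the torus element
  have hdc : ∀ k, dT lam k * dT lam (bar k) * sgn F k =
      sgn F ((1 : Equiv.Perm (Fin 2 ⊕ Fin 2)) k) := dT_cond le_rfl hl0
  have hπ1 : ∀ k, (1 : Equiv.Perm (Fin 2 ⊕ Fin 2)) (bar k) =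
      bar ((1 : Equiv.Perm (Fin 2 ⊕ Fin 2)) k) := fun _ => rfl
  let hT : SpG F 2 := ⟨monoM 1 (dT lam), monoM_mem hπ1 hdc⟩
  have hh : IsMono (XS F 2) hT 1 (dT lam) := isMono_of_coe hπ1 hdc rfl
  have d0 : dT lam i0 = lam := by simp [dT, pos]
  have d1 : dT lam i1 = lam := by simp [dT, pos]
  have d3 : dT lam j1 = lam⁻¹ := by simp [dT, pos]
  -- the elements
  set a1 : SpG F 2 := XS F 2 i0 i1 1 with ha1
  set b1 : SpG F 2 := XS F 2 i1 j1 1 with hb1
  set v : SpG F 2 := a1 * b1 with hv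
  set g : SpG F 2 := XS F 2 i1 i0 1 * XS F 2 j0 i1 1 * XS F 2 j1 i1 1 with hg
  have hvcoe : (v : Matrix (Fin 2 ⊕ Fin 2) (Fin 2 ⊕ Fin 2) F) =
      spM i0 i1 (1 : F) * spM i1 j1 1 := by
    show (XS F 2 i0 i1 1).1 * (XS F 2 i1 j1 1).1 = _
    rw [XS_coe (by decide), XS_coe (by decide)]
  have hgv : g * v * g⁻¹ = n := by
    rw [mul_inv_eq_iff_eq_mul]
    apply Subtype.ext
    show (XS F 2 i1 i0 1).1 * (XS F 2 j0 i1 1).1 * (XS F 2 j1 i1 1).1 *
      ((XS F 2 i0 i1 1).1 * (XS F 2 i1 j1 1).1) =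
      monoM rot2 (cn F 2) * ((XS F 2 i1 i0 1).1 * (XS F 2 j0 i1 1).1 * (XS F 2 j1 i1 1).1)
    rw [XS_coe (by decide), XS_coe (by decide), XS_coe (by decide), XS_coe (by decide),
      XS_coe (by decide)]
    exact key F
  have hTa : hT * a1 * hT⁻¹ = a1 := by
    have h1 := hh.2 i0 i1 (by decide) 1
    rw [d0, d1, mul_inv_cancel₀ hl0, one_mul] at h1
    exact h1
  have hTb : hT * b1 * hT⁻¹ = XS F 2 i1 j1 (lam ^ 2) := by
    have h1 := hh.2 i1 j1 (by decide) 1
    rw [d1, d3, inv_inv, mul_one] at h1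
    rw [h1, pow_two]
    rfl
  have hTv : hT * v * hT⁻¹ = a1 * XS F 2 i1 j1 (lam ^ 2) := by
    calc hT * v * hT⁻¹ = (hT * a1 * hT⁻¹) * (hT * b1 * hT⁻¹) := by rw [hv]; group
      _ = _ := by rw [hTa, hTb]
  have hθe : XS F 2 i1 j1 θ = v⁻¹ * (hT * v * hT⁻¹) := by
    rw [hTv, hv, _root_.mul_inv_rev, mul_assoc, inv_mul_cancel_left, hb1,
      Cfsg.Agent.Helper9.SpGen.X_neg hX (by decide), ← hX.add _ _ (by decide)]
    congr 1
    rw [pow_two, ← hlam]
    ring
  refine ⟨v, g, hT, ⟨4, ?_⟩, ?_, ?_⟩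
  · rw [hvcoe]
    exact nil F
  · rw [hvcoe]
    exact reg F
  · set G1 : Subgroup (SpG F 2) := Subgroup.closure {v, g * v * g⁻¹, hT * v * hT⁻¹} with hG1
    have hvG : v ∈ G1 := Subgroup.subset_closure (by simp)
    have hnG : n ∈ G1 := by
      rw [← hgv]
      exact Subgroup.subset_closure (by simp)
    have hhG : hT * v * hT⁻¹ ∈ G1 := Subgroup.subset_closure (by simp)
    have hθG : XS F 2 i1 j1 θ ∈ G1 := by
      rw [hθe]
      exact mul_mem (inv_mem hvG) hhG
    have hgen' : ∀ x : F, x ≠ 0 → ∃ k : ℕ, 0 < k ∧ x = θ ^ k := by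
      intro x hx
      obtain ⟨j, rfl⟩ := hgen x hx
      rcases Nat.eq_zero_or_pos j with rfl | hj
      · refine ⟨Fintype.card F - 1, by omega, ?_⟩
        rw [pow_zero, FiniteField.pow_card_sub_one_eq_one θ hθ0]
      · exact ⟨j, hj, rfl⟩
    exact eq_top_of_data hX CharTwo.two_eq_zero hn hnG rot2_i0 rot2_i1 rot2_j0 rot2_j1 hvG
      XS_closure hθG hgen'

end final

end Cfsg.Agent.Helper83.Sp4E
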