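import Mathlib
import Cfsg.Agent.Helper83.B2Orth4

/-!
# `B₂(F) ≅ PΩ₅(F)`
-/

set_option autoImplicit false

namespace Cfsg.Agent.Helper83.B2

open Matrix Cfsg Cfsg.Lie QuadraticMap
open Cfsg.Agent.Helper5 Cfsg.Agent.Helper44 Cfsg.Agent.Helper45.OmegaParity

variable {F : Type*} [Field F]

/-- the adjoint representation, with values in the general linear group of the coordinate module
of `chevB2` -/
noncomputable def AdC : G F →* GL chevB2.Idx F := Ad

theorem AdC_xh (r : Fin 8) (t : F) :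
    ((AdC ⟨xh r t, xh_mem r t⟩ : GL chevB2.Idx F) : Matrix chevB2.Idx chevB2.Idx F)
      = chevB2.xMat F r t := Ad_xh r t

theorem AdC_mem (g : G F) : AdC g ∈ chevB2.group F := by
  obtain ⟨x, hx⟩ := g
  refine Subgroup.closure_induction
    (p := fun x hx => AdC (⟨x, hx⟩ : G F) ∈ chevB2.group F) ?_ ?_ ?_ ?_ hx
  · rintro x ⟨r, t, rfl⟩
    exact Subgroup.subset_closure ⟨r, t, AdC_xh r t⟩
  · have : (⟨1, one_mem (G F)⟩ : G F) = 1 := rfl
    show AdC (⟨1, one_mem (G F)⟩ : G F) ∈ _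
    rw [this, map_one]
    exact one_mem _
  · intro x y hx hy ihx ihy
    have : (⟨x * y, mul_mem hx hy⟩ : G F) = ⟨x, hx⟩ * ⟨y, hy⟩ := rfl
    rw [this, map_mul]
    exact mul_mem ihx ihy
  · intro x hx ihx
    have : (⟨x⁻¹, inv_mem hx⟩ : G F) = ⟨x, hx⟩⁻¹ := rfl
    rw [this, map_inv]
    exact inv_mem ihx

theorem AdC_range : (AdC (F := F)).range = chevB2.group F := by
  apply le_antisymm
  · rintro _ ⟨g, rfl⟩
    exact AdC_mem g
  · unfold ChevalleyDatum.group
    rw [Subgroup.closure_le]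
    rintro g ⟨r, t, hg⟩
    refine ⟨⟨xh r t, xh_mem r t⟩, ?_⟩
    apply Units.ext
    rw [hg]
    exact AdC_xh r t

theorem AdC_ker : (AdC (F := F)).ker = (rho (F := F)).ker := Ad_ker_eq_rho_ker

theorem rho_range (hF : ∃ a : F, a ≠ 0 ∧ a ≠ 1) :
    (rho (F := F)).range = Omega F (quadFormOdd 2 F) :=
  E5_eq_commutator hF

theorem center_Omega (hF : ∃ a : F, a ≠ 0 ∧ a ≠ 1) :
    Subgroup.center (Omega F (quadFormOdd 2 F)) = ⊥ := by
  rw [eq_bot_iff]
  intro z hz
  rw [Subgroup.mem_center_iff] at hz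
  have hz1 : z.1 ∈ (rho (F := F)).range := by
    rw [rho_range hF]
    exact z.2
  obtain ⟨g, hg⟩ := hz1
  have hcentral : ∀ k : G F, rho (g * k * g⁻¹ * k⁻¹) = 1 := by
    intro k
    have hk : rho k ∈ Omega F (quadFormOdd 2 F) := by
      rw [← rho_range hF]
      exact ⟨k, rfl⟩
    have h1 := hz ⟨rho k, hk⟩
    have h2 : rho k * z.1 = z.1 * rho k := congrArg Subtype.val h1
    rw [← hg] at h2
    rw [map_mul, map_mul, map_mul, map_inv, map_inv, ← h2]
    group
  have h3 : rho g = 1 := rho_eq_one_of_central g hcentral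
  rw [Subgroup.mem_bot]
  apply Subtype.ext
  rw [← hg, h3]
  rfl

/-- **`B₂(F) ≅ PΩ₅(F)`** over every field with more than two elements -/
theorem chevB2_equiv_POmega (hF : ∃ a : F, a ≠ 0 ∧ a ≠ 1) :
    Nonempty (↥(chevB2.group F) ≃* POmega F (quadFormOdd 2 F)) := by
  have e1 : ↥(chevB2.group F) ≃* ↥(AdC (F := F)).range :=
    MulEquiv.subgroupCongr AdC_range.symm
  have e2 : ↥(AdC (F := F)).range ≃* G F ⧸ (AdC (F := F)).ker :=
    (QuotientGroup.quotientKerEquivRange AdC).symm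
  have e3 : G F ⧸ (AdC (F := F)).ker ≃* G F ⧸ (rho (F := F)).ker :=
    QuotientGroup.quotientMulEquivOfEq AdC_ker
  have e4 : G F ⧸ (rho (F := F)).ker ≃* ↥(rho (F := F)).range :=
    QuotientGroup.quotientKerEquivRange rho
  have e5 : ↥(rho (F := F)).range ≃* ↥(Omega F (quadFormOdd 2 F)) :=
    MulEquiv.subgroupCongr (rho_range hF)
  have e6 : ↥(Omega F (quadFormOdd 2 F)) ≃* POmega F (quadFormOdd 2 F) :=
    (QuotientGroup.quotientBot).symm.trans
      (QuotientGroup.quotientMulEquivOfEq (center_Omega hF).symm)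
  exact ⟨e1.trans (e2.trans (e3.trans (e4.trans (e5.trans e6))))⟩

end Cfsg.Agent.Helper83.B2
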