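import Mathlib
import Cfsg.Prelude.Def_RootSubgroups
import Cfsg.Agent.Helper83.RootSub4

set_option autoImplicit false

namespace Cfsg.Agent.Helper83

open scoped commutatorElement

variable {G : Type*} [Group G]

/-! ### Commutators of joins, modulo a normalized subgroup -/

/-- For fixed `r`, the elements `h` of the normalizer of `K` with `⁅h, r⁆ ∈ K` form a subgroup. -/
def commLeft (K : Subgroup G) (r : G) : Subgroup G where
  carrier := {h | h ∈ Subgroup.normalizer (K : Set G) ∧ ⁅h, r⁆ ∈ K}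
  one_mem' := ⟨Subgroup.one_mem _, by rw [commutatorElement_one_left]; exact K.one_mem⟩
  mul_mem' := by
    rintro h₁ h₂ ⟨hn1, hc1⟩ ⟨hn2, hc2⟩
    refine ⟨Subgroup.mul_mem _ hn1 hn2, ?_⟩
    have e : ⁅h₁ * h₂, r⁆ = h₁ * ⁅h₂, r⁆ * h₁⁻¹ * ⁅h₁, r⁆ := by
      simp only [commutatorElement_def]; group
    rw [e]
    exact K.mul_mem ((Subgroup.mem_normalizer_iff.mp hn1 _).mp hc2) hc1
  inv_mem' := by
    rintro h ⟨hn, hc⟩
    refine ⟨Subgroup.inv_mem _ hn, ?_⟩
    have e : ⁅h⁻¹, r⁆ = h⁻¹ * (⁅h, r⁆)⁻¹ * h⁻¹⁻¹ := by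
      simp only [commutatorElement_def]; group
    rw [e]
    exact (Subgroup.mem_normalizer_iff.mp (Subgroup.inv_mem _ hn) _).mp (K.inv_mem hc)

theorem commutator_sup_le_left {H₁ H₂ R K : Subgroup G}
    (hn1 : H₁ ≤ Subgroup.normalizer (K : Set G)) (hn2 : H₂ ≤ Subgroup.normalizer (K : Set G))
    (h1 : ⁅H₁, R⁆ ≤ K) (h2 : ⁅H₂, R⁆ ≤ K) : ⁅H₁ ⊔ H₂, R⁆ ≤ K := by
  rw [Subgroup.commutator_le]
  intro h hh r hr
  have hle : H₁ ⊔ H₂ ≤ commLeft K r :=
    sup_le (fun x hx => ⟨hn1 hx, Subgroup.commutator_le.mp h1 x hx r hr⟩)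
      (fun x hx => ⟨hn2 hx, Subgroup.commutator_le.mp h2 x hx r hr⟩)
  exact (hle hh).2

theorem commutator_sup_le_right {H₁ H₂ R K : Subgroup G}
    (hn1 : H₁ ≤ Subgroup.normalizer (K : Set G)) (hn2 : H₂ ≤ Subgroup.normalizer (K : Set G))
    (h1 : ⁅R, H₁⁆ ≤ K) (h2 : ⁅R, H₂⁆ ≤ K) : ⁅R, H₁ ⊔ H₂⁆ ≤ K := by
  rw [Subgroup.commutator_comm] at h1 h2 ⊢
  exact commutator_sup_le_left hn1 hn2 h1 h2

/-- Commutators with a commutator subgroup, checked on generators. -/
theorem commutator_commutator_le {P Q R K : Subgroup G}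
    (hn : ⁅P, Q⁆ ≤ Subgroup.normalizer (K : Set G))
    (h : ∀ p ∈ P, ∀ q ∈ Q, ∀ r ∈ R, ⁅⁅p, q⁆, r⁆ ∈ K) : ⁅⁅P, Q⁆, R⁆ ≤ K := by
  rw [Subgroup.commutator_le]
  intro x hx r hr
  have hle : ⁅P, Q⁆ ≤ commLeft K r := by
    rw [Subgroup.commutator_def, Subgroup.closure_le]
    rintro _ ⟨p, hp, q, hq, rfl⟩
    exact ⟨hn (Subgroup.commutator_mem_commutator hp hq), h p hp q hq r hr⟩
  exact (hle hx).2

theorem centralizer_le_normalizer_coe {K H : Subgroup G}
    (h : H ≤ Subgroup.centralizer (K : Set G)) : H ≤ Subgroup.normalizer (K : Set G) :=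
  h.trans (Subgroup.centralizer_le_normalizer _)

theorem le_centralizer_symm {H K : Subgroup G} (h : H ≤ Subgroup.centralizer (K : Set G)) :
    K ≤ Subgroup.centralizer (H : Set G) := by
  rw [← Subgroup.commutator_eq_bot_iff_le_centralizer] at h ⊢
  rw [Subgroup.commutator_comm]; exact h

/-- `H ⊔ K` centralizes `L` as soon as `H` and `K` do. -/
theorem sup_le_centralizer {H K L : Subgroup G} (h1 : H ≤ Subgroup.centralizer (L : Set G))
    (h2 : K ≤ Subgroup.centralizer (L : Set G)) : H ⊔ K ≤ Subgroup.centralizer (L : Set G) :=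
  sup_le h1 h2

/-- A subgroup generated by two commuting abelian subgroups is abelian. -/
theorem isMulCommutative_sup {H K : Subgroup G} (hH : IsMulCommutative H) (hK : IsMulCommutative K)
    (hHK : H ≤ Subgroup.centralizer (K : Set G)) : IsMulCommutative ↥(H ⊔ K) := by
  rw [← Subgroup.commutator_self_eq_bot_iff, Subgroup.commutator_eq_bot_iff_le_centralizer]
  have hHH : H ≤ Subgroup.centralizer (H : Set G) := by
    rw [← Subgroup.commutator_eq_bot_iff_le_centralizer, Subgroup.commutator_self_eq_bot_iff]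
    exact hH
  have hKK : K ≤ Subgroup.centralizer (K : Set G) := by
    rw [← Subgroup.commutator_eq_bot_iff_le_centralizer, Subgroup.commutator_self_eq_bot_iff]
    exact hK
  have hKH := le_centralizer_symm hHK
  exact sup_le (le_centralizer_sup hHH hHK) (le_centralizer_sup hKH hKK)

end Cfsg.Agent.Helper83
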