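import Mathlib
import Cfsg.Prelude.Def_RootSubgroups
import Cfsg.Agent.Helper83.Nilp

set_option autoImplicit false

namespace Cfsg.Agent.Helper83

open scoped commutatorElement

variable {G : Type*} [Group G]

theorem le_centralizer_self_of_comm {H : Subgroup G} (h : IsMulCommutative H) :
    H ≤ Subgroup.centralizer (H : Set G) := by
  rw [← Subgroup.commutator_eq_bot_iff_le_centralizer, Subgroup.commutator_self_eq_bot_iff]
  exact h

theorem commutatorCase_le_centralizer {S : Set (Subgroup G)} {A B : Subgroup G}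
    (h : Cfsg.RootCommutatorCase S A B) :
    ⁅A, B⁆ ≤ Subgroup.centralizer ((A ⊔ B : Subgroup G) : Set G) := by
  intro c hc
  rw [Subgroup.mem_centralizer_iff]
  intro x hx
  exact (h.2.1 c hc x hx).symm

/-- For members `P`, `Q` of `S` that do not form a rank one pair, `⁅P, Q⁆` is central in `P ⊔ Q`. -/
theorem pair_central {S : Set (Subgroup G)} (hS : Cfsg.IsRootSubgroupSet S) {P Q : Subgroup G}
    (hP : P ∈ S) (hQ : Q ∈ S) (hn : ¬ Cfsg.IsRankOnePair P Q) :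
    ⁅P, Q⁆ ≤ Subgroup.centralizer ((P ⊔ Q : Subgroup G) : Set G) := by
  rcases hS.pair P hP Q hQ with h0 | h1 | h2
  · rw [h0]; exact bot_le
  · exact absurd h1 hn
  · exact commutatorCase_le_centralizer h2

/-- `⁅A, B⁆ ≤ A ⊔ b⁻¹ A b` in the commutator case. -/
theorem commutatorCase_le_sup_conj {S : Set (Subgroup G)} {A B : Subgroup G}
    (h : Cfsg.RootCommutatorCase S A B) {b : G} (hb : b ∈ B) (hb1 : b ≠ 1) :
    ⁅A, B⁆ ≤ A ⊔ Cfsg.conjBy A b := by
  rw [← h.2.2.2 b hb hb1, Subgroup.closure_le]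
  rintro _ ⟨a, ha, rfl⟩
  have e : a * b * a⁻¹ * b⁻¹ = a * (b * a⁻¹ * b⁻¹) := by group
  change a * b * a⁻¹ * b⁻¹ ∈ A ⊔ Cfsg.conjBy A b
  rw [e]
  exact Subgroup.mul_mem _ (Subgroup.mem_sup_left ha)
    (Subgroup.mem_sup_right (conj_mem_conjBy (A.inv_mem ha)))

theorem commutatorCase_sup_conj {S : Set (Subgroup G)} {A B : Subgroup G}
    (h : Cfsg.RootCommutatorCase S A B) {b : G} (hb : b ∈ B) (hb1 : b ≠ 1) :
    A ⊔ Cfsg.conjBy A b = A ⊔ ⁅A, B⁆ := by
  apply le_antisymm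
  · exact sup_le le_sup_left (commutatorCase_conj_le hb)
  · exact sup_le le_sup_left (commutatorCase_le_sup_conj h hb hb1)

/-- `B` normalizes `A ⊔ ⁅A, B⁆` in the commutator case. -/
theorem commutatorCase_le_normalizer {S : Set (Subgroup G)} {A B : Subgroup G}
    (h : Cfsg.RootCommutatorCase S A B) :
    B ≤ Subgroup.normalizer ((A ⊔ ⁅A, B⁆ : Subgroup G) : Set G) := by
  have key : ∀ b ∈ B, Cfsg.conjBy (A ⊔ ⁅A, B⁆) b ≤ A ⊔ ⁅A, B⁆ := by
    intro b hb
    rw [conjBy_sup]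
    refine sup_le (commutatorCase_conj_le hb) ?_
    rw [commutator_conj_of_mem_sup A B (Subgroup.mem_sup_right hb)]
    exact le_sup_right
  intro b hb
  rw [← conjBy_eq_self_iff]
  apply le_antisymm (key b hb)
  have h2 := key b⁻¹ (B.inv_mem hb)
  have h3 := conjBy_mono h2 b
  rw [conjBy_conjBy, mul_inv_cancel, conjBy_one] at h3
  exact h3

/-! ### Joins of two abelian subgroups with central commutator -/

theorem comm_le_of_cent {H K L : Subgroup G} (h : H ≤ Subgroup.centralizer (K : Set G)) :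
    ⁅H, K⁆ ≤ L := by
  rw [Subgroup.commutator_eq_bot_iff_le_centralizer.mpr h]; exact bot_le

theorem comm_sup_self_le {H K : Subgroup G} (hH : H ≤ Subgroup.centralizer (H : Set G))
    (hK : K ≤ Subgroup.centralizer (K : Set G))
    (hD : ⁅H, K⁆ ≤ Subgroup.centralizer ((H ⊔ K : Subgroup G) : Set G)) :
    ⁅H ⊔ K, H ⊔ K⁆ ≤ ⁅H, K⁆ := by
  have hXn : H ⊔ K ≤ Subgroup.normalizer ((⁅H, K⁆ : Subgroup G) : Set G) :=
    centralizer_le_normalizer_coe (le_centralizer_symm hD)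
  have hHn := le_sup_left.trans hXn
  have hKn := le_sup_right.trans hXn
  apply commutator_sup_le_left hHn hKn
  · apply commutator_sup_le_right hHn hKn
    · exact comm_le_of_cent hH
    · exact le_rfl
  · apply commutator_sup_le_right hHn hKn
    · rw [Subgroup.commutator_comm]
    · exact comm_le_of_cent hK

theorem class_two_sup {H K : Subgroup G} (hH : H ≤ Subgroup.centralizer (H : Set G))
    (hK : K ≤ Subgroup.centralizer (K : Set G))
    (hD : ⁅H, K⁆ ≤ Subgroup.centralizer ((H ⊔ K : Subgroup G) : Set G)) :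
    ⁅⁅H ⊔ K, H ⊔ K⁆, H ⊔ K⁆ = ⊥ := by
  rw [eq_bot_iff]
  calc ⁅⁅H ⊔ K, H ⊔ K⁆, H ⊔ K⁆ ≤ ⁅⁅H, K⁆, H ⊔ K⁆ :=
        Subgroup.commutator_mono (comm_sup_self_le hH hK hD) le_rfl
    _ = ⊥ := Subgroup.commutator_eq_bot_iff_le_centralizer.mpr hD

theorem isMulCommutative_sup_iff {H K : Subgroup G} (hH : IsMulCommutative H)
    (hK : IsMulCommutative K) : IsMulCommutative ↥(H ⊔ K) ↔ ⁅H, K⁆ = ⊥ := by
  constructor
  · intro h
    rw [← Subgroup.commutator_self_eq_bot_iff] at h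
    rw [eq_bot_iff, ← h]
    exact Subgroup.commutator_mono le_sup_left le_sup_right
  · intro h
    exact isMulCommutative_sup hH hK (Subgroup.commutator_eq_bot_iff_le_centralizer.mp h)

theorem le_centralizer_sup_iff {H K L : Subgroup G} (h : L ≤ Subgroup.centralizer (H : Set G)) :
    L ≤ Subgroup.centralizer ((H ⊔ K : Subgroup G) : Set G) ↔
      L ≤ Subgroup.centralizer (K : Set G) := by
  constructor
  · intro h1
    exact h1.trans (Subgroup.centralizer_le (by exact_mod_cast (le_sup_right : K ≤ H ⊔ K)))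
  · intro h1
    exact le_centralizer_sup h h1

theorem comm_triple_le_right {H A B C K : Subgroup G}
    (hA : A ≤ Subgroup.normalizer (K : Set G)) (hB : B ≤ Subgroup.normalizer (K : Set G))
    (hC : C ≤ Subgroup.normalizer (K : Set G))
    (h1 : ⁅H, A⁆ ≤ K) (h2 : ⁅H, B⁆ ≤ K) (h3 : ⁅H, C⁆ ≤ K) : ⁅H, A ⊔ B ⊔ C⁆ ≤ K :=
  commutator_sup_le_right (sup_le hA hB) hC (commutator_sup_le_right hA hB h1 h2) h3

theorem comm_triple_le_left {R A B C K : Subgroup G}
    (hA : A ≤ Subgroup.normalizer (K : Set G)) (hB : B ≤ Subgroup.normalizer (K : Set G))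
    (hC : C ≤ Subgroup.normalizer (K : Set G))
    (h1 : ⁅A, R⁆ ≤ K) (h2 : ⁅B, R⁆ ≤ K) (h3 : ⁅C, R⁆ ≤ K) : ⁅A ⊔ B ⊔ C, R⁆ ≤ K :=
  commutator_sup_le_left (sup_le hA hB) hC (commutator_sup_le_left hA hB h1 h2) h3

/-- The commutator computation used for the central series: if `g` commutes with `y`, and
`t = ⁅g, x⁆` commutes with `d = ⁅x, y⁆`, and `e = ⁅t, y⁆` commutes with `d`, then `⁅d, g⁆ = e⁻¹`. -/
theorem comm_conj_calc {x y g : G} (h1 : g * y = y * g)
    (h2 : ⁅g, x⁆ * ⁅x, y⁆ = ⁅x, y⁆ * ⁅g, x⁆)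
    (h3 : ⁅⁅g, x⁆, y⁆ * ⁅x, y⁆ = ⁅x, y⁆ * ⁅⁅g, x⁆, y⁆) :
    ⁅⁅x, y⁆, g⁆ = (⁅⁅g, x⁆, y⁆)⁻¹ := by
  set t := ⁅g, x⁆ with ht
  set d := ⁅x, y⁆ with hd
  set e := ⁅t, y⁆ with he
  have hc : g * y * g⁻¹ = y := by rw [h1]; group
  have hgx : g * x * g⁻¹ = t * x := by rw [ht, commutatorElement_def]; group
  have stepA : g * d * g⁻¹ = d * e := by
    calc g * d * g⁻¹ = (g * x * g⁻¹) * (g * y * g⁻¹) * (g * x * g⁻¹)⁻¹ * (g * y * g⁻¹)⁻¹ := by
          rw [hd, commutatorElement_def]; group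
      _ = (t * x) * y * (t * x)⁻¹ * y⁻¹ := by rw [hc, hgx]
      _ = t * d * (y * t⁻¹ * y⁻¹) := by rw [hd, commutatorElement_def]; group
      _ = d * t * (y * t⁻¹ * y⁻¹) := by rw [h2]
      _ = d * e := by rw [he, commutatorElement_def]; group
  have hde : d * e⁻¹ = e⁻¹ * d := by
    calc d * e⁻¹ = e⁻¹ * (e * d) * e⁻¹ := by group
      _ = e⁻¹ * (d * e) * e⁻¹ := by rw [h3]
      _ = e⁻¹ * d := by group
  calc ⁅d, g⁆ = d * (g * d * g⁻¹)⁻¹ := by rw [commutatorElement_def]; group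
    _ = d * (d * e)⁻¹ := by rw [stepA]
    _ = d * e⁻¹ * d⁻¹ := by group
    _ = e⁻¹ * d * d⁻¹ := by rw [hde]
    _ = e⁻¹ := by group

end Cfsg.Agent.Helper83
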