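import Mathlib
import Cfsg.Prelude.Def_RootSubgroups
import Cfsg.Agent.S5036

set_option autoImplicit false

namespace Cfsg.Agent.Helper83

open scoped commutatorElement
open Cfsg.Agent.S5036 (commutatorCase_inf_eq_bot conjBy_le_centralizer commutatorCase_cent_left
  commutatorCase_cent_right)

variable {G : Type*} [Group G] {S : Set (Subgroup G)}

theorem conjBy_commutator (H K : Subgroup G) (g : G) :
    Cfsg.conjBy ⁅H, K⁆ g = ⁅Cfsg.conjBy H g, Cfsg.conjBy K g⁆ :=
  Subgroup.map_commutator H K _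

theorem rankOne_not_le_centralizer {P Q : Subgroup G} (h : Cfsg.IsRankOnePair P Q) :
    ¬ P ≤ Subgroup.centralizer (Q : Set G) := by
  intro hc
  apply rankOne_left_ne_bot h
  rw [eq_bot_iff, ← rankOne_inf_normalizer h]
  exact le_inf le_rfl (centralizer_le_normalizer_coe hc)

/-- A line partner of `A` does not commute with a rank one partner of `A`. -/
theorem linePartner_not_comm (hS : Cfsg.IsRootSubgroupSet S) {A B C : Subgroup G}
    (hAB : Cfsg.IsRankOnePair A B) (hB : B ∈ S) (hC : C ∈ Cfsg.linePartners S A) : ⁅B, C⁆ ≠ ⊥ := by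
  intro hBC
  obtain ⟨⟨hCS, hCA, hAC⟩, _, hcov, hTI⟩ := hC
  have hCcA : C ≤ Subgroup.centralizer (A : Set G) :=
    le_centralizer_symm (Subgroup.commutator_eq_bot_iff_le_centralizer.mp hAC)
  have hCcB : C ≤ Subgroup.centralizer (B : Set G) :=
    le_centralizer_symm (Subgroup.commutator_eq_bot_iff_le_centralizer.mp hBC)
  obtain ⟨c', hc1⟩ := (Subgroup.ne_bot_iff_exists_ne_one).mp (hS.ne_bot C hCS)
  obtain ⟨c, hc⟩ := c'
  have hc1' : c ≠ 1 := by simpa using hc1
  obtain ⟨a', ha1⟩ := (Subgroup.ne_bot_iff_exists_ne_one).mp (rankOne_left_ne_bot hAB)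
  obtain ⟨a, ha⟩ := a'
  have ha1' : a ≠ 1 := by simpa using ha1
  have hz : c ∈ Subgroup.centralizer ((A ⊔ B : Subgroup G) : Set G) := le_centralizer_sup hCcA hCcB hc
  have hmem : c * a ∈ A ⊔ C := Subgroup.mul_mem _ (Subgroup.mem_sup_right hc) (Subgroup.mem_sup_left ha)
  by_cases hca : c * a = 1
  · -- then c = a⁻¹ ∈ A, so c ∈ A ∩ N(B)
    have hcA : c ∈ A := by
      have : c = a⁻¹ := eq_inv_of_mul_eq_one_left hca
      rw [this]; exact A.inv_mem ha
    have : c ∈ A ⊓ Subgroup.normalizer (B : Set G) := ⟨hcA, centralizer_le_normalizer_coe hCcB hc⟩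
    rw [rankOne_inf_normalizer hAB] at this
    exact hc1' this
  · obtain ⟨T, hT, hmemT⟩ := hcov (c * a) hmem hca
    exact root_central_translate hS hAB hB hz hc1' ha ha1' hT.1 hmemT

/-- `⁅A, F⁆` is a line partner of `A` when `A` has a rank one partner. -/
theorem commutator_mem_linePartners (hS : Cfsg.IsRootSubgroupSet S) {A F D : Subgroup G}
    (hA : A ∈ S) (hp : Cfsg.IsRankOnePair A D) (hD : D ∈ S) (h : Cfsg.RootCommutatorCase S A F) :
    ⁅A, F⁆ ∈ Cfsg.linePartners S A := by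
  refine ⟨⟨h.1, (commutatorCase_ne hS h).symm, ?_⟩, commutatorCase_partition hS h hA hp hD⟩
  rw [Subgroup.commutator_eq_bot_iff_le_centralizer]
  exact le_centralizer_symm ((commutatorCase_le_centralizer h).trans (Subgroup.centralizer_le (by
    exact_mod_cast (le_sup_left : A ≤ A ⊔ F))))

/-- The conjugates `A^f ≠ A` are line partners of `A` when `A` has a rank one partner. -/
theorem conj_mem_linePartners (hS : Cfsg.IsRootSubgroupSet S) {A F D : Subgroup G}
    (hA : A ∈ S) (hp : Cfsg.IsRankOnePair A D) (hD : D ∈ S) (h : Cfsg.RootCommutatorCase S A F)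
    {f : G} (hf : f ∈ F) (hf1 : f ≠ 1) (hne : Cfsg.conjBy A f ≠ A) :
    Cfsg.conjBy A f ∈ Cfsg.linePartners S A := by
  have hcen : A ⊔ ⁅A, F⁆ ≤ Subgroup.centralizer (A : Set G) :=
    sup_le (le_centralizer_self_of_comm (hS.commutative A hA))
      ((commutatorCase_le_centralizer h).trans (Subgroup.centralizer_le (by
        exact_mod_cast (le_sup_left : A ≤ A ⊔ F))))
  refine ⟨⟨hS.conj_mem A hA f, hne, ?_⟩, ?_⟩
  · rw [Subgroup.commutator_eq_bot_iff_le_centralizer]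
    exact le_centralizer_symm ((commutatorCase_conj_le hf).trans hcen)
  · rw [commutatorCase_sup_conj h hf hf1]
    exact commutatorCase_partition hS h hA hp hD

/-- The key step for finding a line partner of `A` in `Ψ_B`: if `c' = a u` is the partner of `b` in
`C₀` where `a` is the partner of `b` in `A`, then the member `P'` containing `u` satisfies
`⁅B, P'⁆ ∈ S`. -/
theorem commutator_mem_of_translate (hS : Cfsg.IsRootSubgroupSet S) {A B C₀ P' : Subgroup G}
    (hA : A ∈ S) (hP' : P' ∈ S)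
    (hP'A : P' ≤ Subgroup.centralizer (A : Set G)) (hC₀A : C₀ ≤ Subgroup.centralizer (A : Set G))
    (hC₀ne : C₀ ≠ A) {a b u : G} (ha : a ∈ A)
    (hab : Cfsg.conjBy B a⁻¹ = Cfsg.conjBy A b⁻¹) (hu : u ∈ P')
    (hc : Cfsg.conjBy B (a * u)⁻¹ = Cfsg.conjBy C₀ b⁻¹) : ⁅B, P'⁆ ∈ S := by
  set w := b * u⁻¹ * b⁻¹ with hw
  have hW : Cfsg.conjBy P' b ∈ S := hS.conj_mem P' hP' b
  have hwW : w ∈ Cfsg.conjBy P' b := conj_mem_conjBy (P'.inv_mem hu)
  have hC₀eq : Cfsg.conjBy A w = C₀ := by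
    have h1 : Cfsg.conjBy B (a * u)⁻¹ = Cfsg.conjBy A (u⁻¹ * b⁻¹) := by
      rw [mul_inv_rev, ← conjBy_conjBy, hab, conjBy_conjBy]
    rw [h1] at hc
    have h2 : Cfsg.conjBy (Cfsg.conjBy C₀ b⁻¹) b = C₀ := by
      rw [conjBy_conjBy, mul_inv_cancel, conjBy_one]
    rw [← h2, ← hc, conjBy_conjBy, hw, mul_assoc]
  have hAW : ⁅A, Cfsg.conjBy P' b⁆ ∈ S := by
    rcases hS.pair A hA _ hW with h | h | h
    · exfalso
      have hWA : Cfsg.conjBy P' b ≤ Subgroup.centralizer (A : Set G) :=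
        le_centralizer_symm (Subgroup.commutator_eq_bot_iff_le_centralizer.mp h)
      have : Cfsg.conjBy A w = A :=
        conjBy_eq_self_iff.mpr (centralizer_le_normalizer_coe hWA hwW)
      exact hC₀ne (hC₀eq.symm.trans this)
    · exfalso
      have hmem : Cfsg.conjBy A w ∈ Cfsg.unipotentSubgroups A (Cfsg.conjBy P' b) :=
        ⟨w, Subgroup.mem_sup_right hwW, rfl⟩
      have hne : Cfsg.conjBy A w ≠ A := by rw [hC₀eq]; exact hC₀ne
      have hp := (rankOne_pair_of_mem h hmem (A_mem_unipotent A _) hne).1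
      apply rankOne_not_le_centralizer hp
      rw [hC₀eq]; exact hC₀A
    · exact h.1
  have h1 : Cfsg.conjBy ⁅A, Cfsg.conjBy P' b⁆ b⁻¹ ∈ S := hS.conj_mem _ hAW _
  rw [conjBy_commutator, conjBy_conjBy P', inv_mul_cancel, conjBy_one, ← hab] at h1
  have h2 : Cfsg.conjBy ⁅Cfsg.conjBy B a⁻¹, P'⁆ a ∈ S := hS.conj_mem _ h1 _
  rw [conjBy_commutator, conjBy_conjBy B, mul_inv_cancel, conjBy_one] at h2
  have h3 : Cfsg.conjBy P' a = P' :=
    conjBy_eq_self_iff.mpr (centralizer_le_normalizer_coe (le_centralizer_symm hP'A) ha)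
  rw [h3] at h2
  exact h2

/-- In a set of abstract root subgroups, a rank one partner `B` of `A` has a commutator partner among
the line partners of `A`, as soon as `A` has some commutator partner. -/
theorem exists_linePartner_commutatorPartner (hS : Cfsg.IsRootSubgroupSet S) {A B F : Subgroup G}
    (hA : A ∈ S) (hB : B ∈ S) (hAB : Cfsg.IsRankOnePair A B) (hF : F ∈ S) (hAF : ⁅A, F⁆ ∈ S) :
    ∃ C ∈ Cfsg.linePartners S A, ⁅B, C⁆ ∈ S := by
  have cAF := commutatorCase_of_mem hS hA hF hAF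
  have hC₀L := commutator_mem_linePartners hS hA hAB hB cAF
  have hC₀A : ⁅A, F⁆ ≤ Subgroup.centralizer (A : Set G) :=
    (commutatorCase_le_centralizer cAF).trans (Subgroup.centralizer_le (by
      exact_mod_cast (le_sup_left : A ≤ A ⊔ F)))
  rcases hS.pair B hB _ hAF with h | h | h
  · exact absurd h (linePartner_not_comm hS hAB hB hC₀L)
  · -- rank one: move along the line
    obtain ⟨b', hb1⟩ := (Subgroup.ne_bot_iff_exists_ne_one).mp (rankOne_right_ne_bot hAB)
    obtain ⟨b, hb⟩ := b'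
    have hb1' : b ≠ 1 := by simpa using hb1
    obtain ⟨a, ha, ha1, hab⟩ := hAB.cond_right b hb hb1'
    obtain ⟨c', hc', hc'1, hbc⟩ := h.cond_left b hb hb1'
    have hinf := commutatorCase_inf_eq_bot hS cAF
    set u := a⁻¹ * c' with hu
    have hc'eq : c' = a * u := by rw [hu]; group
    have huN : u ∈ A ⊔ ⁅A, F⁆ :=
      Subgroup.mul_mem _ (Subgroup.mem_sup_left (A.inv_mem ha)) (Subgroup.mem_sup_right hc')
    have huC : u ∉ ⁅A, F⁆ := by
      intro huC
      have : a ∈ A ⊓ ⁅A, F⁆ := by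
        refine ⟨ha, ?_⟩
        have e : a = c' * u⁻¹ := by rw [hu]; group
        rw [e]; exact Subgroup.mul_mem _ hc' (Subgroup.inv_mem _ huC)
      rw [hinf] at this
      exact ha1 this
    have huA : u ∉ A := by
      intro huA
      have : c' ∈ A ⊓ ⁅A, F⁆ := by
        refine ⟨?_, hc'⟩
        rw [hc'eq]; exact A.mul_mem ha huA
      rw [hinf] at this
      exact hc'1 this
    rcases commutatorCase_cover cAF huN with h1 | ⟨f, hf, hmem⟩
    · exact absurd h1 huC
    · have hne : Cfsg.conjBy A f ≠ A := by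
        intro hc; rw [hc] at hmem; exact huA hmem
      have hf1 : f ≠ 1 := by
        intro hc; rw [hc, conjBy_one] at hne; exact hne rfl
      have hPL := conj_mem_linePartners hS hA hAB hB cAF hf hf1 hne
      refine ⟨_, hPL, ?_⟩
      have hP'A : Cfsg.conjBy A f ≤ Subgroup.centralizer (A : Set G) :=
        le_centralizer_symm (Subgroup.commutator_eq_bot_iff_le_centralizer.mp hPL.1.2.2)
      rw [hc'eq] at hbc
      exact commutator_mem_of_translate hS hA (hS.conj_mem A hA f) hP'A hC₀A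
        (commutatorCase_ne hS cAF).symm ha hab hmem hbc
  · exact ⟨_, hC₀L, h.1⟩

/-- An element centralizing `H` and commuting with `g` centralizes `g H g⁻¹`. -/
theorem mem_centralizer_conjBy {H : Subgroup G} {z g : G}
    (hz : z ∈ Subgroup.centralizer (H : Set G)) (hg : z * g = g * z) :
    z ∈ Subgroup.centralizer ((Cfsg.conjBy H g : Subgroup G) : Set G) := by
  rw [mem_centralizer_coe]
  intro y hy
  rw [mem_conjBy] at hy
  have h1 := mem_centralizer_coe.mp hz _ hy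
  have hg' : z * g⁻¹ = g⁻¹ * z := by
    calc z * g⁻¹ = g⁻¹ * (g * z) * g⁻¹ := by group
      _ = g⁻¹ * (z * g) * g⁻¹ := by rw [hg]
      _ = g⁻¹ * z := by group
  calc y * z = g * (g⁻¹ * y * g) * (g⁻¹ * z) := by group
    _ = g * (g⁻¹ * y * g) * (z * g⁻¹) := by rw [hg']
    _ = g * (g⁻¹ * y * g * z) * g⁻¹ := by group
    _ = g * (z * (g⁻¹ * y * g)) * g⁻¹ := by rw [h1]
    _ = (g * z) * (g⁻¹ * y * g) * g⁻¹ := by group
    _ = (z * g) * (g⁻¹ * y * g) * g⁻¹ := by rw [hg]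
    _ = z * y := by group

/-- The elements `c ⁅a, ⁅c⁻¹, b⁻¹⁆⁆` are centralized by `B` when `a`, `b` are partners, `A` centralizes
`C` and `B` centralizes `⁅C, B⁆`. -/
theorem partner_comm_key {A B C : Subgroup G} (hAC : A ≤ Subgroup.centralizer (C : Set G))
    (hEB : ⁅B, C⁆ ≤ Subgroup.centralizer (B : Set G)) {a b : G} (ha : a ∈ A) (hb : b ∈ B)
    (hab : Cfsg.conjBy B a⁻¹ = Cfsg.conjBy A b⁻¹) {c : G} (hc : c ∈ C) {b' : G} (hb' : b' ∈ B) :
    b' * (c * ⁅a, ⁅c⁻¹, b⁻¹⁆⁆) = (c * ⁅a, ⁅c⁻¹, b⁻¹⁆⁆) * b' := by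
  have h1 : Cfsg.conjBy A b⁻¹ ≤
      Subgroup.centralizer ((Cfsg.conjBy C b⁻¹ : Subgroup G) : Set G) :=
    conjBy_le_centralizer hAC b⁻¹
  rw [← hab] at h1
  have h2 := conjBy_le_centralizer h1 a
  rw [conjBy_conjBy B, mul_inv_cancel, conjBy_one] at h2
  have hx : b⁻¹ * c * b⁻¹⁻¹ ∈ Cfsg.conjBy C b⁻¹ := conj_mem_conjBy hc
  have hy : a * (b⁻¹ * c * b⁻¹⁻¹) * a⁻¹ ∈ Cfsg.conjBy (Cfsg.conjBy C b⁻¹) a := conj_mem_conjBy hx
  have h3 := mem_centralizer_coe.mp (h2 hb') _ hy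
  -- h3 : y' * b' = b' * y'
  set e := ⁅c⁻¹, b⁻¹⁆ with he
  have heE : e ∈ ⁅B, C⁆ := by
    rw [Subgroup.commutator_comm]
    exact Subgroup.commutator_mem_commutator (C.inv_mem hc) (B.inv_mem hb)
  have hac : a * c = c * a := (mem_centralizer_coe.mp (hAC ha) c hc).symm
  have hy' : a * (b⁻¹ * c * b⁻¹⁻¹) * a⁻¹ = (c * ⁅a, e⁆) * e := by
    have e1 : b⁻¹ * c * b⁻¹⁻¹ = c * e := by rw [he, commutatorElement_def]; group
    rw [e1]
    calc a * (c * e) * a⁻¹ = (a * c) * e * a⁻¹ := by group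
      _ = (c * a) * e * a⁻¹ := by rw [hac]
      _ = c * ⁅a, e⁆ * e := by rw [commutatorElement_def]; group
  rw [hy'] at h3
  have hbe : b' * e = e * b' := mem_centralizer_coe.mp (hEB heE) b' hb'
  calc b' * (c * ⁅a, e⁆) = b' * (c * ⁅a, e⁆ * e) * e⁻¹ := by group
    _ = c * ⁅a, e⁆ * e * b' * e⁻¹ := by rw [← h3]
    _ = c * ⁅a, e⁆ * (e * b') * e⁻¹ := by group
    _ = c * ⁅a, e⁆ * (b' * e) * e⁻¹ := by rw [hbe]
    _ = c * ⁅a, e⁆ * b' := by group

/-- If `C` is a line partner of `A` and a commutator partner of the rank one partner `B` of `A`, then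
`(A, ⁅B, C⁆)` is in the commutator case. -/
theorem commutatorCase_of_linePartner (hS : Cfsg.IsRootSubgroupSet S) {A B C : Subgroup G}
    (hA : A ∈ S) (hB : B ∈ S) (hAB : Cfsg.IsRankOnePair A B) (hC : C ∈ Cfsg.linePartners S A)
    (hE : ⁅B, C⁆ ∈ S) : Cfsg.RootCommutatorCase S A ⁅B, C⁆ := by
  have hCS : C ∈ S := hC.1.1
  have cBC := commutatorCase_of_mem hS hB hCS hE
  have hAC : A ≤ Subgroup.centralizer (C : Set G) :=
    Subgroup.commutator_eq_bot_iff_le_centralizer.mp hC.1.2.2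
  have hCA := le_centralizer_symm hAC
  have hEB : ⁅B, C⁆ ≤ Subgroup.centralizer (B : Set G) :=
    (commutatorCase_le_centralizer cBC).trans (Subgroup.centralizer_le (by
      exact_mod_cast (le_sup_left : B ≤ B ⊔ C)))
  have hEC : ⁅B, C⁆ ≤ Subgroup.centralizer (C : Set G) :=
    (commutatorCase_le_centralizer cBC).trans (Subgroup.centralizer_le (by
      exact_mod_cast (le_sup_right : C ≤ B ⊔ C)))
  obtain ⟨b', hb1⟩ := (Subgroup.ne_bot_iff_exists_ne_one).mp (rankOne_right_ne_bot hAB)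
  obtain ⟨b, hb⟩ := b'
  have hb1' : b ≠ 1 := by simpa using hb1
  obtain ⟨a, ha, ha1, hab⟩ := hAB.cond_right b hb hb1'
  have hAinfC : A ⊓ C = ⊥ :=
    hC.2.2.2 A ⟨hA, le_sup_left⟩ C ⟨hCS, le_sup_right⟩ hC.1.2.1.symm
  rcases hS.pair A hA _ hE with h | h | h
  · -- commuting: then B centralizes C
    exfalso
    have hAE : A ≤ Subgroup.centralizer ((⁅B, C⁆ : Subgroup G) : Set G) :=
      Subgroup.commutator_eq_bot_iff_le_centralizer.mp h
    apply hS.ne_bot _ hE
    rw [Subgroup.commutator_eq_bot_iff_le_centralizer]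
    apply le_centralizer_symm
    intro c hc
    rw [mem_centralizer_coe]
    intro b' hb'
    have key := partner_comm_key hAC hEB ha hb hab hc hb'
    have heE : ⁅c⁻¹, b⁻¹⁆ ∈ ⁅B, C⁆ := by
      rw [Subgroup.commutator_comm]
      exact Subgroup.commutator_mem_commutator (C.inv_mem hc) (B.inv_mem hb)
    have h1 : ⁅a, ⁅c⁻¹, b⁻¹⁆⁆ = 1 := by
      rw [commutatorElement_eq_one_iff_mul_comm]
      exact (mem_centralizer_coe.mp (hAE ha) _ heE).symm
    rw [h1, mul_one] at key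
    exact key
  · -- rank one: contradiction with the line
    exfalso
    obtain ⟨c', hc1⟩ := (Subgroup.ne_bot_iff_exists_ne_one).mp (hS.ne_bot C hCS)
    obtain ⟨c, hc⟩ := c'
    have hc1' : c ≠ 1 := by simpa using hc1
    have hz : c ∈ Subgroup.centralizer ((A ⊔ ⁅B, C⁆ : Subgroup G) : Set G) :=
      le_centralizer_sup hCA (le_centralizer_symm hEC) hc
    have hmem : c * a ∈ A ⊔ C :=
      Subgroup.mul_mem _ (Subgroup.mem_sup_right hc) (Subgroup.mem_sup_left ha)
    have hca : c * a ≠ 1 := by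
      intro hca
      have hcA : c ∈ A := by
        have : c = a⁻¹ := eq_inv_of_mul_eq_one_left hca
        rw [this]; exact A.inv_mem ha
      have : c ∈ A ⊓ C := ⟨hcA, hc⟩
      rw [hAinfC] at this
      exact hc1' this
    obtain ⟨T, hT, hmemT⟩ := hC.2.2.1 (c * a) hmem hca
    exact root_central_translate hS h hE hz hc1' ha ha1 hT.1 hmemT
  · exact h

/-- If `C` is a line partner of `A` and a commutator partner of the rank one partner `B` of `A`, then
`⁅A, ⁅B, C⁆⁆ = C` (assuming `C` has a rank one partner). -/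
theorem commutator_commutator_eq_of_linePartner (hS : Cfsg.IsRootSubgroupSet S) {A B C T₀ : Subgroup G}
    (hA : A ∈ S) (hB : B ∈ S) (hAB : Cfsg.IsRankOnePair A B) (hC : C ∈ Cfsg.linePartners S A)
    (hE : ⁅B, C⁆ ∈ S) (hT₀ : T₀ ∈ S) (hCT₀ : Cfsg.IsRankOnePair C T₀) : ⁅A, ⁅B, C⁆⁆ = C := by
  have hCS : C ∈ S := hC.1.1
  have cBC := commutatorCase_of_mem hS hB hCS hE
  have cAE := commutatorCase_of_linePartner hS hA hB hAB hC hE
  have hAC : A ≤ Subgroup.centralizer (C : Set G) :=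
    Subgroup.commutator_eq_bot_iff_le_centralizer.mp hC.1.2.2
  have hCA := le_centralizer_symm hAC
  have hEB : ⁅B, C⁆ ≤ Subgroup.centralizer (B : Set G) :=
    (commutatorCase_le_centralizer cBC).trans (Subgroup.centralizer_le (by
      exact_mod_cast (le_sup_left : B ≤ B ⊔ C)))
  have hEC : ⁅B, C⁆ ≤ Subgroup.centralizer (C : Set G) :=
    (commutatorCase_le_centralizer cBC).trans (Subgroup.centralizer_le (by
      exact_mod_cast (le_sup_right : C ≤ B ⊔ C)))
  have hQA : ⁅A, ⁅B, C⁆⁆ ≤ Subgroup.centralizer (A : Set G) :=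
    (commutatorCase_le_centralizer cAE).trans (Subgroup.centralizer_le (by
      exact_mod_cast (le_sup_left : A ≤ A ⊔ ⁅B, C⁆)))
  have hQE : ⁅A, ⁅B, C⁆⁆ ≤ Subgroup.centralizer ((⁅B, C⁆ : Subgroup G) : Set G) :=
    (commutatorCase_le_centralizer cAE).trans (Subgroup.centralizer_le (by
      exact_mod_cast (le_sup_right : ⁅B, C⁆ ≤ A ⊔ ⁅B, C⁆)))
  obtain ⟨b', hb1⟩ := (Subgroup.ne_bot_iff_exists_ne_one).mp (rankOne_right_ne_bot hAB)
  obtain ⟨b, hb⟩ := b'
  have hb1' : b ≠ 1 := by simpa using hb1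
  obtain ⟨a, ha, ha1, hab⟩ := hAB.cond_right b hb hb1'
  have hAinfC : A ⊓ C = ⊥ :=
    hC.2.2.2 A ⟨hA, le_sup_left⟩ C ⟨hCS, le_sup_right⟩ hC.1.2.1.symm
  by_contra hQC
  have hTI : C ⊓ ⁅A, ⁅B, C⁆⁆ = ⊥ := by
    rcases root_inf_eq_bot hS hCT₀ hT₀ cAE.1 with h | h
    · exact h
    · exact absurd h.symm hQC
  obtain ⟨c', hc1⟩ := (Subgroup.ne_bot_iff_exists_ne_one).mp (hS.ne_bot C hCS)
  obtain ⟨c, hc⟩ := c'
  have hc1' : c ≠ 1 := by simpa using hc1
  set e := ⁅c⁻¹, b⁻¹⁆ with he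
  have heE : e ∈ ⁅B, C⁆ := by
    rw [Subgroup.commutator_comm]
    exact Subgroup.commutator_mem_commutator (C.inv_mem hc) (B.inv_mem hb)
  set q := ⁅a, e⁆ with hq
  have hqQ : q ∈ ⁅A, ⁅B, C⁆⁆ := Subgroup.commutator_mem_commutator ha heE
  set z := c * q with hz
  have hz1 : z ≠ 1 := by
    intro h
    have hcq : c = q⁻¹ := eq_inv_of_mul_eq_one_left h
    have : c ∈ C ⊓ ⁅A, ⁅B, C⁆⁆ := ⟨hc, by rw [hcq]; exact Subgroup.inv_mem _ hqQ⟩
    rw [hTI] at this
    exact hc1' this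
  have hzA : z ∈ Subgroup.centralizer (A : Set G) := Subgroup.mul_mem _ (hCA hc) (hQA hqQ)
  have hzB : z ∈ Subgroup.centralizer (B : Set G) := by
    rw [mem_centralizer_coe]
    intro b' hb'
    exact partner_comm_key hAC hEB ha hb hab hc hb'
  have hzE : z ∈ Subgroup.centralizer ((⁅B, C⁆ : Subgroup G) : Set G) :=
    Subgroup.mul_mem _ (le_centralizer_symm hEC hc) (hQE hqQ)
  -- the element x = a q⁻¹
  have hxN : a * q⁻¹ ∈ A ⊔ ⁅A, ⁅B, C⁆⁆ :=
    Subgroup.mul_mem _ (Subgroup.mem_sup_left ha) (Subgroup.mem_sup_right (Subgroup.inv_mem _ hqQ))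
  have hxQ : a * q⁻¹ ∉ ⁅A, ⁅B, C⁆⁆ := by
    intro h
    have : a ∈ A ⊓ ⁅A, ⁅B, C⁆⁆ := by
      refine ⟨ha, ?_⟩
      have e1 : a = a * q⁻¹ * q := by group
      rw [e1]; exact Subgroup.mul_mem _ h hqQ
    rw [commutatorCase_inf_eq_bot hS cAE] at this
    exact ha1 this
  rcases commutatorCase_cover cAE hxN with h1 | ⟨e', he', hmem⟩
  · exact hxQ h1
  · have hx1 : a * q⁻¹ ≠ 1 := by
      intro h; rw [h] at hxQ; exact hxQ (Subgroup.one_mem _)
    have hpair := rankOne_conj hAB e'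
    have hze' : z * e' = e' * z := (mem_centralizer_coe.mp hzE e' he').symm
    have hzc : z ∈ Subgroup.centralizer
        ((Cfsg.conjBy A e' ⊔ Cfsg.conjBy B e' : Subgroup G) : Set G) := by
      have h1 := mem_centralizer_conjBy hzA hze'
      have h2 := mem_centralizer_conjBy hzB hze'
      have : Subgroup.zpowers z ≤ Subgroup.centralizer
          ((Cfsg.conjBy A e' ⊔ Cfsg.conjBy B e' : Subgroup G) : Set G) :=
        le_centralizer_sup ((Subgroup.zpowers_le).mpr h1) ((Subgroup.zpowers_le).mpr h2)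
      exact this (Subgroup.mem_zpowers z)
    have hzx : z * (a * q⁻¹) = c * a := by
      have hqa : q * a = a * q := (mem_centralizer_coe.mp (hQA hqQ) a ha).symm
      rw [hz]
      calc c * q * (a * q⁻¹) = c * (q * a) * q⁻¹ := by group
        _ = c * (a * q) * q⁻¹ := by rw [hqa]
        _ = c * a := by group
    have hmemN : c * a ∈ A ⊔ C :=
      Subgroup.mul_mem _ (Subgroup.mem_sup_right hc) (Subgroup.mem_sup_left ha)
    have hca : c * a ≠ 1 := by
      intro hca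
      have hcA : c ∈ A := by
        have : c = a⁻¹ := eq_inv_of_mul_eq_one_left hca
        rw [this]; exact A.inv_mem ha
      have : c ∈ A ⊓ C := ⟨hcA, hc⟩
      rw [hAinfC] at this
      exact hc1' this
    obtain ⟨T, hT, hmemT⟩ := hC.2.2.1 (c * a) hmemN hca
    rw [← hzx] at hmemT
    exact root_central_translate hS hpair (hS.conj_mem B hB e') hzc hz1 hmem hx1 hT.1 hmemT

end Cfsg.Agent.Helper83
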