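import Mathlib
import Cfsg.Prelude.Def_RootSubgroups
import Cfsg.Agent.Helper83.Line

set_option autoImplicit false

/-!
# Points on a line through `A`

`OnLine S A C` is the weak form of "`C` is a line partner of `A`" that the arguments of `Line.lean`
really use; it holds for every member of `S` inside `A ⊔ B`, `B` a line partner of `A`.  The main
result is the structure of a line through `A` relative to a rank one partner of `A`
(`line_structure`).
-/

namespace Cfsg.Agent.Helper83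

open scoped commutatorElement
open Cfsg.Agent.S5036 (commutatorCase_inf_eq_bot conjBy_le_centralizer commutatorCase_cent_left
  commutatorCase_cent_right)

variable {G : Type*} [Group G] {S : Set (Subgroup G)}

/-- `C` is a point, different from `A`, of a line through `A`. -/
structure OnLine (S : Set (Subgroup G)) (A C : Subgroup G) : Prop where
  mem : C ∈ S
  ne : C ≠ A
  comm : A ≤ Subgroup.centralizer (C : Set G)
  inf : A ⊓ C = ⊥
  cover : ∀ a ∈ A, ∀ c ∈ C, c * a ≠ 1 → ∃ T ∈ S, c * a ∈ T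

theorem onLine_of_linePartner {A C : Subgroup G} (hA : A ∈ S) (hC : C ∈ Cfsg.linePartners S A) :
    OnLine S A C where
  mem := hC.1.1
  ne := hC.1.2.1
  comm := Subgroup.commutator_eq_bot_iff_le_centralizer.mp hC.1.2.2
  inf := hC.2.2.2 A ⟨hA, le_sup_left⟩ C ⟨hC.1.1, le_sup_right⟩ hC.1.2.1.symm
  cover := by
    intro a ha c hc hca
    obtain ⟨T, hT, hmem⟩ := hC.2.2.1 (c * a)
      (Subgroup.mul_mem _ (Subgroup.mem_sup_right hc) (Subgroup.mem_sup_left ha)) hca
    exact ⟨T, hT.1, hmem⟩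

/-- The join of two commuting commutative subgroups centralizes itself. -/
theorem sup_le_centralizer_sup {A B : Subgroup G} (hA : IsMulCommutative A) (hB : IsMulCommutative B)
    (hAB : A ≤ Subgroup.centralizer (B : Set G)) :
    A ⊔ B ≤ Subgroup.centralizer ((A ⊔ B : Subgroup G) : Set G) := by
  have hBA := le_centralizer_symm hAB
  have hAA : A ≤ Subgroup.centralizer (A : Set G) := le_centralizer_self_of_comm hA
  have hBB : B ≤ Subgroup.centralizer (B : Set G) := le_centralizer_self_of_comm hB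
  exact sup_le (le_centralizer_sup hAA hAB) (le_centralizer_sup hBA hBB)

/-- Every member of `S` inside `A ⊔ B`, other than `A`, is a point of a line through `A`. -/
theorem onLine_of_member (hS : Cfsg.IsRootSubgroupSet S) {A B P : Subgroup G} (hA : A ∈ S)
    (hB : B ∈ Cfsg.linePartners S A) (hP : P ∈ Cfsg.membersIn S (A ⊔ B)) (hne : P ≠ A) :
    OnLine S A P where
  mem := hP.1
  ne := hne
  comm := by
    have hAB : A ≤ Subgroup.centralizer (B : Set G) :=
      Subgroup.commutator_eq_bot_iff_le_centralizer.mp hB.1.2.2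
    have h := sup_le_centralizer_sup (hS.commutative A hA) (hS.commutative B hB.1.1) hAB
    exact (le_sup_left.trans h).trans (Subgroup.centralizer_le (by exact_mod_cast hP.2))
  inf := hB.2.2.2 A ⟨hA, le_sup_left⟩ P hP hne.symm
  cover := by
    intro a ha c hc hca
    obtain ⟨T, hT, hmem⟩ := hB.2.2.1 (c * a)
      (Subgroup.mul_mem _ (hP.2 hc) (Subgroup.mem_sup_left ha)) hca
    exact ⟨T, hT.1, hmem⟩

/-- A point of a line through `A` does not commute with a rank one partner of `A`. -/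
theorem onLine_not_comm (hS : Cfsg.IsRootSubgroupSet S) {A B C : Subgroup G}
    (hAB : Cfsg.IsRankOnePair A B) (hB : B ∈ S) (hC : OnLine S A C) : ⁅B, C⁆ ≠ ⊥ := by
  intro hBC
  have hCS := hC.mem
  have hCcA : C ≤ Subgroup.centralizer (A : Set G) := le_centralizer_symm hC.comm
  have hCcB : C ≤ Subgroup.centralizer (B : Set G) :=
    le_centralizer_symm (Subgroup.commutator_eq_bot_iff_le_centralizer.mp hBC)
  obtain ⟨c', hc1⟩ := (Subgroup.ne_bot_iff_exists_ne_one).mp (hS.ne_bot C hCS)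
  obtain ⟨c, hc⟩ := c'
  have hc1' : c ≠ 1 := by simpa using hc1
  obtain ⟨a', ha1⟩ := (Subgroup.ne_bot_iff_exists_ne_one).mp (rankOne_left_ne_bot hAB)
  obtain ⟨a, ha⟩ := a'
  have ha1' : a ≠ 1 := by simpa using ha1
  have hz : c ∈ Subgroup.centralizer ((A ⊔ B : Subgroup G) : Set G) := le_centralizer_sup hCcA hCcB hc
  by_cases hca : c * a = 1
  · have hcA : c ∈ A := by
      have : c = a⁻¹ := eq_inv_of_mul_eq_one_left hca
      rw [this]; exact A.inv_mem ha
    have : c ∈ A ⊓ Subgroup.normalizer (B : Set G) := ⟨hcA, centralizer_le_normalizer_coe hCcB hc⟩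
    rw [rankOne_inf_normalizer hAB] at this
    exact hc1' this
  · obtain ⟨T, hT, hmemT⟩ := hC.cover a ha c hc hca
    exact root_central_translate hS hAB hB hz hc1' ha ha1' hT hmemT

/-- If `C` is a point of a line through `A` and a commutator partner of the rank one partner `B` of
`A`, then `(A, ⁅B, C⁆)` is in the commutator case. -/
theorem commutatorCase_of_onLine (hS : Cfsg.IsRootSubgroupSet S) {A B C : Subgroup G}
    (hA : A ∈ S) (hB : B ∈ S) (hAB : Cfsg.IsRankOnePair A B) (hC : OnLine S A C)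
    (hE : ⁅B, C⁆ ∈ S) : Cfsg.RootCommutatorCase S A ⁅B, C⁆ := by
  have hCS : C ∈ S := hC.mem
  have cBC := commutatorCase_of_mem hS hB hCS hE
  have hAC : A ≤ Subgroup.centralizer (C : Set G) := hC.comm
  have hCA := le_centralizer_symm hAC
  have hEB : ⁅B, C⁆ ≤ Subgroup.centralizer (B : Set G) :=
    (commutatorCase_le_centralizer cBC).trans (Subgroup.centralizer_le (by
      exact_mod_cast (le_sup_left : B ≤ B ⊔ C)))
  have hEC : ⁅B, C⁆ ≤ Subgroup.centralizer (C : Set G) :=
    (commutatorCase_le_centralizer cBC).trans (Subgroup.centralizer_le (by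
      exact_mod_cast (le_sup_right : C ≤ B ⊔ C)))
  obtain ⟨b', hb1⟩ := (Subgroup.ne_bot_iff_exists_ne_one).mp (rankOne_right_ne_bot hAB)
  obtain ⟨b, hb⟩ := b'
  have hb1' : b ≠ 1 := by simpa using hb1
  obtain ⟨a, ha, ha1, hab⟩ := hAB.cond_right b hb hb1'
  have hAinfC : A ⊓ C = ⊥ := hC.inf
  rcases hS.pair A hA _ hE with h | h | h
  · exfalso
    have hAE : A ≤ Subgroup.centralizer ((⁅B, C⁆ : Subgroup G) : Set G) :=
      Subgroup.commutator_eq_bot_iff_le_centralizer.mp h
    apply hS.ne_bot _ hE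
    rw [Subgroup.commutator_eq_bot_iff_le_centralizer]
    apply le_centralizer_symm
    intro c hc
    rw [mem_centralizer_coe]
    intro b' hb'
    have key := partner_comm_key hAC hEB ha hb hab hc hb'
    have heE : ⁅c⁻¹, b⁻¹⁆ ∈ ⁅B, C⁆ := by
      rw [Subgroup.commutator_comm]
      exact Subgroup.commutator_mem_commutator (C.inv_mem hc) (B.inv_mem hb)
    have h1 : ⁅a, ⁅c⁻¹, b⁻¹⁆⁆ = 1 := by
      rw [commutatorElement_eq_one_iff_mul_comm]
      exact (mem_centralizer_coe.mp (hAE ha) _ heE).symm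
    rw [h1, mul_one] at key
    exact key
  · exfalso
    obtain ⟨c', hc1⟩ := (Subgroup.ne_bot_iff_exists_ne_one).mp (hS.ne_bot C hCS)
    obtain ⟨c, hc⟩ := c'
    have hc1' : c ≠ 1 := by simpa using hc1
    have hz : c ∈ Subgroup.centralizer ((A ⊔ ⁅B, C⁆ : Subgroup G) : Set G) :=
      le_centralizer_sup hCA (le_centralizer_symm hEC) hc
    have hca : c * a ≠ 1 := by
      intro hca
      have hcA : c ∈ A := by
        have : c = a⁻¹ := eq_inv_of_mul_eq_one_left hca
        rw [this]; exact A.inv_mem ha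
      have : c ∈ A ⊓ C := ⟨hcA, hc⟩
      rw [hAinfC] at this
      exact hc1' this
    obtain ⟨T, hT, hmemT⟩ := hC.cover a ha c hc hca
    exact root_central_translate hS h hE hz hc1' ha ha1 hT hmemT
  · exact h

/-- If `C` is a point of a line through `A` and a commutator partner of the rank one partner `B` of
`A`, then `⁅A, ⁅B, C⁆⁆ = C` (assuming `C` has a rank one partner). -/
theorem commutator_commutator_eq_of_onLine (hS : Cfsg.IsRootSubgroupSet S) {A B C T₀ : Subgroup G}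
    (hA : A ∈ S) (hB : B ∈ S) (hAB : Cfsg.IsRankOnePair A B) (hC : OnLine S A C)
    (hE : ⁅B, C⁆ ∈ S) (hT₀ : T₀ ∈ S) (hCT₀ : Cfsg.IsRankOnePair C T₀) : ⁅A, ⁅B, C⁆⁆ = C := by
  have hCS : C ∈ S := hC.mem
  have cBC := commutatorCase_of_mem hS hB hCS hE
  have cAE := commutatorCase_of_onLine hS hA hB hAB hC hE
  have hAC : A ≤ Subgroup.centralizer (C : Set G) := hC.comm
  have hCA := le_centralizer_symm hAC
  have hEB : ⁅B, C⁆ ≤ Subgroup.centralizer (B : Set G) :=
    (commutatorCase_le_centralizer cBC).trans (Subgroup.centralizer_le (by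
      exact_mod_cast (le_sup_left : B ≤ B ⊔ C)))
  have hEC : ⁅B, C⁆ ≤ Subgroup.centralizer (C : Set G) :=
    (commutatorCase_le_centralizer cBC).trans (Subgroup.centralizer_le (by
      exact_mod_cast (le_sup_right : C ≤ B ⊔ C)))
  have hQA : ⁅A, ⁅B, C⁆⁆ ≤ Subgroup.centralizer (A : Set G) :=
    (commutatorCase_le_centralizer cAE).trans (Subgroup.centralizer_le (by
      exact_mod_cast (le_sup_left : A ≤ A ⊔ ⁅B, C⁆)))
  have hQE : ⁅A, ⁅B, C⁆⁆ ≤ Subgroup.centralizer ((⁅B, C⁆ : Subgroup G) : Set G) :=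
    (commutatorCase_le_centralizer cAE).trans (Subgroup.centralizer_le (by
      exact_mod_cast (le_sup_right : ⁅B, C⁆ ≤ A ⊔ ⁅B, C⁆)))
  obtain ⟨b', hb1⟩ := (Subgroup.ne_bot_iff_exists_ne_one).mp (rankOne_right_ne_bot hAB)
  obtain ⟨b, hb⟩ := b'
  have hb1' : b ≠ 1 := by simpa using hb1
  obtain ⟨a, ha, ha1, hab⟩ := hAB.cond_right b hb hb1'
  have hAinfC : A ⊓ C = ⊥ := hC.inf
  by_contra hQC
  have hTI : C ⊓ ⁅A, ⁅B, C⁆⁆ = ⊥ := by
    rcases root_inf_eq_bot hS hCT₀ hT₀ cAE.1 with h | h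
    · exact h
    · exact absurd h.symm hQC
  obtain ⟨c', hc1⟩ := (Subgroup.ne_bot_iff_exists_ne_one).mp (hS.ne_bot C hCS)
  obtain ⟨c, hc⟩ := c'
  have hc1' : c ≠ 1 := by simpa using hc1
  set e := ⁅c⁻¹, b⁻¹⁆ with he
  have heE : e ∈ ⁅B, C⁆ := by
    rw [Subgroup.commutator_comm]
    exact Subgroup.commutator_mem_commutator (C.inv_mem hc) (B.inv_mem hb)
  set q := ⁅a, e⁆ with hq
  have hqQ : q ∈ ⁅A, ⁅B, C⁆⁆ := Subgroup.commutator_mem_commutator ha heE
  set z := c * q with hz
  have hz1 : z ≠ 1 := by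
    intro h
    have hcq : c = q⁻¹ := eq_inv_of_mul_eq_one_left h
    have : c ∈ C ⊓ ⁅A, ⁅B, C⁆⁆ := ⟨hc, by rw [hcq]; exact Subgroup.inv_mem _ hqQ⟩
    rw [hTI] at this
    exact hc1' this
  have hzA : z ∈ Subgroup.centralizer (A : Set G) := Subgroup.mul_mem _ (hCA hc) (hQA hqQ)
  have hzB : z ∈ Subgroup.centralizer (B : Set G) := by
    rw [mem_centralizer_coe]
    intro b' hb'
    exact partner_comm_key hAC hEB ha hb hab hc hb'
  have hzE : z ∈ Subgroup.centralizer ((⁅B, C⁆ : Subgroup G) : Set G) :=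
    Subgroup.mul_mem _ (le_centralizer_symm hEC hc) (hQE hqQ)
  have hxN : a * q⁻¹ ∈ A ⊔ ⁅A, ⁅B, C⁆⁆ :=
    Subgroup.mul_mem _ (Subgroup.mem_sup_left ha) (Subgroup.mem_sup_right (Subgroup.inv_mem _ hqQ))
  have hxQ : a * q⁻¹ ∉ ⁅A, ⁅B, C⁆⁆ := by
    intro h
    have : a ∈ A ⊓ ⁅A, ⁅B, C⁆⁆ := by
      refine ⟨ha, ?_⟩
      have e1 : a = a * q⁻¹ * q := by group
      rw [e1]; exact Subgroup.mul_mem _ h hqQ
    rw [commutatorCase_inf_eq_bot hS cAE] at this
    exact ha1 this
  rcases commutatorCase_cover cAE hxN with h1 | ⟨e', he', hmem⟩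
  · exact hxQ h1
  · have hx1 : a * q⁻¹ ≠ 1 := by
      intro h; rw [h] at hxQ; exact hxQ (Subgroup.one_mem _)
    have hpair := rankOne_conj hAB e'
    have hze' : z * e' = e' * z := (mem_centralizer_coe.mp hzE e' he').symm
    have hzc : z ∈ Subgroup.centralizer
        ((Cfsg.conjBy A e' ⊔ Cfsg.conjBy B e' : Subgroup G) : Set G) := by
      have h1 := mem_centralizer_conjBy hzA hze'
      have h2 := mem_centralizer_conjBy hzB hze'
      have : Subgroup.zpowers z ≤ Subgroup.centralizer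
          ((Cfsg.conjBy A e' ⊔ Cfsg.conjBy B e' : Subgroup G) : Set G) :=
        le_centralizer_sup ((Subgroup.zpowers_le).mpr h1) ((Subgroup.zpowers_le).mpr h2)
      exact this (Subgroup.mem_zpowers z)
    have hzx : z * (a * q⁻¹) = c * a := by
      have hqa : q * a = a * q := (mem_centralizer_coe.mp (hQA hqQ) a ha).symm
      rw [hz]
      calc c * q * (a * q⁻¹) = c * (q * a) * q⁻¹ := by group
        _ = c * (a * q) * q⁻¹ := by rw [hqa]
        _ = c * a := by group
    have hca : c * a ≠ 1 := by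
      intro hca
      have hcA : c ∈ A := by
        have : c = a⁻¹ := eq_inv_of_mul_eq_one_left hca
        rw [this]; exact A.inv_mem ha
      have : c ∈ A ⊓ C := ⟨hcA, hc⟩
      rw [hAinfC] at this
      exact hc1' this
    obtain ⟨T, hT, hmemT⟩ := hC.cover a ha c hc hca
    rw [← hzx] at hmemT
    exact root_central_translate hS hpair (hS.conj_mem B hB e') hzc hz1 hmem hx1 hT hmemT

/-- Data of the line `A ⊔ F` through `A` relative to a rank one partner `C` of `A`: the point `P`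
of the line with `⁅C, P⁆ ∈ S`. -/
structure LineData (S : Set (Subgroup G)) (A F C P : Subgroup G) : Prop where
  P_line : P ∈ Cfsg.linePartners S A
  sup_eq : A ⊔ P = A ⊔ F
  E_mem : ⁅C, P⁆ ∈ S
  comm_eq : ⁅A, ⁅C, P⁆⁆ = P

/-- Structure of a line through `A` relative to a rank one partner `C` of `A`: there is a point `P`
of the line with `⁅C, P⁆ ∈ S`, and then `A ⊔ P` is the whole line and `⁅A, ⁅C, P⁆⁆ = P`. -/
theorem line_structure (hS : Cfsg.IsRootSubgroupSet S)
    (hF : ∀ T ∈ S, ∃ D ∈ S, Cfsg.IsRankOnePair T D) {A F C : Subgroup G} (hA : A ∈ S)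
    (hFL : F ∈ Cfsg.linePartners S A) (hC : C ∈ S) (hAC : Cfsg.IsRankOnePair A C) :
    ∃ P, LineData S A F C P := by
  have hFo := onLine_of_linePartner hA hFL
  have hFS : F ∈ S := hFL.1.1
  rcases hS.pair C hC F hFS with h | h | h
  · exact absurd h (onLine_not_comm hS hAC hC hFo)
  · -- rank one: move along the line
    obtain ⟨c', hc1⟩ := (Subgroup.ne_bot_iff_exists_ne_one).mp (rankOne_right_ne_bot hAC)
    obtain ⟨c, hc⟩ := c'
    have hc1' : c ≠ 1 := by simpa using hc1
    obtain ⟨a, ha, ha1, hab⟩ := hAC.cond_right c hc hc1'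
    obtain ⟨f, hf, hf1, hcf⟩ := h.cond_left c hc hc1'
    have hinf : A ⊓ F = ⊥ := hFo.inf
    set u := a⁻¹ * f with hu
    have hfeq : f = a * u := by rw [hu]; group
    have huN : u ∈ A ⊔ F :=
      Subgroup.mul_mem _ (Subgroup.mem_sup_left (A.inv_mem ha)) (Subgroup.mem_sup_right hf)
    have huA : u ∉ A := by
      intro huA
      have : f ∈ A ⊓ F := by
        refine ⟨?_, hf⟩
        rw [hfeq]; exact A.mul_mem ha huA
      rw [hinf] at this
      exact hf1 this
    have hu1 : u ≠ 1 := fun h => huA (h ▸ A.one_mem)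
    obtain ⟨P, hP, huP⟩ := hFL.2.2.1 u huN hu1
    have hPA : P ≠ A := fun h => huA (h ▸ huP)
    have hPo := onLine_of_member hS hA hFL hP hPA
    have hPS : P ∈ S := hP.1
    have hPcA : P ≤ Subgroup.centralizer (A : Set G) := le_centralizer_symm hPo.comm
    have hFcA : F ≤ Subgroup.centralizer (A : Set G) := le_centralizer_symm hFo.comm
    rw [hfeq] at hcf
    have hE : ⁅C, P⁆ ∈ S :=
      commutator_mem_of_translate hS hA hPS hPcA hFcA hFo.ne ha hab huP hcf
    obtain ⟨T₀, hT₀, hPT₀⟩ := hF P hPS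
    have heq := commutator_commutator_eq_of_onLine hS hA hC hAC hPo hE hT₀ hPT₀
    have cAE := commutatorCase_of_onLine hS hA hC hAC hPo hE
    have hPL : P ∈ Cfsg.linePartners S A := by
      have := commutator_mem_linePartners hS hA hAC hC cAE
      rwa [heq] at this
    refine ⟨P, hPL, ?_, hE, heq⟩
    apply le_antisymm
    · exact sup_le le_sup_left hP.2
    · refine sup_le le_sup_left ?_
      -- `f ∈ A ⊔ P`, so the member of `S` in `A ⊔ P` through `f` is `F`
      have hfN : f ∈ A ⊔ P := by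
        rw [hfeq]; exact Subgroup.mul_mem _ (Subgroup.mem_sup_left ha) (Subgroup.mem_sup_right huP)
      obtain ⟨T, hT, hfT⟩ := hPL.2.2.1 f hfN hf1
      have hTN : T ∈ Cfsg.membersIn S (A ⊔ F) := ⟨hT.1, hT.2.trans (sup_le le_sup_left hP.2)⟩
      have hFN : F ∈ Cfsg.membersIn S (A ⊔ F) := ⟨hFS, le_sup_right⟩
      have hTF : T = F := by
        by_contra hne
        have := hFL.2.2.2 T hTN F hFN hne
        have hmem : f ∈ T ⊓ F := ⟨hfT, hf⟩
        rw [this] at hmem
        exact hf1 hmem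
      rw [← hTF]; exact hT.2
  · -- commutator case: `P = F`
    obtain ⟨T₀, hT₀, hFT₀⟩ := hF F hFS
    have heq := commutator_commutator_eq_of_onLine hS hA hC hAC hFo h.1 hT₀ hFT₀
    exact ⟨F, hFL, rfl, h.1, heq⟩

/-- Line partners are symmetric. -/
theorem linePartners_symm {A C : Subgroup G} (hA : A ∈ S) (hC : C ∈ Cfsg.linePartners S A) :
    A ∈ Cfsg.linePartners S C := by
  obtain ⟨⟨_, hne, hcomm⟩, hpart⟩ := hC
  refine ⟨⟨hA, hne.symm, ?_⟩, ?_⟩
  · rw [Subgroup.commutator_comm]; exact hcomm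
  · rw [sup_comm]; exact hpart

/-- In the commutator case a non-identity element of `B` moves `A`. -/
theorem commutatorCase_conj_ne (hS : Cfsg.IsRootSubgroupSet S) {A B : Subgroup G}
    (h : Cfsg.RootCommutatorCase S A B) {b : G} (hb : b ∈ B) (hb1 : b ≠ 1) :
    Cfsg.conjBy A b ≠ A := by
  intro hc
  apply hb1
  apply commutatorCase_cent_right hS h hb
  intro a ha
  -- `⁅b, a⁆ ∈ A ⊓ ⁅A, B⁆ = ⊥`
  have h1 : b * a * b⁻¹ ∈ A := by
    have := conj_mem_conjBy (g := b) ha
    rwa [hc] at this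
  have h2 : ⁅b, a⁆ ∈ A ⊓ ⁅A, B⁆ := by
    refine ⟨?_, ?_⟩
    · rw [commutatorElement_def]; exact A.mul_mem h1 (A.inv_mem ha)
    · rw [Subgroup.commutator_comm]; exact Subgroup.commutator_mem_commutator hb ha
  rw [commutatorCase_inf_eq_bot hS h, Subgroup.mem_bot, commutatorElement_eq_one_iff_mul_comm] at h2
  exact h2.symm

namespace LineData

variable {A F C P : Subgroup G}

theorem P_mem (d : LineData S A F C P) : P ∈ S := d.P_line.1.1

theorem caseAE (d : LineData S A F C P) (hS : Cfsg.IsRootSubgroupSet S) (hA : A ∈ S) :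
    Cfsg.RootCommutatorCase S A ⁅C, P⁆ :=
  commutatorCase_of_mem hS hA d.E_mem (by rw [d.comm_eq]; exact d.P_mem)

theorem caseCP (d : LineData S A F C P) (hS : Cfsg.IsRootSubgroupSet S) (hC : C ∈ S) :
    Cfsg.RootCommutatorCase S C P :=
  commutatorCase_of_mem hS hC d.P_mem d.E_mem

/-- The members of `S` on the line are the conjugates of `A` under `⁅C, P⁆` and `P`. -/
theorem members (d : LineData S A F C P) (hS : Cfsg.IsRootSubgroupSet S) (hA : A ∈ S) (hC : C ∈ S)
    (hAC : Cfsg.IsRankOnePair A C) :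
    Cfsg.membersIn S (A ⊔ F) = (fun e : G => Cfsg.conjBy A e) '' ((⁅C, P⁆ : Subgroup G) : Set G) ∪ {P} := by
  have := commutatorCase_members hS (d.caseAE hS hA) hA hAC hC
  rw [d.comm_eq, d.sup_eq] at this
  exact this

theorem E_le_normalizer (d : LineData S A F C P) (hS : Cfsg.IsRootSubgroupSet S) (hA : A ∈ S) :
    ⁅C, P⁆ ≤ Subgroup.normalizer ((A ⊔ F : Subgroup G) : Set G) := by
  have := commutatorCase_le_normalizer (d.caseAE hS hA)
  rw [d.comm_eq, d.sup_eq] at this
  exact this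

theorem E_mem_normalizing (d : LineData S A F C P) (hS : Cfsg.IsRootSubgroupSet S) (hA : A ∈ S) :
    ⁅C, P⁆ ∈ Cfsg.normalizingMembers S (A ⊔ F) := ⟨d.E_mem, d.E_le_normalizer hS hA⟩

theorem E_le_centralizer_P (d : LineData S A F C P) (hS : Cfsg.IsRootSubgroupSet S) (hC : C ∈ S) :
    ⁅C, P⁆ ≤ Subgroup.centralizer (P : Set G) :=
  (commutatorCase_le_centralizer (d.caseCP hS hC)).trans (Subgroup.centralizer_le (by
    exact_mod_cast (le_sup_right : P ≤ C ⊔ P)))

theorem E_le_centralizer_C (d : LineData S A F C P) (hS : Cfsg.IsRootSubgroupSet S) (hC : C ∈ S) :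
    ⁅C, P⁆ ≤ Subgroup.centralizer (C : Set G) :=
  (commutatorCase_le_centralizer (d.caseCP hS hC)).trans (Subgroup.centralizer_le (by
    exact_mod_cast (le_sup_left : C ≤ C ⊔ P)))

theorem conj_P (d : LineData S A F C P) (hS : Cfsg.IsRootSubgroupSet S) (hC : C ∈ S) {e : G}
    (he : e ∈ ⁅C, P⁆) : Cfsg.conjBy P e = P :=
  conjBy_eq_self_iff.mpr (centralizer_le_normalizer_coe (d.E_le_centralizer_P hS hC) he)

theorem conj_C (d : LineData S A F C P) (hS : Cfsg.IsRootSubgroupSet S) (hC : C ∈ S) {e : G}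
    (he : e ∈ ⁅C, P⁆) : Cfsg.conjBy C e = C :=
  conjBy_eq_self_iff.mpr (centralizer_le_normalizer_coe (d.E_le_centralizer_C hS hC) he)

theorem P_mem_members (d : LineData S A F C P) : P ∈ Cfsg.membersIn S (A ⊔ F) :=
  ⟨d.P_mem, d.sup_eq ▸ le_sup_right⟩

/-- Every point of the line other than `P` is a conjugate of `A` under `⁅C, P⁆`. -/
theorem exists_conj (d : LineData S A F C P) (hS : Cfsg.IsRootSubgroupSet S) (hA : A ∈ S) (hC : C ∈ S)
    (hAC : Cfsg.IsRankOnePair A C) {T : Subgroup G} (hT : T ∈ Cfsg.membersIn S (A ⊔ F)) (hTP : T ≠ P) :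
    ∃ e ∈ ⁅C, P⁆, T = Cfsg.conjBy A e := by
  rw [d.members hS hA hC hAC] at hT
  rcases hT with ⟨e, he, rfl⟩ | hT
  · exact ⟨e, he, rfl⟩
  · exact absurd hT hTP

/-- `⁅C, P⁆` is transitive on the points of the line other than `P`. -/
theorem exists_conj_eq (d : LineData S A F C P) (hS : Cfsg.IsRootSubgroupSet S) (hA : A ∈ S) (hC : C ∈ S)
    (hAC : Cfsg.IsRankOnePair A C) {T₁ T₂ : Subgroup G} (hT₁ : T₁ ∈ Cfsg.membersIn S (A ⊔ F))
    (hT₁P : T₁ ≠ P) (hT₂ : T₂ ∈ Cfsg.membersIn S (A ⊔ F)) (hT₂P : T₂ ≠ P) :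
    ∃ e ∈ ⁅C, P⁆, Cfsg.conjBy T₁ e = T₂ := by
  obtain ⟨e₁, he₁, rfl⟩ := d.exists_conj hS hA hC hAC hT₁ hT₁P
  obtain ⟨e₂, he₂, rfl⟩ := d.exists_conj hS hA hC hAC hT₂ hT₂P
  refine ⟨e₂ * e₁⁻¹, Subgroup.mul_mem _ he₂ (Subgroup.inv_mem _ he₁), ?_⟩
  rw [conjBy_conjBy, inv_mul_cancel_right]

/-- The points of the line other than `P` are rank one partners of `C`. -/
theorem rankOne_of_ne (d : LineData S A F C P) (hS : Cfsg.IsRootSubgroupSet S) (hA : A ∈ S) (hC : C ∈ S)
    (hAC : Cfsg.IsRankOnePair A C) {T : Subgroup G} (hT : T ∈ Cfsg.membersIn S (A ⊔ F)) (hTP : T ≠ P) :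
    Cfsg.IsRankOnePair T C := by
  obtain ⟨e, he, rfl⟩ := d.exists_conj hS hA hC hAC hT hTP
  have := rankOne_conj hAC e
  rwa [d.conj_C hS hC he] at this

end LineData

end Cfsg.Agent.Helper83
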