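import Mathlib
import Cfsg.Prelude.Def_RootSubgroups
import Cfsg.Agent.Helper83.Line2

set_option autoImplicit false

/-!
# Conjugation of lines, and the subgroup generated by the line partners of `A`
-/

namespace Cfsg.Agent.Helper83

open scoped commutatorElement

variable {G : Type*} [Group G] {S : Set (Subgroup G)}

theorem conjBy_inv_conjBy (A : Subgroup G) (g : G) : Cfsg.conjBy (Cfsg.conjBy A g) g⁻¹ = A := by
  rw [conjBy_conjBy, inv_mul_cancel, conjBy_one]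

theorem conjBy_conjBy_inv (A : Subgroup G) (g : G) : Cfsg.conjBy (Cfsg.conjBy A g⁻¹) g = A := by
  rw [conjBy_conjBy, mul_inv_cancel, conjBy_one]

theorem membersIn_conj (hS : Cfsg.IsRootSubgroupSet S) {N T : Subgroup G} (g : G)
    (hT : T ∈ Cfsg.membersIn S N) : Cfsg.conjBy T g ∈ Cfsg.membersIn S (Cfsg.conjBy N g) :=
  ⟨hS.conj_mem T hT.1 g, conjBy_mono hT.2 g⟩

theorem partition_conj (hS : Cfsg.IsRootSubgroupSet S) {N : Subgroup G} (g : G)
    (h : Cfsg.IsSubgroupPartition N (Cfsg.membersIn S N)) :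
    Cfsg.IsSubgroupPartition (Cfsg.conjBy N g) (Cfsg.membersIn S (Cfsg.conjBy N g)) := by
  refine ⟨fun T hT => hT.2, ?_, ?_⟩
  · intro x hx hx1
    rw [mem_conjBy] at hx
    have hx1' : g⁻¹ * x * g ≠ 1 := by
      intro hc
      apply hx1
      have : x = g * (g⁻¹ * x * g) * g⁻¹ := by group
      rw [this, hc]; group
    obtain ⟨T₀, hT₀, hmem⟩ := h.2.1 _ hx hx1'
    exact ⟨Cfsg.conjBy T₀ g, membersIn_conj hS g hT₀, mem_conjBy.mpr hmem⟩
  · intro T hT T' hT' hne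
    have hT₀ : Cfsg.conjBy T g⁻¹ ∈ Cfsg.membersIn S N := by
      have := membersIn_conj hS g⁻¹ hT
      rwa [conjBy_inv_conjBy] at this
    have hT₀' : Cfsg.conjBy T' g⁻¹ ∈ Cfsg.membersIn S N := by
      have := membersIn_conj hS g⁻¹ hT'
      rwa [conjBy_inv_conjBy] at this
    have hne' : Cfsg.conjBy T g⁻¹ ≠ Cfsg.conjBy T' g⁻¹ := fun hc => hne (conjBy_inj hc)
    have hbot := h.2.2 _ hT₀ _ hT₀' hne'
    rw [eq_bot_iff]
    intro x hx
    rw [Subgroup.mem_bot]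
    have hmem : g⁻¹ * x * g ∈ Cfsg.conjBy T g⁻¹ ⊓ Cfsg.conjBy T' g⁻¹ := by
      have e : g⁻¹⁻¹ * (g⁻¹ * x * g) * g⁻¹ = x := by group
      rw [Subgroup.mem_inf]
      refine ⟨?_, ?_⟩
      · rw [mem_conjBy, e]; exact hx.1
      · rw [mem_conjBy, e]; exact hx.2
    rw [hbot, Subgroup.mem_bot] at hmem
    have : x = g * (g⁻¹ * x * g) * g⁻¹ := by group
    rw [this, hmem]; group

/-- Conjugation maps line partners to line partners. -/
theorem linePartners_conj (hS : Cfsg.IsRootSubgroupSet S) {A C : Subgroup G} (g : G)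
    (hC : C ∈ Cfsg.linePartners S A) : Cfsg.conjBy C g ∈ Cfsg.linePartners S (Cfsg.conjBy A g) := by
  obtain ⟨⟨hCS, hne, hcomm⟩, hpart⟩ := hC
  refine ⟨⟨hS.conj_mem C hCS g, fun hc => hne (conjBy_inj hc), ?_⟩, ?_⟩
  · rw [← conjBy_commutator, hcomm, conjBy_bot]
  · rw [← conjBy_sup]
    exact partition_conj hS g hpart

/-- If `M_A ≤ R` and `r ∈ R` then `M_{A^r} ≤ R`. -/
theorem linePartner_le_of_conj (hS : Cfsg.IsRootSubgroupSet S) {A R : Subgroup G}
    (hM : ∀ C ∈ Cfsg.linePartners S A, C ≤ R) {r : G} (hr : r ∈ R) {C' : Subgroup G}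
    (hC' : C' ∈ Cfsg.linePartners S (Cfsg.conjBy A r)) : C' ≤ R := by
  have h1 := linePartners_conj hS r⁻¹ hC'
  rw [conjBy_inv_conjBy] at h1
  have h2 := conjBy_le_of_mem (hM _ h1) hr
  rwa [conjBy_conjBy_inv] at h2

/-- `A` lies in the subgroup generated by two of its line partners. -/
theorem self_le_linePartners (hS : Cfsg.IsRootSubgroupSet S) {A F D R : Subgroup G}
    (hA : A ∈ S) (hp : Cfsg.IsRankOnePair A D) (hD : D ∈ S) (hF : F ∈ S) (hAF : ⁅A, F⁆ ∈ S)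
    (hM : ∀ C ∈ Cfsg.linePartners S A, C ≤ R) : A ≤ R := by
  have cAF := commutatorCase_of_mem hS hA hF hAF
  obtain ⟨f', hf1⟩ := (Subgroup.ne_bot_iff_exists_ne_one).mp (hS.ne_bot F hF)
  obtain ⟨f, hf⟩ := f'
  have hf1' : f ≠ 1 := by simpa using hf1
  have h1 : ⁅A, F⁆ ≤ R := hM _ (commutator_mem_linePartners hS hA hp hD cAF)
  have h2 : Cfsg.conjBy A f ≤ R :=
    hM _ (conj_mem_linePartners hS hA hp hD cAF hf hf1' (commutatorCase_conj_ne hS cAF hf hf1'))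
  intro a ha
  have e : a = (f * a * f⁻¹) * ⁅f, a⁻¹⁆ := by rw [commutatorElement_def]; group
  rw [e]
  refine R.mul_mem (h2 (conj_mem_conjBy ha)) (h1 ?_)
  rw [Subgroup.commutator_comm]
  exact Subgroup.commutator_mem_commutator hf (A.inv_mem ha)

/-- The core step for `G = ⟨Λ_A, B⟩`: every line partner of `A` is conjugate to `A` by an element
of any subgroup `R` containing the line partners of `A` and of its rank one partner `B`. -/
theorem linePartner_conj_of_le (hS : Cfsg.IsRootSubgroupSet S)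
    (hF : ∀ T ∈ S, ∃ D ∈ S, Cfsg.IsRankOnePair T D) {A B F R : Subgroup G} (hA : A ∈ S) (hB : B ∈ S)
    (hAB : Cfsg.IsRankOnePair A B) (hMA : ∀ C ∈ Cfsg.linePartners S A, C ≤ R)
    (hMB : ∀ C ∈ Cfsg.linePartners S B, C ≤ R) (hFL : F ∈ Cfsg.linePartners S A) :
    ∃ r ∈ R, F = Cfsg.conjBy A r := by
  obtain ⟨P, d⟩ := line_structure hS hF hA hFL hB hAB
  have hBA := Cfsg.RankOnePair_symm hAB
  have hE_R : ⁅B, P⁆ ≤ R := hMB _ (commutator_mem_linePartners hS hB hBA hA (d.caseCP hS hB))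
  have hFm : F ∈ Cfsg.membersIn S (A ⊔ F) := ⟨hFL.1.1, le_sup_right⟩
  by_cases hFP : F = P
  · -- the hard case: `F` is the special point
    have hPS : P ∈ S := d.P_mem
    obtain ⟨C'', hC'', hPC''⟩ := hF P hPS
    have hAL : A ∈ Cfsg.linePartners S P := linePartners_symm hA d.P_line
    obtain ⟨P₁, d''⟩ := line_structure hS hF hPS hAL hC'' hPC''
    have hN : P ⊔ A = A ⊔ F := by rw [sup_comm, d.sup_eq]
    have hP₁ne : P₁ ≠ P := d''.P_line.1.2.1
    have hP₁m : P₁ ∈ Cfsg.membersIn S (A ⊔ F) := by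
      have := d''.P_mem_members
      rwa [hN] at this
    obtain ⟨e, he, hP₁eq⟩ := d.exists_conj hS hA hB hAB hP₁m hP₁ne
    -- the new partner of `P`
    have hC'S : Cfsg.conjBy C'' e⁻¹ ∈ S := hS.conj_mem C'' hC'' e⁻¹
    have hPC' : Cfsg.IsRankOnePair P (Cfsg.conjBy C'' e⁻¹) := by
      have := rankOne_conj hPC'' e⁻¹
      rwa [d.conj_P hS hB (Subgroup.inv_mem _ he)] at this
    have hE₁S : ⁅Cfsg.conjBy C'' e⁻¹, A⁆ ∈ S := by
      have h1 := hS.conj_mem _ d''.E_mem e⁻¹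
      rw [conjBy_commutator, hP₁eq, conjBy_inv_conjBy] at h1
      exact h1
    have hAo : OnLine S P A := onLine_of_linePartner hPS hAL
    have heq : ⁅P, ⁅Cfsg.conjBy C'' e⁻¹, A⁆⁆ = A :=
      commutator_commutator_eq_of_onLine hS hPS hC'S hPC' hAo hE₁S hB hAB
    have d' : LineData S P A (Cfsg.conjBy C'' e⁻¹) A := ⟨hAL, rfl, hE₁S, heq⟩
    -- `E₁ ≤ R`
    have hE₁S' : ⁅A, Cfsg.conjBy C'' e⁻¹⁆ ∈ S := by rw [Subgroup.commutator_comm]; exact hE₁S
    have cAC' := commutatorCase_of_mem hS hA hC'S hE₁S'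
    have hE₁R : ⁅Cfsg.conjBy C'' e⁻¹, A⁆ ≤ R := by
      rw [Subgroup.commutator_comm]
      exact hMA _ (commutator_mem_linePartners hS hA hAB hB cAC')
    -- a third point
    obtain ⟨e₀', he₀1⟩ := (Subgroup.ne_bot_iff_exists_ne_one).mp (hS.ne_bot _ d.E_mem)
    obtain ⟨e₀, he₀⟩ := e₀'
    have he₀1' : e₀ ≠ 1 := by simpa using he₀1
    have hQm : Cfsg.conjBy A e₀ ∈ Cfsg.membersIn S (P ⊔ A) := by
      rw [hN, d.members hS hA hB hAB]
      exact Or.inl ⟨e₀, he₀, rfl⟩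
    have hQA : Cfsg.conjBy A e₀ ≠ A := commutatorCase_conj_ne hS (d.caseAE hS hA) he₀ he₀1'
    obtain ⟨e₁, he₁, hQeq⟩ := d'.exists_conj hS hPS hC'S hPC' hQm hQA
    refine ⟨e₁⁻¹ * e₀, R.mul_mem (R.inv_mem (hE₁R he₁)) (hE_R he₀), ?_⟩
    rw [hFP, ← conjBy_conjBy, hQeq, conjBy_inv_conjBy]
  · obtain ⟨e, he, hFeq⟩ := d.exists_conj hS hA hB hAB hFm hFP
    exact ⟨e, hE_R he, hFeq⟩

end Cfsg.Agent.Helper83
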