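import Mathlib

/-!
# McLaughlin's theorem over a prime field: basic transvection calculus

`tvx φ v` is the transvection `x ↦ x + φ x • v` (the identity when `φ v ≠ 0`).
`Phi H v` is the subspace of all axes `φ` with `tvx φ v ∈ H`.
-/

set_option autoImplicit false

namespace Cfsg.Agent.Helper83.McL

open Module

variable {p : ℕ} [Fact p.Prime] {V : Type*} [AddCommGroup V] [Module (ZMod p) V]

/-- The transvection `x ↦ x + φ x • v` when `φ v = 0`, the identity otherwise. -/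
noncomputable def tvx (φ : Dual (ZMod p) V) (v : V) : V ≃ₗ[ZMod p] V :=
  if h : φ v = 0 then LinearEquiv.transvection h else 1

lemma tvx_apply {φ : Dual (ZMod p) V} {v : V} (h : φ v = 0) (x : V) :
    tvx φ v x = x + φ x • v := by
  unfold tvx
  rw [dif_pos h]
  rfl

lemma tvx_of_ne {φ : Dual (ZMod p) V} {v : V} (h : φ v ≠ 0) : tvx φ v = 1 := by
  unfold tvx
  rw [dif_neg h]

lemma tvx_zero_left (v : V) : tvx (0 : Dual (ZMod p) V) v = 1 := by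
  ext x
  rw [tvx_apply (by simp)]
  simp

lemma tvx_zero_right (φ : Dual (ZMod p) V) : tvx φ (0 : V) = 1 := by
  ext x
  rw [tvx_apply (by simp)]
  simp

lemma tvx_mul_same {φ ψ : Dual (ZMod p) V} {v : V} (h1 : φ v = 0) (h2 : ψ v = 0) :
    tvx φ v * tvx ψ v = tvx (φ + ψ) v := by
  have h3 : (φ + ψ) v = 0 := by simp [h1, h2]
  ext x
  rw [LinearEquiv.mul_apply, tvx_apply h1, tvx_apply h2, tvx_apply h3]
  simp only [map_add, map_smul, h1, smul_eq_mul, mul_zero, add_zero, LinearMap.add_apply, add_smul]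
  abel

lemma tvx_mul_axis {φ : Dual (ZMod p) V} {v w : V} (h1 : φ v = 0) (h2 : φ w = 0) :
    tvx φ v * tvx φ w = tvx φ (v + w) := by
  have h3 : φ (v + w) = 0 := by simp [h1, h2]
  ext x
  rw [LinearEquiv.mul_apply, tvx_apply h1, tvx_apply h2, tvx_apply h3]
  simp only [map_add, map_smul, h2, smul_eq_mul, mul_zero, add_zero, smul_add]
  abel

lemma tvx_inv {φ : Dual (ZMod p) V} {v : V} (h : φ v = 0) : (tvx φ v)⁻¹ = tvx (-φ) v := by
  have h' : (-φ) v = 0 := by simp [h]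
  rw [inv_eq_iff_mul_eq_one, tvx_mul_same h h']
  simp [tvx_zero_left]

lemma tvx_pow {φ : Dual (ZMod p) V} {v : V} (h : φ v = 0) (n : ℕ) :
    (tvx φ v) ^ n = tvx (n • φ) v := by
  induction n with
  | zero => simp [tvx_zero_left]
  | succ n ih =>
    have h' : (n • φ) v = 0 := by simp [h]
    rw [pow_succ, ih, tvx_mul_same h' h, succ_nsmul]

lemma tvx_smul {φ : Dual (ZMod p) V} {v : V} (c : ZMod p) (h : φ v = 0) :
    tvx (c • φ) v = tvx φ (c • v) := by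
  have h1 : (c • φ) v = 0 := by simp [h]
  have h2 : φ (c • v) = 0 := by simp [h]
  ext x
  rw [tvx_apply h1, tvx_apply h2]
  simp [smul_smul, mul_comm]

lemma conj_tvx (g : V ≃ₗ[ZMod p] V) {φ : Dual (ZMod p) V} {v : V} (h : φ v = 0) :
    g * tvx φ v * g⁻¹ = tvx (φ ∘ₗ (g.symm : V →ₗ[ZMod p] V)) (g v) := by
  have h' : (φ ∘ₗ (g.symm : V →ₗ[ZMod p] V)) (g v) = 0 := by simp [h]
  ext x
  rw [LinearEquiv.mul_apply, LinearEquiv.mul_apply, tvx_apply h, tvx_apply h']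
  simp

lemma tvx_eq_one_iff {φ : Dual (ZMod p) V} {v : V} (h : φ v = 0) :
    tvx φ v = 1 ↔ φ = 0 ∨ v = 0 := by
  constructor
  · intro h1
    by_contra hcon
    push Not at hcon
    obtain ⟨hφ, hv⟩ := hcon
    obtain ⟨x, hx⟩ : ∃ x, φ x ≠ 0 := by
      by_contra hne
      push Not at hne
      exact hφ (LinearMap.ext hne)
    have h2 : tvx φ v x = x := by rw [h1]; rfl
    rw [tvx_apply h] at h2
    have h3 : φ x • v = 0 := by simpa using h2
    rcases smul_eq_zero.mp h3 with h4 | h4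
    · exact hx h4
    · exact hv h4
  · rintro (rfl | rfl)
    · exact tvx_zero_left v
    · exact tvx_zero_right φ

/-- The axes of the transvections of `H` with centre `v`. -/
def Phi (H : Subgroup (V ≃ₗ[ZMod p] V)) (v : V) : Submodule (ZMod p) (Dual (ZMod p) V) where
  carrier := {φ | φ v = 0 ∧ tvx φ v ∈ H}
  add_mem' := by
    rintro φ ψ ⟨h1, h2⟩ ⟨h3, h4⟩
    refine ⟨by simp [h1, h3], ?_⟩
    rw [← tvx_mul_same h1 h3]
    exact mul_mem h2 h4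
  zero_mem' := ⟨by simp, by rw [tvx_zero_left]; exact one_mem H⟩
  smul_mem' := by
    rintro c φ ⟨h1, h2⟩
    refine ⟨by simp [h1], ?_⟩
    have hc : c • φ = c.val • φ := by
      rw [← Nat.cast_smul_eq_nsmul (ZMod p), ZMod.natCast_zmod_val]
    rw [hc, ← tvx_pow h1]
    exact pow_mem h2 _

lemma mem_Phi {H : Subgroup (V ≃ₗ[ZMod p] V)} {v : V} {φ : Dual (ZMod p) V} :
    φ ∈ Phi H v ↔ φ v = 0 ∧ tvx φ v ∈ H := Iff.rfl

lemma Phi_apply_self {H : Subgroup (V ≃ₗ[ZMod p] V)} {v : V} {φ : Dual (ZMod p) V}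
    (h : φ ∈ Phi H v) : φ v = 0 := h.1

lemma Phi_tvx_mem {H : Subgroup (V ≃ₗ[ZMod p] V)} {v : V} {φ : Dual (ZMod p) V}
    (h : φ ∈ Phi H v) : tvx φ v ∈ H := h.2

lemma Phi_mono {H K : Subgroup (V ≃ₗ[ZMod p] V)} (hHK : H ≤ K) (v : V) : Phi H v ≤ Phi K v :=
  fun _ h => ⟨h.1, hHK h.2⟩

/-- Rescaling the centre. -/
lemma Phi_smul_center {H : Subgroup (V ≃ₗ[ZMod p] V)} {v : V} {φ : Dual (ZMod p) V}
    (c : ZMod p) (h : φ ∈ Phi H v) : φ ∈ Phi H (c • v) := by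
  refine ⟨by simp [h.1], ?_⟩
  rw [← tvx_smul c h.1]
  exact ((Phi H v).smul_mem c h).2

lemma Phi_smul_center_iff {H : Subgroup (V ≃ₗ[ZMod p] V)} {v : V} {φ : Dual (ZMod p) V}
    {c : ZMod p} (hc : c ≠ 0) : φ ∈ Phi H (c • v) ↔ φ ∈ Phi H v := by
  constructor
  · intro h
    have := Phi_smul_center c⁻¹ h
    rwa [smul_smul, inv_mul_cancel₀ hc, one_smul] at this
  · exact Phi_smul_center c

/-- Same axis: centres add. -/
lemma Phi_add_center {H : Subgroup (V ≃ₗ[ZMod p] V)} {v w : V} {φ : Dual (ZMod p) V}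
    (h1 : φ ∈ Phi H v) (h2 : φ ∈ Phi H w) : φ ∈ Phi H (v + w) := by
  refine ⟨by simp [h1.1, h2.1], ?_⟩
  rw [← tvx_mul_axis h1.1 h2.1]
  exact mul_mem h1.2 h2.2

/-- Conjugation by an element of `H`. -/
lemma Phi_conj {H : Subgroup (V ≃ₗ[ZMod p] V)} {g : V ≃ₗ[ZMod p] V} (hg : g ∈ H) {v : V}
    {φ : Dual (ZMod p) V} (h : φ ∈ Phi H v) :
    φ ∘ₗ (g.symm : V →ₗ[ZMod p] V) ∈ Phi H (g v) := by
  refine ⟨by simp [h.1], ?_⟩
  rw [← conj_tvx g h.1]
  exact mul_mem (mul_mem hg h.2) (inv_mem hg)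

lemma tvx_symm_apply {φ : Dual (ZMod p) V} {v : V} (h : φ v = 0) (x : V) :
    (tvx φ v).symm x = x - φ x • v := by
  have h' : (-φ) v = 0 := by simp [h]
  have : (tvx φ v).symm = tvx (-φ) v := by
    rw [← tvx_inv h]; rfl
  rw [this, tvx_apply h']
  simp [sub_eq_add_neg]

/-- (L2): conjugating the transvection `(φ₁, v₁)` by `(φ₂, v₂)`. -/
lemma Phi_L2 {H : Subgroup (V ≃ₗ[ZMod p] V)} {v₁ v₂ : V} {φ₁ φ₂ : Dual (ZMod p) V}
    (h1 : φ₁ ∈ Phi H v₁) (h2 : φ₂ ∈ Phi H v₂) :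
    φ₁ - φ₁ v₂ • φ₂ ∈ Phi H (v₁ + φ₂ v₁ • v₂) := by
  have h := Phi_conj h2.2 h1
  rw [tvx_apply h2.1] at h
  convert h using 1
  ext x
  simp [tvx_symm_apply h2.1, mul_comm]

/-- (L1): the commutator of two transvections in half position. -/
lemma Phi_L1 {H : Subgroup (V ≃ₗ[ZMod p] V)} {v₁ v₂ : V} {φ₁ φ₂ : Dual (ZMod p) V}
    (h1 : φ₁ ∈ Phi H v₁) (h2 : φ₂ ∈ Phi H v₂) (h12 : φ₁ v₂ = 0) :
    φ₂ v₁ • φ₁ ∈ Phi H v₂ := by
  have h3 := Phi_L2 h1 h2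
  rw [h12, zero_smul, sub_zero] at h3
  have h4 : φ₁ ∈ Phi H ((-1 : ZMod p) • v₁) := Phi_smul_center _ h1
  have h5 := Phi_add_center h3 h4
  have h6 : v₁ + φ₂ v₁ • v₂ + (-1 : ZMod p) • v₁ = φ₂ v₁ • v₂ := by
    simp
  rw [h6] at h5
  refine ⟨by simp [h12], ?_⟩
  rw [tvx_smul _ h12]
  exact h5.2

end Cfsg.Agent.Helper83.McL
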