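import Cfsg.Agent.Helper83.McL8

/-!
# McLaughlin over a prime field, part 10: components of symplectic type, the polarity
-/

set_option autoImplicit false

namespace Cfsg.Agent.Helper83.McL

open Module

variable {p : ℕ} [Fact p.Prime] {V : Type*} [AddCommGroup V] [Module (ZMod p) V] [Finite V]

variable {H : Subgroup (V ≃ₗ[ZMod p] V)}

lemma oneDim_of_mem_VC (hS : Std H) (h2 : (2 : ZMod p) ≠ 0) {u : V} (hu : IsCen H u)
    (hone : OneDim H u) {x : V} (hx : x ∈ VC H u) (hx0 : x ≠ 0) : OneDim H x :=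
  hone.of_conn hS (isCen_of_mem_VC_ne_zero hS h2 hu hx hx0).2

omit [Finite V] in
lemma OneDim.gen {x : V} (h : OneDim H x) {φ : Dual (ZMod p) V} (hφ : φ ∈ Phi H x) (hφ0 : φ ≠ 0) :
    ∀ ψ ∈ Phi H x, ∃ c : ZMod p, ψ = c • φ := by
  obtain ⟨φ₀, _, hall⟩ := h
  obtain ⟨a, rfl⟩ := hall φ hφ
  have ha : a ≠ 0 := by
    rintro rfl
    simp at hφ0
  intro ψ hψ
  obtain ⟨b, rfl⟩ := hall ψ hψ
  exact ⟨b * a⁻¹, by rw [smul_smul, mul_assoc, inv_mul_cancel₀ ha, mul_one]⟩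

/-- A non-zero axis at a vector of the component does not vanish on the component. -/
lemma exists_VC_apply_ne (hS : Std H) (h2 : (2 : ZMod p) ≠ 0) {u : V} (hu : IsCen H u) {x : V}
    (hx : x ∈ VC H u) (hx0 : x ≠ 0) {φ : Dual (ZMod p) V} (hφ : φ ∈ Phi H x) (hφ0 : φ ≠ 0) :
    ∃ z ∈ VC H u, φ z ≠ 0 := by
  obtain ⟨m, hm⟩ : ∃ m, φ m ≠ 0 := by
    by_contra h
    push Not at h
    exact hφ0 (LinearMap.ext h)
  obtain ⟨z, hz, b, hb, rfl⟩ := exists_decomp hS h2 hu m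
  obtain ⟨hxc, hxconn⟩ := isCen_of_mem_VC_ne_zero hS h2 hu hx hx0
  refine ⟨z, hz, fun h => hm ?_⟩
  rw [map_add, h, Phi_kills_rest hxc hxconn hφ b hb, add_zero]

/-- Two vectors of a symplectic-type component with a common non-zero axis are proportional. -/
theorem eq_smul_of_common_axis (hS : Std H) (h2 : (2 : ZMod p) ≠ 0) {u : V} (hu : IsCen H u)
    (hone : OneDim H u) {x y : V} (hx : x ∈ VC H u) (hx0 : x ≠ 0) (hy : y ∈ VC H u)
    {φ : Dual (ZMod p) V} (hφ0 : φ ≠ 0) (hφx : φ ∈ Phi H x) (hφy : φ ∈ Phi H y) :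
    ∃ c : ZMod p, y = c • x := by
  by_contra hcon
  push Not at hcon
  have hy0 : y ≠ 0 := by
    rintro rfl
    exact hcon 0 (by simp)
  obtain ⟨z, hz, hφz⟩ := exists_VC_apply_ne hS h2 hu hx hx0 hφx hφ0
  obtain ⟨hxc, hxconn⟩ := isCen_of_mem_VC_ne_zero hS h2 hu hx hx0
  obtain ⟨hyc, hyconn⟩ := isCen_of_mem_VC_ne_zero hS h2 hu hy hy0
  have hz0 : z ≠ 0 := by
    rintro rfl
    simp at hφz
  obtain ⟨hzc, hzconn⟩ := isCen_of_mem_VC_ne_zero hS h2 hu hz hz0
  obtain ⟨χ, hχ, hχall⟩ := oneDim_of_mem_VC hS h2 hu hone hz hz0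
  have hχx : χ x ≠ 0 := by
    intro h0
    have hp : Perp H z x := by
      intro χ' hχ'
      obtain ⟨c, rfl⟩ := hχall χ' hχ'
      simp [h0]
    exact hφz (perp_symm hS hzc hxc hp φ hφx)
  have hχy : χ y ≠ 0 := by
    intro h0
    have hp : Perp H z y := by
      intro χ' hχ'
      obtain ⟨c, rfl⟩ := hχall χ' hχ'
      simp [h0]
    exact hφz (perp_symm hS hzc hyc hp φ hφy)
  obtain ⟨c, hc⟩ : ∃ c : ZMod p, c = χ x * (χ y)⁻¹ := ⟨_, rfl⟩
  have hc0 : c ≠ 0 := by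
    rw [hc]
    exact mul_ne_zero hχx (inv_ne_zero hχy)
  have ht : x - c • y ∈ VC H u := (VC H u).sub_mem hx ((VC H u).smul_mem c hy)
  have ht0 : x - c • y ≠ 0 := by
    intro h
    apply hcon c⁻¹
    rw [sub_eq_zero] at h
    rw [h, smul_smul, inv_mul_cancel₀ hc0, one_smul]
  have hχt : χ (x - c • y) = 0 := by
    rw [map_sub, map_smul, smul_eq_mul, hc, mul_assoc, inv_mul_cancel₀ hχy, mul_one, sub_self]
  have hperp : Perp H z (x - c • y) := by
    intro χ' hχ'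
    obtain ⟨d, rfl⟩ := hχall χ' hχ'
    rw [LinearMap.smul_apply, hχt, smul_zero]
  obtain ⟨htc, _⟩ := isCen_of_mem_VC_ne_zero hS h2 hu ht ht0
  have h3 := perp_symm hS hzc htc hperp
  have hφt : φ ∈ Phi H (x - c • y) := by
    have h4 := Phi_add_center hφx (Phi_smul_center (-c) hφy)
    rw [neg_smul, ← sub_eq_add_neg] at h4
    exact h4
  exact hφz (h3 φ hφt)

/-- The axes at `x + y` lie in the span of the axes at `x` and at `y`. -/
theorem Phi_add_le (hS : Std H) (h2 : (2 : ZMod p) ≠ 0) {u : V} (hu : IsCen H u) {x y : V}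
    (hx : x ∈ VC H u) (hx0 : x ≠ 0) (hy : y ∈ VC H u) (hy0 : y ≠ 0) (hxy : x + y ≠ 0) :
    Phi H (x + y) ≤ Phi H x ⊔ Phi H y := by
  intro χ hχ
  rw [← Subspace.dualCoannihilator_dualAnnihilator_eq (W := Phi H x ⊔ Phi H y),
    Submodule.mem_dualAnnihilator]
  intro m hm
  rw [Submodule.dualCoannihilator_sup_eq, Submodule.mem_inf, Submodule.mem_dualCoannihilator,
    Submodule.mem_dualCoannihilator] at hm
  obtain ⟨a, ha, b, hb, rfl⟩ := exists_decomp hS h2 hu m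
  obtain ⟨hxc, hxconn⟩ := isCen_of_mem_VC_ne_zero hS h2 hu hx hx0
  obtain ⟨hyc, hyconn⟩ := isCen_of_mem_VC_ne_zero hS h2 hu hy hy0
  obtain ⟨hsc, hsconn⟩ := isCen_of_mem_VC_ne_zero hS h2 hu ((VC H u).add_mem hx hy) hxy
  rw [map_add, Phi_kills_rest hsc hsconn hχ b hb, add_zero]
  by_cases ha0 : a = 0
  · rw [ha0, map_zero]
  obtain ⟨hac, _⟩ := isCen_of_mem_VC_ne_zero hS h2 hu ha ha0
  have hpx : Perp H x a := by
    intro φ hφ
    have h := hm.1 φ hφ
    rw [map_add, Phi_kills_rest hxc hxconn hφ b hb, add_zero] at h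
    exact h
  have hpy : Perp H y a := by
    intro φ hφ
    have h := hm.2 φ hφ
    rw [map_add, Phi_kills_rest hyc hyconn hφ b hb, add_zero] at h
    exact h
  have h3 : Perp H a (x + y) := (perp_symm hS hxc hac hpx).add (perp_symm hS hyc hac hpy)
  exact perp_symm hS hac hsc h3 χ hχ

omit [Finite V] in
/-- Matched axes add. -/
lemma Phi_add_of_matched {x y : V} {φ ψ : Dual (ZMod p) V} (hφ : φ ∈ Phi H x) (hψ : ψ ∈ Phi H y)
    (hm : φ y = - ψ x) (hne : ψ x ≠ 0) : φ + ψ ∈ Phi H (x + y) := by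
  have h := Phi_L2 hφ ((Phi H y).smul_mem (ψ x)⁻¹ hψ)
  have e1 : ((ψ x)⁻¹ • ψ) x = 1 := by
    rw [LinearMap.smul_apply, smul_eq_mul, inv_mul_cancel₀ hne]
  have e2 : φ - φ y • ((ψ x)⁻¹ • ψ) = φ + ψ := by
    rw [hm, smul_smul, neg_mul, mul_inv_cancel₀ hne, neg_smul, one_smul, sub_neg_eq_add]
  rw [e1, one_smul, e2] at h
  exact h

/-- `θ` is a polarity on `S`: it sends each vector of `S` to an axis at it, injectively. -/
def Good (H : Subgroup (V ≃ₗ[ZMod p] V)) (S : Submodule (ZMod p) V)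
    (θ : V →ₗ[ZMod p] Dual (ZMod p) V) : Prop :=
  ∀ s ∈ S, θ s ∈ Phi H s ∧ (θ s = 0 → s = 0)

/-- The base of the construction: an opposite pair. -/
theorem good_base (hS : Std H) (h2 : (2 : ZMod p) ≠ 0) {u : V} (hu : IsCen H u) :
    ∃ w ∈ VC H u, (∀ a b : ZMod p, a • u + b • w = 0 → a = 0 ∧ b = 0) ∧
      ∃ θ, Good H (Submodule.span (ZMod p) {u, w}) θ := by
  obtain ⟨hu0, φ, hφ, hφ0⟩ := hu
  have hu : IsCen H u := ⟨hu0, φ, hφ, hφ0⟩
  have huV : u ∈ VC H u := Submodule.subset_span ⟨hu, Conn.refl u⟩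
  obtain ⟨w, hw, hφw⟩ := exists_VC_apply_ne hS h2 hu huV hu0 hφ hφ0
  have hw0 : w ≠ 0 := by
    rintro rfl
    simp at hφw
  obtain ⟨hwc, _⟩ := isCen_of_mem_VC_ne_zero hS h2 hu hw hw0
  have hnp : ¬ Perp H w u := fun h => hφw (perp_symm hS hwc hu h φ hφ)
  unfold Perp at hnp
  push Not at hnp
  obtain ⟨ψ₀, hψ₀, hψ₀u⟩ := hnp
  obtain ⟨ψ, hψ, hψu⟩ : ∃ ψ ∈ Phi H w, ψ u = - φ w :=
    ⟨(- φ w * (ψ₀ u)⁻¹) • ψ₀, (Phi H w).smul_mem _ hψ₀, by
      rw [LinearMap.smul_apply, smul_eq_mul, mul_assoc, inv_mul_cancel₀ hψ₀u, mul_one]⟩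
  have hψu0 : ψ u ≠ 0 := by
    rw [hψu]
    exact neg_ne_zero.mpr hφw
  have hind : ∀ a b : ZMod p, a • u + b • w = 0 → a = 0 ∧ b = 0 := by
    intro a b hab
    have e1 := congrArg φ hab
    have e2 := congrArg ψ hab
    simp only [map_add, map_smul, smul_eq_mul, map_zero, hφ.1, hψ.1, mul_zero, zero_add,
      add_zero] at e1 e2
    refine ⟨?_, ?_⟩
    · rcases mul_eq_zero.mp e2 with h | h
      · exact h
      · exact absurd h hψu0
    · rcases mul_eq_zero.mp e1 with h | h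
      · exact h
      · exact absurd h hφw
  refine ⟨w, hw, hind, ?_⟩
  let α : Dual (ZMod p) V := (ψ u)⁻¹ • ψ
  let β : Dual (ZMod p) V := (φ w)⁻¹ • φ
  refine ⟨α.smulRight φ + β.smulRight ψ, ?_⟩
  intro s hs
  obtain ⟨a, b, rfl⟩ := Submodule.mem_span_pair.mp hs
  have hval : (α.smulRight φ + β.smulRight ψ) (a • u + b • w) = a • φ + b • ψ := by
    simp only [LinearMap.add_apply, LinearMap.smulRight_apply, map_add, map_smul, smul_eq_mul,
      α, β, LinearMap.smul_apply, hφ.1, hψ.1, mul_zero]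
    rw [inv_mul_cancel₀ hψu0, inv_mul_cancel₀ hφw]
    simp
  rw [hval]
  constructor
  · by_cases ha : a = 0
    · subst ha
      rw [zero_smul, zero_smul, zero_add, zero_add]
      exact Phi_smul_center b ((Phi H w).smul_mem b hψ)
    by_cases hb : b = 0
    · subst hb
      rw [zero_smul, zero_smul, add_zero, add_zero]
      exact Phi_smul_center a ((Phi H u).smul_mem a hφ)
    apply Phi_add_of_matched (Phi_smul_center a ((Phi H u).smul_mem a hφ))
      (Phi_smul_center b ((Phi H w).smul_mem b hψ))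
    · simp only [LinearMap.smul_apply, map_smul, smul_eq_mul, hψu]
      ring
    · simp only [LinearMap.smul_apply, map_smul, smul_eq_mul]
      exact mul_ne_zero hb (mul_ne_zero ha hψu0) |> fun h => by simpa [mul_comm, mul_left_comm] using h
  · intro h0
    have e1 := LinearMap.congr_fun h0 w
    have e2 := LinearMap.congr_fun h0 u
    simp only [LinearMap.add_apply, LinearMap.smul_apply, smul_eq_mul, hφ.1, hψ.1, mul_zero,
      add_zero, zero_add, LinearMap.zero_apply] at e1 e2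
    have ha : a = 0 := by
      rcases mul_eq_zero.mp e1 with h | h
      · exact h
      · exact absurd h hφw
    have hb : b = 0 := by
      rcases mul_eq_zero.mp e2 with h | h
      · exact h
      · exact absurd h hψu0
    rw [ha, hb]
    simp

end Cfsg.Agent.Helper83.McL
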