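import Cfsg.Agent.Helper83.McL10

/-!
# McLaughlin over a prime field, part 11: extending the polarity
-/

set_option autoImplicit false

namespace Cfsg.Agent.Helper83.McL

open Module

variable {p : ℕ} [Fact p.Prime] {V : Type*} [AddCommGroup V] [Module (ZMod p) V] [Finite V]

variable {H : Subgroup (V ≃ₗ[ZMod p] V)}

section ext

variable (hS : Std H) (h2 : (2 : ZMod p) ≠ 0) {u : V} (hu : IsCen H u) (hone : OneDim H u)
  {S : Submodule (ZMod p) V} {θ : V →ₗ[ZMod p] Dual (ZMod p) V} (hSW : S ≤ VC H u)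
  (hgood : Good H S θ) {e : V} (he : e ∈ VC H u) (heS : e ∉ S) {θe : Dual (ZMod p) V}
  (hθe : θe ∈ Phi H e) (hθe0 : θe ≠ 0)

include hS h2 hu hone hSW he heS

/-- No non-zero vector of `S` shares a non-zero axis with `e`. -/
lemma ext_no_common {t : V} (ht : t ∈ S) (ht0 : t ≠ 0) {χ : Dual (ZMod p) V} (hχ0 : χ ≠ 0)
    (hχt : χ ∈ Phi H t) (hχe : χ ∈ Phi H e) : False := by
  obtain ⟨c, hc⟩ := eq_smul_of_common_axis hS h2 hu hone (hSW ht) ht0 he hχ0 hχt hχe
  apply heS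
  rw [hc]
  exact S.smul_mem c ht

/-- Nor does `e` share a non-zero axis with `s + e`. -/
lemma ext_no_common' {s : V} (hs : s ∈ S) (hs0 : s ≠ 0) {χ : Dual (ZMod p) V} (hχ0 : χ ≠ 0)
    (hχe : χ ∈ Phi H e) (hχs : χ ∈ Phi H (s + e)) : False := by
  have he0 : e ≠ 0 := by
    rintro rfl
    exact heS S.zero_mem
  obtain ⟨c, hc⟩ := eq_smul_of_common_axis hS h2 hu hone he he0
    ((VC H u).add_mem (hSW hs) he) hχ0 hχe hχs
  have h1 : s = (c - 1) • e := by
    rw [sub_smul, one_smul, ← hc]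
    abel
  by_cases hc1 : c - 1 = 0
  · rw [hc1, zero_smul] at h1
    exact hs0 h1
  · apply heS
    have : e = (c - 1)⁻¹ • s := by
      rw [h1, smul_smul, inv_mul_cancel₀ hc1, one_smul]
    rw [this]
    exact S.smul_mem _ hs

include hgood hθe hθe0

/-- Existence of the coefficient `μ(s)`. -/
lemma ext_exists_mu {s : V} (hs : s ∈ S) (hs0 : s ≠ 0) :
    ∃ m : ZMod p, θ s + m • θe ∈ Phi H (s + e) := by
  have he0 : e ≠ 0 := by
    rintro rfl
    exact heS S.zero_mem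
  have hse0 : s + e ≠ 0 := by
    intro h
    apply heS
    have : e = -s := by
      rw [eq_neg_iff_add_eq_zero, add_comm]
      exact h
    rw [this]
    exact S.neg_mem hs
  have hseV : s + e ∈ VC H u := (VC H u).add_mem (hSW hs) he
  obtain ⟨hsec, _⟩ := isCen_of_mem_VC_ne_zero hS h2 hu hseV hse0
  obtain ⟨_, χ, hχ, hχ0⟩ := hsec
  have h3 := Phi_add_le hS h2 hu (hSW hs) hs0 he he0 hse0 hχ
  obtain ⟨φ', hφ', ψ', hψ', hsum⟩ := Submodule.mem_sup.mp h3
  have hθs := hgood s hs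
  have hθs0 : θ s ≠ 0 := fun h => hs0 (hθs.2 h)
  obtain ⟨a, rfl⟩ := (oneDim_of_mem_VC hS h2 hu hone (hSW hs) hs0).gen hθs.1 hθs0 φ' hφ'
  obtain ⟨b, rfl⟩ := (oneDim_of_mem_VC hS h2 hu hone he he0).gen hθe hθe0 ψ' hψ'
  have ha : a ≠ 0 := by
    rintro rfl
    rw [zero_smul, zero_add] at hsum
    rw [← hsum] at hχ hχ0
    exact ext_no_common' hS h2 hu hone hSW he heS hs hs0 hχ0 hψ' hχ
  refine ⟨a⁻¹ * b, ?_⟩
  have : θ s + (a⁻¹ * b) • θe = a⁻¹ • χ := by
    rw [← hsum, smul_add, smul_smul, smul_smul, inv_mul_cancel₀ ha, one_smul]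
  rw [this]
  exact (Phi H (s + e)).smul_mem _ hχ

/-- Linear independence of `θ s`, `θ s'`, `θe`. -/
lemma ext_indep {s s' : V} (hs : s ∈ S) (hs' : s' ∈ S)
    (hind : ∀ a b : ZMod p, a • s + b • s' = 0 → a = 0 ∧ b = 0) {a b c : ZMod p}
    (h : a • θ s + b • θ s' + c • θe = 0) : a = 0 ∧ b = 0 ∧ c = 0 := by
  have ht : a • s + b • s' ∈ S := S.add_mem (S.smul_mem a hs) (S.smul_mem b hs')
  have hθt : θ (a • s + b • s') = (-c) • θe := by
    rw [map_add, map_smul, map_smul, eq_neg_of_add_eq_zero_left h]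
    module
  have hc : c = 0 := by
    by_contra hc
    have h0 : θ (a • s + b • s') ≠ 0 := by
      rw [hθt]
      exact smul_ne_zero (neg_ne_zero.mpr hc) hθe0
    have ht0 : a • s + b • s' ≠ 0 := by
      intro h'
      rw [h', map_zero] at h0
      exact h0 rfl
    refine ext_no_common hS h2 hu hone hSW he heS ht ht0 h0 (hgood _ ht).1 ?_
    rw [hθt]
    exact (Phi H e).smul_mem _ hθe
  rw [hc, neg_zero, zero_smul] at hθt
  have := hind a b ((hgood _ ht).2 hθt)
  exact ⟨this.1, this.2, hc⟩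

/-- Comparison of the coefficients at `s'` and `s + s'`. -/
lemma ext_mu_add {s s' : V} (hs : s ∈ S) (hs' : s' ∈ S)
    (hind : ∀ a b : ZMod p, a • s + b • s' = 0 → a = 0 ∧ b = 0) {m' m'' : ZMod p}
    (hm' : θ s' + m' • θe ∈ Phi H (s' + e)) (hm'' : θ (s + s') + m'' • θe ∈ Phi H (s + s' + e)) :
    m'' = m' := by
  have hs0 : s ≠ 0 := by
    rintro rfl
    have := hind 1 0 (by simp)
    exact one_ne_zero this.1
  have hs'0 : s' ≠ 0 := by
    rintro rfl
    have := hind 0 1 (by simp)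
    exact one_ne_zero this.2
  have hs'e0 : s' + e ≠ 0 := by
    intro h
    apply heS
    have : e = -s' := by
      rw [eq_neg_iff_add_eq_zero, add_comm]
      exact h
    rw [this]
    exact S.neg_mem hs'
  have hsum0 : s + (s' + e) ≠ 0 := by
    intro h
    apply heS
    have : e = -(s + s') := by
      rw [eq_neg_iff_add_eq_zero, add_comm, add_assoc]
      exact h
    rw [this]
    exact S.neg_mem (S.add_mem hs hs')
  have hs'eV : s' + e ∈ VC H u := (VC H u).add_mem (hSW hs') he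
  have hgen0 : θ s' + m' • θe ≠ 0 := by
    intro h
    have h' : (0 : ZMod p) • θ s + (1 : ZMod p) • θ s' + m' • θe = 0 := by
      rw [zero_smul, zero_add, one_smul]
      exact h
    have := ext_indep hS h2 hu hone hSW hgood he heS hθe hθe0 hs hs' hind h'
    exact one_ne_zero this.2.1
  rw [add_assoc] at hm''
  have h3 := Phi_add_le hS h2 hu (hSW hs) hs0 hs'eV hs'e0 hsum0 hm''
  obtain ⟨φ', hφ', ψ', hψ', hsum⟩ := Submodule.mem_sup.mp h3
  have hθs := hgood s hs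
  have hθs0 : θ s ≠ 0 := fun h => hs0 (hθs.2 h)
  obtain ⟨a, rfl⟩ := (oneDim_of_mem_VC hS h2 hu hone (hSW hs) hs0).gen hθs.1 hθs0 φ' hφ'
  obtain ⟨b, rfl⟩ := (oneDim_of_mem_VC hS h2 hu hone hs'eV hs'e0).gen hm' hgen0 ψ' hψ'
  have h' : (1 - a) • θ s + (1 - b) • θ s' + (m'' - b * m') • θe = 0 := by
    have e1 : (1 - a) • θ s + (1 - b) • θ s' + (m'' - b * m') • θe =
        (θ (s + s') + m'' • θe) - (a • θ s + b • (θ s' + m' • θe)) := by
      rw [map_add]
      module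
    rw [e1, hsum, sub_self]
  obtain ⟨_, hb, hm⟩ := ext_indep hS h2 hu hone hSW hgood he heS hθe hθe0 hs hs' hind h'
  have hb1 : b = 1 := (sub_eq_zero.mp hb).symm
  rw [hb1, one_mul] at hm
  exact sub_eq_zero.mp hm

/-- The coefficients at two independent vectors agree. -/
lemma ext_mu_eq {s s' : V} (hs : s ∈ S) (hs' : s' ∈ S)
    (hind : ∀ a b : ZMod p, a • s + b • s' = 0 → a = 0 ∧ b = 0) {m m' : ZMod p}
    (hm : θ s + m • θe ∈ Phi H (s + e)) (hm' : θ s' + m' • θe ∈ Phi H (s' + e)) : m = m' := by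
  have hss0 : s + s' ≠ 0 := by
    intro h
    have := hind 1 1 (by rw [one_smul, one_smul]; exact h)
    exact one_ne_zero this.1
  obtain ⟨m'', hm''⟩ := ext_exists_mu hS h2 hu hone hSW hgood he heS hθe hθe0
    (S.add_mem hs hs') hss0
  have e1 := ext_mu_add hS h2 hu hone hSW hgood he heS hθe hθe0 hs hs' hind hm' hm''
  have hind' : ∀ a b : ZMod p, a • s' + b • s = 0 → a = 0 ∧ b = 0 := by
    intro a b hab
    rw [add_comm] at hab
    exact (hind b a hab).symm
  have hm''' : θ (s' + s) + m'' • θe ∈ Phi H (s' + s + e) := by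
    rw [add_comm s' s]
    exact hm''
  have e2 := ext_mu_add hS h2 hu hone hSW hgood he heS hθe hθe0 hs' hs hind' hm hm'''
  rw [← e1, ← e2]

/-- The coefficient is constant on `S`. -/
lemma ext_mu_const {u₁ w₁ : V} (hu₁ : u₁ ∈ S) (hw₁ : w₁ ∈ S)
    (hind : ∀ a b : ZMod p, a • u₁ + b • w₁ = 0 → a = 0 ∧ b = 0) {μ₀ : ZMod p}
    (hμ₀ : θ u₁ + μ₀ • θe ∈ Phi H (u₁ + e)) {s : V} (hs : s ∈ S) (hs0 : s ≠ 0) {m : ZMod p}
    (hm : θ s + m • θe ∈ Phi H (s + e)) : m = μ₀ := by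
  have hw₁0 : w₁ ≠ 0 := by
    rintro rfl
    have := hind 0 1 (by simp)
    exact one_ne_zero this.2
  have hu₁0 : u₁ ≠ 0 := by
    rintro rfl
    have := hind 1 0 (by simp)
    exact one_ne_zero this.1
  obtain ⟨mw, hmw⟩ := ext_exists_mu hS h2 hu hone hSW hgood he heS hθe hθe0 hw₁ hw₁0
  have e1 : μ₀ = mw := ext_mu_eq hS h2 hu hone hSW hgood he heS hθe hθe0 hu₁ hw₁ hind hμ₀ hmw
  by_cases hsu : ∀ a b : ZMod p, a • s + b • u₁ = 0 → a = 0 ∧ b = 0
  · exact ext_mu_eq hS h2 hu hone hSW hgood he heS hθe hθe0 hs hu₁ hsu hm hμ₀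
  · push Not at hsu
    obtain ⟨a, b, hab, hne⟩ := hsu
    have ha : a ≠ 0 := by
      intro ha
      rw [ha, zero_smul, zero_add] at hab
      rcases smul_eq_zero.mp hab with h | h
      · exact hne ha h
      · exact hu₁0 h
    have hsc : s = (-(a⁻¹ * b)) • u₁ := by
      have h1 : a • s = -(b • u₁) := eq_neg_of_add_eq_zero_left hab
      have h2' : s = a⁻¹ • (a • s) := by rw [smul_smul, inv_mul_cancel₀ ha, one_smul]
      rw [h2', h1, smul_neg, smul_smul, neg_smul]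
    have hc0 : -(a⁻¹ * b) ≠ 0 := by
      intro h
      rw [h, zero_smul] at hsc
      exact hs0 hsc
    have hsw : ∀ a' b' : ZMod p, a' • s + b' • w₁ = 0 → a' = 0 ∧ b' = 0 := by
      intro a' b' h
      rw [hsc, smul_smul] at h
      have := hind _ _ h
      refine ⟨?_, this.2⟩
      rcases mul_eq_zero.mp this.1 with h' | h'
      · exact h'
      · exact absurd h' hc0
    rw [e1]
    exact ext_mu_eq hS h2 hu hone hSW hgood he heS hθe hθe0 hs hw₁ hsw hm hmw

end ext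

end Cfsg.Agent.Helper83.McL
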