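import Cfsg.Agent.Helper83.McL11

/-!
# McLaughlin over a prime field, part 12: existence of the polarity on a symplectic-type component
-/

set_option autoImplicit false

namespace Cfsg.Agent.Helper83.McL

open Module

variable {p : ℕ} [Fact p.Prime] {V : Type*} [AddCommGroup V] [Module (ZMod p) V] [Finite V]

variable {H : Subgroup (V ≃ₗ[ZMod p] V)}

omit [Finite V] in
/-- A functional vanishing on `S` with value `1` at `e ∉ S`. -/
lemma exists_dual_sep {S : Submodule (ZMod p) V} {e : V} (heS : e ∉ S) :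
    ∃ π : Dual (ZMod p) V, (∀ s ∈ S, π s = 0) ∧ π e = 1 := by
  obtain ⟨f, hf, hf'⟩ := Submodule.exists_dual_map_eq_bot_of_notMem heS inferInstance
  refine ⟨(f e)⁻¹ • f, ?_, ?_⟩
  · intro s hs
    have : f s ∈ S.map f := Submodule.mem_map_of_mem hs
    rw [hf', Submodule.mem_bot] at this
    rw [LinearMap.smul_apply, this, smul_zero]
  · rw [LinearMap.smul_apply, smul_eq_mul, inv_mul_cancel₀ hf]

/-- One extension step. -/
theorem good_extend (hS : Std H) (h2 : (2 : ZMod p) ≠ 0) {u : V} (hu : IsCen H u)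
    (hone : OneDim H u) {S : Submodule (ZMod p) V} {θ : V →ₗ[ZMod p] Dual (ZMod p) V}
    (hSW : S ≤ VC H u) (hgood : Good H S θ) {u₁ w₁ : V} (hu₁ : u₁ ∈ S) (hw₁ : w₁ ∈ S)
    (hind : ∀ a b : ZMod p, a • u₁ + b • w₁ = 0 → a = 0 ∧ b = 0)
    {e : V} (he : e ∈ VC H u) (heS : e ∉ S) :
    ∃ θ', Good H (S ⊔ Submodule.span (ZMod p) {e}) θ' := by
  have he0 : e ≠ 0 := by
    rintro rfl
    exact heS S.zero_mem
  obtain ⟨hec, _⟩ := isCen_of_mem_VC_ne_zero hS h2 hu he he0
  obtain ⟨_, θe, hθe, hθe0⟩ := hec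
  have hu₁0 : u₁ ≠ 0 := by
    rintro rfl
    have := hind 1 0 (by simp)
    exact one_ne_zero this.1
  obtain ⟨μ₀, hμ₀⟩ := ext_exists_mu hS h2 hu hone hSW hgood he heS hθe hθe0 hu₁ hu₁0
  have hconst : ∀ s ∈ S, s ≠ 0 → θ s + μ₀ • θe ∈ Phi H (s + e) := by
    intro s hs hs0
    obtain ⟨m, hm⟩ := ext_exists_mu hS h2 hu hone hSW hgood he heS hθe hθe0 hs hs0
    have := ext_mu_const hS h2 hu hone hSW hgood he heS hθe hθe0 hu₁ hw₁ hind hμ₀ hs hs0 hm
    rw [← this]
    exact hm
  have hμ₀0 : μ₀ ≠ 0 := by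
    rintro rfl
    rw [zero_smul, add_zero] at hμ₀
    have hθu := hgood u₁ hu₁
    have hθu0 : θ u₁ ≠ 0 := fun h => hu₁0 (hθu.2 h)
    obtain ⟨c, hc⟩ := eq_smul_of_common_axis hS h2 hu hone (hSW hu₁) hu₁0
      ((VC H u).add_mem (hSW hu₁) he) hθu0 hθu.1 hμ₀
    apply heS
    have : e = (c - 1) • u₁ := by
      rw [sub_smul, one_smul, ← hc]
      abel
    rw [this]
    exact S.smul_mem _ hu₁
  obtain ⟨π, hπS, hπe⟩ := exists_dual_sep heS
  refine ⟨θ + π.smulRight (μ₀ • θe - θ e), ?_⟩
  intro x hx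
  obtain ⟨s, hs, y, hy, rfl⟩ := Submodule.mem_sup.mp hx
  obtain ⟨c, rfl⟩ := Submodule.mem_span_singleton.mp hy
  have hval : (θ + π.smulRight (μ₀ • θe - θ e)) (s + c • e) = θ s + (c * μ₀) • θe := by
    rw [LinearMap.add_apply, LinearMap.smulRight_apply, map_add, map_add, map_smul, map_smul,
      hπS s hs, hπe]
    module
  rw [hval]
  by_cases hc : c = 0
  · subst hc
    rw [zero_mul, zero_smul, zero_smul, add_zero, add_zero]
    exact hgood s hs
  by_cases hs0 : s = 0
  · subst hs0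
    rw [map_zero, zero_add, zero_add]
    refine ⟨Phi_smul_center c ((Phi H e).smul_mem _ hθe), fun h => ?_⟩
    exfalso
    exact smul_ne_zero (mul_ne_zero hc hμ₀0) hθe0 h
  · have hcs : c⁻¹ • s ∈ S := S.smul_mem _ hs
    have hcs0 : c⁻¹ • s ≠ 0 := smul_ne_zero (inv_ne_zero hc) hs0
    have h3 := hconst _ hcs hcs0
    have h4 := Phi_smul_center c ((Phi H _).smul_mem c h3)
    have e1 : c • (θ (c⁻¹ • s) + μ₀ • θe) = θ s + (c * μ₀) • θe := by
      rw [map_smul, smul_add, smul_smul, smul_smul, mul_inv_cancel₀ hc, one_smul]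
    have e2 : c • (c⁻¹ • s + e) = s + c • e := by
      rw [smul_add, smul_smul, mul_inv_cancel₀ hc, one_smul]
    rw [e1, e2] at h4
    refine ⟨h4, fun h => ?_⟩
    exfalso
    have hθs := hgood s hs
    have hθs0 : θ s ≠ 0 := fun h => hs0 (hθs.2 h)
    refine ext_no_common hS h2 hu hone hSW he heS hs hs0 hθs0 hθs.1 ?_
    have : θ s = (-(c * μ₀)) • θe := by
      rw [eq_neg_of_add_eq_zero_left h]
      module
    rw [this]
    exact (Phi H e).smul_mem _ hθe

/-- **The polarity.** On a component of symplectic type there is a linear map `θ` sending each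
vector `y` of the component to a non-zero axis at `y`. -/
theorem exists_polarity (hS : Std H) (h2 : (2 : ZMod p) ≠ 0) {u : V} (hu : IsCen H u)
    (hone : OneDim H u) : ∃ θ, Good H (VC H u) θ := by
  obtain ⟨w, hw, hind, θ₀, hθ₀⟩ := good_base hS h2 hu
  have huV : u ∈ VC H u := Submodule.subset_span ⟨hu, Conn.refl u⟩
  have key : ∀ S : Submodule (ZMod p) V, Submodule.span (ZMod p) {u, w} ≤ S → S ≤ VC H u →
      (∃ θ, Good H S θ) → ∃ θ, Good H (VC H u) θ := by
    intro S
    induction S using WellFoundedGT.induction with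
    | _ S ih =>
      intro hle hSW hex
      by_cases hSeq : S = VC H u
      · rw [← hSeq]
        exact hex
      have hlt : S < VC H u := lt_of_le_of_ne hSW hSeq
      obtain ⟨e, he, heS⟩ := SetLike.exists_of_lt hlt
      obtain ⟨θ, hθ⟩ := hex
      have huS : u ∈ S := hle (Submodule.subset_span (by simp))
      have hwS : w ∈ S := hle (Submodule.subset_span (by simp))
      have hex' := good_extend hS h2 hu hone hSW hθ huS hwS hind he heS
      refine ih (S ⊔ Submodule.span (ZMod p) {e}) ?_ (le_trans hle le_sup_left) ?_ hex'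
      · refine lt_of_le_of_ne le_sup_left ?_
        intro h
        apply heS
        rw [h]
        exact (le_sup_right : Submodule.span (ZMod p) {e} ≤ _) (Submodule.mem_span_singleton_self e)
      · apply sup_le hSW
        rw [Submodule.span_singleton_le_iff_mem]
        exact he
  refine key _ le_rfl ?_ ⟨θ₀, hθ₀⟩
  rw [Submodule.span_le]
  intro x hx
  rcases hx with rfl | rfl
  · exact huV
  · exact hw

end Cfsg.Agent.Helper83.McL
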