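import Cfsg.Agent.Helper83.McL1

/-!
# McLaughlin over a prime field, part 13: the symplectic group is generated by transvections
-/

set_option autoImplicit false

namespace Cfsg.Agent.Helper83.McL

open Module

variable {p : ℕ} [Fact p.Prime] {W : Type*} [AddCommGroup W] [Module (ZMod p) W]

variable (B : W →ₗ[ZMod p] W →ₗ[ZMod p] ZMod p)

/-- The symplectic transvection `x ↦ x + c B(x, w) w`. -/
noncomputable def sptv (w : W) (c : ZMod p) : W ≃ₗ[ZMod p] W := tvx (c • B.flip w) w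

/-- The orthogonal of a subspace. -/
def orth (S : Submodule (ZMod p) W) : Submodule (ZMod p) W where
  carrier := {t | ∀ s ∈ S, B s t = 0}
  add_mem' := by
    intro a b ha hb s hs
    rw [map_add, ha s hs, hb s hs, add_zero]
  zero_mem' := by
    intro s _
    simp
  smul_mem' := by
    intro c a ha s hs
    rw [map_smul, ha s hs, smul_zero]

variable {B}

lemma mem_orth {S : Submodule (ZMod p) W} {t : W} : t ∈ orth B S ↔ ∀ s ∈ S, B s t = 0 := Iff.rfl

section alt

variable (halt : ∀ x, B x x = 0)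

include halt

lemma sptv_apply (w : W) (c : ZMod p) (x : W) : sptv B w c x = x + (c * B x w) • w := by
  unfold sptv
  rw [tvx_apply (by simp [halt])]
  simp

lemma alt_skew (x y : W) : B x y = - B y x := by
  have h := halt (x + y)
  simp only [map_add, LinearMap.add_apply, halt, zero_add, add_zero] at h
  exact eq_neg_of_add_eq_zero_left (by rw [add_comm]; exact h)

lemma sptv_iso (w : W) (c : ZMod p) (x y : W) : B (sptv B w c x) (sptv B w c y) = B x y := by
  rw [sptv_apply halt, sptv_apply halt]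
  simp only [map_add, map_smul, LinearMap.add_apply, LinearMap.smul_apply, smul_eq_mul, halt,
    mul_zero, add_zero]
  rw [alt_skew halt w y]
  ring

/-- The working predicate: in `G`, an isometry, fixing `S` pointwise. -/
def Nice (B : W →ₗ[ZMod p] W →ₗ[ZMod p] ZMod p) (G : Subgroup (W ≃ₗ[ZMod p] W))
    (S : Submodule (ZMod p) W) (g : W ≃ₗ[ZMod p] W) : Prop :=
  g ∈ G ∧ (∀ x y, B (g x) (g y) = B x y) ∧ ∀ s ∈ S, g s = s

omit halt in
lemma Nice.mul {G : Subgroup (W ≃ₗ[ZMod p] W)} {S : Submodule (ZMod p) W} {g h : W ≃ₗ[ZMod p] W}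
    (hg : Nice B G S g) (hh : Nice B G S h) : Nice B G S (g * h) := by
  refine ⟨mul_mem hg.1 hh.1, fun x y => ?_, fun s hs => ?_⟩
  · rw [LinearEquiv.mul_apply, LinearEquiv.mul_apply, hg.2.1, hh.2.1]
  · rw [LinearEquiv.mul_apply, hh.2.2 s hs, hg.2.2 s hs]

lemma nice_sptv {G : Subgroup (W ≃ₗ[ZMod p] W)} (hG : ∀ w c, sptv B w c ∈ G)
    {S : Submodule (ZMod p) W} {w : W} (hw : w ∈ orth B S) (c : ZMod p) :
    Nice B G S (sptv B w c) := by
  refine ⟨hG w c, sptv_iso halt w c, fun s hs => ?_⟩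
  rw [sptv_apply halt, hw s hs]
  simp

/-- Moving `a` to `b` when `B a b ≠ 0`. -/
lemma sptv_move {a b : W} (hab : B a b ≠ 0) : sptv B (a - b) (B a b)⁻¹ a = b := by
  rw [sptv_apply halt]
  have : (B a b)⁻¹ * B a (a - b) = -1 := by
    rw [map_sub, halt, zero_sub, mul_neg, inv_mul_cancel₀ hab]
  rw [this]
  simp

variable (hnd : ∀ x, (∀ y, B x y = 0) → x = 0)

include hnd

/-- A vector of `orth S` pairing non-trivially with a given non-zero vector of `orth S`. -/
lemma exists_orth_pair {S : Submodule (ZMod p) W} (hsup : S ⊔ orth B S = ⊤) {x : W}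
    (hx : x ∈ orth B S) (hx0 : x ≠ 0) : ∃ t ∈ orth B S, B x t ≠ 0 := by
  obtain ⟨v, hv⟩ : ∃ v, B x v ≠ 0 := by
    by_contra h
    push Not at h
    exact hx0 (hnd x h)
  have hvm : v ∈ S ⊔ orth B S := by rw [hsup]; trivial
  obtain ⟨s, hs, t, ht, rfl⟩ := Submodule.mem_sup.mp hvm
  refine ⟨t, ht, fun h => hv ?_⟩
  rw [map_add, h, add_zero, alt_skew halt, hx s hs, neg_zero]

/-- Transitivity on the non-zero vectors of `orth S`. -/
lemma exists_nice_move {G : Subgroup (W ≃ₗ[ZMod p] W)} (hG : ∀ w c, sptv B w c ∈ G)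
    {S : Submodule (ZMod p) W} (hsup : S ⊔ orth B S = ⊤) {a b : W} (ha : a ∈ orth B S)
    (ha0 : a ≠ 0) (hb : b ∈ orth B S) (hb0 : b ≠ 0) : ∃ g, Nice B G S g ∧ g a = b := by
  by_cases hab : B a b ≠ 0
  · exact ⟨_, nice_sptv halt hG ((orth B S).sub_mem ha hb) _, sptv_move halt hab⟩
  · obtain ⟨z, hz, haz, hzb⟩ : ∃ z ∈ orth B S, B a z ≠ 0 ∧ B z b ≠ 0 := by
      obtain ⟨t₁, ht₁, h1⟩ := exists_orth_pair halt hnd hsup ha ha0
      obtain ⟨t₂, ht₂, h2⟩ := exists_orth_pair halt hnd hsup hb hb0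
      have h2' : B t₂ b ≠ 0 := by
        rw [alt_skew halt]; exact neg_ne_zero.mpr h2
      by_cases h3 : B t₁ b ≠ 0
      · exact ⟨t₁, ht₁, h1, h3⟩
      by_cases h4 : B a t₂ ≠ 0
      · exact ⟨t₂, ht₂, h4, h2'⟩
      push Not at h3 h4
      refine ⟨t₁ + t₂, (orth B S).add_mem ht₁ ht₂, ?_, ?_⟩
      · rw [map_add, h4, add_zero]; exact h1
      · rw [map_add, LinearMap.add_apply, h3, zero_add]; exact h2'
    refine ⟨sptv B (z - b) (B z b)⁻¹ * sptv B (a - z) (B a z)⁻¹,
      (nice_sptv halt hG ((orth B S).sub_mem hz hb) _).mul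
        (nice_sptv halt hG ((orth B S).sub_mem ha hz) _), ?_⟩
    rw [LinearEquiv.mul_apply, sptv_move halt haz, sptv_move halt hzb]

omit hnd in
/-- Moving `y'` to `y` while fixing `x`, for hyperbolic pairs `(x, y)`, `(x, y')`. -/
lemma exists_nice_move_pair {G : Subgroup (W ≃ₗ[ZMod p] W)} (hG : ∀ w c, sptv B w c ∈ G)
    {S : Submodule (ZMod p) W} {x y y' : W} (hx : x ∈ orth B S) (hy : y ∈ orth B S)
    (hy' : y' ∈ orth B S) (hxy : B x y = 1) (hxy' : B x y' = 1) :
    ∃ g, Nice B G S g ∧ g x = x ∧ g y' = y := by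
  by_cases h : B y' y ≠ 0
  · refine ⟨_, nice_sptv halt hG ((orth B S).sub_mem hy' hy) _, ?_, sptv_move halt h⟩
    rw [sptv_apply halt, map_sub, hxy, hxy', sub_self, mul_zero, zero_smul, add_zero]
  · push Not at h
    have hzy : B (x + y') y = 1 := by
      rw [map_add, LinearMap.add_apply, hxy, h, add_zero]
    have hzy0 : B (x + y') y ≠ 0 := by rw [hzy]; exact one_ne_zero
    refine ⟨sptv B (x + y' - y) (B (x + y') y)⁻¹ * sptv B x (-1),
      (nice_sptv halt hG ((orth B S).sub_mem ((orth B S).add_mem hx hy') hy) _).mul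
        (nice_sptv halt hG hx _), ?_, ?_⟩
    · have e : B x (x + y' - y) = 0 := by
        rw [map_sub, map_add, halt, hxy, hxy']; ring
      rw [LinearEquiv.mul_apply, sptv_apply halt x, halt, mul_zero, zero_smul, add_zero,
        sptv_apply halt, e, mul_zero, zero_smul, add_zero]
    · have e1 : sptv B x (-1) y' = x + y' := by
        rw [sptv_apply halt, alt_skew halt y' x, hxy']
        simp [add_comm]
      rw [LinearEquiv.mul_apply, e1]
      exact sptv_move halt hzy0

end alt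

end Cfsg.Agent.Helper83.McL
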