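import Cfsg.Agent.Helper83.McL13

/-!
# McLaughlin over a prime field, part 14: every isometry of a symplectic space is a product of
symplectic transvections
-/

set_option autoImplicit false

namespace Cfsg.Agent.Helper83.McL

open Module

variable {p : ℕ} [Fact p.Prime] {W : Type*} [AddCommGroup W] [Module (ZMod p) W]

variable {B : W →ₗ[ZMod p] W →ₗ[ZMod p] ZMod p}

/-- Adjoining a hyperbolic pair of `orth S` to a non-degenerate `S` keeps it non-degenerate:
intersection part. -/
lemma hyp_inf (halt : ∀ x, B x x = 0) {S : Submodule (ZMod p) W} (hinf : S ⊓ orth B S = ⊥)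
    {x y : W} (hx : x ∈ orth B S) (hy : y ∈ orth B S) (hxy : B x y = 1) :
    (S ⊔ Submodule.span (ZMod p) {x, y}) ⊓ orth B (S ⊔ Submodule.span (ZMod p) {x, y}) = ⊥ := by
  rw [eq_bot_iff]
  rintro v ⟨hv1, hv2⟩
  rw [Submodule.mem_bot]
  obtain ⟨s, hs, t, ht, rfl⟩ := Submodule.mem_sup.mp hv1
  obtain ⟨a, b, rfl⟩ := Submodule.mem_span_pair.mp ht
  have hxS' : x ∈ S ⊔ Submodule.span (ZMod p) {x, y} :=
    (le_sup_right : Submodule.span (ZMod p) {x, y} ≤ _) (Submodule.subset_span (by simp))
  have hyS' : y ∈ S ⊔ Submodule.span (ZMod p) {x, y} :=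
    (le_sup_right : Submodule.span (ZMod p) {x, y} ≤ _) (Submodule.subset_span (by simp))
  have hyx : B y x = -1 := by rw [alt_skew halt, hxy]
  have hs0 : s = 0 := by
    have : s ∈ S ⊓ orth B S := by
      refine ⟨hs, fun s' hs' => ?_⟩
      have h := hv2 s' ((le_sup_left : S ≤ _) hs')
      rw [map_add, map_add, map_smul, map_smul, hx s' hs', hy s' hs', smul_zero, smul_zero,
        add_zero, add_zero] at h
      exact h
    rw [hinf] at this
    exact (Submodule.mem_bot _).mp this
  have hb : b = 0 := by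
    have h := hv2 x hxS'
    rw [map_add, map_add, map_smul, map_smul, halt, hxy, hs0, map_zero] at h
    simpa using h
  have ha : a = 0 := by
    have h := hv2 y hyS'
    rw [map_add, map_add, map_smul, map_smul, halt, hyx, hs0, map_zero] at h
    simpa using h
  rw [hs0, ha, hb]
  simp

/-- Sum part. -/
lemma hyp_sup (halt : ∀ x, B x x = 0) {S : Submodule (ZMod p) W} (hsup : S ⊔ orth B S = ⊤)
    {x y : W} (hx : x ∈ orth B S) (hy : y ∈ orth B S) (hxy : B x y = 1) :
    (S ⊔ Submodule.span (ZMod p) {x, y}) ⊔ orth B (S ⊔ Submodule.span (ZMod p) {x, y}) = ⊤ := by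
  rw [eq_top_iff]
  intro v _
  have hvm : v ∈ S ⊔ orth B S := by rw [hsup]; trivial
  obtain ⟨s, hs, t, ht, rfl⟩ := Submodule.mem_sup.mp hvm
  have hyx : B y x = -1 := by rw [alt_skew halt, hxy]
  have hxm : x ∈ Submodule.span (ZMod p) {x, y} := Submodule.subset_span (by simp)
  have hym : y ∈ Submodule.span (ZMod p) {x, y} := Submodule.subset_span (by simp)
  have ht' : t - B t y • x + B t x • y ∈ orth B (S ⊔ Submodule.span (ZMod p) {x, y}) := by
    intro s' hs'
    obtain ⟨s₀, hs₀, r, hr, rfl⟩ := Submodule.mem_sup.mp hs'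
    obtain ⟨a, b, rfl⟩ := Submodule.mem_span_pair.mp hr
    have e1 : B s₀ (t - B t y • x + B t x • y) = 0 := by
      rw [map_add, map_sub, map_smul, map_smul, ht s₀ hs₀, hx s₀ hs₀, hy s₀ hs₀]
      simp
    have e2 : B x (t - B t y • x + B t x • y) = 0 := by
      rw [map_add, map_sub, map_smul, map_smul, halt, hxy, alt_skew halt t x]
      simp
    have e3 : B y (t - B t y • x + B t x • y) = 0 := by
      rw [map_add, map_sub, map_smul, map_smul, halt, hyx, alt_skew halt t y]
      simp
    have e4 : B (s₀ + (a • x + b • y)) = B s₀ + (a • B x + b • B y) := by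
      rw [map_add, map_add, map_smul, map_smul]
    rw [e4, LinearMap.add_apply, LinearMap.add_apply,
      LinearMap.smul_apply, LinearMap.smul_apply, e1, e2, e3]
    simp
  have hdec : s + t = (s + (B t y • x - B t x • y)) + (t - B t y • x + B t x • y) := by abel
  rw [hdec]
  refine Submodule.add_mem _ ((le_sup_left : S ⊔ Submodule.span (ZMod p) {x, y} ≤ _) ?_)
    (le_sup_right (a := S ⊔ Submodule.span (ZMod p) {x, y}) ht')
  refine Submodule.add_mem _ ((le_sup_left : S ≤ _) hs) (le_sup_right (a := S) ?_)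
  exact Submodule.sub_mem _ (Submodule.smul_mem _ _ hxm) (Submodule.smul_mem _ _ hym)

/-- **Generation of the symplectic group.** A subgroup containing all symplectic transvections
contains all isometries. -/
theorem mem_of_isometry [Finite W] (halt : ∀ x, B x x = 0) (hnd : ∀ x, (∀ y, B x y = 0) → x = 0)
    {G : Subgroup (W ≃ₗ[ZMod p] W)} (hG : ∀ w c, sptv B w c ∈ G) (f : W ≃ₗ[ZMod p] W)
    (hf : ∀ x y, B (f x) (f y) = B x y) : f ∈ G := by
  have key : ∀ S : Submodule (ZMod p) W, ∀ f : W ≃ₗ[ZMod p] W,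
      (∀ x y, B (f x) (f y) = B x y) → (∀ s ∈ S, f s = s) → S ⊓ orth B S = ⊥ →
        S ⊔ orth B S = ⊤ → f ∈ G := by
    intro S
    induction S using WellFoundedGT.induction with
    | _ S ih =>
      intro f hf hfix hinf hsup
      by_cases hO : orth B S = ⊥
      · rw [hO, sup_bot_eq] at hsup
        have : f = 1 := by
          ext s
          exact hfix s (by rw [hsup]; trivial)
        rw [this]
        exact one_mem G
      obtain ⟨x, hx, hx0⟩ := Submodule.exists_mem_ne_zero_of_ne_bot hO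
      obtain ⟨t, ht, hxt⟩ := exists_orth_pair halt hnd hsup hx hx0
      obtain ⟨y, hy, hxy⟩ : ∃ y ∈ orth B S, B x y = 1 :=
        ⟨(B x t)⁻¹ • t, (orth B S).smul_mem _ ht, by
          rw [map_smul, smul_eq_mul, inv_mul_cancel₀ hxt]⟩
      have horth : ∀ g : W ≃ₗ[ZMod p] W, (∀ x y, B (g x) (g y) = B x y) → (∀ s ∈ S, g s = s) →
          ∀ t ∈ orth B S, g t ∈ orth B S := by
        intro g hg hgfix t ht s hs
        have := hg s t
        rw [hgfix s hs] at this
        rw [this]
        exact ht s hs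
      have hfx : f x ∈ orth B S := horth f hf hfix x hx
      have hfx0 : f x ≠ 0 := by
        intro h
        apply hx0
        have := f.injective (h.trans (map_zero f).symm)
        exact this
      obtain ⟨g₁, hg₁, hg₁x⟩ := exists_nice_move halt hnd hG hsup hfx hfx0 hx hx0
      have hf₁ : Nice B ⊤ S (g₁ * f) := by
        refine ⟨Subgroup.mem_top _, fun a b => ?_, fun s hs => ?_⟩
        · rw [LinearEquiv.mul_apply, LinearEquiv.mul_apply, hg₁.2.1, hf]
        · rw [LinearEquiv.mul_apply, hfix s hs, hg₁.2.2 s hs]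
      have hf₁x : (g₁ * f) x = x := by rw [LinearEquiv.mul_apply, hg₁x]
      have hy' : (g₁ * f) y ∈ orth B S := horth _ hf₁.2.1 hf₁.2.2 y hy
      have hxy' : B x ((g₁ * f) y) = 1 := by
        have := hf₁.2.1 x y
        rw [hf₁x] at this
        rw [this, hxy]
      obtain ⟨g₂, hg₂, hg₂x, hg₂y⟩ := exists_nice_move_pair halt hG hx hy hy' hxy hxy'
      have hf₂iso : ∀ a b, B ((g₂ * (g₁ * f)) a) ((g₂ * (g₁ * f)) b) = B a b := by
        intro a b
        rw [LinearEquiv.mul_apply, LinearEquiv.mul_apply g₂, hg₂.2.1, hf₁.2.1]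
      have hf₂x : (g₂ * (g₁ * f)) x = x := by
        rw [LinearEquiv.mul_apply, hf₁x, hg₂x]
      have hf₂y : (g₂ * (g₁ * f)) y = y := by
        rw [LinearEquiv.mul_apply, hg₂y]
      have hf₂fix : ∀ s ∈ S ⊔ Submodule.span (ZMod p) {x, y}, (g₂ * (g₁ * f)) s = s := by
        intro s hs
        obtain ⟨s₀, hs₀, r, hr, rfl⟩ := Submodule.mem_sup.mp hs
        obtain ⟨a, b, rfl⟩ := Submodule.mem_span_pair.mp hr
        have e0 : (g₂ * (g₁ * f)) s₀ = s₀ := by
          rw [LinearEquiv.mul_apply, hf₁.2.2 s₀ hs₀, hg₂.2.2 s₀ hs₀]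
        rw [map_add, map_add, map_smul, map_smul, e0, hf₂x, hf₂y]
      have hlt : S < S ⊔ Submodule.span (ZMod p) {x, y} := by
        refine lt_of_le_of_ne le_sup_left fun h => ?_
        have hxS : x ∈ S := by
          rw [h]
          exact (le_sup_right : Submodule.span (ZMod p) {x, y} ≤ _)
            (Submodule.subset_span (by simp))
        have : x ∈ S ⊓ orth B S := ⟨hxS, hx⟩
        rw [hinf] at this
        exact hx0 ((Submodule.mem_bot _).mp this)
      have h3 := ih _ hlt (g₂ * (g₁ * f)) hf₂iso hf₂fix (hyp_inf halt hinf hx hy hxy)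
        (hyp_sup halt hsup hx hy hxy)
      have : f = g₁⁻¹ * (g₂⁻¹ * (g₂ * (g₁ * f))) := by group
      rw [this]
      exact mul_mem (inv_mem hg₁.1) (mul_mem (inv_mem hg₂.1) h3)
  refine key ⊥ f hf ?_ ?_ ?_
  · intro s hs
    rw [(Submodule.mem_bot _).mp hs, map_zero]
  · exact bot_inf_eq _
  · rw [eq_top_iff]
    intro v _
    refine (le_sup_right : orth B ⊥ ≤ _) ?_
    intro s hs
    rw [(Submodule.mem_bot _).mp hs]
    simp

end Cfsg.Agent.Helper83.McL
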