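import Cfsg.Agent.Helper83.McL12
import Cfsg.Agent.Helper83.McL14

/-!
# McLaughlin over a prime field, part 15: the components of symplectic type
-/

set_option autoImplicit false

namespace Cfsg.Agent.Helper83.McL

open Module

variable {p : ℕ} [Fact p.Prime] {V : Type*} [AddCommGroup V] [Module (ZMod p) V] [Finite V]

variable {H : Subgroup (V ≃ₗ[ZMod p] V)}

/-- The subgroup of isometries of a bilinear form. -/
def isoSubgroup {W : Type*} [AddCommGroup W] [Module (ZMod p) W]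
    (B : W →ₗ[ZMod p] W →ₗ[ZMod p] ZMod p) : Subgroup (W ≃ₗ[ZMod p] W) where
  carrier := {f | ∀ x y, B (f x) (f y) = B x y}
  mul_mem' := by
    intro a b ha hb x y
    rw [LinearEquiv.mul_apply, LinearEquiv.mul_apply, ha, hb]
  one_mem' := by
    intro x y
    rfl
  inv_mem' := by
    intro a ha x y
    have h := ha (a⁻¹ x) (a⁻¹ y)
    have e : ∀ z, a (a⁻¹ z) = z := by
      intro z
      rw [← LinearEquiv.mul_apply, mul_inv_cancel]
      rfl
    rw [e, e] at h
    exact h.symm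

/-- **Symplectic type.** If the axes at `u` form a line, `HC u` induces on `VC u` exactly the
isometry group of a non-degenerate alternating form. -/
theorem sp_range (hS : Std H) (h2 : (2 : ZMod p) ≠ 0) {u : V} (hu : IsCen H u)
    (hone : OneDim H u) (ρ : ↥(HC H u) →* (↥(VC H u) ≃ₗ[ZMod p] ↥(VC H u)))
    (hρ : ∀ (h : ↥(HC H u)) (v : ↥(VC H u)),
      ((ρ h v : ↥(VC H u)) : V) = (h : V ≃ₗ[ZMod p] V) (v : V)) :
    ∃ B : LinearMap.BilinForm (ZMod p) ↥(VC H u), B.IsAlt ∧ B.Nondegenerate ∧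
      (ρ.range : Set (↥(VC H u) ≃ₗ[ZMod p] ↥(VC H u))) =
        {f : ↥(VC H u) ≃ₗ[ZMod p] ↥(VC H u) | ∀ x y, B (f x) (f y) = B x y} := by
  obtain ⟨θ, hθ⟩ := exists_polarity hS h2 hu hone
  let B : ↥(VC H u) →ₗ[ZMod p] ↥(VC H u) →ₗ[ZMod p] ZMod p :=
    LinearMap.mk₂ (ZMod p) (fun x y => θ (y : V) (x : V))
      (by intro a b c; simp)
      (by intro c a b; simp)
      (by intro a b c; simp)
      (by intro c a b; simp)
  have hB : ∀ x y : ↥(VC H u), B x y = θ (y : V) (x : V) := fun _ _ => rfl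
  have halt : ∀ x, B x x = 0 := fun x => (hθ x x.2).1.1
  have hright : ∀ y, (∀ x, B x y = 0) → y = 0 := by
    intro y hy
    by_cases hy0 : y = 0
    · exact hy0
    have hy0' : (y : V) ≠ 0 := fun h => hy0 (Subtype.ext h)
    obtain ⟨hyc, hyconn⟩ := isCen_of_mem_VC_ne_zero hS h2 hu y.2 hy0'
    have : θ (y : V) = 0 := by
      ext m
      obtain ⟨a, ha, b, hb, rfl⟩ := exists_decomp hS h2 hu m
      rw [map_add, Phi_kills_rest hyc hyconn (hθ y y.2).1 b hb, add_zero]
      have := hy ⟨a, ha⟩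
      rw [hB] at this
      simpa using this
    exact absurd ((hθ y y.2).2 this) hy0'
  have hleft : ∀ x, (∀ y, B x y = 0) → x = 0 := by
    intro x hx
    apply hright
    intro y
    rw [alt_skew halt, hx, neg_zero]
  -- the restricted generators are symplectic transvections
  have hgen : ∀ (w : ↥(VC H u)) (c : ZMod p) (hmem : tvx (c • θ (w : V)) (w : V) ∈ HC H u),
      ρ ⟨_, hmem⟩ = sptv B w c := by
    intro w c hmem
    have hθw := (hθ w w.2).1
    have h0 : (c • θ (w : V)) (w : V) = 0 := by simp [hθw.1]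
    ext x
    rw [hρ, sptv_apply halt, tvx_apply h0, hB]
    simp
  refine ⟨B, halt, ⟨hleft, hright⟩, ?_⟩
  ext f
  constructor
  · rintro ⟨h, rfl⟩
    have hle : HC H u ≤ ((isoSubgroup B).comap ρ).map (HC H u).subtype := by
      conv_lhs => rw [HC]
      rw [Subgroup.closure_le]
      rintro g ⟨w, φ, hw, hc, hφ, rfl⟩
      have hmem : tvx φ w ∈ HC H u := Subgroup.subset_closure ⟨w, φ, hw, hc, hφ, rfl⟩
      refine ⟨⟨tvx φ w, hmem⟩, ?_, rfl⟩
      rw [SetLike.mem_coe, Subgroup.mem_comap]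
      have hwV : w ∈ VC H u := Submodule.subset_span ⟨hw, hc⟩
      have hθw := hθ w hwV
      have hθw0 : θ w ≠ 0 := fun h => hw.1 (hθw.2 h)
      obtain ⟨c, rfl⟩ := (oneDim_of_mem_VC hS h2 hu hone hwV hw.1).gen hθw.1 hθw0 φ hφ
      rw [hgen ⟨w, hwV⟩ c hmem]
      exact sptv_iso halt _ _
    obtain ⟨h', hh', hh''⟩ := hle h.2
    have : h' = h := Subtype.ext hh''
    rw [← this]
    exact hh'
  · intro hf
    rw [SetLike.mem_coe]
    refine mem_of_isometry halt hleft ?_ f hf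
    intro w c
    by_cases hw0 : w = 0
    · subst hw0
      unfold sptv
      rw [tvx_zero_right]
      exact one_mem _
    have hw0' : (w : V) ≠ 0 := fun h => hw0 (Subtype.ext h)
    obtain ⟨hwc, hwconn⟩ := isCen_of_mem_VC_ne_zero hS h2 hu w.2 hw0'
    have hmem : tvx (c • θ (w : V)) (w : V) ∈ HC H u :=
      Subgroup.subset_closure ⟨w, _, hwc, hwconn, (Phi H _).smul_mem c (hθ w w.2).1, rfl⟩
    exact ⟨⟨_, hmem⟩, hgen w c hmem⟩

end Cfsg.Agent.Helper83.McL
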