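import Cfsg.Agent.Helper83.McL15

/-!
# McLaughlin over a prime field, part 16: packaging
-/

set_option autoImplicit false

namespace Cfsg.Agent.Helper83.McL

open Module

variable {p : ℕ} [Fact p.Prime] {V : Type*} [AddCommGroup V] [Module (ZMod p) V]

variable {H : Subgroup (V ≃ₗ[ZMod p] V)}

lemma inv_apply_apply' (g : V ≃ₗ[ZMod p] V) (x : V) : g⁻¹ (g x) = x := by
  rw [← LinearEquiv.mul_apply, inv_mul_cancel]; rfl

lemma apply_inv_apply' (g : V ≃ₗ[ZMod p] V) (x : V) : g (g⁻¹ x) = x := by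
  rw [← LinearEquiv.mul_apply, mul_inv_cancel]; rfl

/-- The restriction homomorphism of a subgroup to an invariant subspace. -/
noncomputable def restrHom (K : Subgroup (V ≃ₗ[ZMod p] V)) (U : Submodule (ZMod p) V)
    (hK : ∀ g ∈ K, ∀ x ∈ U, g x ∈ U) : ↥K →* (↥U ≃ₗ[ZMod p] ↥U) where
  toFun g := LinearEquiv.ofLinear
      (((g : V ≃ₗ[ZMod p] V) : V →ₗ[ZMod p] V).restrict (hK g g.2))
      ((((g : V ≃ₗ[ZMod p] V)⁻¹ : V ≃ₗ[ZMod p] V) : V →ₗ[ZMod p] V).restrict
        (hK _ (inv_mem g.2)))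
      (by
        ext x
        simp only [LinearMap.coe_comp, Function.comp_apply, LinearMap.restrict_coe_apply,
          LinearEquiv.coe_coe, LinearMap.id_coe, id_eq]
        exact apply_inv_apply' _ _)
      (by
        ext x
        simp only [LinearMap.coe_comp, Function.comp_apply, LinearMap.restrict_coe_apply,
          LinearEquiv.coe_coe, LinearMap.id_coe, id_eq]
        exact inv_apply_apply' _ _)
  map_one' := by
    ext x
    rfl
  map_mul' a b := by
    ext x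
    rfl

lemma restrHom_apply (K : Subgroup (V ≃ₗ[ZMod p] V)) (U : Submodule (ZMod p) V)
    (hK : ∀ g ∈ K, ∀ x ∈ U, g x ∈ U) (g : ↥K) (x : ↥U) :
    ((restrHom K U hK g x : ↥U) : V) = (g : V ≃ₗ[ZMod p] V) (x : V) := rfl

/-- Invariant subspaces are mapped onto themselves. -/
lemma map_eq_of_invariant (U : Submodule (ZMod p) V) (hU : ∀ h ∈ H, ∀ x ∈ U, h x ∈ U)
    {h : V ≃ₗ[ZMod p] V} (hh : h ∈ H) : U.map (h : V →ₗ[ZMod p] V) = U := by
  apply le_antisymm
  · rintro _ ⟨x, hx, rfl⟩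
    exact hU h hh x hx
  · intro x hx
    exact ⟨h⁻¹ x, hU _ (inv_mem hh) x hx, apply_inv_apply' h x⟩

/-- `H` normalises `HC u`. -/
lemma HC_conj_mem (hS : Std H) (u : V) {h : V ≃ₗ[ZMod p] V} (hh : h ∈ H) {g : V ≃ₗ[ZMod p] V}
    (hg : g ∈ HC H u) : h * g * h⁻¹ ∈ HC H u := by
  have hle : (HC H u).map (MulAut.conj h).toMonoidHom ≤ HC H u := by
    conv_lhs => rw [HC]
    rw [MonoidHom.map_closure, Subgroup.closure_le]
    rintro _ ⟨g, ⟨w, φ, hw, hc, hφ, rfl⟩, rfl⟩
    simp only [MulEquiv.toMonoidHom_eq_coe, MonoidHom.coe_coe, MulAut.conj_apply]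
    rw [conj_tvx h hφ.1]
    exact Subgroup.subset_closure
      ⟨h w, _, hw.map hh, hc.trans (conn_map hS hh w hw), Phi_conj hh hφ, rfl⟩
  have := hle (Subgroup.mem_map_of_mem _ hg)
  simpa using this

lemma HC_normal (hS : Std H) (u : V) : ((HC H u).subgroupOf H).Normal := by
  constructor
  intro n hn g
  rw [Subgroup.mem_subgroupOf] at hn ⊢
  simpa using HC_conj_mem hS u g.2 hn

end Cfsg.Agent.Helper83.McL
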