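import Cfsg.Agent.Helper83.McL16

/-!
# McLaughlin over a prime field, part 17: packaging the decomposition
-/

set_option autoImplicit false

namespace Cfsg.Agent.Helper83.McL

open Module

variable {p : ℕ} [Fact p.Prime] {V : Type*} [AddCommGroup V] [Module (ZMod p) V]

variable {H : Subgroup (V ≃ₗ[ZMod p] V)}

/-- The pointwise fixer of a subspace. -/
def fixer (U : Submodule (ZMod p) V) : Subgroup (V ≃ₗ[ZMod p] V) where
  carrier := {g | ∀ x ∈ U, g x = x}
  mul_mem' := by
    intro a b ha hb x hx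
    rw [LinearEquiv.mul_apply, hb x hx, ha x hx]
  one_mem' := by
    intro x _
    rfl
  inv_mem' := by
    intro a ha x hx
    have := inv_apply_apply' a x
    rw [ha x hx] at this
    exact this

lemma VC_le_Comm (u : V) : VC H u ≤ Comm H := by
  unfold VC Comm
  apply Submodule.span_mono
  intro w hw
  exact hw.1

lemma VC_le_VCc {u u' : V} (h : ¬ Conn H u u') : VC H u' ≤ VCc H u := by
  unfold VC VCc
  apply Submodule.span_mono
  intro w hw
  exact ⟨hw.1, fun hc => h (hc.trans hw.2.symm)⟩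

/-- Without centres the group is trivial. -/
lemma eq_bot_of_no_cen (hS : Std H) (hno : ¬ ∃ c, IsCen H c) : H = ⊥ := by
  rw [← hS.gen, Subgroup.closure_eq_bot_iff]
  rintro g ⟨v, φ, hφ, rfl⟩
  by_cases hv : v = 0
  · subst hv
    exact tvx_zero_right φ
  by_cases hφ0 : φ = 0
  · subst hφ0
    exact tvx_zero_left v
  exact absurd ⟨v, hv, φ, hφ, hφ0⟩ hno

/-- Representatives of the components. -/
theorem exists_reps [Finite V] (hex : ∃ c, IsCen H c) :
    ∃ (n : ℕ) (rep : Fin n → V), 1 ≤ n ∧ (∀ j, IsCen H (rep j)) ∧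
      (∀ j j', j ≠ j' → ¬ Conn H (rep j) (rep j')) ∧
      (∀ c, IsCen H c → ∃ j, Conn H (rep j) c) := by
  classical
  let s : Setoid {v : V // IsCen H v} :=
    { r := fun a b => Conn H a.1 b.1
      iseqv := ⟨fun a => Conn.refl a.1, fun h => h.symm, fun h1 h2 => h1.trans h2⟩ }
  have : Finite (Quotient s) := Quotient.finite s
  obtain ⟨c₀, hc₀⟩ := hex
  have : Nonempty (Quotient s) := ⟨Quotient.mk s ⟨c₀, hc₀⟩⟩
  let e : Quotient s ≃ Fin (Nat.card (Quotient s)) := Finite.equivFin _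
  refine ⟨Nat.card (Quotient s), fun j => ((e.symm j).out).1, Nat.card_pos, fun j => ((e.symm j).out).2,
    ?_, ?_⟩
  · intro j j' hjj' hc
    apply hjj'
    have h1 : Quotient.mk s (e.symm j).out = Quotient.mk s (e.symm j').out := Quotient.sound hc
    rw [Quotient.out_eq, Quotient.out_eq] at h1
    exact e.symm.injective h1
  · intro c hc
    refine ⟨e (Quotient.mk s ⟨c, hc⟩), ?_⟩
    simp only [Equiv.symm_apply_apply]
    exact Quotient.mk_out (s := s) ⟨c, hc⟩

section pack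

variable [Finite V] (hS : Std H) (h2 : (2 : ZMod p) ≠ 0) {n : ℕ} (rep : Fin n → V)
  (hrep : ∀ j, IsCen H (rep j)) (hdis : ∀ j j', j ≠ j' → ¬ Conn H (rep j) (rep j'))
  (hcov : ∀ c, IsCen H c → ∃ j, Conn H (rep j) c)
  (W : Fin (n + 1) → Submodule (ZMod p) V) (hW0 : W 0 = Cfix H)
  (hWs : ∀ j : Fin n, W j.succ = VC H (rep j))

include hS h2 hrep hdis hcov hW0 hWs in
theorem pack_internal : DirectSum.IsInternal W := by
  classical
  rw [DirectSum.isInternal_submodule_iff_iSupIndep_and_iSup_eq_top]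
  constructor
  · intro i
    rw [disjoint_iff]
    induction i using Fin.cases with
    | zero =>
      rw [hW0, eq_bot_iff, ← Cfix_inf_Comm hS h2]
      apply inf_le_inf_left
      apply iSup₂_le
      intro i' hi'
      obtain ⟨j, rfl⟩ := Fin.exists_succ_eq.mpr hi'
      rw [hWs]
      exact VC_le_Comm _
    | succ j =>
      rw [hWs, eq_bot_iff, ← VC_inf_rest hS h2 (hrep j)]
      apply inf_le_inf_left
      apply iSup₂_le
      intro i' hi'
      induction i' using Fin.cases with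
      | zero =>
        rw [hW0]
        exact le_sup_left
      | succ j' =>
        rw [hWs]
        have hjj' : j ≠ j' := fun h => hi' (by rw [h])
        exact le_sup_of_le_right (VC_le_VCc (hdis j j' hjj'))
  · rw [eq_top_iff, ← Cfix_sup_Comm hS h2]
    apply sup_le
    · rw [← hW0]
      exact le_iSup W 0
    · unfold Comm
      rw [Submodule.span_le]
      intro c hc
      obtain ⟨j, hj⟩ := hcov c hc
      refine (le_iSup W j.succ) ?_
      rw [hWs]
      exact Submodule.subset_span ⟨hc, hj⟩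

include hS hW0 hWs in
theorem pack_invariant : ∀ h ∈ H, ∀ i, (W i).map (h : V →ₗ[ZMod p] V) = W i := by
  intro h hh i
  induction i using Fin.cases with
  | zero =>
    rw [hW0]
    exact map_eq_of_invariant _ Cfix_invariant hh
  | succ j =>
    rw [hWs]
    exact map_eq_of_invariant _ (VC_invariant hS _) hh

include hS hcov in
theorem pack_iSup : ⨆ j, HC H (rep j) = H := by
  apply le_antisymm
  · exact iSup_le fun j => HC_le _
  · conv_lhs => rw [← hS.gen]
    rw [Subgroup.closure_le]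
    rintro g ⟨v, φ, hφ, rfl⟩
    by_cases hv : v = 0
    · subst hv
      rw [tvx_zero_right]
      exact one_mem _
    by_cases hφ0 : φ = 0
    · subst hφ0
      rw [tvx_zero_left]
      exact one_mem _
    have hvc : IsCen H v := ⟨hv, φ, hφ, hφ0⟩
    obtain ⟨j, hj⟩ := hcov v hvc
    exact (le_iSup (fun j => HC H (rep j)) j) (Subgroup.subset_closure ⟨v, φ, hvc, hj, hφ, rfl⟩)

include hS h2 hrep hdis hcov hW0 hWs in
theorem pack_disjoint (j : Fin n) :
    HC H (rep j) ⊓ (⨆ j' ∈ {j' : Fin n | j' ≠ j}, HC H (rep j')) = ⊥ := by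
  rw [eq_bot_iff]
  rintro g ⟨hg1, hg2⟩
  rw [Subgroup.mem_bot]
  have hgH : g ∈ H := HC_le _ hg1
  have h1 : ∀ j', j' ≠ j → ∀ x ∈ VC H (rep j'), g x = x :=
    fun j' hj' => HC_fix_VC (hdis j' j hj') hg1
  have h2' : ∀ x ∈ VC H (rep j), g x = x := by
    have hle : (⨆ j' ∈ {j' : Fin n | j' ≠ j}, HC H (rep j')) ≤ fixer (VC H (rep j)) := by
      apply iSup₂_le
      intro j' hj' g hg
      exact HC_fix_VC (hdis j j' (Ne.symm hj')) hg
    exact hle hg2
  have h0 : ∀ x ∈ Cfix H, g x = x := fun x hx => hx g hgH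
  have hall : ∀ i, W i ≤ LinearMap.eqLocus (g : V →ₗ[ZMod p] V) LinearMap.id := by
    intro i
    induction i using Fin.cases with
    | zero =>
      rw [hW0]
      intro x hx
      exact h0 x hx
    | succ j' =>
      rw [hWs]
      intro x hx
      by_cases hj : j' = j
      · subst hj
        exact h2' x hx
      · exact h1 j' hj x hx
  have htop : (⊤ : Submodule (ZMod p) V) ≤ LinearMap.eqLocus (g : V →ₗ[ZMod p] V) LinearMap.id := by
    rw [← (pack_internal hS h2 rep hrep hdis hcov W hW0 hWs).submodule_iSup_eq_top]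
    exact iSup_le hall
  ext x
  exact htop (Submodule.mem_top (x := x))

include hS h2 hrep hdis hcov hW0 hWs in
theorem pack_commute (j j' : Fin n) (hjj' : j ≠ j') :
    ∀ a ∈ HC H (rep j), ∀ b ∈ HC H (rep j'), a * b = b * a := by
  intro a ha b hb
  have haH : a ∈ H := HC_le _ ha
  have hbH : b ∈ H := HC_le _ hb
  have h1 : a * b * a⁻¹ * b⁻¹ ∈ HC H (rep j) := by
    have := HC_conj_mem hS (rep j) hbH (inv_mem ha)
    have e : a * b * a⁻¹ * b⁻¹ = a * (b * a⁻¹ * b⁻¹) := by group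
    rw [e]
    exact mul_mem ha this
  have h3 : a * b * a⁻¹ * b⁻¹ ∈ HC H (rep j') :=
    mul_mem (HC_conj_mem hS (rep j') haH hb) (inv_mem hb)
  have h4 : a * b * a⁻¹ * b⁻¹ ∈ HC H (rep j) ⊓ (⨆ j'' ∈ {j'' : Fin n | j'' ≠ j}, HC H (rep j'')) := by
    refine ⟨h1, ?_⟩
    have hle : HC H (rep j') ≤ ⨆ j'' ∈ {j'' : Fin n | j'' ≠ j}, HC H (rep j'') :=
      le_iSup₂_of_le j' (Ne.symm hjj') le_rfl
    exact hle h3
  rw [pack_disjoint hS h2 rep hrep hdis hcov W hW0 hWs j, Subgroup.mem_bot] at h4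
  have : a * b = (a * b * a⁻¹ * b⁻¹) * (b * a) := by group
  rw [this, h4, one_mul]

include hdis hW0 hWs in
theorem pack_fix (j : Fin n) : ∀ h ∈ HC H (rep j), ∀ i : Fin (n + 1), i ≠ j.succ →
    ∀ v ∈ W i, h v = v := by
  intro h hh i hi v hv
  induction i using Fin.cases with
  | zero =>
    rw [hW0] at hv
    exact hv h (HC_le _ hh)
  | succ j' =>
    rw [hWs] at hv
    have hjj' : j' ≠ j := fun h => hi (by rw [h])
    exact HC_fix_VC (hdis j' j hjj') hh v hv

include hS h2 in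
/-- The action of `HC u` on a subspace equal to `VC u`. -/
theorem pack_range {u : V} (hu : IsCen H u) (U : Submodule (ZMod p) V) (hU : U = VC H u)
    (ρ : ↥(HC H u) →* (↥U ≃ₗ[ZMod p] ↥U))
    (hρ : ∀ (h : ↥(HC H u)) (v : ↥U), ((ρ h v : ↥U) : V) = (h : V ≃ₗ[ZMod p] V) (v : V)) :
    ((ρ.range : Set (↥U ≃ₗ[ZMod p] ↥U)) =
        {f : ↥U ≃ₗ[ZMod p] ↥U | LinearMap.det (f : ↥U →ₗ[ZMod p] ↥U) = 1} ∨
      ∃ B : LinearMap.BilinForm (ZMod p) ↥U, B.IsAlt ∧ B.Nondegenerate ∧
        (ρ.range : Set (↥U ≃ₗ[ZMod p] ↥U)) =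
          {f : ↥U ≃ₗ[ZMod p] ↥U | ∀ x y, B (f x) (f y) = B x y}) := by
  subst hU
  by_cases hone : OneDim H u
  · exact Or.inr (sp_range hS h2 hu hone ρ hρ)
  · exact Or.inl (sl_range hS h2 hu hone ρ hρ)

end pack

end Cfsg.Agent.Helper83.McL
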