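import Cfsg.Agent.Helper83.McL17

/-!
# McLaughlin over a prime field, part 18: the main theorem
-/

set_option autoImplicit false

namespace Cfsg.Agent.Helper83.McL

open Module

variable {p : ℕ} [Fact p.Prime] {V : Type*} [AddCommGroup V] [Module (ZMod p) V]

variable {H : Subgroup (V ≃ₗ[ZMod p] V)}

/-- An element of order `p` fixing a hyperplane pointwise is a transvection `tvx φ v`. -/
theorem exists_tvx_of_order [Finite V] {t : V ≃ₗ[ZMod p] V} (ho : orderOf t = p)
    (hk : Module.finrank (ZMod p) ↥(LinearMap.ker ((t : V →ₗ[ZMod p] V) - LinearMap.id)) + 1 =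
      Module.finrank (ZMod p) V) : ∃ (φ : Dual (ZMod p) V) (v : V), φ v = 0 ∧ t = tvx φ v := by
  have hrn := LinearMap.finrank_range_add_finrank_ker ((t : V →ₗ[ZMod p] V) - LinearMap.id)
  have hdil : t ∈ LinearEquiv.dilatransvections (ZMod p) V :=
    LinearEquiv.mem_dilatransvections_iff_finrank.mpr (by omega)
  obtain ⟨f, v, he⟩ := hdil
  have key : ∀ x, t x = x + f x • v := by
    intro x
    have := LinearMap.congr_fun he x
    rw [LinearMap.transvection.apply] at this
    exact this
  by_cases hv : v = 0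
  · refine ⟨f, 0, map_zero f, ?_⟩
    rw [tvx_zero_right]
    ext x
    rw [key x, hv, smul_zero, add_zero]
    rfl
  have hpow : ∀ k : ℕ, (t ^ k) v = (1 + f v) ^ k • v := by
    intro k
    induction k with
    | zero => simp
    | succ k ih =>
      rw [pow_succ', LinearEquiv.mul_apply, ih, map_smul, key v, pow_succ, mul_smul]
      congr 1
      rw [add_smul, one_smul]
  have htp : t ^ p = 1 := by
    have := pow_orderOf_eq_one t
    rw [ho] at this
    exact this
  have h1 := hpow p
  rw [htp, ZMod.pow_card, add_smul, one_smul] at h1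
  have h3 : f v • v = 0 := by
    have : (1 : V ≃ₗ[ZMod p] V) v = v := rfl
    rw [this] at h1
    have h4 : v + f v • v = v + 0 := by rw [add_zero]; exact h1.symm
    exact add_left_cancel h4
  have hfv : f v = 0 := by
    rcases smul_eq_zero.mp h3 with h | h
    · exact h
    · exact absurd h hv
  refine ⟨f, v, hfv, ?_⟩
  ext x
  rw [key x, tvx_apply hfv]

/-- The standing hypotheses follow from those of the statement. -/
theorem std_of_hyp [Finite V] (T : Set (V ≃ₗ[ZMod p] V)) (hHT : H = Subgroup.closure T)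
    (hT : ∀ t ∈ T, orderOf t = p ∧
      Module.finrank (ZMod p) ↥(LinearMap.ker ((t : V →ₗ[ZMod p] V) - LinearMap.id)) + 1 =
        Module.finrank (ZMod p) V)
    (hnn : ∀ N : Subgroup ↥H, N.Normal → IsPGroup p N → N = ⊥) : Std H := by
  constructor
  · apply le_antisymm
    · rw [Subgroup.closure_le]
      rintro g ⟨v, φ, hφ, rfl⟩
      exact hφ.2
    · conv_lhs => rw [hHT]
      apply Subgroup.closure_mono
      intro t ht
      obtain ⟨φ, v, hφv, rfl⟩ := exists_tvx_of_order (hT t ht).1 (hT t ht).2
      refine ⟨v, φ, ⟨hφv, ?_⟩, rfl⟩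
      rw [hHT]
      exact Subgroup.subset_closure ht
  · intro N hNH hconj hexp
    have hnorm : (N.subgroupOf H).Normal := by
      constructor
      intro n hn g
      rw [Subgroup.mem_subgroupOf] at hn ⊢
      simpa using hconj g g.2 n hn
    have hpg : IsPGroup p (N.subgroupOf H) := by
      intro g
      refine ⟨1, ?_⟩
      rw [pow_one]
      apply Subtype.ext
      apply Subtype.ext
      have := hexp g.1.1 g.2
      simpa using this
    have h1 := hnn _ hnorm hpg
    rw [Subgroup.subgroupOf_eq_bot] at h1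
    rw [eq_bot_iff]
    intro x hx
    have : x ∈ N ⊓ H := ⟨hx, hNH hx⟩
    rw [h1.eq_bot] at this
    exact this

/-- The trivial space carries the trivial action. -/
theorem pack_range_bot (U : Submodule (ZMod p) V) (hU : U = ⊥)
    (K : Subgroup (V ≃ₗ[ZMod p] V)) :
    ∃ ρ : ↥K →* (↥U ≃ₗ[ZMod p] ↥U),
      (∀ (h : ↥K) (v : ↥U), ((ρ h v : ↥U) : V) = (h : V ≃ₗ[ZMod p] V) (v : V)) ∧
      (ρ.range : Set (↥U ≃ₗ[ZMod p] ↥U)) =
        {f : ↥U ≃ₗ[ZMod p] ↥U | LinearMap.det (f : ↥U →ₗ[ZMod p] ↥U) = 1} := by
  subst hU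
  have hsub : ∀ x : ↥(⊥ : Submodule (ZMod p) V), x = 0 := fun x => Subsingleton.elim _ _
  refine ⟨1, ?_, ?_⟩
  · intro h v
    have e1 : ((1 : ↥K →* (↥(⊥ : Submodule (ZMod p) V) ≃ₗ[ZMod p] ↥(⊥ : Submodule (ZMod p) V))) h) v
        = 0 := hsub _
    rw [e1, hsub v]
    simp
  · ext f
    have hf : f = 1 := LinearEquiv.ext fun x => Subsingleton.elim _ _
    constructor
    · intro _
      rw [hf]
      simp
    · intro _
      rw [hf]
      exact one_mem _

/-- The degenerate case `H = ⊥`. -/
theorem pack_trivial (hH : H = ⊥) (W : Fin 2 → Submodule (ZMod p) V) (hW0 : W 0 = ⊤)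
    (hW1 : W 1 = ⊥) : DirectSum.IsInternal W ∧
      (∀ h ∈ H, ∀ i, (W i).map (h : V →ₗ[ZMod p] V) = W i) := by
  classical
  constructor
  · rw [DirectSum.isInternal_submodule_iff_iSupIndep_and_iSup_eq_top]
    constructor
    · intro i
      fin_cases i
      · have : (⨆ j, ⨆ (_ : j ≠ (0 : Fin 2)), W j) = ⊥ := by
          rw [eq_bot_iff]
          apply iSup₂_le
          intro j hj
          fin_cases j
          · exact absurd rfl hj
          · exact hW1.le
        simp only [Fin.zero_eta]
        rw [this]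
        exact disjoint_bot_right
      · simp only [Fin.mk_one]
        rw [hW1]
        exact disjoint_bot_left
    · rw [eq_top_iff, ← hW0]
      exact le_iSup W 0
  · intro h hh i
    rw [hH, Subgroup.mem_bot] at hh
    subst hh
    ext x
    simp

end Cfsg.Agent.Helper83.McL
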