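import Cfsg.Agent.Helper83.McL1

/-!
# McLaughlin over a prime field, part 2: standing hypotheses, the dichotomy lemma, components
-/

set_option autoImplicit false

namespace Cfsg.Agent.Helper83.McL

open Module

variable {p : ℕ} [Fact p.Prime] {V : Type*} [AddCommGroup V] [Module (ZMod p) V]

/-- Standing hypotheses: `H` is generated by its transvections and has no non-trivial normal
subgroup of exponent `p`. -/
structure Std (H : Subgroup (V ≃ₗ[ZMod p] V)) : Prop where
  gen : Subgroup.closure {g : V ≃ₗ[ZMod p] V | ∃ v φ, φ ∈ Phi H v ∧ g = tvx φ v} = H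
  nnp : ∀ N : Subgroup (V ≃ₗ[ZMod p] V), N ≤ H → (∀ h ∈ H, ∀ n ∈ N, h * n * h⁻¹ ∈ N) →
      (∀ n ∈ N, n ^ p = 1) → N = ⊥

variable {H : Subgroup (V ≃ₗ[ZMod p] V)}

/-- Induction over the transvection generators of `H`. -/
lemma Std.induction (hS : Std H) {P : (V ≃ₗ[ZMod p] V) → Prop}
    (h1 : P 1) (hmul : ∀ a b, a ∈ H → b ∈ H → P a → P b → P (a * b))
    (hinv : ∀ a, a ∈ H → P a → P a⁻¹)
    (hgen : ∀ v φ, φ ∈ Phi H v → P (tvx φ v)) {g : V ≃ₗ[ZMod p] V} (hg : g ∈ H) : P g := by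
  have hsub : {g : V ≃ₗ[ZMod p] V | ∃ v φ, φ ∈ Phi H v ∧ g = tvx φ v} ⊆ H := by
    rintro g ⟨v, φ, hφ, rfl⟩
    exact hφ.2
  rw [← hS.gen] at hg
  have key : ∀ g (_ : g ∈ Subgroup.closure {g : V ≃ₗ[ZMod p] V | ∃ v φ, φ ∈ Phi H v ∧ g = tvx φ v}),
      g ∈ H ∧ P g := by
    intro g hg
    induction hg using Subgroup.closure_induction with
    | mem x hx =>
      obtain ⟨v, φ, hφ, rfl⟩ := hx
      exact ⟨hφ.2, hgen v φ hφ⟩
    | one => exact ⟨one_mem H, h1⟩
    | mul a b _ _ iha ihb => exact ⟨mul_mem iha.1 ihb.1, hmul a b iha.1 ihb.1 iha.2 ihb.2⟩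
    | inv a _ iha => exact ⟨inv_mem iha.1, hinv a iha.1 iha.2⟩
  exact (key g hg).2

/-- The key consequence of `O_p(H) = 1`: an element of `H` that is the identity on an invariant
subspace `U` and on `V / U` is the identity. -/
lemma eq_one_of_unip (hS : Std H) (U : Submodule (ZMod p) V)
    (hU : ∀ h ∈ H, ∀ x ∈ U, h x ∈ U) {h : V ≃ₗ[ZMod p] V} (hh : h ∈ H)
    (h1 : ∀ x, h x - x ∈ U) (h2 : ∀ x ∈ U, h x = x) : h = 1 := by
  let N : Subgroup (V ≃ₗ[ZMod p] V) :=
    { carrier := {h | h ∈ H ∧ (∀ x, h x - x ∈ U) ∧ ∀ x ∈ U, h x = x}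
      one_mem' := ⟨one_mem H, by simp, by simp⟩
      mul_mem' := by
        rintro a b ⟨ha, ha1, ha2⟩ ⟨hb, hb1, hb2⟩
        refine ⟨mul_mem ha hb, fun x => ?_, fun x hx => ?_⟩
        · have e : (a * b) x - x = (b x - x) + (a x - x) := by
            have h3 : a (b x - x) = b x - x := ha2 _ (hb1 x)
            rw [map_sub] at h3
            rw [LinearEquiv.mul_apply]
            have : a (b x) = b x - x + a x := by rw [← h3]; abel
            rw [this]; abel
          rw [e]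
          exact U.add_mem (hb1 x) (ha1 x)
        · rw [LinearEquiv.mul_apply, hb2 x hx, ha2 x hx]
      inv_mem' := by
        rintro a ⟨ha, ha1, ha2⟩
        refine ⟨inv_mem ha, fun x => ?_, fun x hx => ?_⟩
        · have h3 := ha1 (a⁻¹ x)
          have h4 : a (a⁻¹ x) = x := by
            rw [← LinearEquiv.mul_apply, mul_inv_cancel]; rfl
          rw [h4] at h3
          have : a⁻¹ x - x = -(x - a⁻¹ x) := by abel
          rw [this]
          exact U.neg_mem h3
        · have h3 : a⁻¹ (a x) = x := by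
            rw [← LinearEquiv.mul_apply, inv_mul_cancel]; rfl
          rw [ha2 x hx] at h3
          exact h3 }
  have hNH : N ≤ H := fun n hn => hn.1
  have hnorm : ∀ g ∈ H, ∀ n ∈ N, g * n * g⁻¹ ∈ N := by
    rintro g hg n ⟨hn, hn1, hn2⟩
    refine ⟨mul_mem (mul_mem hg hn) (inv_mem hg), fun x => ?_, fun x hx => ?_⟩
    · have h3 : (g * n * g⁻¹) x - x = g (n (g⁻¹ x) - g⁻¹ x) := by
        rw [map_sub]
        have h4 : g (g⁻¹ x) = x := by
          rw [← LinearEquiv.mul_apply, mul_inv_cancel]; rfl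
        rw [h4]; rfl
      rw [h3]
      exact hU g hg _ (hn1 _)
    · have h3 : g⁻¹ x ∈ U := hU _ (inv_mem hg) x hx
      have h4 : (g * n * g⁻¹) x = g (n (g⁻¹ x)) := rfl
      rw [h4, hn2 _ h3, ← LinearEquiv.mul_apply, mul_inv_cancel]; rfl
  have hexp : ∀ n ∈ N, n ^ p = 1 := by
    rintro n ⟨hn, hn1, hn2⟩
    have hpow : ∀ k : ℕ, ∀ x, (n ^ k) x = x + k • (n x - x) := by
      intro k
      induction k with
      | zero => intro x; simp
      | succ k ih =>
        intro x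
        rw [pow_succ, LinearEquiv.mul_apply, ih (n x)]
        have h3 : n (n x - x) = n x - x := hn2 _ (hn1 x)
        rw [map_sub] at h3
        rw [h3, succ_nsmul]
        abel
    ext x
    rw [hpow p x]
    have : (p : ℕ) • (n x - x) = 0 := by
      rw [← Nat.cast_smul_eq_nsmul (ZMod p), ZMod.natCast_self, zero_smul]
    rw [this]; simp
  have hbot := hS.nnp N hNH hnorm hexp
  have hmem : h ∈ N := ⟨hh, h1, h2⟩
  rw [hbot] at hmem
  exact Subgroup.mem_bot.mp hmem

/-- A transvection of `H` with centre in an invariant subspace `U` and axis containing `U` is trivial. -/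
lemma Phi_trivial_of_mem_of_vanish (hS : Std H) (U : Submodule (ZMod p) V)
    (hU : ∀ h ∈ H, ∀ x ∈ U, h x ∈ U) {v : V} {φ : Dual (ZMod p) V} (hφ : φ ∈ Phi H v)
    (hv : v ∈ U) (hφU : ∀ x ∈ U, φ x = 0) : φ = 0 ∨ v = 0 := by
  have h1 : tvx φ v = 1 := by
    apply eq_one_of_unip hS U hU hφ.2
    · intro x
      rw [tvx_apply hφ.1]
      simpa using U.smul_mem _ hv
    · intro x hx
      rw [tvx_apply hφ.1, hφU x hx]
      simp
  exact (tvx_eq_one_iff hφ.1).mp h1

/-- If a transvection of `H` moves a vector of the invariant subspace `U`, its centre lies in `U`. -/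
lemma center_mem_of_invariant (U : Submodule (ZMod p) V)
    (hU : ∀ h ∈ H, ∀ x ∈ U, h x ∈ U) {v : V} {φ : Dual (ZMod p) V} (hφ : φ ∈ Phi H v)
    {x : V} (hx : x ∈ U) (hφx : φ x ≠ 0) : v ∈ U := by
  have h1 := hU _ hφ.2 x hx
  rw [tvx_apply hφ.1] at h1
  have h2 : φ x • v ∈ U := by
    have := U.sub_mem h1 hx
    simpa using this
  have h3 := U.smul_mem (φ x)⁻¹ h2
  rwa [smul_smul, inv_mul_cancel₀ hφx, one_smul] at h3

/-- Transvections of the two types relative to an invariant subspace commute. -/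
lemma apply_eq_zero_of_types (hS : Std H) (U : Submodule (ZMod p) V)
    (hU : ∀ h ∈ H, ∀ x ∈ U, h x ∈ U) {v₁ v₂ : V} {φ₁ φ₂ : Dual (ZMod p) V}
    (h1 : φ₁ ∈ Phi H v₁) (hv1 : v₁ ∈ U) (hv1' : v₁ ≠ 0)
    (h2 : φ₂ ∈ Phi H v₂) (hφ2 : ∀ x ∈ U, φ₂ x = 0) (hφ2' : φ₂ ≠ 0) : φ₁ v₂ = 0 := by
  have h3 : φ₁ v₂ • φ₂ ∈ Phi H v₁ := Phi_L1 h2 h1 (hφ2 v₁ hv1)
  rcases Phi_trivial_of_mem_of_vanish hS U hU h3 hv1 (fun x hx => by simp [hφ2 x hx]) with h4 | h4
  · rcases smul_eq_zero.mp h4 with h5 | h5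
    · exact h5
    · exact absurd h5 hφ2'
  · exact absurd h4 hv1'

/-- The fixed space `C_V(H)`. -/
def Cfix (H : Subgroup (V ≃ₗ[ZMod p] V)) : Submodule (ZMod p) V where
  carrier := {x | ∀ h ∈ H, h x = x}
  add_mem' := by
    intro a b ha hb h hh
    rw [map_add, ha h hh, hb h hh]
  zero_mem' := by intro h _; simp
  smul_mem' := by
    intro c x hx h hh
    rw [map_smul, hx h hh]

lemma mem_Cfix {x : V} : x ∈ Cfix H ↔ ∀ h ∈ H, h x = x := Iff.rfl

lemma Cfix_invariant : ∀ h ∈ H, ∀ x ∈ Cfix H, h x ∈ Cfix H := by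
  intro h hh x hx
  rw [hx h hh]
  exact hx

lemma Phi_apply_Cfix {v x : V} (hv : v ≠ 0) {φ : Dual (ZMod p) V} (hφ : φ ∈ Phi H v)
    (hx : x ∈ Cfix H) : φ x = 0 := by
  have h1 := hx _ hφ.2
  rw [tvx_apply hφ.1] at h1
  have h2 : φ x • v = 0 := by simpa using h1
  rcases smul_eq_zero.mp h2 with h3 | h3
  · exact h3
  · exact absurd h3 hv

lemma mem_Cfix_of_forall (hS : Std H) {x : V}
    (hx : ∀ v, v ≠ 0 → ∀ φ ∈ Phi H v, φ x = 0) : x ∈ Cfix H := by
  intro h hh
  refine hS.induction (P := fun g => g x = x) rfl ?_ ?_ ?_ hh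
  · intro a b _ _ ha hb
    rw [LinearEquiv.mul_apply, hb, ha]
  · intro a _ ha
    have : a⁻¹ (a x) = x := by
      rw [← LinearEquiv.mul_apply, inv_mul_cancel]; rfl
    rw [ha] at this
    exact this
  · intro v φ hφ
    by_cases hv : v = 0
    · subst hv
      rw [tvx_zero_right]; rfl
    · rw [tvx_apply hφ.1, hx v hv φ hφ]
      simp

/-- No transvection of `H` is centred in the fixed space. -/
lemma no_center_in_Cfix (hS : Std H) {z : V} {χ : Dual (ZMod p) V} (hχ : χ ∈ Phi H z)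
    (hz : z ∈ Cfix H) : χ = 0 ∨ z = 0 := by
  have h1 : tvx χ z = 1 := by
    apply eq_one_of_unip hS (Cfix H) Cfix_invariant hχ.2
    · intro x
      rw [tvx_apply hχ.1]
      simpa using (Cfix H).smul_mem _ hz
    · intro x hx
      exact hx _ hχ.2
  exact (tvx_eq_one_iff hχ.1).mp h1

/-- `v` is the centre of a non-trivial transvection of `H`. -/
def IsCen (H : Subgroup (V ≃ₗ[ZMod p] V)) (v : V) : Prop := v ≠ 0 ∧ ∃ φ ∈ Phi H v, φ ≠ 0

/-- `x` lies on all axes of transvections of `H` centred at `v`. -/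
def Perp (H : Subgroup (V ≃ₗ[ZMod p] V)) (v x : V) : Prop := ∀ φ ∈ Phi H v, φ x = 0

lemma Perp.add {v x y : V} (hx : Perp H v x) (hy : Perp H v y) : Perp H v (x + y) := by
  intro φ hφ
  rw [map_add, hx φ hφ, hy φ hφ, add_zero]

lemma Perp.smul {v x : V} (c : ZMod p) (hx : Perp H v x) : Perp H v (c • x) := by
  intro φ hφ
  rw [map_smul, hx φ hφ, smul_zero]

lemma Perp_self (v : V) : Perp H v v := fun _ hφ => hφ.1

lemma IsCen.map {g : V ≃ₗ[ZMod p] V} (hg : g ∈ H) {v : V} (hv : IsCen H v) : IsCen H (g v) := by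
  obtain ⟨hv0, φ, hφ, hφ0⟩ := hv
  refine ⟨by simpa using hv0, φ ∘ₗ (g.symm : V →ₗ[ZMod p] V), Phi_conj hg hφ, ?_⟩
  intro h0
  apply hφ0
  ext x
  have := LinearMap.congr_fun h0 (g x)
  simpa using this

lemma IsCen.smul {v : V} (hv : IsCen H v) {c : ZMod p} (hc : c ≠ 0) : IsCen H (c • v) := by
  obtain ⟨hv0, φ, hφ, hφ0⟩ := hv
  exact ⟨smul_ne_zero hc hv0, φ, Phi_smul_center c hφ, hφ0⟩

lemma IsCen.not_mem_Cfix (hS : Std H) {v : V} (hv : IsCen H v) : v ∉ Cfix H := by
  intro h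
  obtain ⟨hv0, φ, hφ, hφ0⟩ := hv
  rcases no_center_in_Cfix hS hφ h with h1 | h1
  · exact hφ0 h1
  · exact hv0 h1

/-- Adjacency of centres: the corresponding root groups do not commute. -/
def Adj (H : Subgroup (V ≃ₗ[ZMod p] V)) (u w : V) : Prop :=
  IsCen H u ∧ IsCen H w ∧ (¬ Perp H u w ∨ ¬ Perp H w u)

lemma Adj.symm {u w : V} (h : Adj H u w) : Adj H w u := ⟨h.2.1, h.1, h.2.2.symm⟩

/-- Connectedness of centres. -/
def Conn (H : Subgroup (V ≃ₗ[ZMod p] V)) (u w : V) : Prop := Relation.ReflTransGen (Adj H) u w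

lemma Conn.refl (u : V) : Conn H u u := Relation.ReflTransGen.refl

lemma Conn.trans {u v w : V} (h1 : Conn H u v) (h2 : Conn H v w) : Conn H u w :=
  Relation.ReflTransGen.trans h1 h2

lemma Conn.symm {u w : V} (h : Conn H u w) : Conn H w u := by
  unfold Conn at h ⊢
  induction h with
  | refl => exact Relation.ReflTransGen.refl
  | tail _ hbc ih => exact Relation.ReflTransGen.head hbc.symm ih

lemma Adj.conn {u w : V} (h : Adj H u w) : Conn H u w := Relation.ReflTransGen.single h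

/-- Centres in different components are mutually perpendicular. -/
lemma perp_of_not_conn {u w : V} (hu : IsCen H u) (hw : IsCen H w) (h : ¬ Conn H u w) :
    Perp H u w ∧ Perp H w u := by
  by_contra hcon
  apply h
  apply Adj.conn
  refine ⟨hu, hw, ?_⟩
  by_contra h2
  push Not at h2
  exact hcon h2

/-- `H` preserves the components of centres. -/
lemma conn_map (hS : Std H) {g : V ≃ₗ[ZMod p] V} (hg : g ∈ H) :
    ∀ w, IsCen H w → Conn H w (g w) := by
  refine hS.induction (P := fun g => ∀ w, IsCen H w → Conn H w (g w)) ?_ ?_ ?_ ?_ hg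
  · intro w _; exact Conn.refl w
  · intro a b _ hb ha' hb' w hw
    rw [LinearEquiv.mul_apply]
    exact (hb' w hw).trans (ha' (b w) (hw.map hb))
  · intro a ha ha' w hw
    have h1 : IsCen H (a⁻¹ w) := hw.map (inv_mem ha)
    have h2 := ha' _ h1
    have h3 : a (a⁻¹ w) = w := by
      rw [← LinearEquiv.mul_apply, mul_inv_cancel]; rfl
    rw [h3] at h2
    exact h2.symm
  · intro c φ hφ w hw
    by_cases hc : c = 0
    · subst hc; rw [tvx_zero_right]; exact Conn.refl w
    by_cases hφ0 : φ = 0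
    · subst hφ0; rw [tvx_zero_left]; exact Conn.refl w
    have hcc : IsCen H c := ⟨hc, φ, hφ, hφ0⟩
    by_cases hφw : φ w = 0
    · rw [tvx_apply hφ.1, hφw]; simp; exact Conn.refl w
    · have h1 : Adj H c w := ⟨hcc, hw, Or.inl (fun h => hφw (h φ hφ))⟩
      have h2 : IsCen H (tvx φ c w) := hw.map hφ.2
      have h3 : Adj H c (tvx φ c w) := by
        refine ⟨hcc, h2, Or.inl (fun h => hφw ?_)⟩
        have := h φ hφ
        rw [tvx_apply hφ.1] at this
        simpa [hφ.1] using this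
      exact h1.symm.conn.trans h3.conn

/-- The span of the component of `u`. -/
def VC (H : Subgroup (V ≃ₗ[ZMod p] V)) (u : V) : Submodule (ZMod p) V :=
  Submodule.span (ZMod p) {w | IsCen H w ∧ Conn H u w}

/-- The subgroup generated by the transvections centred in the component of `u`. -/
def HC (H : Subgroup (V ≃ₗ[ZMod p] V)) (u : V) : Subgroup (V ≃ₗ[ZMod p] V) :=
  Subgroup.closure {g | ∃ w φ, IsCen H w ∧ Conn H u w ∧ φ ∈ Phi H w ∧ g = tvx φ w}

lemma HC_le (u : V) : HC H u ≤ H := by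
  rw [HC, Subgroup.closure_le]
  rintro g ⟨w, φ, _, _, hφ, rfl⟩
  exact hφ.2

lemma VC_invariant (hS : Std H) (u : V) : ∀ h ∈ H, ∀ x ∈ VC H u, h x ∈ VC H u := by
  intro h hh x hx
  induction hx using Submodule.span_induction with
  | mem w hw =>
    exact Submodule.subset_span ⟨hw.1.map hh, hw.2.trans (conn_map hS hh w hw.1)⟩
  | zero => simp
  | add a b _ _ iha ihb => rw [map_add]; exact (VC H u).add_mem iha ihb
  | smul c a _ iha => rw [map_smul]; exact (VC H u).smul_mem c iha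

lemma VC_congr {u u' : V} (h : Conn H u u') : VC H u = VC H u' := by
  unfold VC
  congr 1
  ext w
  exact ⟨fun hw => ⟨hw.1, h.symm.trans hw.2⟩, fun hw => ⟨hw.1, h.trans hw.2⟩⟩

lemma HC_congr {u u' : V} (h : Conn H u u') : HC H u = HC H u' := by
  unfold HC
  congr 1
  ext g
  constructor
  · rintro ⟨w, φ, hw, hc, hφ, rfl⟩; exact ⟨w, φ, hw, h.symm.trans hc, hφ, rfl⟩
  · rintro ⟨w, φ, hw, hc, hφ, rfl⟩; exact ⟨w, φ, hw, h.trans hc, hφ, rfl⟩

/-- `HC u'` fixes `VC u` pointwise when `u`, `u'` are in different components. -/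
lemma HC_fix_VC {u u' : V} (hne : ¬ Conn H u u') {g : V ≃ₗ[ZMod p] V} (hg : g ∈ HC H u') :
    ∀ x ∈ VC H u, g x = x := by
  induction hg using Subgroup.closure_induction with
  | mem g hg =>
    obtain ⟨w, φ, hw, hc, hφ, rfl⟩ := hg
    intro x hx
    induction hx using Submodule.span_induction with
    | mem y hy =>
      have h1 : ¬ Conn H w y := fun h => hne (hy.2.trans (h.symm.trans hc.symm)) |> fun h' => h'
      have h2 := (perp_of_not_conn hw hy.1 h1).1 φ hφ
      rw [tvx_apply hφ.1, h2]; simp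
    | zero => simp
    | add a b _ _ iha ihb => rw [map_add, iha, ihb]
    | smul c a _ iha => rw [map_smul, iha]
  | one => intro x _; rfl
  | mul a b _ _ iha ihb =>
    intro x hx
    rw [LinearEquiv.mul_apply, ihb x hx, iha x hx]
  | inv a _ iha =>
    intro x hx
    have : a⁻¹ (a x) = x := by
      rw [← LinearEquiv.mul_apply, inv_mul_cancel]; rfl
    rw [iha x hx] at this
    exact this

end Cfsg.Agent.Helper83.McL
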