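import Cfsg.Agent.Helper83.McL2

/-!
# McLaughlin over a prime field, part 3: constant rank and symmetry inside a component
-/

set_option autoImplicit false

namespace Cfsg.Agent.Helper83.McL

open Module

variable {p : ℕ} [Fact p.Prime] {V : Type*} [AddCommGroup V] [Module (ZMod p) V] [Finite V]

instance instFiniteDualMcL : Finite (Dual (ZMod p) V) := DFunLike.finite _

variable {H : Subgroup (V ≃ₗ[ZMod p] V)}

/-- The "rank" of a vector: the number of axes of transvections of `H` centred there. -/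
noncomputable def rk (H : Subgroup (V ≃ₗ[ZMod p] V)) (v : V) : ℕ :=
  Set.ncard (Phi H v : Set (Dual (ZMod p) V))

omit [Finite V] in
lemma Phi_of_apply_eq_zero {w₁ w₂ : V} {φ ψ : Dual (ZMod p) V} (hφ : φ ∈ Phi H w₁)
    (hψ : ψ ∈ Phi H w₂) (hψ1 : ψ w₁ ≠ 0) (hφ2 : φ w₂ = 0) : φ ∈ Phi H w₂ := by
  have h1 := Phi_L1 hφ hψ hφ2
  have h2 := (Phi H w₂).smul_mem (ψ w₁)⁻¹ h1
  rwa [smul_smul, inv_mul_cancel₀ hψ1, one_smul] at h2

lemma rk_le_of_apply_ne {w₁ w₂ : V} {ψ : Dual (ZMod p) V} (hψ : ψ ∈ Phi H w₂) (hψ1 : ψ w₁ ≠ 0) :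
    rk H w₁ ≤ rk H w₂ := by
  unfold rk
  by_cases hex : ∃ φ₀ ∈ Phi H w₁, φ₀ w₂ ≠ 0
  · obtain ⟨φ₀, hφ₀, hφ₀2⟩ := hex
    let f : Dual (ZMod p) V → Dual (ZMod p) V := fun φ =>
      φ - (φ w₂ * (φ₀ w₂)⁻¹) • φ₀ + (φ w₂ * (φ₀ w₂)⁻¹) • ψ
    apply Set.ncard_le_ncard_of_injOn f
    · intro φ hφ
      have hφ' : φ ∈ Phi H w₁ := hφ
      have h1 : φ - (φ w₂ * (φ₀ w₂)⁻¹) • φ₀ ∈ Phi H w₁ :=
        (Phi H w₁).sub_mem hφ' ((Phi H w₁).smul_mem _ hφ₀)
      have h2 : (φ - (φ w₂ * (φ₀ w₂)⁻¹) • φ₀) w₂ = 0 := by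
        simp only [LinearMap.sub_apply, LinearMap.smul_apply, smul_eq_mul]
        field_simp
        ring
      have h3 := Phi_of_apply_eq_zero h1 hψ hψ1 h2
      exact (Phi H w₂).add_mem h3 ((Phi H w₂).smul_mem _ hψ)
    · intro φ hφ φ' hφ' hff
      have hφa : φ ∈ Phi H w₁ := hφ
      have hφb : φ' ∈ Phi H w₁ := hφ'
      have h1 := LinearMap.congr_fun hff w₁
      simp only [f, LinearMap.add_apply, LinearMap.sub_apply, LinearMap.smul_apply, smul_eq_mul,
        hφa.1, hφb.1, hφ₀.1, mul_zero, sub_zero, zero_add] at h1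
      have h2 : φ w₂ = φ' w₂ := by
        have h3 := mul_right_cancel₀ hψ1 h1
        have h4 := mul_right_cancel₀ (inv_ne_zero hφ₀2) h3
        exact h4
      have h5 : f φ = f φ' := hff
      simp only [f, h2] at h5
      have h6 := add_right_cancel h5
      exact sub_left_injective h6
  · push Not at hex
    apply Set.ncard_le_ncard
    · intro φ hφ
      exact Phi_of_apply_eq_zero hφ hψ hψ1 (hex φ hφ)
    · exact Set.toFinite _

lemma rk_le_map {g : V ≃ₗ[ZMod p] V} (hg : g ∈ H) (v : V) : rk H v ≤ rk H (g v) := by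
  unfold rk
  apply Set.ncard_le_ncard_of_injOn (fun φ => φ ∘ₗ (g.symm : V →ₗ[ZMod p] V))
  · intro φ hφ
    exact Phi_conj hg hφ
  · intro φ _ φ' _ hff
    ext x
    have := LinearMap.congr_fun hff (g x)
    simpa using this

lemma rk_map {g : V ≃ₗ[ZMod p] V} (hg : g ∈ H) (v : V) : rk H (g v) = rk H v := by
  apply le_antisymm
  · have h1 := rk_le_map (H := H) (inv_mem hg) (g v)
    have h2 : g⁻¹ (g v) = v := by
      rw [← LinearEquiv.mul_apply, inv_mul_cancel]; rfl
    rwa [h2] at h1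
  · exact rk_le_map hg v

/-- The rank is constant on each component of centres. -/
lemma rk_const (hS : Std H) {u w : V} (hu : IsCen H u) (hw : IsCen H w) (hc : Conn H u w) :
    rk H w = rk H u := by
  -- a centre of maximal rank in the component
  have hfin : {x | IsCen H x ∧ Conn H u x}.Finite := Set.toFinite _
  have hne : {x | IsCen H x ∧ Conn H u x}.Nonempty := ⟨u, hu, Conn.refl u⟩
  obtain ⟨m, hmS, hmax⟩ := Set.exists_max_image _ (rk H) hfin hne
  -- the set of maximal rank centres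
  set P : Set V := {x | IsCen H x ∧ Conn H u x ∧ rk H x = rk H m} with hP
  set U : Submodule (ZMod p) V := Submodule.span (ZMod p) P with hUdef
  have hUinv : ∀ h ∈ H, ∀ x ∈ U, h x ∈ U := by
    intro h hh x hx
    induction hx using Submodule.span_induction with
    | mem y hy =>
      exact Submodule.subset_span
        ⟨hy.1.map hh, hy.2.1.trans (conn_map hS hh y hy.1), by rw [rk_map hh, hy.2.2]⟩
    | zero => simp
    | add a b _ _ iha ihb => rw [map_add]; exact U.add_mem iha ihb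
    | smul c a _ iha => rw [map_smul]; exact U.smul_mem c iha
  -- centres of smaller rank are perpendicular to those of maximal rank
  have h2 : ∀ w₁ ∈ P, ∀ w₂, IsCen H w₂ → Conn H u w₂ → w₂ ∉ P → Perp H w₂ w₁ := by
    intro w₁ hw₁ w₂ hw₂ hc₂ hnot ψ hψ
    by_contra hne
    have h3 := rk_le_of_apply_ne hψ hne
    have h4 := hmax w₂ ⟨hw₂, hc₂⟩
    apply hnot
    refine ⟨hw₂, hc₂, le_antisymm h4 ?_⟩
    rw [← hw₁.2.2]; exact h3
  have h4 : ∀ w₁ ∈ P, ∀ w₂, IsCen H w₂ → Conn H u w₂ → w₂ ∉ P → Perp H w₁ w₂ := by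
    intro w₁ hw₁ w₂ hw₂ hc₂ hnot φ₁ hφ₁
    obtain ⟨hw20, ψ, hψ, hψ0⟩ := hw₂
    have hkill : ∀ x ∈ U, ψ x = 0 := by
      intro x hx
      induction hx using Submodule.span_induction with
      | mem y hy => exact h2 y hy w₂ ⟨hw20, ψ, hψ, hψ0⟩ hc₂ hnot ψ hψ
      | zero => simp
      | add a b _ _ iha ihb => rw [map_add, iha, ihb, add_zero]
      | smul c a _ iha => rw [map_smul, iha, smul_zero]
    exact apply_eq_zero_of_types hS U hUinv hφ₁ (Submodule.subset_span hw₁) hw₁.1.1 hψ hkill hψ0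
  have hmP : m ∈ P := ⟨hmS.1, hmS.2, rfl⟩
  have hall : ∀ x, Conn H m x → x ∈ P := by
    intro x hx
    unfold Conn at hx
    induction hx with
    | refl => exact hmP
    | tail hab hbc ih =>
      rename_i b c
      by_contra hcP
      have hcc : Conn H u c := hmS.2.trans ((show Conn H m b from hab).trans hbc.conn)
      have h5 := h4 b ih c hbc.2.1 hcc hcP
      have h6 := h2 b ih c hbc.2.1 hcc hcP
      rcases hbc.2.2 with h7 | h7
      · exact h7 h5
      · exact h7 h6
  have hwP := hall w (hmS.2.symm.trans hc)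
  have huP := hall u hmS.2.symm
  rw [hwP.2.2, huP.2.2]

/-- Symmetry of the perpendicularity relation inside a component. -/
lemma not_perp_symm (hS : Std H) {u w : V} (hu : IsCen H u) (hw : IsCen H w) (hc : Conn H u w)
    (h : ¬ Perp H u w) : ¬ Perp H w u := by
  intro hwu
  unfold Perp at h
  push Not at h
  obtain ⟨φ, hφ, hφw⟩ := h
  have hsub : (Phi H w : Set (Dual (ZMod p) V)) ⊂ (Phi H u : Set (Dual (ZMod p) V)) := by
    refine ⟨fun ψ hψ => Phi_of_apply_eq_zero hψ hφ hφw (hwu ψ hψ), fun hsup => ?_⟩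
    exact hφw (hsup hφ).1
  have h1 := Set.ncard_lt_ncard hsub (Set.toFinite _)
  have h2 := rk_const hS hu hw hc
  unfold rk at h2
  omega

lemma perp_symm (hS : Std H) {u w : V} (hu : IsCen H u) (hw : IsCen H w)
    (h : Perp H u w) : Perp H w u := by
  by_cases hc : Conn H u w
  · by_contra h2
    exact not_perp_symm hS hw hu hc.symm h2 h
  · exact (perp_of_not_conn hu hw hc).2

/-- Adjacent centres are opposite: both root groups move the other centre. -/
lemma Adj.not_perp (hS : Std H) {u w : V} (h : Adj H u w) : ¬ Perp H u w := by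
  rcases h.2.2 with h1 | h1
  · exact h1
  · exact not_perp_symm hS h.2.1 h.1 h.symm.conn h1

end Cfsg.Agent.Helper83.McL
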