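import Cfsg.Agent.Helper83.McL3

/-!
# McLaughlin over a prime field, part 4: every vector of a component space moved by a root
element is a centre; the fixed space meets the component spaces trivially.
-/

set_option autoImplicit false

namespace Cfsg.Agent.Helper83.McL

open Module

variable {p : ℕ} [Fact p.Prime] {V : Type*} [AddCommGroup V] [Module (ZMod p) V] [Finite V]

variable {H : Subgroup (V ≃ₗ[ZMod p] V)}

omit [Finite V] in
/-- Some centre is moved by a given non-trivial transvection of `H`. -/
lemma exists_cen_apply_ne (hS : Std H) {u : V} (hu : u ≠ 0) {φ : Dual (ZMod p) V}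
    (hφ : φ ∈ Phi H u) (hφ0 : φ ≠ 0) : ∃ c, IsCen H c ∧ φ c ≠ 0 := by
  by_contra hcon
  push Not at hcon
  set U : Submodule (ZMod p) V := Submodule.span (ZMod p) {c | IsCen H c} with hU
  have hUinv : ∀ h ∈ H, ∀ x ∈ U, h x ∈ U := by
    intro h hh x hx
    induction hx using Submodule.span_induction with
    | mem y hy => exact Submodule.subset_span (IsCen.map hh hy)
    | zero => simp
    | add a b _ _ iha ihb => rw [map_add]; exact U.add_mem iha ihb
    | smul c a _ iha => rw [map_smul]; exact U.smul_mem c iha
  have huU : u ∈ U := Submodule.subset_span ⟨hu, φ, hφ, hφ0⟩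
  have hkill : ∀ x ∈ U, φ x = 0 := by
    intro x hx
    induction hx using Submodule.span_induction with
    | mem y hy => exact hcon y hy
    | zero => simp
    | add a b _ _ iha ihb => rw [map_add, iha, ihb, add_zero]
    | smul c a _ iha => rw [map_smul, iha, smul_zero]
  rcases Phi_trivial_of_mem_of_vanish hS U hUinv hφ huU hkill with h | h
  · exact hφ0 h
  · exact hu h

omit [Finite V] in
/-- If a root element at `w₂` moves the centre `w₁`, then `w₁ + w₂` is a centre. -/
lemma isCen_add_of_not_perp {w₁ w₂ : V} (h1 : IsCen H w₁) (h : ¬ Perp H w₂ w₁) :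
    IsCen H (w₁ + w₂) := by
  unfold Perp at h
  push Not at h
  obtain ⟨ψ, hψ, hψ1⟩ := h
  have h3 : (ψ w₁)⁻¹ • ψ ∈ Phi H w₂ := (Phi H w₂).smul_mem _ hψ
  have h4 := IsCen.map h3.2 h1
  rw [tvx_apply h3.1] at h4
  convert h4 using 2
  simp [inv_mul_cancel₀ hψ1]

/-- Closure of the set `N` under good sums. -/
lemma isCen_add_of_apply_ne (hS : Std H) {u : V} (hu : IsCen H u) {φ : Dual (ZMod p) V}
    (hφ : φ ∈ Phi H u) {w₁ w₂ : V} (h1 : IsCen H w₁) (h1φ : φ w₁ ≠ 0) (h2 : IsCen H w₂)
    (h2φ : φ w₂ ≠ 0) (hs : φ (w₁ + w₂) ≠ 0) : IsCen H (w₁ + w₂) := by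
  by_cases hp21 : Perp H w₂ w₁
  swap
  · exact isCen_add_of_not_perp h1 hp21
  by_cases hp12 : Perp H w₁ w₂
  swap
  · rw [add_comm]; exact isCen_add_of_not_perp h2 hp12
  -- both perpendicular
  have hnu1 : ¬ Perp H u w₁ := fun h => h1φ (h φ hφ)
  have hadj1 : Adj H u w₁ := ⟨hu, h1, Or.inl hnu1⟩
  have hn1u : ¬ Perp H w₁ u := not_perp_symm hS hu h1 hadj1.conn hnu1
  -- w₂ + u is a centre
  have h3 : (φ w₂)⁻¹ • φ ∈ Phi H u := (Phi H u).smul_mem _ hφ
  have h4 := IsCen.map h3.2 h2
  rw [tvx_apply h3.1] at h4
  have h5 : IsCen H (w₂ + u) := by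
    convert h4 using 2
    simp [inv_mul_cancel₀ h2φ]
  -- w₁ moves w₂ + u
  have h6 : ¬ Perp H w₁ (w₂ + u) := by
    intro h
    apply hn1u
    intro ψ hψ
    have := h ψ hψ
    rw [map_add, hp12 ψ hψ, zero_add] at this
    exact this
  have h7 : IsCen H (w₂ + u + w₁) := isCen_add_of_not_perp h5 h6
  -- translate back
  have hs' : φ (w₂ + u + w₁) = φ (w₁ + w₂) := by
    simp [hφ.1, add_comm]
  have h8 : (-(φ (w₁ + w₂))⁻¹) • φ ∈ Phi H u := (Phi H u).smul_mem _ hφ
  have h9 := IsCen.map h8.2 h7
  rw [tvx_apply h8.1] at h9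
  have h10 : w₂ + u + w₁ + ((-(φ (w₁ + w₂))⁻¹) • φ) (w₂ + u + w₁) • u = w₁ + w₂ := by
    rw [LinearMap.smul_apply, hs', smul_eq_mul, neg_mul, inv_mul_cancel₀ hs, neg_smul, one_smul]
    abel
  rw [h10] at h9
  exact h9

/-- Sums of elements of `N` on which `φ` does not vanish are centres. -/
lemma isCen_list_sum (hS : Std H) (h2 : (2 : ZMod p) ≠ 0) {u : V} (hu : IsCen H u)
    {φ : Dual (ZMod p) V} (hφ : φ ∈ Phi H u) :
    ∀ (n : ℕ) (l : List V), l.length = n → (∀ w ∈ l, IsCen H w ∧ φ w ≠ 0) → φ l.sum ≠ 0 →
      IsCen H l.sum := by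
  intro n
  induction n using Nat.strong_induction_on with
  | _ n ih =>
    intro l hl hN hsum
    match l, hl, hN, hsum with
    | [], _, _, hsum => simp at hsum
    | [a], _, hN, _ => simpa using (hN a (by simp)).1
    | a :: b :: rest, hl, hN, hsum =>
      have ha := hN a (by simp)
      have hb := hN b (by simp)
      by_cases hab : φ (a + b) ≠ 0
      · have hcen := isCen_add_of_apply_ne hS hu hφ ha.1 ha.2 hb.1 hb.2 hab
        have := ih (n - 1) (by simp at hl; omega) ((a + b) :: rest) (by simp at hl ⊢; omega)
          (by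
            intro w hw
            rcases List.mem_cons.mp hw with rfl | hw
            · exact ⟨hcen, hab⟩
            · exact hN w (by simp [hw]))
          (by simpa [add_assoc] using hsum)
        simpa [add_assoc] using this
      · push Not at hab
        match rest, hl, hN, hsum with
        | [], _, _, hsum =>
          exfalso; apply hsum; simpa using hab
        | c :: rest', hl, hN, hsum =>
          have hc := hN c (by simp)
          by_cases hac : φ (a + c) ≠ 0
          · have hcen := isCen_add_of_apply_ne hS hu hφ ha.1 ha.2 hc.1 hc.2 hac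
            have hsumeq : ((a + c) :: b :: rest').sum = (a :: b :: c :: rest').sum := by
              simp only [List.sum_cons]; abel
            have := ih (n - 1) (by simp at hl; omega) ((a + c) :: b :: rest')
              (by simp at hl ⊢; omega)
              (by
                intro w hw
                rcases List.mem_cons.mp hw with rfl | hw
                · exact ⟨hcen, hac⟩
                · rcases List.mem_cons.mp hw with rfl | hw
                  · exact hb
                  · exact hN w (by simp [hw]))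
              (by rw [hsumeq]; exact hsum)
            rw [hsumeq] at this
            exact this
          · push Not at hac
            have hbc : φ (b + c) ≠ 0 := by
              rw [map_add] at hab hac ⊢
              intro h
              have h3 : (2 : ZMod p) * φ a = 0 := by linear_combination hab + hac - h
              rcases mul_eq_zero.mp h3 with h4 | h4
              · exact h2 h4
              · exact ha.2 h4
            have hcen := isCen_add_of_apply_ne hS hu hφ hb.1 hb.2 hc.1 hc.2 hbc
            have hsumeq : ((b + c) :: a :: rest').sum = (a :: b :: c :: rest').sum := by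
              simp only [List.sum_cons]; abel
            have := ih (n - 1) (by simp at hl; omega) ((b + c) :: a :: rest')
              (by simp at hl ⊢; omega)
              (by
                intro w hw
                rcases List.mem_cons.mp hw with rfl | hw
                · exact ⟨hcen, hbc⟩
                · rcases List.mem_cons.mp hw with rfl | hw
                  · exact ha
                  · exact hN w (by simp [hw]))
              (by rw [hsumeq]; exact hsum)
            rw [hsumeq] at this
            exact this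

omit [Finite V] in
lemma exists_list_of_mem_span {φ : Dual (ZMod p) V} {x : V}
    (hx : x ∈ Submodule.span (ZMod p) {w | IsCen H w ∧ φ w ≠ 0}) :
    ∃ l : List V, (∀ w ∈ l, IsCen H w ∧ φ w ≠ 0) ∧ l.sum = x := by
  induction hx using Submodule.span_induction with
  | mem w hw => exact ⟨[w], by simpa using hw, by simp⟩
  | zero => exact ⟨[], by simp, by simp⟩
  | add a b _ _ iha ihb =>
    obtain ⟨la, hla, rfl⟩ := iha
    obtain ⟨lb, hlb, rfl⟩ := ihb
    refine ⟨la ++ lb, ?_, by simp⟩
    intro w hw
    rcases List.mem_append.mp hw with h | h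
    · exact hla w h
    · exact hlb w h
  | smul c a _ iha =>
    obtain ⟨la, hla, rfl⟩ := iha
    by_cases hc : c = 0
    · exact ⟨[], by simp, by simp [hc]⟩
    · refine ⟨la.map (fun w => c • w), ?_, ?_⟩
      · intro w hw
        obtain ⟨w', hw', rfl⟩ := List.mem_map.mp hw
        have := hla w' hw'
        exact ⟨this.1.smul hc, by simpa [hc] using this.2⟩
      · rw [List.smul_sum]

/-- The component space of `u` is spanned by the centres moved by a fixed root element at `u`. -/
lemma VC_le_span (hS : Std H) {u : V} (hu : IsCen H u) {φ : Dual (ZMod p) V}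
    (hφ : φ ∈ Phi H u) (hφ0 : φ ≠ 0) :
    VC H u ≤ Submodule.span (ZMod p) {w | IsCen H w ∧ φ w ≠ 0} := by
  set U : Submodule (ZMod p) V := Submodule.span (ZMod p) {w | IsCen H w ∧ φ w ≠ 0} with hU
  -- invariance
  have hgen : ∀ c χ, χ ∈ Phi H c → ∀ x ∈ U, tvx χ c x ∈ U := by
    intro c χ hχ x hx
    induction hx using Submodule.span_induction with
    | mem w hw =>
      by_cases hc : c = 0
      · subst hc; rw [tvx_zero_right]; exact Submodule.subset_span hw
      by_cases hχw : χ w = 0
      · rw [tvx_apply hχ.1, hχw]; simp; exact Submodule.subset_span hw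
      by_cases hφc : φ c = 0
      · apply Submodule.subset_span
        refine ⟨hw.1.map hχ.2, ?_⟩
        rw [tvx_apply hχ.1, map_add, map_smul, hφc]
        simpa using hw.2
      · have hχ0 : χ ≠ 0 := fun h => hχw (by simp [h])
        rw [tvx_apply hχ.1]
        exact U.add_mem (Submodule.subset_span hw)
          (U.smul_mem _ (Submodule.subset_span ⟨⟨hc, χ, hχ, hχ0⟩, hφc⟩))
    | zero => simp
    | add a b _ _ iha ihb => rw [map_add]; exact U.add_mem iha ihb
    | smul c' a _ iha => rw [map_smul]; exact U.smul_mem c' iha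
  have hUinv : ∀ h ∈ H, ∀ x ∈ U, h x ∈ U := by
    intro h hh
    have key : ∀ x ∈ U, h x ∈ U ∧ h⁻¹ x ∈ U := by
      refine hS.induction (P := fun g => ∀ x ∈ U, g x ∈ U ∧ g⁻¹ x ∈ U) ?_ ?_ ?_ ?_ hh
      · intro x hx; exact ⟨hx, by simpa using hx⟩
      · intro a b _ _ ha hb x hx
        refine ⟨?_, ?_⟩
        · rw [LinearEquiv.mul_apply]; exact (ha _ (hb x hx).1).1
        · rw [mul_inv_rev, LinearEquiv.mul_apply]; exact (hb _ (ha x hx).2).2
      · intro a _ ha x hx
        exact ⟨(ha x hx).2, by rw [inv_inv]; exact (ha x hx).1⟩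
      · intro c χ hχ x hx
        refine ⟨hgen c χ hχ x hx, ?_⟩
        rw [tvx_inv hχ.1]
        exact hgen c (-χ) ((Phi H c).neg_mem hχ) x hx
    exact fun x hx => (key x hx).1
  -- u ∈ U
  obtain ⟨c, hc, hφc⟩ := exists_cen_apply_ne hS hu.1 hφ hφ0
  have huU : u ∈ U := by
    have h1 : c ∈ U := Submodule.subset_span ⟨hc, hφc⟩
    have h2 : tvx φ u c ∈ U := hgen u φ hφ c h1
    rw [tvx_apply hφ.1] at h2
    have h3 := U.sub_mem h2 h1
    have h4 : φ c • u ∈ U := by simpa using h3
    have h5 := U.smul_mem (φ c)⁻¹ h4
    rwa [smul_smul, inv_mul_cancel₀ hφc, one_smul] at h5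
  -- every centre connected to u lies in U
  have hall : ∀ x, Conn H u x → x ∈ U := by
    intro x hx
    unfold Conn at hx
    induction hx with
    | refl => exact huU
    | tail hab hbc ih =>
      rename_i b c'
      have h1 : ¬ Perp H c' b := hbc.symm.not_perp hS
      unfold Perp at h1
      push Not at h1
      obtain ⟨χ, hχ, hχb⟩ := h1
      exact center_mem_of_invariant U hUinv hχ ih hχb
  unfold VC
  rw [Submodule.span_le]
  intro w hw
  exact hall w hw.2

/-- **Claim A**: every vector of the component space of `u` that is moved by a root element at `u`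
is a centre. -/
theorem isCen_of_mem_VC (hS : Std H) (h2 : (2 : ZMod p) ≠ 0) {u : V} (hu : IsCen H u)
    {φ : Dual (ZMod p) V} (hφ : φ ∈ Phi H u) {x : V} (hx : x ∈ VC H u) (hφx : φ x ≠ 0) :
    IsCen H x := by
  have hφ0 : φ ≠ 0 := fun h => hφx (by simp [h])
  obtain ⟨l, hl, rfl⟩ := exists_list_of_mem_span (VC_le_span hS hu hφ hφ0 hx)
  exact isCen_list_sum hS h2 hu hφ l.length l rfl hl hφx

end Cfsg.Agent.Helper83.McL
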