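import Cfsg.Agent.Helper83.McL4

/-!
# McLaughlin over a prime field, part 5: the fixed space meets the span of the centres trivially
-/

set_option autoImplicit false

namespace Cfsg.Agent.Helper83.McL

open Module

variable {p : ℕ} [Fact p.Prime] {V : Type*} [AddCommGroup V] [Module (ZMod p) V] [Finite V]

variable {H : Subgroup (V ≃ₗ[ZMod p] V)}

omit [Finite V] in
/-- The explicit product producing a transvection centred at `z`. -/
lemma tvx_triple_product {v z : V} {ψ₀ ψ'' : Dual (ZMod p) V}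
    (h0v : ψ₀ v = 0) (h0z : ψ₀ z = 0) (h2v : ψ'' v = 0) (h2z : ψ'' z = 0) :
    tvx ψ₀ v * tvx ((-2 : ZMod p) • ψ'') (v + z) * tvx ((2 : ZMod p) • ψ'' - ψ₀) (v + (2 : ZMod p) • z)
      = tvx ((2 : ZMod p) • (ψ'' - ψ₀)) z := by
  have e1 : ((-2 : ZMod p) • ψ'') (v + z) = 0 := by simp [h2v, h2z]
  have e2 : ((2 : ZMod p) • ψ'' - ψ₀) (v + (2 : ZMod p) • z) = 0 := by simp [h0v, h0z, h2v, h2z]
  have e3 : ((2 : ZMod p) • (ψ'' - ψ₀)) z = 0 := by simp [h0z, h2z]
  ext x
  rw [LinearEquiv.mul_apply, LinearEquiv.mul_apply, tvx_apply h0v, tvx_apply e1, tvx_apply e2,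
    tvx_apply e3]
  simp only [map_add, map_smul, map_sub, LinearMap.sub_apply, LinearMap.smul_apply,
    LinearMap.add_apply, smul_eq_mul, h0v, h0z, h2v, h2z, mul_zero, add_zero, sub_zero, zero_add]
  module

/-- **Claim C**: the fixed space meets each component space trivially. -/
theorem Cfix_inf_VC (hS : Std H) (h2 : (2 : ZMod p) ≠ 0) {u : V} (hu : IsCen H u) :
    Cfix H ⊓ VC H u = ⊥ := by
  rw [eq_bot_iff]
  rintro z ⟨hzC, hzV⟩
  rw [Submodule.mem_bot]
  by_contra hz0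
  have hzC' : z ∈ Cfix H := hzC
  have hzV' : z ∈ VC H u := hzV
  obtain ⟨hu0, φ₁, hφ₁, hφ₁0⟩ := hu
  have hu : IsCen H u := ⟨hu0, φ₁, hφ₁, hφ₁0⟩
  obtain ⟨v, hv, hφ₁v⟩ := exists_cen_apply_ne hS hu0 hφ₁ hφ₁0
  -- rescale
  obtain ⟨φ, hφ, hφv⟩ : ∃ φ ∈ Phi H u, φ v = 1 :=
    ⟨(φ₁ v)⁻¹ • φ₁, (Phi H u).smul_mem _ hφ₁, by simp [inv_mul_cancel₀ hφ₁v]⟩
  have hφu : φ u = 0 := hφ.1
  have hφz : φ z = 0 := Phi_apply_Cfix hu0 hφ hzC'
  have hnuv : ¬ Perp H u v := fun h => by
    have := h φ hφ; rw [hφv] at this; exact one_ne_zero this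
  have hadj : Adj H u v := ⟨hu, hv, Or.inl hnuv⟩
  have hvV : v ∈ VC H u := Submodule.subset_span ⟨hv, hadj.conn⟩
  have hvzV : v + z ∈ VC H u := (VC H u).add_mem hvV hzV'
  have hφvz : φ (v + z) = 1 := by rw [map_add, hφv, hφz, add_zero]
  have hvz : IsCen H (v + z) := isCen_of_mem_VC hS h2 hu hφ hvzV (by rw [hφvz]; exact one_ne_zero)
  have hnuvz : ¬ Perp H u (v + z) := fun h => by
    have := h φ hφ; rw [hφvz] at this; exact one_ne_zero this
  have hadj' : Adj H u (v + z) := ⟨hu, hvz, Or.inl hnuvz⟩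
  -- ψ₀
  have h1 : ¬ Perp H v u := not_perp_symm hS hu hv hadj.conn hnuv
  unfold Perp at h1
  push Not at h1
  obtain ⟨ψ₁, hψ₁, hψ₁u⟩ := h1
  obtain ⟨ψ₀, hψ₀, hψ₀u⟩ : ∃ ψ₀ ∈ Phi H v, ψ₀ u = 1 :=
    ⟨(ψ₁ u)⁻¹ • ψ₁, (Phi H v).smul_mem _ hψ₁, by simp [inv_mul_cancel₀ hψ₁u]⟩
  have hψ₀v : ψ₀ v = 0 := hψ₀.1
  have hψ₀z : ψ₀ z = 0 := Phi_apply_Cfix hv.1 hψ₀ hzC'
  -- ψ''
  have h1' : ¬ Perp H (v + z) u := not_perp_symm hS hu hvz hadj'.conn hnuvz
  unfold Perp at h1'
  push Not at h1'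
  obtain ⟨ψ₂, hψ₂, hψ₂u⟩ := h1'
  obtain ⟨ψ'', hψ'', hψ''u⟩ : ∃ ψ'' ∈ Phi H (v + z), ψ'' u = 1 :=
    ⟨(ψ₂ u)⁻¹ • ψ₂, (Phi H (v + z)).smul_mem _ hψ₂, by simp [inv_mul_cancel₀ hψ₂u]⟩
  have hψ''z : ψ'' z = 0 := Phi_apply_Cfix hvz.1 hψ'' hzC'
  have hψ''v : ψ'' v = 0 := by
    have := hψ''.1
    rw [map_add, hψ''z, add_zero] at this
    exact this
  -- three conjugations
  have s1 := Phi_L2 hψ'' hφ
  have e1 : ψ'' - ψ'' u • φ = ψ'' - φ := by rw [hψ''u, one_smul]
  have e2 : v + z + φ (v + z) • u = v + z + u := by rw [hφvz, one_smul]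
  rw [e1, e2] at s1
  have h22 : (2 : ZMod p) * 2⁻¹ = 1 := mul_inv_cancel₀ h2
  obtain ⟨e, he1, he2⟩ : ∃ e : ZMod p, 1 + e = 2⁻¹ ∧ 2 * e = -1 :=
    ⟨-(2 : ZMod p)⁻¹, by linear_combination (-1 : ZMod p) * h22, by linear_combination (-1 : ZMod p) * h22⟩
  have s2 := Phi_L2 s1 ((Phi H v).smul_mem e hψ₀)
  have e3 : (ψ'' - φ) - (ψ'' - φ) v • (e • ψ₀) = ψ'' - φ + e • ψ₀ := by
    rw [LinearMap.sub_apply, hψ''v, hφv]
    module
  have e4 : v + z + u + (e • ψ₀) (v + z + u) • v = v + z + u + e • v := by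
    rw [LinearMap.smul_apply, map_add, map_add, hψ₀v, hψ₀z, hψ₀u]; simp
  rw [e3, e4] at s2
  have h1e : (1 + e) ≠ 0 := by rw [he1]; exact inv_ne_zero h2
  obtain ⟨d, hd⟩ : ∃ d : ZMod p, (1 + e) * d = -1 :=
    ⟨-(1 + e)⁻¹, by rw [mul_neg, mul_inv_cancel₀ h1e]⟩
  have s3 := Phi_L2 s2 ((Phi H u).smul_mem d hφ)
  have e5 : (ψ'' - φ + e • ψ₀) - (ψ'' - φ + e • ψ₀) u • (d • φ) = ψ'' + e • ψ₀ := by
    have h3 : (ψ'' - φ + e • ψ₀) u = 1 + e := by
      simp [hψ''u, hφu, hψ₀u]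
    rw [h3, smul_smul, hd, neg_one_smul]
    abel
  have e6 : v + z + u + e • v + (d • φ) (v + z + u + e • v) • u = (1 + e) • v + z := by
    have h3 : (d • φ) (v + z + u + e • v) = -1 := by
      simp only [LinearMap.smul_apply, map_add, map_smul, hφv, hφz, hφu, smul_eq_mul]
      linear_combination hd
    rw [h3]
    module
  rw [e5, e6, he1] at s3
  have s4 := Phi_smul_center (2 : ZMod p) s3
  have e7 : (2 : ZMod p) • ((2 : ZMod p)⁻¹ • v + z) = v + (2 : ZMod p) • z := by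
    rw [smul_add, smul_smul, h22, one_smul]
  rw [e7] at s4
  have s5 := (Phi H (v + (2 : ZMod p) • z)).smul_mem (2 : ZMod p) s4
  have e8 : (2 : ZMod p) • (ψ'' + e • ψ₀) = (2 : ZMod p) • ψ'' - ψ₀ := by
    rw [smul_add, smul_smul, he2, neg_one_smul, sub_eq_add_neg]
  rw [e8] at s5
  -- the product
  have hprod := tvx_triple_product (p := p) hψ₀v hψ₀z hψ''v hψ''z
  have hmem : (2 : ZMod p) • (ψ'' - ψ₀) ∈ Phi H z := by
    refine ⟨by simp [hψ₀z, hψ''z], ?_⟩
    rw [← hprod]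
    exact mul_mem (mul_mem hψ₀.2 ((Phi H (v + z)).smul_mem _ hψ'').2) s5.2
  rcases no_center_in_Cfix hS hmem hzC' with h3 | h3
  swap
  · exact hz0 h3
  have h4 : ψ'' = ψ₀ := by
    rcases smul_eq_zero.mp h3 with h5 | h5
    · exact absurd h5 h2
    · exact sub_eq_zero.mp h5
  rw [h4] at hψ''
  have h6 : ψ₀ ∈ Phi H ((-1 : ZMod p) • v) := Phi_smul_center _ hψ₀
  have h7 := Phi_add_center hψ'' h6
  have e9 : v + z + (-1 : ZMod p) • v = z := by simp
  rw [e9] at h7
  rcases no_center_in_Cfix hS h7 hzC' with h8 | h8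
  · rw [h8] at hψ₀u; simp at hψ₀u
  · exact hz0 h8

omit [Finite V] in
/-- A root element at a centre outside the component of `u` kills the component space of `u`. -/
lemma apply_VC_eq_zero {u w : V} (hw : IsCen H w) (hne : ¬ Conn H u w) {χ : Dual (ZMod p) V}
    (hχ : χ ∈ Phi H w) : ∀ x ∈ VC H u, χ x = 0 := by
  intro x hx
  induction hx using Submodule.span_induction with
  | mem y hy =>
    have h1 : ¬ Conn H w y := fun h => hne (hy.2.trans h.symm)
    exact (perp_of_not_conn hw hy.1 h1).1 χ hχ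
  | zero => simp
  | add a b _ _ iha ihb => rw [map_add, iha, ihb, add_zero]
  | smul c a _ iha => rw [map_smul, iha, smul_zero]

/-- The span of the centres outside the component of `u`. -/
def VCc (H : Subgroup (V ≃ₗ[ZMod p] V)) (u : V) : Submodule (ZMod p) V :=
  Submodule.span (ZMod p) {w | IsCen H w ∧ ¬ Conn H u w}

omit [Finite V] in
lemma apply_VCc_eq_zero {u w : V} (hw : IsCen H w) (hc : Conn H u w) {χ : Dual (ZMod p) V}
    (hχ : χ ∈ Phi H w) : ∀ x ∈ VCc H u, χ x = 0 := by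
  intro x hx
  induction hx using Submodule.span_induction with
  | mem y hy =>
    have h1 : ¬ Conn H w y := fun h => hy.2 (hc.trans h)
    exact (perp_of_not_conn hw hy.1 h1).1 χ hχ
  | zero => simp
  | add a b _ _ iha ihb => rw [map_add, iha, ihb, add_zero]
  | smul c a _ iha => rw [map_smul, iha, smul_zero]

/-- Each component space is disjoint from the sum of the fixed space and the other components. -/
theorem VC_inf_rest (hS : Std H) (h2 : (2 : ZMod p) ≠ 0) {u : V} (hu : IsCen H u) :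
    VC H u ⊓ (Cfix H ⊔ VCc H u) = ⊥ := by
  rw [eq_bot_iff]
  rintro a ⟨haV, haR⟩
  have haV' : a ∈ VC H u := haV
  obtain ⟨c, hc, b, hb, hab⟩ := Submodule.mem_sup.mp haR
  have haC : a ∈ Cfix H := by
    apply mem_Cfix_of_forall hS
    intro w hw0 χ hχ
    by_cases hχ0 : χ = 0
    · simp [hχ0]
    have hw : IsCen H w := ⟨hw0, χ, hχ, hχ0⟩
    by_cases hcw : Conn H u w
    · rw [← hab, map_add, Phi_apply_Cfix hw0 hχ hc, apply_VCc_eq_zero hw hcw hχ b hb, add_zero]
    · exact apply_VC_eq_zero hw hcw hχ a haV'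
  have : a ∈ Cfix H ⊓ VC H u := ⟨haC, haV'⟩
  rw [Cfix_inf_VC hS h2 hu] at this
  exact this

/-- The span of all centres, `[V, H]`. -/
def Comm (H : Subgroup (V ≃ₗ[ZMod p] V)) : Submodule (ZMod p) V :=
  Submodule.span (ZMod p) {c | IsCen H c}

/-- **Theorem X**: `C_V(H) ∩ [V, H] = 0`. -/
theorem Cfix_inf_Comm (hS : Std H) (h2 : (2 : ZMod p) ≠ 0) : Cfix H ⊓ Comm H = ⊥ := by
  classical
  have key : ∀ s : Finset V, (∀ u ∈ s, IsCen H u) → Cfix H ⊓ (⨆ u ∈ s, VC H u) = ⊥ := by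
    intro s
    induction s using Finset.induction_on with
    | empty => intro _; simp
    | insert u s hus ih =>
      intro hs
      have hu : IsCen H u := hs u (Finset.mem_insert_self u s)
      have ih' := ih (fun w hw => hs w (Finset.mem_insert_of_mem hw))
      by_cases hex : ∃ u' ∈ s, Conn H u u'
      · obtain ⟨u', hu's, hcu'⟩ := hex
        have : (⨆ w ∈ insert u s, VC H w) = ⨆ w ∈ s, VC H w := by
          rw [Finset.iSup_insert]
          apply sup_eq_right.mpr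
          rw [VC_congr hcu']
          exact le_biSup (fun w => VC H w) hu's
        rw [this]; exact ih'
      · push Not at hex
        rw [Finset.iSup_insert, eq_bot_iff]
        rintro x ⟨hxC, hxS⟩
        have hxC' : x ∈ Cfix H := hxC
        obtain ⟨a, ha, b, hb, hab⟩ := Submodule.mem_sup.mp hxS
        have hbc : ∀ w, IsCen H w → Conn H u w → ∀ χ ∈ Phi H w, χ b = 0 := by
          intro w hw hcw χ hχ
          have hb' : b ∈ ⨆ u' ∈ s, VC H u' := hb
          refine Submodule.iSup_induction (fun u' => ⨆ (_ : u' ∈ s), VC H u')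
            (motive := fun y => χ y = 0) hb' ?_ (by simp) ?_
          · intro u' y hy
            by_cases hu's : u' ∈ s
            · simp only [hu's, iSup_pos] at hy
              have h1 : ¬ Conn H u' w := fun h => hex u' hu's (hcw.trans h.symm)
              exact apply_VC_eq_zero hw h1 hχ y hy
            · simp only [hu's, iSup_false, Submodule.mem_bot] at hy
              rw [hy]; simp
          · intro y z hy hz
            rw [map_add, hy, hz, add_zero]
        have haC : a ∈ Cfix H := by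
          apply mem_Cfix_of_forall hS
          intro w hw0 χ hχ
          by_cases hχ0 : χ = 0
          · simp [hχ0]
          have hw : IsCen H w := ⟨hw0, χ, hχ, hχ0⟩
          by_cases hcw : Conn H u w
          · have h1 : χ x = 0 := Phi_apply_Cfix hw0 hχ hxC'
            rw [← hab, map_add, hbc w hw hcw χ hχ, add_zero] at h1
            exact h1
          · exact apply_VC_eq_zero hw hcw hχ a ha
        have ha0 : a = 0 := by
          have : a ∈ Cfix H ⊓ VC H u := ⟨haC, ha⟩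
          rw [Cfix_inf_VC hS h2 hu] at this
          exact (Submodule.mem_bot _).mp this
        rw [ha0, zero_add] at hab
        have : x ∈ Cfix H ⊓ ⨆ u' ∈ s, VC H u' := ⟨hxC', by rw [← hab]; exact hb⟩
        rw [ih'] at this
        exact this
  have _ : Fintype V := Fintype.ofFinite V
  have hle : Comm H ≤ ⨆ u ∈ (Finset.univ.filter (fun u => IsCen H u)), VC H u := by
    unfold Comm
    rw [Submodule.span_le]
    intro c hc
    have h1 : c ∈ VC H c := Submodule.subset_span ⟨hc, Conn.refl c⟩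
    have h2 : VC H c ≤ ⨆ u ∈ (Finset.univ.filter (fun u => IsCen H u)), VC H u :=
      le_biSup (fun u => VC H u) (by simpa using hc)
    exact h2 h1
  rw [eq_bot_iff]
  intro x hx
  have := key (Finset.univ.filter (fun u => IsCen H u)) (by intro u hu; simpa using hu)
  rw [← this]
  exact ⟨hx.1, hle hx.2⟩

end Cfsg.Agent.Helper83.McL
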