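import Cfsg.Agent.Helper83.McL5

/-!
# McLaughlin over a prime field, part 6: dualisation, `V = C_V(H) ⊕ [V, H]`
-/

set_option autoImplicit false

namespace Cfsg.Agent.Helper83.McL

open Module

variable {p : ℕ} [Fact p.Prime] {V : Type*} [AddCommGroup V] [Module (ZMod p) V]

/-- The contragredient action on the dual space. -/
noncomputable def dualHom :
    (V ≃ₗ[ZMod p] V) →* (Dual (ZMod p) V ≃ₗ[ZMod p] Dual (ZMod p) V) where
  toFun g := (g⁻¹ : V ≃ₗ[ZMod p] V).dualMap
  map_one' := by
    ext l x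
    simp [LinearEquiv.dualMap_apply]
  map_mul' g h := by
    ext l x
    simp [LinearEquiv.dualMap_apply, mul_inv_rev, LinearEquiv.mul_apply]

lemma dualHom_apply (g : V ≃ₗ[ZMod p] V) (l : Dual (ZMod p) V) (x : V) :
    dualHom g l x = l (g⁻¹ x) := rfl

lemma dualHom_injective :
    Function.Injective (dualHom : (V ≃ₗ[ZMod p] V) →* _) := by
  rw [injective_iff_map_eq_one]
  intro g hg
  have h1 : ∀ x, g⁻¹ x = x := by
    intro x
    have h2 : ∀ l : Dual (ZMod p) V, l (g⁻¹ x - x) = 0 := by
      intro l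
      have := LinearMap.congr_fun (LinearEquiv.congr_fun hg l) x
      rw [dualHom_apply] at this
      rw [map_sub, this]
      simp
    have := (Module.forall_dual_apply_eq_zero_iff (ZMod p) (g⁻¹ x - x)).mp h2
    exact sub_eq_zero.mp this
  have h3 : g⁻¹ = 1 := by
    ext x; exact h1 x
  exact inv_eq_one.mp h3

lemma dualHom_tvx {φ : Dual (ZMod p) V} {v : V} (h : φ v = 0) :
    dualHom (tvx φ v) = tvx (-(Dual.eval (ZMod p) V v)) φ := by
  have h' : (-(Dual.eval (ZMod p) V v)) φ = 0 := by simp [h]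
  have h'' : (-φ) v = 0 := by simp [h]
  ext l x
  rw [dualHom_apply, tvx_inv h, tvx_apply h'', tvx_apply h']
  simp [mul_comm]

variable {H : Subgroup (V ≃ₗ[ZMod p] V)}

lemma eval_ne_zero {v : V} (hv : v ≠ 0) : -(Dual.eval (ZMod p) V v) ≠ 0 := by
  intro h
  apply hv
  rw [← Module.forall_dual_apply_eq_zero_iff (ZMod p)]
  intro l
  have := LinearMap.congr_fun h l
  simpa using this

lemma Phi_dual {φ : Dual (ZMod p) V} {v : V} (hφ : φ ∈ Phi H v) :
    -(Dual.eval (ZMod p) V v) ∈ Phi (H.map dualHom) φ := by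
  refine ⟨by simp [hφ.1], ?_⟩
  rw [← dualHom_tvx hφ.1]
  exact Subgroup.mem_map_of_mem _ hφ.2

/-- The standing hypotheses pass to the contragredient group. -/
lemma Std.dual (hS : Std H) : Std (H.map (dualHom : (V ≃ₗ[ZMod p] V) →* _)) := by
  constructor
  · apply le_antisymm
    · rw [Subgroup.closure_le]
      rintro g ⟨v, φ, hφ, rfl⟩
      exact hφ.2
    · conv_lhs => rw [← hS.gen]
      rw [MonoidHom.map_closure, Subgroup.closure_le]
      rintro g' ⟨g, ⟨v, φ, hφ, rfl⟩, rfl⟩
      apply Subgroup.subset_closure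
      exact ⟨φ, -(Dual.eval (ZMod p) V v), Phi_dual hφ, dualHom_tvx hφ.1⟩
  · intro N' hN'H hnorm hexp
    let N : Subgroup (V ≃ₗ[ZMod p] V) := H ⊓ N'.comap dualHom
    have hN : N = ⊥ := by
      apply hS.nnp N inf_le_left
      · intro h hh n hn
        have hn1 : n ∈ H := hn.1
        have hn2 : dualHom n ∈ N' := hn.2
        refine Subgroup.mem_inf.mpr ⟨mul_mem (mul_mem hh hn1) (inv_mem hh), ?_⟩
        rw [Subgroup.mem_comap, map_mul, map_mul, map_inv]
        exact hnorm _ (Subgroup.mem_map_of_mem _ hh) _ hn2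
      · intro n hn
        have hn2 : dualHom n ∈ N' := hn.2
        apply dualHom_injective
        rw [map_pow, map_one]
        exact hexp _ hn2
    rw [eq_bot_iff]
    intro n' hn'
    obtain ⟨h, hh, rfl⟩ := hN'H hn'
    have : h ∈ N := Subgroup.mem_inf.mpr ⟨hh, hn'⟩
    rw [hN, Subgroup.mem_bot] at this
    rw [this, map_one]
    exact Subgroup.mem_bot.mpr rfl

lemma IsCen.mem_Comm {v : V} (hv : IsCen H v) : v ∈ Comm H :=
  Submodule.subset_span hv

lemma sub_mem_Comm (hS : Std H) {h : V ≃ₗ[ZMod p] V} (hh : h ∈ H) :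
    ∀ x, h x - x ∈ Comm H := by
  refine hS.induction (P := fun g => ∀ x, g x - x ∈ Comm H) ?_ ?_ ?_ ?_ hh
  · intro x; simp
  · intro a b _ _ ha hb x
    have : (a * b) x - x = (a (b x) - b x) + (b x - x) := by
      rw [LinearEquiv.mul_apply]; abel
    rw [this]
    exact (Comm H).add_mem (ha _) (hb _)
  · intro a _ ha x
    have h1 : a (a⁻¹ x) = x := by
      rw [← LinearEquiv.mul_apply, mul_inv_cancel]; rfl
    have h2 := ha (a⁻¹ x)
    rw [h1] at h2
    have : a⁻¹ x - x = -(x - a⁻¹ x) := by abel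
    rw [this]
    exact (Comm H).neg_mem h2
  · intro v φ hφ x
    rw [tvx_apply hφ.1]
    by_cases hv : v = 0
    · simp [hv]
    by_cases hφ0 : φ = 0
    · simp [hφ0]
    have : IsCen H v := ⟨hv, φ, hφ, hφ0⟩
    simpa using (Comm H).smul_mem (φ x) this.mem_Comm

variable [Finite V]

/-- **`V = C_V(H) + [V, H]`**, by duality from Theorem X. -/
theorem Cfix_sup_Comm (hS : Std H) (h2 : (2 : ZMod p) ≠ 0) : Cfix H ⊔ Comm H = ⊤ := by
  have hX := Cfix_inf_Comm hS.dual h2
  set H' := H.map (dualHom : (V ≃ₗ[ZMod p] V) →* _) with hH'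
  -- the annihilator of the sum is trivial
  have hann : (Cfix H ⊔ Comm H).dualAnnihilator = ⊥ := by
    rw [eq_bot_iff]
    intro l hl
    rw [Submodule.dualAnnihilator_sup_eq] at hl
    obtain ⟨hl1, hl2⟩ := hl
    have hl1' : l ∈ (Cfix H).dualAnnihilator := hl1
    have hl2' : l ∈ (Comm H).dualAnnihilator := hl2
    rw [← hX]
    refine ⟨?_, ?_⟩
    · -- l is fixed by H'
      rintro h' ⟨h, hh, rfl⟩
      ext x
      rw [dualHom_apply]
      have h3 := sub_mem_Comm hS (inv_mem hh) x
      have h4 := (Submodule.mem_dualAnnihilator l).mp hl2' _ h3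
      rw [map_sub] at h4
      exact sub_eq_zero.mp h4
    · -- l lies in the span of the axes
      set Φall : Submodule (ZMod p) (Dual (ZMod p) V) :=
        Submodule.span (ZMod p) {φ | ∃ v, v ≠ 0 ∧ φ ∈ Phi H v} with hΦ
      have h5 : Φall.dualCoannihilator = Cfix H := by
        ext x
        rw [Submodule.mem_dualCoannihilator]
        constructor
        · intro hx
          apply mem_Cfix_of_forall hS
          intro v hv φ hφ
          exact hx φ (Submodule.subset_span ⟨v, hv, hφ⟩)
        · intro hx φ hφ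
          induction hφ using Submodule.span_induction with
          | mem ψ hψ =>
            obtain ⟨v, hv, hψv⟩ := hψ
            exact Phi_apply_Cfix hv hψv hx
          | zero => simp
          | add a b _ _ iha ihb => rw [LinearMap.add_apply, iha, ihb, add_zero]
          | smul c a _ iha => rw [LinearMap.smul_apply, iha, smul_zero]
      have h6 : (Cfix H).dualAnnihilator = Φall := by
        rw [← h5]
        exact Subspace.dualCoannihilator_dualAnnihilator_eq
      rw [h6] at hl1'
      have h7 : Φall ≤ Comm H' := by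
        rw [hΦ, Submodule.span_le]
        rintro φ ⟨v, hv, hφ⟩
        by_cases hφ0 : φ = 0
        · rw [hφ0]; exact (Comm H').zero_mem
        · exact Submodule.subset_span ⟨hφ0, _, Phi_dual hφ, eval_ne_zero hv⟩
      exact h7 hl1'
  have h8 := Subspace.dualAnnihilator_dualCoannihilator_eq (W := Cfix H ⊔ Comm H)
  rw [hann, Submodule.dualCoannihilator_bot] at h8
  exact h8.symm

end Cfsg.Agent.Helper83.McL
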