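import Cfsg.Agent.Helper83.McL6

/-!
# McLaughlin over a prime field, part 7: the decomposition and the SL/Sp dichotomy of a component
-/

set_option autoImplicit false

namespace Cfsg.Agent.Helper83.McL

open Module

variable {p : ℕ} [Fact p.Prime] {V : Type*} [AddCommGroup V] [Module (ZMod p) V] [Finite V]

variable {H : Subgroup (V ≃ₗ[ZMod p] V)}

omit [Finite V] in
lemma Comm_le_sup (u : V) : Comm H ≤ VC H u ⊔ VCc H u := by
  unfold Comm
  rw [Submodule.span_le]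
  intro c hc
  by_cases h : Conn H u c
  · exact (le_sup_left : VC H u ≤ _) (Submodule.subset_span ⟨hc, h⟩)
  · exact (le_sup_right : VCc H u ≤ _) (Submodule.subset_span ⟨hc, h⟩)

/-- Each component space is complemented by the fixed space plus the other components. -/
theorem isCompl_VC (hS : Std H) (h2 : (2 : ZMod p) ≠ 0) {u : V} (hu : IsCen H u) :
    IsCompl (VC H u) (Cfix H ⊔ VCc H u) := by
  refine ⟨disjoint_iff.mpr (VC_inf_rest hS h2 hu), codisjoint_iff.mpr ?_⟩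
  rw [eq_top_iff, ← Cfix_sup_Comm hS h2]
  apply sup_le
  · exact le_sup_of_le_right le_sup_left
  · refine (Comm_le_sup u).trans ?_
    apply sup_le le_sup_left
    exact le_sup_of_le_right le_sup_right

omit [Finite V] in
/-- Root elements centred in the component of `u` kill the complement. -/
lemma Phi_kills_rest {u x : V} (hx : IsCen H x) (hc : Conn H u x) {φ : Dual (ZMod p) V}
    (hφ : φ ∈ Phi H x) : ∀ y ∈ Cfix H ⊔ VCc H u, φ y = 0 := by
  intro y hy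
  obtain ⟨c, hc', b, hb, rfl⟩ := Submodule.mem_sup.mp hy
  rw [map_add, Phi_apply_Cfix hx.1 hφ hc', apply_VCc_eq_zero hx hc hφ b hb, add_zero]

/-- Every non-zero vector of a component space is a centre of that component. -/
theorem isCen_of_mem_VC_ne_zero (hS : Std H) (h2 : (2 : ZMod p) ≠ 0) {u : V} (hu : IsCen H u)
    {x : V} (hx : x ∈ VC H u) (hx0 : x ≠ 0) : IsCen H x ∧ Conn H u x := by
  have h1 : x ∉ Cfix H := by
    intro h
    have : x ∈ Cfix H ⊓ VC H u := ⟨h, hx⟩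
    rw [Cfix_inf_VC hS h2 hu] at this
    exact hx0 ((Submodule.mem_bot _).mp this)
  have h3 : ∃ w, w ≠ 0 ∧ ∃ χ ∈ Phi H w, χ x ≠ 0 := by
    by_contra hcon
    push Not at hcon
    exact h1 (mem_Cfix_of_forall hS hcon)
  obtain ⟨w, hw0, χ, hχ, hχx⟩ := h3
  have hχ0 : χ ≠ 0 := fun h => hχx (by simp [h])
  have hw : IsCen H w := ⟨hw0, χ, hχ, hχ0⟩
  have hcw : Conn H u w := by
    by_contra h
    exact hχx (apply_VC_eq_zero hw h hχ x hx)
  have hx' : x ∈ VC H w := by rw [← VC_congr hcw]; exact hx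
  have hxc : IsCen H x := isCen_of_mem_VC hS h2 hw hχ hx' hχx
  refine ⟨hxc, hcw.trans ?_⟩
  exact (Adj.conn ⟨hw, hxc, Or.inl (fun h => hχx (h χ hχ))⟩)

/-- The axes at `x` form a line. -/
def OneDim (H : Subgroup (V ≃ₗ[ZMod p] V)) (x : V) : Prop :=
  ∃ φ ∈ Phi H x, ∀ ψ ∈ Phi H x, ∃ c : ZMod p, ψ = c • φ

omit [Finite V] in
/-- If `x` has a one-dimensional space of axes, so has every adjacent centre. -/
lemma OneDim.of_adj (hS : Std H) [Finite V] {x w : V} (hx : OneDim H x) (h : Adj H x w) :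
    OneDim H w := by
  obtain ⟨φ, hφ, hφall⟩ := hx
  have h1 : ¬ Perp H x w := h.not_perp hS
  have h2 : ¬ Perp H w x := h.symm.not_perp hS
  unfold Perp at h1 h2
  push Not at h1 h2
  obtain ⟨φ', hφ', hφ'w⟩ := h1
  obtain ⟨ψ₁, hψ₁, hψ₁x⟩ := h2
  have hφw : φ w ≠ 0 := by
    obtain ⟨c, rfl⟩ := hφall φ' hφ'
    intro h0
    apply hφ'w
    simp [h0]
  refine ⟨ψ₁, hψ₁, fun ψ hψ => ⟨ψ x * (ψ₁ x)⁻¹, ?_⟩⟩
  have h3 : ψ - (ψ x * (ψ₁ x)⁻¹) • ψ₁ ∈ Phi H w :=
    (Phi H w).sub_mem hψ ((Phi H w).smul_mem _ hψ₁)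
  have h4 : (ψ - (ψ x * (ψ₁ x)⁻¹) • ψ₁) x = 0 := by
    simp only [LinearMap.sub_apply, LinearMap.smul_apply, smul_eq_mul]
    field_simp
    ring
  have h5 : ψ - (ψ x * (ψ₁ x)⁻¹) • ψ₁ ∈ Phi H x := Phi_of_apply_eq_zero h3 hφ hφw h4
  obtain ⟨c, hc⟩ := hφall _ h5
  have h6 : c = 0 := by
    have h7 := h3.1
    rw [hc, LinearMap.smul_apply, smul_eq_mul] at h7
    rcases mul_eq_zero.mp h7 with h8 | h8
    · exact h8
    · exact absurd h8 hφw
  rw [h6, zero_smul] at hc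
  exact sub_eq_zero.mp hc

lemma OneDim.of_conn (hS : Std H) {x w : V} (hx : OneDim H x) (h : Conn H x w) : OneDim H w := by
  unfold Conn at h
  induction h with
  | refl => exact hx
  | tail _ hbc ih => exact ih.of_adj hS hbc

omit [Finite V] in
/-- A non-zero axis at `x` killing `w`, when the axes at `x` do not form a line. -/
lemma exists_axis_of_not_oneDim {x w : V} (hx : ¬ OneDim H x) {φ₁ : Dual (ZMod p) V}
    (hφ₁ : φ₁ ∈ Phi H x) (hφ₁w : φ₁ w ≠ 0) : ∃ δ ∈ Phi H x, δ ≠ 0 ∧ δ w = 0 := by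
  by_contra hcon
  push Not at hcon
  apply hx
  refine ⟨φ₁, hφ₁, fun ψ hψ => ⟨ψ w * (φ₁ w)⁻¹, ?_⟩⟩
  have h3 : ψ - (ψ w * (φ₁ w)⁻¹) • φ₁ ∈ Phi H x :=
    (Phi H x).sub_mem hψ ((Phi H x).smul_mem _ hφ₁)
  have h4 : (ψ - (ψ w * (φ₁ w)⁻¹) • φ₁) w = 0 := by
    simp only [LinearMap.sub_apply, LinearMap.smul_apply, smul_eq_mul]
    field_simp
    ring
  by_contra hne
  exact hcon _ h3 (fun h => hne (sub_eq_zero.mp h)) h4

omit [Finite V] in
/-- A module is not the union of two proper submodules. -/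
lemma exists_not_mem_two {W : Type*} [AddCommGroup W] [Module (ZMod p) W]
    (S₁ S₂ : Submodule (ZMod p) W) (h1 : ∃ a, a ∉ S₁) (h2 : ∃ b, b ∉ S₂) :
    ∃ y, y ∉ S₁ ∧ y ∉ S₂ := by
  obtain ⟨a, ha⟩ := h1
  obtain ⟨b, hb⟩ := h2
  by_cases ha2 : a ∈ S₂
  · by_cases hb1 : b ∈ S₁
    · refine ⟨a + b, fun h => ha ?_, fun h => hb ?_⟩
      · have := S₁.sub_mem h hb1; simpa using this
      · have := S₂.sub_mem h ha2; simpa using this
    · exact ⟨b, hb1, hb⟩
  · exact ⟨a, ha, ha2⟩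

/-- **The SL/Sp dichotomy**: if the axes at some centre of the component do not form a line, then
inside the component space the only vectors perpendicular to `x` are its multiples. -/
theorem sl_type (hS : Std H) (h2 : (2 : ZMod p) ≠ 0) {u : V} (hu : IsCen H u)
    (hnot : ¬ OneDim H u) {x m : V} (hx : x ∈ VC H u) (hx0 : x ≠ 0) (hm : m ∈ VC H u)
    (hperp : Perp H x m) : ∃ c : ZMod p, m = c • x := by
  by_contra hspan
  push Not at hspan
  obtain ⟨hxc, hxconn⟩ := isCen_of_mem_VC_ne_zero hS h2 hu hx hx0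
  have hxnot : ¬ OneDim H x := fun h => hnot (h.of_conn hS hxconn.symm)
  -- an opposite centre w
  obtain ⟨_, φ₀, hφ₀, hφ₀0⟩ := hxc
  have hxc : IsCen H x := ⟨hx0, φ₀, hφ₀, hφ₀0⟩
  obtain ⟨w, hw, hφ₀w⟩ := exists_cen_apply_ne hS hx0 hφ₀ hφ₀0
  have hadj : Adj H x w := ⟨hxc, hw, Or.inl (fun h => hφ₀w (h φ₀ hφ₀))⟩
  have hwconn : Conn H u w := hxconn.trans hadj.conn
  have hwV : w ∈ VC H u := Submodule.subset_span ⟨hw, hwconn⟩
  have hnwx : ¬ Perp H w x := hadj.symm.not_perp hS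
  unfold Perp at hnwx
  push Not at hnwx
  obtain ⟨ψ₁, hψ₁, hψ₁x⟩ := hnwx
  -- adjust m
  set m' : V := m - (ψ₁ m * (ψ₁ x)⁻¹) • x with hm'
  have hm'V : m' ∈ VC H u := (VC H u).sub_mem hm ((VC H u).smul_mem _ hx)
  have hm'0 : m' ≠ 0 := by
    intro h
    exact hspan (ψ₁ m * (ψ₁ x)⁻¹) (sub_eq_zero.mp h)
  have hxm' : Perp H x m' := by
    intro φ hφ
    rw [hm', map_sub, map_smul, hperp φ hφ, hφ.1]; simp
  have hψ₁m' : ψ₁ m' = 0 := by
    rw [hm', map_sub, map_smul, smul_eq_mul]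
    field_simp
    ring
  have hwm' : Perp H w m' := by
    intro ψ hψ
    have h3 : ψ - (ψ x * (ψ₁ x)⁻¹) • ψ₁ ∈ Phi H w :=
      (Phi H w).sub_mem hψ ((Phi H w).smul_mem _ hψ₁)
    have h4 : (ψ - (ψ x * (ψ₁ x)⁻¹) • ψ₁) x = 0 := by
      simp only [LinearMap.sub_apply, LinearMap.smul_apply, smul_eq_mul]
      field_simp
      ring
    have h5 := Phi_of_apply_eq_zero h3 hφ₀ hφ₀w h4
    have h6 := hxm' _ h5
    rw [LinearMap.sub_apply, LinearMap.smul_apply, hψ₁m', smul_zero, sub_zero] at h6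
    exact h6
  obtain ⟨hm'c, hm'conn⟩ := isCen_of_mem_VC_ne_zero hS h2 hu hm'V hm'0
  have hm'x : Perp H m' x := perp_symm hS hxc hm'c hxm'
  have hm'w : Perp H m' w := perp_symm hS hw hm'c hwm'
  -- δ
  obtain ⟨δ, hδx, hδ0, hδw⟩ := exists_axis_of_not_oneDim hxnot hφ₀ hφ₀w
  have hδw' : δ ∈ Phi H w := Phi_of_apply_eq_zero hδx hψ₁ hψ₁x hδw
  -- choose y
  have hcompl := isCompl_VC hS h2 hu
  have hex1 : ∃ a : VC H u, a ∉ LinearMap.ker (δ.comp (VC H u).subtype) := by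
    by_contra hcon
    push Not at hcon
    apply hδ0
    ext z
    obtain ⟨a, ha, b, hb, rfl⟩ := Submodule.mem_sup.mp
      (show z ∈ VC H u ⊔ (Cfix H ⊔ VCc H u) by rw [hcompl.sup_eq_top]; trivial)
    have h3 := hcon ⟨a, ha⟩
    rw [LinearMap.mem_ker] at h3
    have h4 : δ a = 0 := h3
    rw [map_add, h4, Phi_kills_rest hxc hxconn hδx b hb]; simp
  obtain ⟨_, χ, hχ, hχ0⟩ := hm'c
  have hm'c : IsCen H m' := ⟨hm'0, χ, hχ, hχ0⟩
  have hex2 : ∃ a : VC H u, a ∉ LinearMap.ker (χ.comp (VC H u).subtype) := by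
    by_contra hcon
    push Not at hcon
    apply hχ0
    ext z
    obtain ⟨a, ha, b, hb, rfl⟩ := Submodule.mem_sup.mp
      (show z ∈ VC H u ⊔ (Cfix H ⊔ VCc H u) by rw [hcompl.sup_eq_top]; trivial)
    have h3 := hcon ⟨a, ha⟩
    rw [LinearMap.mem_ker] at h3
    have h4 : χ a = 0 := h3
    rw [map_add, h4, Phi_kills_rest hm'c hm'conn hχ b hb]; simp
  obtain ⟨⟨y, hyV⟩, hy1, hy2⟩ := exists_not_mem_two (LinearMap.ker (δ.comp (VC H u).subtype))
    (LinearMap.ker (χ.comp (VC H u).subtype)) hex1 hex2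
  have hδy : δ y ≠ 0 := fun h => hy1 (by rw [LinearMap.mem_ker]; exact h)
  have hχy : χ y ≠ 0 := fun h => hy2 (by rw [LinearMap.mem_ker]; exact h)
  have hy0 : y ≠ 0 := fun h => hδy (by simp [h])
  obtain ⟨hyc, hyconn⟩ := isCen_of_mem_VC_ne_zero hS h2 hu hyV hy0
  -- y is not perpendicular to m'
  have hnm'y : ¬ Perp H m' y := fun h => hχy (h χ hχ)
  have hnym' : ¬ Perp H y m' := not_perp_symm hS hm'c hyc (hm'conn.symm.trans hyconn) hnm'y
  -- x, w independent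
  have hindep : ∀ a b : ZMod p, a • x + b • w = 0 → a = 0 ∧ b = 0 := by
    intro a b hab
    have h3 := congrArg φ₀ hab
    rw [map_add, map_smul, map_smul, hφ₀.1, map_zero, smul_zero, zero_add, smul_eq_mul] at h3
    have hb : b = 0 := by
      rcases mul_eq_zero.mp h3 with h | h
      · exact h
      · exact absurd h hφ₀w
    rw [hb, zero_smul, add_zero] at hab
    rcases smul_eq_zero.mp hab with h | h
    · exact ⟨h, hb⟩
    · exact absurd h hx0
  -- y is not perpendicular to any non-zero combination of x and w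
  have hnye : ∀ a b : ZMod p, ¬ (a = 0 ∧ b = 0) → ¬ Perp H y (a • x + b • w) := by
    intro a b hab
    have he0 : a • x + b • w ≠ 0 := fun h => hab (hindep a b h)
    have hδe : δ ∈ Phi H (a • x + b • w) :=
      Phi_add_center (Phi_smul_center a hδx) (Phi_smul_center b hδw')
    have hec : IsCen H (a • x + b • w) := ⟨he0, δ, hδe, hδ0⟩
    have hney : ¬ Perp H (a • x + b • w) y := fun h => hδy (h δ hδe)
    have hadj' : Adj H (a • x + b • w) y := ⟨hec, hyc, Or.inl hney⟩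
    exact not_perp_symm hS hec hyc hadj'.conn hney
  -- find β
  have hβ : ∃ β ∈ Phi H y, β m' = 0 ∧ (β x ≠ 0 ∨ β w ≠ 0) := by
    by_contra hcon
    push Not at hcon
    unfold Perp at hnym'
    push Not at hnym'
    obtain ⟨β₀, hβ₀, hβ₀m⟩ := hnym'
    have hall : ∀ β ∈ Phi H y, β x = (β m' * (β₀ m')⁻¹) * β₀ x ∧ β w = (β m' * (β₀ m')⁻¹) * β₀ w := by
      intro β hβ
      have h3 : β - (β m' * (β₀ m')⁻¹) • β₀ ∈ Phi H y :=
        (Phi H y).sub_mem hβ ((Phi H y).smul_mem _ hβ₀)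
      have h4 : (β - (β m' * (β₀ m')⁻¹) • β₀) m' = 0 := by
        simp only [LinearMap.sub_apply, LinearMap.smul_apply, smul_eq_mul]
        field_simp
        ring
      obtain ⟨h5, h6⟩ := hcon _ h3 h4
      simp only [LinearMap.sub_apply, LinearMap.smul_apply, smul_eq_mul] at h5 h6
      exact ⟨sub_eq_zero.mp h5, sub_eq_zero.mp h6⟩
    by_cases hcc : β₀ x = 0 ∧ β₀ w = 0
    · apply hnye 1 0 (by simp)
      intro β hβ
      rw [one_smul, zero_smul, add_zero, (hall β hβ).1, hcc.1, mul_zero]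
    · apply hnye (β₀ w) (-(β₀ x)) (by
        rintro ⟨h3, h4⟩
        exact hcc ⟨neg_eq_zero.mp h4, h3⟩)
      intro β hβ
      rw [map_add, map_smul, map_smul, (hall β hβ).1, (hall β hβ).2]
      simp only [smul_eq_mul]
      ring
  obtain ⟨β, hβy, hβm, hβxw⟩ := hβ
  have hβm' : β ∈ Phi H m' := Phi_of_apply_eq_zero hβy hχ hχy hβm
  rcases hβxw with h | h
  · exact h (hm'x β hβm')
  · exact h (hm'w β hβm')

end Cfsg.Agent.Helper83.McL
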