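import Cfsg.Agent.Helper83.McL1
import Cfsg.Agent.Helper5.SLn

/-!
# McLaughlin over a prime field, part 9: the special linear group is generated by transvections
-/

set_option autoImplicit false

namespace Cfsg.Agent.Helper83.McL

open Module

variable {p : ℕ} [Fact p.Prime]

/-- A subgroup of `GL(W)` containing all transvections contains `SL(W)`. -/
theorem mem_of_det_eq_one {W : Type*} [AddCommGroup W] [Module (ZMod p) W] [Finite W]
    (G : Subgroup (W ≃ₗ[ZMod p] W))
    (hG : ∀ (f : Dual (ZMod p) W) (w : W), f w = 0 → tvx f w ∈ G)
    (g : W ≃ₗ[ZMod p] W) (hdet : LinearMap.det (g : W →ₗ[ZMod p] W) = 1) : g ∈ G := by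
  classical
  set n := Module.finrank (ZMod p) W with hn
  let b : Basis (Fin n) (ZMod p) W := Module.finBasis (ZMod p) W
  -- the general claim on matrices
  have key : ∀ M : Matrix.SpecialLinearGroup (Fin n) (ZMod p),
      ∀ g : W ≃ₗ[ZMod p] W, LinearMap.toMatrix b b (g : W →ₗ[ZMod p] W) = M.1 → g ∈ G := by
    intro M
    by_cases hnt : Nontrivial (Fin n)
    · refine Cfsg.Agent.Helper5.transvection_induction
        (fun M => ∀ g : W ≃ₗ[ZMod p] W, LinearMap.toMatrix b b (g : W →ₗ[ZMod p] W) = M.1 → g ∈ G)
        ?_ ?_ M
      · intro i j hij a g hg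
        have hfw : (a • b.coord j) (b i) = 0 := by
          simp [Basis.coord_apply, hij]
        have : g = tvx (a • b.coord j) (b i) := by
          apply LinearEquiv.toLinearMap_injective
          apply (LinearMap.toMatrix b b).injective
          rw [hg]
          ext i' j'
          rw [LinearMap.toMatrix_apply]
          simp only [LinearEquiv.coe_coe]
          rw [tvx_apply hfw]
          simp only [Matrix.SpecialLinearGroup.transvection_coe, Matrix.add_apply,
            Matrix.one_apply, Matrix.single_apply, map_add, map_smul, Basis.repr_self,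
            Finsupp.coe_add, Pi.add_apply, Finsupp.single_apply, LinearMap.smul_apply,
            Basis.coord_apply, Finsupp.coe_smul, Pi.smul_apply, smul_eq_mul]
          by_cases h1 : j = j' <;> by_cases h2 : i = i' <;> by_cases h3 : i' = j' <;>
            simp [h1, h2, h3, eq_comm]
        rw [this]
        exact hG _ _ hfw
      · intro A B hA hB g hg
        have hAu : IsUnit (LinearMap.toMatrix b b (Matrix.toLin b b A.1)).det := by
          rw [LinearMap.toMatrix_toLin, A.2]; exact isUnit_one
        have hBu : IsUnit (LinearMap.toMatrix b b (Matrix.toLin b b B.1)).det := by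
          rw [LinearMap.toMatrix_toLin, B.2]; exact isUnit_one
        have hgA := hA (LinearEquiv.ofIsUnitDet hAu) (by simp)
        have hgB := hB (LinearEquiv.ofIsUnitDet hBu) (by simp)
        have : g = LinearEquiv.ofIsUnitDet hAu * LinearEquiv.ofIsUnitDet hBu := by
          apply LinearEquiv.toLinearMap_injective
          apply (LinearMap.toMatrix b b).injective
          rw [hg]
          have : ((LinearEquiv.ofIsUnitDet hAu * LinearEquiv.ofIsUnitDet hBu : W ≃ₗ[ZMod p] W) :
              W →ₗ[ZMod p] W) = (Matrix.toLin b b A.1) ∘ₗ (Matrix.toLin b b B.1) := by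
            ext x; rfl
          rw [this, LinearMap.toMatrix_comp b b b, LinearMap.toMatrix_toLin,
            LinearMap.toMatrix_toLin]
          rfl
        rw [this]
        exact mul_mem hgA hgB
    · rw [not_nontrivial_iff_subsingleton] at hnt
      intro g hg
      have hM : M.1 = 1 := by
        ext i j
        have hij : i = j := Subsingleton.elim i j
        subst hij
        have h := Matrix.det_eq_elem_of_subsingleton (M : Matrix (Fin n) (Fin n) (ZMod p)) i
        rw [M.det_coe] at h
        rw [Matrix.one_apply_eq]
        exact h.symm
      have : g = 1 := by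
        apply LinearEquiv.toLinearMap_injective
        apply (LinearMap.toMatrix b b).injective
        rw [hg, hM]
        exact (LinearMap.toMatrix_one b).symm
      rw [this]
      exact one_mem G
  exact key ⟨LinearMap.toMatrix b b (g : W →ₗ[ZMod p] W), by rw [LinearMap.det_toMatrix, hdet]⟩
    g rfl

end Cfsg.Agent.Helper83.McL
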