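import Cfsg.Agent.Helper83.McL7
import Cfsg.Agent.Helper83.McL9

/-!
# McLaughlin over a prime field, part 8: the components of special linear type
-/

set_option autoImplicit false

namespace Cfsg.Agent.Helper83.McL

open Module

variable {p : ℕ} [Fact p.Prime] {V : Type*} [AddCommGroup V] [Module (ZMod p) V] [Finite V]

variable {H : Subgroup (V ≃ₗ[ZMod p] V)}

/-- Decomposition of a vector along `VC u ⊕ (Cfix ⊔ VCc u)`. -/
lemma exists_decomp (hS : Std H) (h2 : (2 : ZMod p) ≠ 0) {u : V} (hu : IsCen H u) (m : V) :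
    ∃ a ∈ VC H u, ∃ b ∈ Cfix H ⊔ VCc H u, a + b = m := by
  have h := (isCompl_VC hS h2 hu).sup_eq_top
  have hm : m ∈ VC H u ⊔ (Cfix H ⊔ VCc H u) := by rw [h]; trivial
  exact Submodule.mem_sup.mp hm

/-- In a component of linear type, every functional killing `x` and the complement of the component
is an axis at `x`. -/
theorem mem_Phi_of_sl (hS : Std H) (h2 : (2 : ZMod p) ≠ 0) {u : V} (hu : IsCen H u)
    (hnot : ¬ OneDim H u) {x : V} (hx : x ∈ VC H u) (hx0 : x ≠ 0) {ψ : Dual (ZMod p) V}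
    (hψx : ψ x = 0) (hψR : ∀ y ∈ Cfix H ⊔ VCc H u, ψ y = 0) : ψ ∈ Phi H x := by
  rw [← Subspace.dualCoannihilator_dualAnnihilator_eq (W := Phi H x)]
  rw [Submodule.mem_dualAnnihilator]
  intro m hm
  rw [Submodule.mem_dualCoannihilator] at hm
  obtain ⟨a, ha, b, hb, rfl⟩ := exists_decomp hS h2 hu m
  obtain ⟨hxc, hxconn⟩ := isCen_of_mem_VC_ne_zero hS h2 hu hx hx0
  have hperp : Perp H x a := by
    intro φ hφ
    have h := hm φ hφ
    rw [map_add, Phi_kills_rest hxc hxconn hφ b hb, add_zero] at h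
    exact h
  obtain ⟨c, rfl⟩ := sl_type hS h2 hu hnot hx hx0 ha hperp
  rw [map_add, map_smul, hψx, hψR b hb]
  simp

omit [Finite V] in
lemma tvx_pow_p {φ : Dual (ZMod p) V} {v : V} : (tvx φ v) ^ p = 1 := by
  by_cases h : φ v = 0
  · rw [tvx_pow h]
    have : (p • φ : Dual (ZMod p) V) = 0 := by
      rw [← Nat.cast_smul_eq_nsmul (ZMod p), ZMod.natCast_self, zero_smul]
    rw [this, tvx_zero_left]
  · rw [tvx_of_ne h, one_pow]

omit [Finite V] in
/-- The determinant of the restriction of an element of `HC u` to `VC u` is `1`. -/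
theorem det_restr_eq_one {u : V}
    (ρ : ↥(HC H u) →* (↥(VC H u) ≃ₗ[ZMod p] ↥(VC H u))) (h : ↥(HC H u)) :
    LinearMap.det ((ρ h : ↥(VC H u) ≃ₗ[ZMod p] ↥(VC H u)) : ↥(VC H u) →ₗ[ZMod p] ↥(VC H u)) = 1 := by
  let d : ↥(HC H u) →* ZMod p :=
    (LinearMap.det : (↥(VC H u) →ₗ[ZMod p] ↥(VC H u)) →* ZMod p).comp
      ((LinearEquiv.automorphismGroup.toLinearMapMonoidHom
        (R := ZMod p) (M := ↥(VC H u))).comp ρ)
  have hd : ∀ h, d h = LinearMap.det
      ((ρ h : ↥(VC H u) ≃ₗ[ZMod p] ↥(VC H u)) : ↥(VC H u) →ₗ[ZMod p] ↥(VC H u)) := fun _ => rfl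
  rw [← hd]
  have hle : HC H u ≤ (MonoidHom.ker d).map (HC H u).subtype := by
    conv_lhs => rw [HC]
    rw [Subgroup.closure_le]
    rintro g ⟨w, φ, hw, hc, hφ, rfl⟩
    have hmem : tvx φ w ∈ HC H u := Subgroup.subset_closure ⟨w, φ, hw, hc, hφ, rfl⟩
    refine ⟨⟨tvx φ w, hmem⟩, ?_, rfl⟩
    rw [SetLike.mem_coe, MonoidHom.mem_ker]
    have h1 : (⟨tvx φ w, hmem⟩ : ↥(HC H u)) ^ p = 1 := by
      apply Subtype.ext
      simp only [SubmonoidClass.coe_pow, OneMemClass.coe_one]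
      exact tvx_pow_p
    have h2 : d ⟨tvx φ w, hmem⟩ ^ p = 1 := by
      rw [← map_pow, h1, map_one]
    rwa [ZMod.pow_card] at h2
  obtain ⟨h', hh', hh''⟩ := hle h.2
  have : h' = h := Subtype.ext hh''
  rw [← this]
  exact hh'

/-- **Linear type.** If the axes at `u` do not form a line, `HC u` induces exactly the special
linear group on `VC u`. -/
theorem sl_range (hS : Std H) (h2 : (2 : ZMod p) ≠ 0) {u : V} (hu : IsCen H u)
    (hnot : ¬ OneDim H u) (ρ : ↥(HC H u) →* (↥(VC H u) ≃ₗ[ZMod p] ↥(VC H u)))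
    (hρ : ∀ (h : ↥(HC H u)) (v : ↥(VC H u)),
      ((ρ h v : ↥(VC H u)) : V) = (h : V ≃ₗ[ZMod p] V) (v : V)) :
    (ρ.range : Set (↥(VC H u) ≃ₗ[ZMod p] ↥(VC H u))) =
      {f : ↥(VC H u) ≃ₗ[ZMod p] ↥(VC H u) |
        LinearMap.det (f : ↥(VC H u) →ₗ[ZMod p] ↥(VC H u)) = 1} := by
  ext f
  constructor
  · rintro ⟨h, rfl⟩
    exact det_restr_eq_one ρ h
  · intro hf
    rw [Set.mem_setOf_eq] at hf
    rw [SetLike.mem_coe]
    refine mem_of_det_eq_one ρ.range ?_ f hf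
    intro f' w hf'w
    by_cases hw0 : w = 0
    · subst hw0
      rw [tvx_zero_right]; exact one_mem _
    have hw0' : (w : V) ≠ 0 := fun h => hw0 (Subtype.ext h)
    have hcompl := isCompl_VC hS h2 hu
    set ψ : Dual (ZMod p) V := f' ∘ₗ (VC H u).projectionOnto (Cfix H ⊔ VCc H u) hcompl with hψ
    have hψW : ∀ y : ↥(VC H u), ψ (y : V) = f' y := by
      intro y
      rw [hψ, LinearMap.comp_apply, Submodule.projectionOnto_apply_left]
    have hψR : ∀ y ∈ Cfix H ⊔ VCc H u, ψ y = 0 := by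
      intro y hy
      rw [hψ, LinearMap.comp_apply, Submodule.projectionOnto_apply_of_mem_right hcompl hy, map_zero]
    have hψw : ψ (w : V) = 0 := by rw [hψW, hf'w]
    have hmem : ψ ∈ Phi H (w : V) := mem_Phi_of_sl hS h2 hu hnot w.2 hw0' hψw hψR
    obtain ⟨hwc, hwconn⟩ := isCen_of_mem_VC_ne_zero hS h2 hu w.2 hw0'
    have hgen : tvx ψ (w : V) ∈ HC H u := Subgroup.subset_closure ⟨w, ψ, hwc, hwconn, hmem, rfl⟩
    refine ⟨⟨tvx ψ (w : V), hgen⟩, ?_⟩
    ext y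
    rw [hρ, tvx_apply hψw, tvx_apply hf'w, hψW]
    simp

end Cfsg.Agent.Helper83.McL
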