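import Mathlib
import Cfsg.Prelude.Def_RootSubgroups
import Cfsg.Agent.Helper83.Special

set_option autoImplicit false

namespace Cfsg.Agent.Helper83

section Quad

variable {X : Type*} [Group X] {N : Type*} [AddCommGroup N] [DistribMulAction X N]

/-- `n` is fixed by all of `X`. -/
def Fixed (X : Type*) [Group X] {N : Type*} [AddCommGroup N] [DistribMulAction X N] (n : N) : Prop :=
  ∀ x : X, x • n = n

theorem Fixed.zero : Fixed X (0 : N) := fun x => smul_zero x

theorem Fixed.add {m n : N} (hm : Fixed X m) (hn : Fixed X n) : Fixed X (m + n) :=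
  fun x => by rw [smul_add, hm x, hn x]

theorem Fixed.neg {m : N} (hm : Fixed X m) : Fixed X (-m) :=
  fun x => by rw [smul_neg, hm x]

theorem Fixed.sub {m n : N} (hm : Fixed X m) (hn : Fixed X n) : Fixed X (m - n) :=
  fun x => by rw [smul_sub, hm x, hn x]

theorem fixed_of_sup {A B : Subgroup X} (h : A ⊔ B = ⊤) {n : N} (hA : ∀ a ∈ A, a • n = n)
    (hB : ∀ b ∈ B, b • n = n) : Fixed X n := by
  intro x
  have h1 : A ⊔ B ≤ MulAction.stabilizer X n :=
    sup_le (fun a ha => MulAction.mem_stabilizer_iff.mpr (hA a ha))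
      (fun b hb => MulAction.mem_stabilizer_iff.mpr (hB b hb))
  have : x ∈ A ⊔ B := by rw [h]; exact Subgroup.mem_top x
  exact MulAction.mem_stabilizer_iff.mp (h1 this)

/-- `A` acts quadratically on `N`. -/
def QuadOn (A : Subgroup X) (N : Type*) [AddCommGroup N] [DistribMulAction X N] : Prop :=
  ∀ a ∈ A, ∀ a' ∈ A, ∀ n : N, a' • (a • n - n) = a • n - n

theorem QuadOn.conj {A : Subgroup X} (hA : QuadOn A N) (g : X) : QuadOn (Cfsg.conjBy A g) N := by
  intro b hb b' hb' n
  rw [mem_conjBy] at hb hb'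
  have h1 := hA _ hb _ hb' (g⁻¹ • n)
  have h2 := congrArg (fun m => g • m) h1
  simp only [smul_sub, smul_smul] at h2
  have e1 : g * (g⁻¹ * b' * g * (g⁻¹ * b * g * g⁻¹)) = b' * b := by group
  have e2 : g * (g⁻¹ * b' * g * g⁻¹) = b' := by group
  have e3 : g * (g⁻¹ * b * g * g⁻¹) = b := by group
  rw [e1, e2, e3, mul_inv_cancel, one_smul] at h2
  rw [smul_sub, smul_smul]
  exact h2

theorem inv_smul_of_quad {a : X} {m : N} (hm : a • (a • m - m) = a • m - m) :
    a⁻¹ • m = m - (a • m - m) := by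
  have h1 := congrArg (fun k => a⁻¹ • k) hm
  simp only [smul_sub, inv_smul_smul] at h1
  -- h1 : a • m - m = m - a⁻¹ • m
  have : a⁻¹ • m = m - (a • m - m) := by
    rw [h1]; abel
  exact this

/-- The subgroup of `X` acting trivially on `N / C_N(X)`. -/
def quotCentralizer (X : Type*) [Group X] (N : Type*) [AddCommGroup N] [DistribMulAction X N] :
    Subgroup X where
  carrier := {x | ∀ n : N, Fixed X (x • n - n)}
  one_mem' := by
    intro n; simp only [one_smul, sub_self]; exact Fixed.zero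
  mul_mem' := by
    intro x y hx hy n
    have : (x * y) • n - n = (y • n - n) + (x • n - n) := by
      have := hy n x
      rw [mul_smul]
      rw [smul_sub] at this
      have e : x • y • n = (y • n - n) + x • n := by
        rw [← this]; abel
      rw [e]; abel
    rw [this]
    exact (hy n).add (hx n)
  inv_mem' := by
    intro x hx n
    have h1 := hx n x⁻¹
    rw [smul_sub, inv_smul_smul] at h1
    have : x⁻¹ • n - n = -(x • n - n) := by
      rw [← h1]; abel
    rw [this]
    exact (hx n).neg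

theorem mem_quotCentralizer {x : X} :
    x ∈ quotCentralizer X N ↔ ∀ n : N, Fixed X (x • n - n) := Iff.rfl

theorem quotCentralizer_conj {x : X} (hx : x ∈ quotCentralizer X N) (g : X) :
    g * x * g⁻¹ ∈ quotCentralizer X N := by
  intro n
  have h1 := hx (g⁻¹ • n)
  have h2 := h1 g
  rw [smul_sub, smul_smul, smul_smul, smul_inv_smul] at h2
  have : (g * x * g⁻¹) • n - n = x • g⁻¹ • n - g⁻¹ • n := by
    rw [← h2]
  rw [this]
  exact h1

/-- Key computation: `α n - α β α n ∈ C_N(X)` where `α = a - 1`, `β = b - 1`. -/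
theorem quad_key {A B : Subgroup X} (hsup : A ⊔ B = ⊤) (hA : QuadOn A N) (hB : QuadOn B N)
    {a b : X} (ha : a ∈ A) (hb : b ∈ B) (hc : Cfsg.conjBy A b⁻¹ = Cfsg.conjBy B a⁻¹) (n : N) :
    Fixed X ((a • n - n) - (a • (b • (a • n - n) - (a • n - n)) - (b • (a • n - n) - (a • n - n)))) := by
  set m := a • n - n with hm
  have hu : b⁻¹ * a * b ∈ Cfsg.conjBy A b⁻¹ := by
    have := conj_mem_conjBy (g := b⁻¹) ha
    rwa [inv_inv] at this
  rw [hc, mem_conjBy] at hu
  set b₁ := a⁻¹⁻¹ * (b⁻¹ * a * b) * a⁻¹ with hb₁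
  set n₂ := a • b⁻¹ • n with hn₂
  set m' := b₁ • n₂ - n₂ with hm'
  have e1 : b⁻¹ • m = a⁻¹ • m' := by
    simp only [hm', hn₂, hb₁, hm, smul_sub, smul_smul]
    congr 1
    · congr 1; group
    · congr 1; group
  have e2 : b⁻¹ • m = m - (b • m - m) := inv_smul_of_quad (hB b hb b hb m)
  have e3 : a⁻¹ • m' = m' - (a • m' - m') := inv_smul_of_quad (hA a ha a ha m')
  have E : m - (b • m - m) = m' - (a • m' - m') := e2.symm.trans (e1.trans e3)
  have e4 : m + (a • m' - m') = m' + (b • m - m) := by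
    have : a • m' - m' = m' - (m - (b • m - m)) := by rw [E]; abel
    rw [this]; abel
  have hfix : Fixed X (m + (a • m' - m')) := by
    apply fixed_of_sup hsup
    · intro a'' ha''
      rw [smul_add, hA a ha a'' ha'' n, hA a ha a'' ha'' m']
    · intro b'' hb''
      rw [e4, smul_add, hB b₁ hu b'' hb'' n₂, hB b hb b'' hb'' m]
  have h5 := hfix a
  rw [e4, smul_add] at h5
  have h6 : a • m' - m' = -(a • (b • m - m) - (b • m - m)) := by
    have : a • m' = m' + (b • m - m) - a • (b • m - m) := by rw [← h5]; abel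
    rw [this]; abel
  have h7 : m - (a • (b • m - m) - (b • m - m)) = m + (a • m' - m') := by
    rw [h6]; abel
  rw [h7]
  exact hfix

theorem end_sub_apply (f g : AddMonoid.End N) (n : N) : (f - g) n = f n - g n := rfl
theorem end_add_apply (f g : AddMonoid.End N) (n : N) : (f + g) n = f n + g n := rfl
theorem end_mul_apply (f g : AddMonoid.End N) (n : N) : (f * g) n = f (g n) := rfl
theorem end_one_apply (n : N) : (1 : AddMonoid.End N) n = n := rfl
theorem end_zero_apply (n : N) : (0 : AddMonoid.End N) n = 0 := rfl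
theorem end_rho_apply (x : X) (n : N) : DistribMulAction.toAddMonoidEnd X N x n = x • n := rfl

/-- `u = b⁻¹ a b` and `v = a⁻¹ b⁻¹ a` act in the same way modulo `C_N(X)`. -/
theorem quad_uv {A B : Subgroup X} (hsup : A ⊔ B = ⊤) (hA : QuadOn A N) (hB : QuadOn B N)
    {a b : X} (ha : a ∈ A) (hb : b ∈ B) (hc : Cfsg.conjBy A b⁻¹ = Cfsg.conjBy B a⁻¹) (n : N) :
    Fixed X ((b⁻¹ * a * b) • n - (a⁻¹ * b⁻¹ * a) • n) := by
  set ρ := DistribMulAction.toAddMonoidEnd X N with hρ
  set α : AddMonoid.End N := ρ a - 1 with hα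
  set β : AddMonoid.End N := ρ b - 1 with hβ
  have hαα : α * α = 0 := by
    ext k
    simp only [hα, hρ, end_sub_apply, end_mul_apply, end_one_apply, end_rho_apply, end_zero_apply]
    rw [hA a ha a ha k, sub_self]
  have hββ : β * β = 0 := by
    ext k
    simp only [hβ, hρ, end_sub_apply, end_mul_apply, end_one_apply, end_rho_apply, end_zero_apply]
    rw [hB b hb b hb k, sub_self]
  have ra : ρ a = 1 + α := by rw [hα]; abel
  have rb : ρ b = 1 + β := by rw [hβ]; abel
  have rai : ρ a⁻¹ = 1 - α := by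
    have h1 : ρ a⁻¹ * ρ a = 1 := by rw [← map_mul, inv_mul_cancel, map_one]
    have h2 : (1 + α) * (1 - α) = 1 := by
      have : (1 + α) * (1 - α) = 1 - α * α := by noncomm_ring
      rw [this, hαα, sub_zero]
    calc ρ a⁻¹ = ρ a⁻¹ * ((1 + α) * (1 - α)) := by rw [h2, mul_one]
      _ = (ρ a⁻¹ * ρ a) * (1 - α) := by rw [ra, mul_assoc]
      _ = 1 - α := by rw [h1, one_mul]
  have rbi : ρ b⁻¹ = 1 - β := by
    have h1 : ρ b⁻¹ * ρ b = 1 := by rw [← map_mul, inv_mul_cancel, map_one]
    have h2 : (1 + β) * (1 - β) = 1 := by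
      have : (1 + β) * (1 - β) = 1 - β * β := by noncomm_ring
      rw [this, hββ, sub_zero]
    calc ρ b⁻¹ = ρ b⁻¹ * ((1 + β) * (1 - β)) := by rw [h2, mul_one]
      _ = (ρ b⁻¹ * ρ b) * (1 - β) := by rw [rb, mul_assoc]
      _ = 1 - β := by rw [h1, one_mul]
  have key : ρ (b⁻¹ * a * b) - ρ (a⁻¹ * b⁻¹ * a) = (α - α * β * α) + (β - β * α * β) := by
    rw [map_mul, map_mul, map_mul, map_mul, ra, rb, rai, rbi]
    have : (1 - β) * (1 + α) * (1 + β) - (1 - α) * (1 - β) * (1 + α)
        = (α - α * β * α) + (β - β * α * β) - β * β + α * α := by noncomm_ring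
    rw [this, hαα, hββ, sub_zero, add_zero]
  have h1 := quad_key hsup hA hB ha hb hc n
  have h2 := quad_key (by rwa [sup_comm]) hB hA hb ha hc.symm n
  have h3 := congrArg (fun f : AddMonoid.End N => f n) key
  simp only [hα, hβ, hρ, end_sub_apply, end_mul_apply, end_one_apply, end_rho_apply,
    end_add_apply] at h3
  rw [h3]
  exact h1.add h2

instance quotCentralizer_normal : (quotCentralizer X N).Normal :=
  ⟨fun _ hx g => quotCentralizer_conj hx g⟩

/-- If `X = K A` with `K` acting trivially modulo `C_N(X)` and `A`, `B` quadratic, then `B` acts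
trivially modulo `C_N(X)`. -/
theorem le_quotCentralizer_of_sup {A B : Subgroup X} (hsup : A ⊔ B = ⊤) (hA : QuadOn A N)
    (hB : QuadOn B N) (hK : (⊤ : Subgroup X) ≤ quotCentralizer X N ⊔ A) :
    B ≤ quotCentralizer X N := by
  intro b hb n
  have hbK : b ∈ ((quotCentralizer X N ⊔ A : Subgroup X) : Set X) := hK (Subgroup.mem_top b)
  rw [Subgroup.normal_mul, Set.mem_mul] at hbK
  obtain ⟨k, hk, a₁, ha₁, rfl⟩ := hbK
  have e : (k * a₁) • n - n = (k • (a₁ • n) - a₁ • n) + (a₁ • n - n) := by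
    rw [mul_smul]; abel
  apply fixed_of_sup hsup
  · intro a'' ha''
    rw [e, smul_add, hk (a₁ • n) a'', hA a₁ ha₁ a'' ha'' n]
  · intro b'' hb''
    exact hB _ hb b'' hb'' n

/-- A rank one group acting on `N` with `A` quadratic and `X` not quadratic is special. -/
theorem special_of_quadratic {A B : Subgroup X} (h : Cfsg.IsRankOneGroup X A B)
    (hA : QuadOn A N) (hX : ∃ x y : X, ∃ n : N, y • (x • n - n) ≠ x • n - n) :
    Cfsg.IsSpecialRankOnePair A B := by
  have hr := h.2
  have hsup := h.1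
  have hsup' : B ⊔ A = ⊤ := by rwa [sup_comm]
  have hB : QuadOn B N := by
    obtain ⟨x, _, hx⟩ := rankOne_B_mem_unipotent hr
    rw [hx]; exact hA.conj x
  have hKtop : ¬ (⊤ : Subgroup X) ≤ quotCentralizer X N := by
    intro hK
    obtain ⟨x, y, n, hne⟩ := hX
    exact hne (hK (Subgroup.mem_top x) n y)
  refine ⟨hr, ?_⟩
  intro a ha ha1 b hb hb1 hc
  -- the central case
  have central_case : quotCentralizer X N ≤ Subgroup.centralizer ((⊤ : Subgroup X) : Set X) →
      b⁻¹ * a * b = a⁻¹ * b⁻¹ * a := by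
    intro hcen
    set u := b⁻¹ * a * b with hu
    set v := a⁻¹ * b⁻¹ * a with hv
    have hwK : v⁻¹ * u ∈ quotCentralizer X N := by
      intro n
      have h1 := quad_uv hsup hA hB ha hb hc n
      have h2 := h1 v⁻¹
      have : (v⁻¹ * u) • n - n = u • n - v • n := by
        rw [← h2, smul_sub, smul_smul, smul_smul, inv_mul_cancel, one_smul]
      rw [this]; exact h1
    have hwc := hcen hwK
    rw [Subgroup.mem_centralizer_iff] at hwc
    have huC : u ∈ Cfsg.conjBy A b⁻¹ := by
      have := conj_mem_conjBy (g := b⁻¹) ha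
      rwa [inv_inv] at this
    have hvC : v ∈ Cfsg.conjBy A b⁻¹ := by
      rw [hc]
      have := conj_mem_conjBy (g := a⁻¹) (B.inv_mem hb)
      rwa [inv_inv] at this
    have hwC : v⁻¹ * u ∈ Cfsg.conjBy A b⁻¹ := Subgroup.mul_mem _ (Subgroup.inv_mem _ hvC) huC
    rw [mem_conjBy, inv_inv] at hwC
    have hwA : v⁻¹ * u ∈ A := by
      have h1 := hwc b (Subgroup.mem_top b)
      have : b * (v⁻¹ * u) * b⁻¹ = v⁻¹ * u := by rw [h1]; group
      rwa [this] at hwC
    have hwN : v⁻¹ * u ∈ Subgroup.normalizer (B : Set X) := by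
      rw [Subgroup.mem_normalizer_iff]
      intro g
      have h1 := hwc g (Subgroup.mem_top g)
      have : v⁻¹ * u * g * (v⁻¹ * u)⁻¹ = g := by rw [← h1]; group
      rw [this]
    have hw1 : v⁻¹ * u ∈ A ⊓ Subgroup.normalizer (B : Set X) := ⟨hwA, hwN⟩
    rw [rankOne_inf_normalizer hr] at hw1
    have hw1' : v⁻¹ * u = 1 := hw1
    calc u = v * (v⁻¹ * u) := by group
      _ = v := by rw [hw1', mul_one]
  have hKle : quotCentralizer X N ≤ A ⊔ B := by rw [hsup]; exact le_top
  have hKle' : quotCentralizer X N ≤ B ⊔ A := by rw [hsup']; exact le_top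
  have hnorm : ∀ x ∈ A ⊔ B, ∀ n ∈ quotCentralizer X N, x * n * x⁻¹ ∈ quotCentralizer X N :=
    fun x _ n hn => quotCentralizer_conj hn x
  have hnorm' : ∀ x ∈ B ⊔ A, ∀ n ∈ quotCentralizer X N, x * n * x⁻¹ ∈ quotCentralizer X N :=
    fun x _ n hn => quotCentralizer_conj hn x
  rcases rankOne_dichotomy hr hKle hnorm with h1 | h1
  · rcases rankOne_dichotomy (Cfsg.RankOnePair_symm hr) hKle' hnorm' with h2 | h2
    · exfalso
      rw [hsup] at h1
      rw [hsup'] at h2
      have hBK := le_quotCentralizer_of_sup hsup hA hB h1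
      have hAK := le_quotCentralizer_of_sup hsup' hB hA h2
      apply hKtop
      rw [← hsup]
      exact sup_le hAK hBK
    · rw [hsup'] at h2
      exact central_case h2
  · rw [hsup] at h1
    exact central_case h1

end Quad

end Cfsg.Agent.Helper83
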