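import Mathlib
import Cfsg.Agent.Helper83.RegUnip2

/-!
# Regular unipotent generation of `SL_n` (helper83): the explicit matrices

Size `m+3`, indices `0 .. m+2`.  `UWm` = `1 + E_{1,2} + ... + E_{m+1,m+2}`,
`Um a c = UWm + a E_{0,1} + c E_{m+1,m+2}`, `Vm = UWm + E_{m+2,0}`,
`hm a r` the monomial matrix conjugating `Um a (r-1)` to `Vm`.
-/

set_option autoImplicit false
set_option linter.unusedSimpArgs false
set_option linter.unusedVariables false

namespace Cfsg.Agent.Helper83.RegUnip

open Matrix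

section
variable {F : Type*} [Field F] (m : ℕ)

def UWm : Matrix (Fin (m + 3)) (Fin (m + 3)) F :=
  Matrix.of fun i j => if i.val = j.val then 1 else if 1 ≤ i.val ∧ j.val = i.val + 1 then 1 else 0

theorem UWm_det : (UWm m : Matrix (Fin (m + 3)) (Fin (m + 3)) F).det = 1 := by
  rw [Matrix.det_of_upperTriangular]
  · simp [UWm]
  · intro i j hij
    have hij' : j.val < i.val := hij
    simp only [UWm, Matrix.of_apply]
    rw [if_neg (by omega), if_neg (by omega)]

def Um (a c : F) : Matrix (Fin (m + 3)) (Fin (m + 3)) F :=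
  UWm m + Matrix.single (⟨0, by omega⟩ : Fin (m + 3)) ⟨1, by omega⟩ a +
    Matrix.single (⟨m + 1, by omega⟩ : Fin (m + 3)) ⟨m + 2, by omega⟩ c

def Vm : Matrix (Fin (m + 3)) (Fin (m + 3)) F :=
  UWm m + Matrix.single (⟨m + 2, by omega⟩ : Fin (m + 3)) ⟨0, by omega⟩ 1

theorem Um_eq (a c : F) :
    Um m a c = (1 + Matrix.single (⟨m + 1, by omega⟩ : Fin (m + 3)) ⟨m + 2, by omega⟩ c) * UWm m *
      (1 + Matrix.single (⟨0, by omega⟩ : Fin (m + 3)) ⟨1, by omega⟩ a) := by
  rw [add_mul, one_mul, mul_add, mul_one, add_mul]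
  ext x y
  have hx := x.isLt
  have hy := y.isLt
  simp only [Um, Matrix.add_apply, mul_single_apply', single_mul_apply', Matrix.single_apply,
    UWm, Matrix.of_apply, Fin.ext_iff, and_false, false_and, and_true, true_and, if_false, if_true]
  split_ifs <;> first | (exfalso; omega) | ring1 | (exfalso; tauto)

theorem Vm_eq :
    (Vm m : Matrix (Fin (m + 3)) (Fin (m + 3)) F) =
      (1 + Matrix.single (⟨m + 2, by omega⟩ : Fin (m + 3)) ⟨0, by omega⟩ 1) * UWm m := by
  rw [add_mul, one_mul]
  ext x y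
  have hx := x.isLt
  have hy := y.isLt
  simp only [Vm, Matrix.add_apply, single_mul_apply', Matrix.single_apply,
    UWm, Matrix.of_apply, Fin.ext_iff, and_false, false_and, and_true, true_and, if_false, if_true]
  split_ifs <;> first | (exfalso; omega) | ring1 | (exfalso; tauto)

/-- (I3') `UW` commutes with `E_{0,L}(t)`. -/
theorem UWm_comm (t : F) :
    UWm m * (1 + Matrix.single (⟨0, by omega⟩ : Fin (m + 3)) ⟨m + 2, by omega⟩ t) =
      (1 + Matrix.single (⟨0, by omega⟩ : Fin (m + 3)) ⟨m + 2, by omega⟩ t) * UWm m := by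
  rw [mul_add, mul_one, add_mul, one_mul]
  congr 1
  ext x y
  have hx := x.isLt
  have hy := y.isLt
  simp only [mul_single_apply', single_mul_apply', UWm, Matrix.of_apply, Fin.ext_iff, and_false, false_and, and_true, true_and, if_false, if_true]
  split_ifs <;> first | (exfalso; omega) | ring1 | (exfalso; tauto)

/-- (I4) chain down. -/
theorem UWm_down (j : ℕ) (hj : 1 ≤ j) (hj2 : j + 1 < m + 3) (t : F) :
    UWm m * (1 + Matrix.single (⟨j + 1, hj2⟩ : Fin (m + 3)) ⟨0, by omega⟩ t) =
      (1 + Matrix.single (⟨j + 1, hj2⟩ : Fin (m + 3)) ⟨0, by omega⟩ t) *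
        (1 + Matrix.single (⟨j, by omega⟩ : Fin (m + 3)) ⟨0, by omega⟩ t) * UWm m := by
  rw [mul_add, mul_one, add_mul, one_mul, mul_add, mul_one,
    Matrix.single_mul_single_of_ne _ _ _ _ (by simp only [ne_eq, Fin.ext_iff]; omega), add_zero,
    add_mul, add_mul, one_mul, add_assoc]
  congr 1
  ext x y
  have hx := x.isLt
  have hy := y.isLt
  simp only [Matrix.add_apply, mul_single_apply', single_mul_apply', UWm, Matrix.of_apply,
    Fin.ext_iff]
  split_ifs <;> first | (exfalso; omega) | ring1 | (exfalso; tauto)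

/-- (I8) chain up. -/
theorem UWm_up (k : ℕ) (hk : 1 ≤ k) (hk2 : k + 1 < m + 3) (t : F) :
    (1 + Matrix.single (⟨0, by omega⟩ : Fin (m + 3)) ⟨k, by omega⟩ t) * UWm m =
      UWm m * ((1 + Matrix.single (⟨0, by omega⟩ : Fin (m + 3)) ⟨k, by omega⟩ t) *
        (1 + Matrix.single (⟨0, by omega⟩ : Fin (m + 3)) ⟨k + 1, hk2⟩ t)) := by
  rw [add_mul, one_mul, mul_add, mul_one, add_mul, one_mul,
    Matrix.single_mul_single_of_ne _ _ _ _ (by simp only [ne_eq, Fin.ext_iff]; omega), add_zero,
    mul_add, mul_add, mul_one, add_assoc]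
  congr 1
  ext x y
  have hx := x.isLt
  have hy := y.isLt
  simp only [Matrix.add_apply, mul_single_apply', single_mul_apply', UWm, Matrix.of_apply,
    Fin.ext_iff]
  split_ifs <;> first | (exfalso; omega) | ring1 | (exfalso; tauto)

/-- (I6) -/
theorem Um_comm1 (a c : F) :
    Um m a c * (1 + Matrix.single (⟨1, by omega⟩ : Fin (m + 3)) ⟨m + 2, by omega⟩ 1) =
      (1 + Matrix.single (⟨0, by omega⟩ : Fin (m + 3)) ⟨m + 2, by omega⟩ a) *
        (1 + Matrix.single (⟨1, by omega⟩ : Fin (m + 3)) ⟨m + 2, by omega⟩ 1) * Um m a c := by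
  rw [mul_add, mul_one, add_mul, one_mul, mul_add, mul_one,
    Matrix.single_mul_single_of_ne _ _ _ _ (by simp only [ne_eq, Fin.ext_iff]; omega), add_zero,
    add_mul, add_mul, one_mul, add_assoc]
  congr 1
  ext x y
  have hx := x.isLt
  have hy := y.isLt
  simp only [Um, Matrix.add_apply, mul_single_apply', single_mul_apply', Matrix.single_apply,
    UWm, Matrix.of_apply, Fin.ext_iff, and_false, false_and, and_true, true_and, if_false, if_true]
  split_ifs <;> first | (exfalso; omega) | ring1 | (exfalso; tauto)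

/-- (I1) -/
theorem Um_conj1 (a c d : F) (hd : d * (c + 1) = 1) :
    (1 + Matrix.single (⟨0, by omega⟩ : Fin (m + 3)) ⟨m + 1, by omega⟩ d) * Um m a c =
      Um m a c * (1 + Matrix.single (⟨0, by omega⟩ : Fin (m + 3)) ⟨m + 2, by omega⟩ 1) *
        (1 + Matrix.single (⟨0, by omega⟩ : Fin (m + 3)) ⟨m + 1, by omega⟩ d) := by
  rw [add_mul, one_mul, mul_assoc, mul_add, mul_one, add_mul, one_mul,
    Matrix.single_mul_single_of_ne _ _ _ _ (by simp only [ne_eq, Fin.ext_iff]; omega), add_zero,
    mul_add, mul_add, mul_one, add_assoc]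
  congr 1
  ext x y
  have hx := x.isLt
  have hy := y.isLt
  simp only [Um, Matrix.add_apply, mul_single_apply', single_mul_apply', Matrix.single_apply,
    UWm, Matrix.of_apply, Fin.ext_iff, and_false, false_and, and_true, true_and, if_false, if_true]
  split_ifs <;> first | (exfalso; omega) | ring1 | (linear_combination hd) | (exfalso; tauto)

end

end Cfsg.Agent.Helper83.RegUnip
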