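import Mathlib
import Cfsg.Agent.Helper83.RegUnip3

/-!
# Regular unipotent generation of `SL_n` (helper83): the monomial conjugator, regularity
-/

set_option autoImplicit false
set_option linter.unusedSimpArgs false
set_option linter.unusedVariables false

namespace Cfsg.Agent.Helper83.RegUnip

open Matrix

section
variable {F : Type*} [Field F] (m : ℕ)

/-- monomial matrix: `e_0 ↦ a⁻¹ e_1`, `e_j ↦ e_{j+1}`, `e_{m+2} ↦ r e_0`. -/
def hm (a r : F) : Matrix (Fin (m + 3)) (Fin (m + 3)) F :=
  Matrix.of fun i j =>
    if i.val = j.val + 1 then (if j.val = 0 then a⁻¹ else 1)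
    else if i.val = 0 ∧ j.val = m + 2 then r else 0

theorem hm_mul_apply (a r : F) (M : Matrix (Fin (m + 3)) (Fin (m + 3)) F) (x y : Fin (m + 3)) :
    (hm m a r * M) x y =
      if hx0 : x.val = 0 then r * M ⟨m + 2, by omega⟩ y
      else (if x.val = 1 then a⁻¹ else 1) * M ⟨x.val - 1, by omega⟩ y := by
  have hx := x.isLt
  rw [Matrix.mul_apply]
  by_cases hx0 : x.val = 0
  · rw [dif_pos hx0, Finset.sum_eq_single (⟨m + 2, by omega⟩ : Fin (m + 3))]
    · simp only [hm, Matrix.of_apply]
      rw [if_neg (by omega), if_pos ⟨hx0, trivial⟩]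
    · intro z _ hz
      have hz' : z.val ≠ m + 2 := fun h => hz (Fin.ext h)
      simp only [hm, Matrix.of_apply]
      rw [if_neg (by omega), if_neg (by tauto), zero_mul]
    · intro h; exact absurd (Finset.mem_univ _) h
  · rw [dif_neg hx0, Finset.sum_eq_single (⟨x.val - 1, by omega⟩ : Fin (m + 3))]
    · simp only [hm, Matrix.of_apply]
      rw [if_pos (by omega)]
      by_cases hx1 : x.val = 1
      · rw [if_pos (by omega), if_pos hx1]
      · rw [if_neg (by omega), if_neg hx1]
    · intro z _ hz
      have hz' : z.val ≠ x.val - 1 := fun h => hz (Fin.ext h)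
      simp only [hm, Matrix.of_apply]
      rw [if_neg (by omega), if_neg (by tauto), zero_mul]
    · intro h; exact absurd (Finset.mem_univ _) h

theorem mul_hm_apply (a r : F) (M : Matrix (Fin (m + 3)) (Fin (m + 3)) F) (x y : Fin (m + 3)) :
    (M * hm m a r) x y =
      if hyL : y.val = m + 2 then M x ⟨0, by omega⟩ * r
      else M x ⟨y.val + 1, by have := y.isLt; omega⟩ * (if y.val = 0 then a⁻¹ else 1) := by
  have hy := y.isLt
  rw [Matrix.mul_apply]
  by_cases hyL : y.val = m + 2
  · rw [dif_pos hyL, Finset.sum_eq_single (⟨0, by omega⟩ : Fin (m + 3))]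
    · simp only [hm, Matrix.of_apply]
      rw [if_neg (by omega), if_pos ⟨trivial, hyL⟩]
    · intro z _ hz
      have hz' : z.val ≠ 0 := fun h => hz (Fin.ext h)
      simp only [hm, Matrix.of_apply]
      rw [if_neg (by omega), if_neg (by tauto), mul_zero]
    · intro h; exact absurd (Finset.mem_univ _) h
  · rw [dif_neg hyL, Finset.sum_eq_single (⟨y.val + 1, by omega⟩ : Fin (m + 3))]
    · simp only [hm, Matrix.of_apply]
      rw [if_pos trivial]
    · intro z _ hz
      have hz' : z.val ≠ y.val + 1 := fun h => hz (Fin.ext h)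
      simp only [hm, Matrix.of_apply]
      rw [if_neg hz', if_neg (by tauto), mul_zero]
    · intro h; exact absurd (Finset.mem_univ _) h

/-- (I2) the monomial matrix conjugates `Um` to `Vm`. -/
theorem hm_conj (a r : F) (ha : a ≠ 0) :
    hm m a r * Um m a (r - 1) = Vm m * hm m a r := by
  ext x y
  have hx := x.isLt
  have hy := y.isLt
  rw [hm_mul_apply, mul_hm_apply]
  by_cases hx0 : x.val = 0 <;> by_cases hyL : y.val = m + 2
  · rw [dif_pos hx0, dif_pos hyL]
    simp only [Um, Vm, UWm, Matrix.add_apply, Matrix.single_apply, Matrix.of_apply, Fin.ext_iff]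
    split_ifs <;> (try simp only [and_true, true_and, and_false, false_and, not_false_eq_true, not_true_eq_false] at *) <;> first | (exfalso; omega) | ring1 | (exfalso; tauto)
  · rw [dif_pos hx0, dif_neg hyL]
    simp only [Um, Vm, UWm, Matrix.add_apply, Matrix.single_apply, Matrix.of_apply, Fin.ext_iff]
    split_ifs <;> (try simp only [and_true, true_and, and_false, false_and, not_false_eq_true, not_true_eq_false] at *) <;> first | (exfalso; omega) | ring1 | (exfalso; tauto)
  · rw [dif_neg hx0, dif_pos hyL]
    simp only [Um, Vm, UWm, Matrix.add_apply, Matrix.single_apply, Matrix.of_apply, Fin.ext_iff]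
    split_ifs <;> (try simp only [and_true, true_and, and_false, false_and, not_false_eq_true, not_true_eq_false] at *) <;> first | (exfalso; omega) | ring1 | (exfalso; tauto)
  · rw [dif_neg hx0, dif_neg hyL]
    simp only [Um, Vm, UWm, Matrix.add_apply, Matrix.single_apply, Matrix.of_apply, Fin.ext_iff]
    split_ifs <;> (try simp only [and_true, true_and, and_false, false_and, not_false_eq_true, not_true_eq_false] at *) <;> first | (exfalso; omega) | ring1 | (field_simp; ring1) | (exfalso; tauto)

theorem hm_det (a : F) (ha : a ≠ 0) : (hm m a ((-1) ^ m * a)).det = 1 := by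
  rw [Matrix.det_succ_row_zero, Finset.sum_eq_single (Fin.last (m + 2))]
  · rw [Fin.succAbove_last]
    have hminor : (hm m a ((-1) ^ m * a)).submatrix Fin.succ Fin.castSucc =
        Matrix.diagonal (fun j : Fin (m + 2) => if j.val = 0 then a⁻¹ else 1) := by
      ext i j
      simp only [hm, Matrix.submatrix_apply, Matrix.of_apply, Matrix.diagonal_apply, Fin.val_succ,
        Fin.val_castSucc, Fin.ext_iff]
      split_ifs <;> first | rfl | (exfalso; omega) | (exfalso; tauto)
    rw [hminor, Matrix.det_diagonal, Fin.prod_univ_succ]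
    have h1 : ∀ i : Fin (m + 1), (if (Fin.succ i).val = 0 then a⁻¹ else (1 : F)) = 1 := by
      intro i
      rw [if_neg]
      simp
    simp only [h1, Finset.prod_const_one, mul_one]
    simp only [hm, Matrix.of_apply, Fin.val_last, Fin.val_zero]
    rw [if_neg (by omega), if_pos ⟨trivial, trivial⟩, if_pos trivial]
    have : ((-1 : F) ^ (m + 2)) * ((-1) ^ m * a) * a⁻¹ = ((-1) ^ (m + 2) * (-1) ^ m) * (a * a⁻¹) := by ring
    rw [this, mul_inv_cancel₀ ha, mul_one, ← pow_add]
    have he : Even (m + 2 + m) := ⟨m + 1, by ring⟩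
    exact he.neg_one_pow
  · intro j _ hj
    have hj' : j.val ≠ m + 2 := fun h => hj (Fin.ext (by simp [h]))
    have : hm m a ((-1) ^ m * a) 0 j = 0 := by
      simp only [hm, Matrix.of_apply, Fin.val_zero]
      rw [if_neg (by omega), if_neg (by tauto)]
    rw [this, mul_zero, zero_mul]
  · intro h; exact absurd (Finset.mem_univ _) h

/-- `Um - 1` is superdiagonal. -/
theorem Um_sub_one (a c : F) :
    Um m a c - 1 = SD (m + 3) (fun i => if i = 0 then a else if i = m + 1 then c + 1 else 1) := by
  ext x y
  have hx := x.isLt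
  have hy := y.isLt
  simp only [Um, UWm, SD, Matrix.sub_apply, Matrix.add_apply, Matrix.one_apply, Matrix.single_apply,
    Matrix.of_apply, Fin.ext_iff]
  split_ifs <;> first | (exfalso; omega) | ring1 | (exfalso; tauto)

theorem Um_regular (a c : F) (ha : a ≠ 0) (hc : c + 1 ≠ 0) :
    IsNilpotent (Um m a c - 1) ∧ (Um m a c - 1) ^ (m + 3 - 1) ≠ 0 := by
  rw [Um_sub_one]
  refine ⟨SD_isNilpotent _ _, SD_pow_ne_zero _ (by omega) _ ?_⟩
  intro l _
  show (if l = 0 then a else if l = m + 1 then c + 1 else 1) ≠ 0
  split_ifs <;> first | exact ha | exact hc | exact one_ne_zero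

end

end Cfsg.Agent.Helper83.RegUnip
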