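import Mathlib
import Cfsg.Agent.Helper83.RegUnip4

/-!
# Regular unipotent generation of `SL_n` (helper83): the generation argument
-/

set_option autoImplicit false
set_option linter.unusedSimpArgs false
set_option linter.unusedVariables false

namespace Cfsg.Agent.Helper83.RegUnip

open Matrix Matrix.SpecialLinearGroup

section
variable {F : Type*} [Field F]

theorem fin_ne {m p q : ℕ} (hp : p < m + 3) (hq : q < m + 3) (h : p ≠ q) :
    (⟨p, hp⟩ : Fin (m + 3)) ≠ ⟨q, hq⟩ := by
  intro h'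
  exact h (Fin.mk.inj_iff.1 h')

/-- `E_{p,q}(t) ∈ H` with natural number indices. -/
def HasN (m : ℕ) (H : Subgroup (SpecialLinearGroup (Fin (m + 3)) F)) (p q : ℕ) (t : F) : Prop :=
  ∀ (hp : p < m + 3) (hq : q < m + 3), Has H (⟨p, hp⟩ : Fin (m + 3)) ⟨q, hq⟩ t

variable {m : ℕ} {H : Subgroup (SpecialLinearGroup (Fin (m + 3)) F)}

theorem HasN.mul {p k q : ℕ} {s t : F} (hk : k < m + 3) (hpk : p ≠ k) (hkq : k ≠ q)
    (h1 : HasN m H p k s) (h2 : HasN m H k q t) : HasN m H p q (s * t) :=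
  fun hp hq => Has.mul (fin_ne hp hk hpk) (fin_ne hk hq hkq) (h1 hp hk) (h2 hk hq)

theorem HasN.neg {p q : ℕ} {t : F} (h : HasN m H p q t) : HasN m H p q (-t) :=
  fun hp hq => (h hp hq).neg

theorem HasN.congr {p q : ℕ} {s t : F} (h : HasN m H p q s) (hst : s = t) : HasN m H p q t :=
  hst ▸ h

theorem down_step (UW : SpecialLinearGroup (Fin (m + 3)) F)
    (hUWc : (UW : Matrix (Fin (m + 3)) (Fin (m + 3)) F) = UWm m) (hUW : UW ∈ H)
    (t : F) (j : ℕ) (hj : 1 ≤ j) (hj2 : j + 1 < m + 3)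
    (h : HasN m H (j + 1) 0 t) : HasN m H j 0 t := by
  intro hp hq hne
  have hne' : (⟨j + 1, hj2⟩ : Fin (m + 3)) ≠ ⟨0, hq⟩ := fin_ne _ _ (by omega)
  have e : UW * transvection hne' t = transvection hne' t * transvection hne t * UW := by
    apply Subtype.ext
    simp only [coe_mul, transvection_coe, hUWc]
    exact UWm_down m j hj hj2 t
  have h1 := h hj2 hq hne'
  have e2 : transvection hne t = (transvection hne' t)⁻¹ * (UW * transvection hne' t * UW⁻¹) := by
    rw [e]; group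
  rw [e2]
  exact mul_mem (inv_mem h1) (mul_mem (mul_mem hUW h1) (inv_mem hUW))

theorem up_step (UW : SpecialLinearGroup (Fin (m + 3)) F)
    (hUWc : (UW : Matrix (Fin (m + 3)) (Fin (m + 3)) F) = UWm m) (hUW : UW ∈ H)
    (t : F) (k : ℕ) (hk : 1 ≤ k) (hk2 : k + 1 < m + 3)
    (h : HasN m H 0 k t) : HasN m H 0 (k + 1) t := by
  intro hp hq hne
  have hne' : (⟨0, hp⟩ : Fin (m + 3)) ≠ ⟨k, by omega⟩ := fin_ne _ _ (by omega)
  have e : transvection hne' t * UW = UW * (transvection hne' t * transvection hne t) := by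
    apply Subtype.ext
    simp only [coe_mul, transvection_coe, hUWc]
    exact UWm_up m k hk hk2 t
  have h1 := h hp (by omega) hne'
  have e2 : transvection hne t = (transvection hne' t)⁻¹ * (UW⁻¹ * transvection hne' t * UW) := by
    rw [mul_assoc UW⁻¹, e]; group
  rw [e2]
  exact mul_mem (inv_mem h1) (mul_mem (mul_mem (inv_mem hUW) h1) hUW)

end

end Cfsg.Agent.Helper83.RegUnip
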