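import Mathlib
import Cfsg.Agent.Helper83.RegUnip5

/-!
# Regular unipotent generation of `SL_n` (helper83): main theorem

`closure_eq_top`: for `a` generating `Fˣ` (every nonzero element a power of `a`),
`r = (-1)^m a`, the three conjugate regular unipotents `u = Um a (r-1)`,
`g u g⁻¹ = u E_{0,L}(1)` (`g = E_{0,L-1}(r⁻¹)`), `h u h⁻¹ = Vm` generate `SL_{m+3}(F)`.
-/

set_option autoImplicit false
set_option linter.unusedSimpArgs false
set_option linter.unusedVariables false
set_option maxHeartbeats 800000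

namespace Cfsg.Agent.Helper83.RegUnip

open Matrix Matrix.SpecialLinearGroup

section
variable {F : Type*} [Field F]

theorem closure_eq_top (m : ℕ) (a : F) (ha : a ≠ 0)
    (hgen : ∀ t : F, t = 0 ∨ ∃ k : ℕ, a ^ k = t)
    (u g h : SpecialLinearGroup (Fin (m + 3)) F)
    (hu : (u : Matrix (Fin (m + 3)) (Fin (m + 3)) F) = Um m a ((-1) ^ m * a - 1))
    (hg : (g : Matrix (Fin (m + 3)) (Fin (m + 3)) F) =
      1 + Matrix.single (⟨0, by omega⟩ : Fin (m + 3)) ⟨m + 1, by omega⟩ ((-1) ^ m * a)⁻¹)
    (hh : (h : Matrix (Fin (m + 3)) (Fin (m + 3)) F) = hm m a ((-1) ^ m * a)) :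
    Subgroup.closure ({u, g * u * g⁻¹, h * u * h⁻¹} :
      Set (SpecialLinearGroup (Fin (m + 3)) F)) = ⊤ := by
  set H := Subgroup.closure ({u, g * u * g⁻¹, h * u * h⁻¹} :
      Set (SpecialLinearGroup (Fin (m + 3)) F)) with hH
  have huH : u ∈ H := Subgroup.subset_closure (by simp)
  have hu2H : g * u * g⁻¹ ∈ H := Subgroup.subset_closure (by simp)
  have hu3H : h * u * h⁻¹ ∈ H := Subgroup.subset_closure (by simp)
  set r : F := (-1) ^ m * a with hr
  have hr0 : r ≠ 0 := mul_ne_zero (pow_ne_zero _ (by norm_num)) ha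
  -- index facts
  have h0 : 0 < m + 3 := by omega
  have h1 : 1 < m + 3 := by omega
  have hK : m + 1 < m + 3 := by omega
  have hL : m + 2 < m + 3 := by omega
  have ne0L : (⟨0, h0⟩ : Fin (m + 3)) ≠ ⟨m + 2, hL⟩ := fin_ne _ _ (by omega)
  have ne01 : (⟨0, h0⟩ : Fin (m + 3)) ≠ ⟨1, h1⟩ := fin_ne _ _ (by omega)
  have neKL : (⟨m + 1, hK⟩ : Fin (m + 3)) ≠ ⟨m + 2, hL⟩ := fin_ne _ _ (by omega)
  have ne1L : (⟨1, h1⟩ : Fin (m + 3)) ≠ ⟨m + 2, hL⟩ := fin_ne _ _ (by omega)
  have ne0K : (⟨0, h0⟩ : Fin (m + 3)) ≠ ⟨m + 1, hK⟩ := fin_ne _ _ (by omega)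
  -- SL elements
  let UW : SpecialLinearGroup (Fin (m + 3)) F := ⟨UWm m, UWm_det m⟩
  have hUWc : (UW : Matrix (Fin (m + 3)) (Fin (m + 3)) F) = UWm m := rfl
  -- (a) g u g⁻¹ = u X(1)
  have hg' : g = transvection ne0K r⁻¹ := by
    apply Subtype.ext
    rw [hg, transvection_coe]
  have e1 : g * u = u * transvection ne0L 1 * g := by
    apply Subtype.ext
    simp only [coe_mul, transvection_coe, hu, hg]
    exact Um_conj1 m a (r - 1) r⁻¹ (by rw [sub_add_cancel]; exact inv_mul_cancel₀ hr0)
  have e1' : g * u * g⁻¹ = u * transvection ne0L 1 := by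
    rw [e1, mul_inv_cancel_right]
  have hX : transvection ne0L (1 : F) ∈ H := by
    have := mul_mem (inv_mem huH) hu2H
    rwa [e1', inv_mul_cancel_left] at this
  -- (c) h u h⁻¹ = v
  have e2 : h * u = (transvection ne0L.symm 1 * UW) * h := by
    apply Subtype.ext
    simp only [coe_mul, transvection_coe, hu, hh, hUWc]
    rw [← Vm_eq]
    exact hm_conj m a r ha
  have e2' : h * u * h⁻¹ = transvection ne0L.symm 1 * UW := by
    rw [e2, mul_inv_cancel_right]
  have hvH : transvection ne0L.symm (1 : F) * UW ∈ H := e2' ▸ hu3H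
  -- (d) UW commutes with X
  have ecomm : UW * transvection ne0L (1 : F) = transvection ne0L 1 * UW := by
    apply Subtype.ext
    simp only [coe_mul, transvection_coe, hUWc]
    exact UWm_comm m 1
  have hB : transvection ne0L.symm (1 : F) * transvection ne0L 1 * (transvection ne0L.symm 1)⁻¹ ∈ H := by
    have h3 := mul_mem (mul_mem hvH hX) (inv_mem hvH)
    have e3 : transvection ne0L.symm (1 : F) * UW * transvection ne0L 1 *
        (transvection ne0L.symm (1 : F) * UW)⁻¹ =
        transvection ne0L.symm (1 : F) * transvection ne0L 1 * (transvection ne0L.symm 1)⁻¹ := by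
      rw [mul_assoc (transvection ne0L.symm (1 : F)) UW, ecomm]
      group
    rwa [e3] at h3
  -- (e) Y(-1) ∈ H
  have hYneg : transvection ne0L.symm (-1 : F) ∈ H := by
    rw [← sl2_identity ne0L]
    have h4 := mul_mem (mul_mem (inv_mem hX) hB) hX
    have e4 : (transvection ne0L (1 : F))⁻¹ *
        (transvection ne0L.symm (1 : F) * transvection ne0L 1 * (transvection ne0L.symm 1)⁻¹) *
        transvection ne0L 1 =
        transvection ne0L (-1 : F) * transvection ne0L.symm 1 * transvection ne0L 1 *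
          transvection ne0L.symm (-1) * transvection ne0L 1 := by
      rw [transvection_inv, transvection_inv]
      group
    rwa [e4] at h4
  have hY : transvection ne0L.symm (1 : F) ∈ H := by
    have := inv_mem hYneg
    rwa [transvection_inv, neg_neg] at this
  -- (f) UW ∈ H
  have hUW : UW ∈ H := by
    have := mul_mem (inv_mem hY) hvH
    rwa [inv_mul_cancel_left] at this
  -- bookkeeping
  have s1 : HasN m H 0 (m + 2) 1 := fun _ _ _ => hX
  have s2 : HasN m H (m + 2) 0 1 := fun _ _ _ => hY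
  have s3 : ∀ d j, j + d = m + 2 → 1 ≤ j → HasN m H j 0 1 := by
    intro d
    induction d with
    | zero => intro j hj _; have : j = m + 2 := by omega
              subst this; exact s2
    | succ d ih =>
      intro j hj hj1
      exact down_step UW hUWc hUW 1 j hj1 (by omega) (ih (j + 1) (by omega) (by omega))
  have s3' : ∀ j, 1 ≤ j → j ≤ m + 2 → HasN m H j 0 1 := fun j h1 h2 =>
    s3 (m + 2 - j) j (by omega) h1
  have s4 : ∀ j, 1 ≤ j → j ≤ m + 1 → HasN m H j (m + 2) 1 := by
    intro j hj1 hj2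
    exact (HasN.mul (k := 0) (by omega) (by omega) (by omega) (s3' j hj1 (by omega)) s1).congr (mul_one 1)
  -- (I6) a ∈ B_{0,L}
  have s5 : HasN m H 0 (m + 2) a := by
    intro _ _ _
    have hE := s4 1 (le_refl 1) (by omega) h1 hL ne1L
    have e5 : u * transvection ne1L 1 = transvection ne0L a * transvection ne1L 1 * u := by
      apply Subtype.ext
      simp only [coe_mul, transvection_coe, hu]
      exact Um_comm1 m a (r - 1)
    have e5' : transvection ne0L a = u * transvection ne1L 1 * u⁻¹ * (transvection ne1L 1)⁻¹ := by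
      rw [e5]; group
    rw [e5']
    exact mul_mem (mul_mem (mul_mem huH hE) (inv_mem huH)) (inv_mem hE)
  have s6 : ∀ k j, 1 ≤ j → j ≤ m + 1 → HasN m H j 0 (a ^ k) ∧ HasN m H j (m + 2) (a ^ k) := by
    intro k
    induction k with
    | zero =>
      intro j hj1 hj2
      rw [pow_zero]
      exact ⟨s3' j hj1 (by omega), s4 j hj1 hj2⟩
    | succ k ih =>
      intro j hj1 hj2
      have hA : HasN m H j (m + 2) (a ^ (k + 1)) :=
        (HasN.mul (k := 0) (by omega) (by omega) (by omega) (ih j hj1 hj2).1 s5).congr (pow_succ a k).symm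
      exact ⟨(HasN.mul (k := m + 2) (by omega) (by omega) (by omega) hA s2).congr (mul_one _), hA⟩
  have full_of_pow : ∀ p q, (∀ k, HasN m H p q (a ^ k)) → ∀ t, HasN m H p q t := by
    intro p q hpq t
    rcases hgen t with rfl | ⟨k, rfl⟩
    · exact fun _ _ => Has.zero _ _
    · exact hpq k
  have f6a : ∀ j, 1 ≤ j → j ≤ m + 1 → ∀ t, HasN m H j 0 t := fun j h1 h2 =>
    full_of_pow j 0 (fun k => (s6 k j h1 h2).1)
  have f6b : ∀ j, 1 ≤ j → j ≤ m + 1 → ∀ t, HasN m H j (m + 2) t := fun j h1 h2 =>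
    full_of_pow j (m + 2) (fun k => (s6 k j h1 h2).2)
  -- (I7) E_01(a) ∈ H
  have s7 : HasN m H 0 1 a := by
    intro _ _ _
    have hE := f6b (m + 1) (by omega) (le_refl _) (r - 1) hK hL neKL
    have e7 : u = transvection neKL (r - 1) * UW * transvection ne01 a := by
      apply Subtype.ext
      simp only [coe_mul, transvection_coe, hu, hUWc]
      exact Um_eq m a (r - 1)
    have e7' : transvection ne01 a = UW⁻¹ * ((transvection neKL (r - 1))⁻¹ * u) := by
      rw [e7]; group
    rw [e7']
    exact mul_mem (inv_mem hUW) (mul_mem (inv_mem hE) huH)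
  have s8 : ∀ d, d + 1 ≤ m + 2 → HasN m H 0 (d + 1) a := by
    intro d
    induction d with
    | zero => intro _; exact s7
    | succ d ih =>
      intro hd
      exact up_step UW hUWc hUW a (d + 1) (by omega) (by omega) (ih (by omega))
  have s8' : ∀ k, 1 ≤ k → k ≤ m + 2 → HasN m H 0 k a := by
    intro k hk1 hk2
    obtain ⟨d, rfl⟩ : ∃ d, k = d + 1 := ⟨k - 1, by omega⟩
    exact s8 d hk2
  have f9 : ∀ t, HasN m H 0 (m + 2) t := by
    intro t
    exact (HasN.mul (k := 1) (by omega) (by omega) (by omega) s7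
      (f6b 1 (le_refl 1) (by omega) (a⁻¹ * t))).congr (by rw [mul_inv_cancel_left₀ ha])
  have s10 : ∀ k, 1 ≤ k → k ≤ m + 1 → HasN m H (m + 2) k a := by
    intro k hk1 hk2
    exact (HasN.mul (k := 0) (by omega) (by omega) (by omega) s2 (s8' k hk1 (by omega))).congr (one_mul a)
  have f10 : ∀ k, 1 ≤ k → k ≤ m + 1 → ∀ t, HasN m H 0 k t := by
    intro k hk1 hk2 t
    exact (HasN.mul (k := m + 2) (by omega) (by omega) (by omega) (f9 (t * a⁻¹))
      (s10 k hk1 hk2)).congr (by rw [inv_mul_cancel_right₀ ha])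
  have f11 : ∀ k, 1 ≤ k → k ≤ m + 1 → ∀ t, HasN m H (m + 2) k t := by
    intro k hk1 hk2 t
    exact (HasN.mul (k := 0) (by omega) (by omega) (by omega) s2 (f10 k hk1 hk2 t)).congr (one_mul t)
  have f12 : ∀ t, HasN m H (m + 2) 0 t := by
    intro t
    exact (HasN.mul (k := 1) (by omega) (by omega) (by omega) (f11 1 (le_refl 1) (by omega) t)
      (s3' 1 (le_refl 1) (by omega))).congr (mul_one t)
  have f13 : ∀ j k, 1 ≤ j → j ≤ m + 1 → 1 ≤ k → k ≤ m + 1 → j ≠ k → ∀ t, HasN m H j k t := by
    intro j k hj1 hj2 hk1 hk2 hjk t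
    exact (HasN.mul (k := 0) (by omega) (by omega) (by omega) (f6a j hj1 hj2 t)
      (f10 k hk1 hk2 1)).congr (mul_one t)
  -- conclusion
  apply eq_top_of_has
  intro i j t
  have hi := i.isLt
  have hj := j.isLt
  by_cases hij : i = j
  · intro h; exact absurd hij h
  have hij' : i.val ≠ j.val := fun h => hij (Fin.ext h)
  have key : HasN m H i.val j.val t := by
    by_cases hi0 : i.val = 0
    · rw [hi0]
      by_cases hjL : j.val = m + 2
      · rw [hjL]; exact f9 t
      · exact f10 j.val (by omega) (by omega) t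
    · by_cases hiL : i.val = m + 2
      · rw [hiL]
        by_cases hj0 : j.val = 0
        · rw [hj0]; exact f12 t
        · exact f11 j.val (by omega) (by omega) t
      · by_cases hj0 : j.val = 0
        · rw [hj0]; exact f6a i.val (by omega) (by omega) t
        · by_cases hjL : j.val = m + 2
          · rw [hjL]; exact f6b i.val (by omega) (by omega) t
          · exact f13 i.val j.val (by omega) (by omega) (by omega) (by omega) hij' t
  exact key i.isLt j.isLt

end

end Cfsg.Agent.Helper83.RegUnip
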