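import Mathlib
import Cfsg.Prelude.Def_RootSubgroups
import Cfsg.Agent.Helper83.Special

set_option autoImplicit false

namespace Cfsg.Agent.Helper83

open scoped commutatorElement

variable {G : Type*} [Group G]

/-! ### The elements `n(a) = a b⁻¹ a` and the diagonal subgroup -/

section nswap

variable {A B : Subgroup G} {a b : G}

/-- `n⁻¹ B n = A`, i.e. `conjBy B n⁻¹ = A`, for `n = a b⁻¹ a`. -/
theorem SpecialCond.conjBy_ninv_right (hs : SpecialCond A B) (hp : Partner A B a b) :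
    Cfsg.conjBy B (a * b⁻¹ * a)⁻¹ = A := by
  have h1 := hp.conjBy_n_left
  rw [← hs.braid hp] at h1
  rw [conjBy_eq_iff] at h1
  exact h1.symm

/-- `n⁻¹ A n = B`, i.e. `conjBy A n⁻¹ = B`, for `n = a b⁻¹ a`. -/
theorem SpecialCond.conjBy_ninv_left (h : Cfsg.IsRankOnePair A B) (hs : SpecialCond A B)
    (hp : Partner A B a b) : Cfsg.conjBy A (a * b⁻¹ * a)⁻¹ = B := by
  have h1 := hs.conjBy_n_right h hp
  rw [conjBy_eq_iff] at h1
  exact h1.symm

theorem SpecialCond.conjBy_n_left' (hs : SpecialCond A B) (hp : Partner A B a b) :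
    Cfsg.conjBy A (a * b⁻¹ * a) = B := by
  rw [hs.braid hp]; exact hp.conjBy_n_left

end nswap

/-- The key lemma: in a special rank one group with abelian `A`, for `a, c ∈ A#` with `a c ≠ 1`
the element `a c⁻¹` is a commutator of an element of the diagonal subgroup with an element of `A`. -/
theorem SpecialCond.mul_inv_mem_commutator {A B : Subgroup G} (h : Cfsg.IsRankOnePair A B)
    (hs : SpecialCond A B) (hA : ∀ x ∈ A, ∀ y ∈ A, x * y = y * x) {a c : G}
    (ha : a ∈ A) (ha1 : a ≠ 1) (hc : c ∈ A) (hc1 : c ≠ 1) (hac : a * c ≠ 1) :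
    a * c⁻¹ ∈ ⁅A, Cfsg.rankOneDiagonal A B⁆ := by
  obtain ⟨ba, hpa⟩ := exists_partner_left h ha ha1
  obtain ⟨bc, hpc⟩ := exists_partner_left h hc hc1
  obtain ⟨bx, hpx⟩ := exists_partner_left h (A.mul_mem ha hc) hac
  have hbb : ba * bc ≠ 1 := by
    intro h1
    have h2 : bc = ba⁻¹ := by
      rw [← mul_eq_one_iff_eq_inv']; exact h1
    have hpa' := hs.partner_inv h hpa
    rw [h2] at hpc
    have := Partner.left_unique h hpc hpa'
    apply hac
    rw [this, mul_inv_cancel]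
  obtain ⟨d, hpd⟩ := exists_partner_right h (B.mul_mem hpa.2.2.1 hpc.2.2.1) hbb
  have hd : d ∈ A := hpd.1
  -- the four `n` elements
  set na := a * ba⁻¹ * a with hna
  set nc := c * bc⁻¹ * c with hnc
  set nx := (a * c) * bx⁻¹ * (a * c) with hnx
  set nd := d * (ba * bc)⁻¹ * d with hnd
  have hnx' : nx = bx⁻¹ * (a * c) * bx⁻¹ := hs.braid hpx
  -- conjugation facts
  have na_A : Cfsg.conjBy A na = B := hs.conjBy_n_left' hpa
  have na_B : Cfsg.conjBy B na = A := hs.conjBy_n_right h hpa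
  have nai_A : Cfsg.conjBy A na⁻¹ = B := hs.conjBy_ninv_left h hpa
  have nai_B : Cfsg.conjBy B na⁻¹ = A := hs.conjBy_ninv_right hpa
  have nc_A : Cfsg.conjBy A nc = B := hs.conjBy_n_left' hpc
  have nc_B : Cfsg.conjBy B nc = A := hs.conjBy_n_right h hpc
  have nci_A : Cfsg.conjBy A nc⁻¹ = B := hs.conjBy_ninv_left h hpc
  have nci_B : Cfsg.conjBy B nc⁻¹ = A := hs.conjBy_ninv_right hpc
  have nx_A : Cfsg.conjBy A nx = B := hs.conjBy_n_left' hpx
  have nx_B : Cfsg.conjBy B nx = A := hs.conjBy_n_right h hpx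
  have ndi_A : Cfsg.conjBy A nd⁻¹ = B := hs.conjBy_ninv_left h hpd
  have ndi_B : Cfsg.conjBy B nd⁻¹ = A := hs.conjBy_ninv_right hpd
  -- the elements u, v, w
  set u := na⁻¹ * bx * na with hu
  set v := nc * bx * nc⁻¹ with hv
  set w := na⁻¹ * nx * nc⁻¹ with hw
  have huA : u ∈ A := by
    have := conj_mem_conjBy (g := na⁻¹) hpx.2.2.1
    rw [nai_B, inv_inv] at this
    exact this
  have hvA : v ∈ A := by
    have := conj_mem_conjBy (g := nc) hpx.2.2.1
    rw [nc_B] at this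
    exact this
  have w_A : Cfsg.conjBy A w = B := by
    have : Cfsg.conjBy A w = Cfsg.conjBy (Cfsg.conjBy (Cfsg.conjBy A nc⁻¹) nx) na⁻¹ := by
      rw [conjBy_conjBy, conjBy_conjBy, hw, mul_assoc]
    rw [this, nci_A, nx_B, nai_A]
  have w_B : Cfsg.conjBy B w = A := by
    have : Cfsg.conjBy B w = Cfsg.conjBy (Cfsg.conjBy (Cfsg.conjBy B nc⁻¹) nx) na⁻¹ := by
      rw [conjBy_conjBy, conjBy_conjBy, hw, mul_assoc]
    rw [this, nci_B, nx_A, nai_B]
  -- the key identity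
  have hxe : bx * nx * bx = a * c := by rw [hnx']; group
  have key : nd⁻¹ = (d⁻¹ * a * u) * w * (v * c * d⁻¹) := by
    symm
    calc (d⁻¹ * a * u) * w * (v * c * d⁻¹)
        = d⁻¹ * a * na⁻¹ * (bx * nx * bx) * nc⁻¹ * c * d⁻¹ := by rw [hu, hw, hv]; group
      _ = d⁻¹ * a * na⁻¹ * (a * c) * nc⁻¹ * c * d⁻¹ := by rw [hxe]
      _ = nd⁻¹ := by rw [hna, hnc, hnd]; group
  set u' := d⁻¹ * a * u with hu'
  set v' := v * c * d⁻¹ with hv'
  have hu'A : u' ∈ A := A.mul_mem (A.mul_mem (A.inv_mem hd) ha) huA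
  have hv'A : v' ∈ A := A.mul_mem (A.mul_mem hvA hc) (A.inv_mem hd)
  have hu'1 : u' = 1 := by
    apply rankOne_eq_one_of_conj h hu'A
    have h1 : Cfsg.conjBy A nd⁻¹ = Cfsg.conjBy (Cfsg.conjBy (Cfsg.conjBy A v') w) u' := by
      rw [conjBy_conjBy, conjBy_conjBy, key, mul_assoc]
    rw [conjBy_of_mem hv'A, w_A, ndi_A] at h1
    exact h1.symm
  have hv'1 : v' = 1 := by
    apply rankOne_eq_one_of_conj h hv'A
    have h1 : Cfsg.conjBy B nd⁻¹ = Cfsg.conjBy (Cfsg.conjBy (Cfsg.conjBy B v') w) u' := by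
      rw [conjBy_conjBy, conjBy_conjBy, key, mul_assoc]
    rw [hu'1, conjBy_one, ndi_B] at h1
    -- A = w (v' B v'⁻¹) w⁻¹ and A = w B w⁻¹
    have h2 : Cfsg.conjBy (Cfsg.conjBy B v') w = Cfsg.conjBy B w := by rw [← h1, w_B]
    exact conjBy_inj h2
  -- consequences
  have hd1 : d = a * u := by
    have : d⁻¹ * a * u = 1 := hu'1
    calc d = d * (d⁻¹ * a * u) := by rw [this, mul_one]
      _ = a * u := by group
  have hd2 : d = v * c := by
    have : v * c * d⁻¹ = 1 := hv'1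
    calc d = (v * c * d⁻¹) * d := by rw [this, one_mul]
      _ = v * c := by group
  -- the diagonal element
  set g := nc * na with hg
  have hvg : v = g * u * g⁻¹ := by rw [hv, hu, hg]; group
  have hgH : g ∈ Cfsg.rankOneDiagonal A B := by
    have hnaS : na ∈ A ⊔ B := hpa.n_mem_sup
    have hncS : nc ∈ A ⊔ B := hpc.n_mem_sup
    rw [Cfsg.rankOneDiagonal, Subgroup.mem_inf, Subgroup.mem_inf]
    refine ⟨⟨Subgroup.mul_mem _ hncS hnaS, ?_⟩, ?_⟩
    · apply conjBy_eq_self_iff.mp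
      rw [hg, ← conjBy_conjBy, na_A, nc_B]
    · apply conjBy_eq_self_iff.mp
      rw [hg, ← conjBy_conjBy, na_B, nc_A]
  -- a c⁻¹ = ⁅g, u⁆
  have hfin : a * c⁻¹ = ⁅g, u⁆ := by
    have h1 : a * u = g * u * g⁻¹ * c := by rw [← hd1, hd2, hvg]
    have h2 : c * u⁻¹ = u⁻¹ * c := hA c hc u⁻¹ (A.inv_mem huA)
    rw [commutatorElement_def]
    calc a * c⁻¹ = (a * u) * u⁻¹ * c⁻¹ := by group
      _ = (g * u * g⁻¹ * c) * u⁻¹ * c⁻¹ := by rw [h1]
      _ = g * u * g⁻¹ * (c * u⁻¹) * c⁻¹ := by group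
      _ = g * u * g⁻¹ * (u⁻¹ * c) * c⁻¹ := by rw [h2]
      _ = g * u * g⁻¹ * u⁻¹ := by group
  rw [hfin, Subgroup.commutator_comm]
  exact Subgroup.commutator_mem_commutator hgH huA

end Cfsg.Agent.Helper83
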