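import Mathlib
import Cfsg.Prelude.Def_RootSubgroups
import Cfsg.Agent.Helper83.SpecialH
import Cfsg.Agent.Helper83.RootSub5
import Cfsg.Agent.S5020
import Cfsg.Agent.S5032

set_option autoImplicit false

namespace Cfsg.Agent.Helper83

open scoped commutatorElement

variable {G : Type*} [Group G]

/-! ### Commutators landing in a normal subgroup -/

/-- All commutators `⁅a, d⁆` with `a ∈ A`, `d ∈ D` lie in `N`. -/
def CommIn (N A D : Subgroup G) : Prop := ∀ a ∈ A, ∀ d ∈ D, ⁅a, d⁆ ∈ N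

theorem comm_mul_mem {N : Subgroup G} (hN : N.Normal) {a c m : G} (hac : a * c = c * a)
    (hm : m ∈ N) : ⁅a, c * m⁆ ∈ N := by
  have h1 : a * m * a⁻¹ * m⁻¹ ∈ N := N.mul_mem (hN.conj_mem m hm a) (N.inv_mem hm)
  have h2 := hN.conj_mem _ h1 c
  have hac' : a⁻¹ * c⁻¹ = c⁻¹ * a⁻¹ := by
    have := congrArg (fun x => x⁻¹) hac
    simpa [mul_inv_rev] using this.symm
  have e : ⁅a, c * m⁆ = c * (a * m * a⁻¹ * m⁻¹) * c⁻¹ := by
    rw [commutatorElement_def]
    calc a * (c * m) * a⁻¹ * (c * m)⁻¹ = (a * c) * m * (a⁻¹ * m⁻¹ * c⁻¹) := by group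
      _ = (c * a) * m * (a⁻¹ * m⁻¹ * c⁻¹) := by rw [hac]
      _ = c * (a * m * a⁻¹ * m⁻¹) * c⁻¹ := by group
  rw [e]; exact h2

theorem comm_mul_mem' {N : Subgroup G} (hN : N.Normal) {a c m : G} (hac : a * c = c * a)
    (hm : m ∈ N) : ⁅c * m, a⁆ ∈ N := by
  have := N.inv_mem (comm_mul_mem hN hac hm)
  rwa [commutatorElement_inv] at this

theorem CommIn.symm {N A D : Subgroup G} (h : CommIn N A D) : CommIn N D A := by
  intro d hd a ha
  have := N.inv_mem (h a ha d hd)
  rwa [commutatorElement_inv] at this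

/-- The subgroup of elements all of whose commutators with `A` lie in the normal subgroup `N`. -/
def commInSubgroup (N : Subgroup G) (hN : N.Normal) (A : Subgroup G) : Subgroup G where
  carrier := {x | ∀ a ∈ A, ⁅a, x⁆ ∈ N}
  one_mem' := by
    intro a _
    rw [commutatorElement_one_right]; exact N.one_mem
  mul_mem' := by
    intro x y hx hy a ha
    have e : ⁅a, x * y⁆ = ⁅a, x⁆ * (x * ⁅a, y⁆ * x⁻¹) := by
      simp only [commutatorElement_def]; group
    rw [e]
    exact N.mul_mem (hx a ha) (hN.conj_mem _ (hy a ha) x)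
  inv_mem' := by
    intro x hx a ha
    have e : ⁅a, x⁻¹⁆ = x⁻¹ * (⁅a, x⁆)⁻¹ * (x⁻¹)⁻¹ := by
      simp only [commutatorElement_def]; group
    rw [e]
    exact hN.conj_mem _ (N.inv_mem (hx a ha)) x⁻¹

theorem CommIn.commutator_sup_le {N A D : Subgroup G} (hN : N.Normal)
    (hA : ∀ x ∈ A, ∀ y ∈ A, x * y = y * x) (h : CommIn N A D) : ⁅A, A ⊔ D⁆ ≤ N := by
  rw [Subgroup.commutator_le]
  intro a ha x hx
  have hle : A ⊔ D ≤ commInSubgroup N hN A := by
    apply sup_le
    · intro y hy a' ha'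
      have : ⁅a', y⁆ = 1 := by
        rw [commutatorElement_eq_one_iff_mul_comm]; exact hA a' ha' y hy
      rw [this]; exact N.one_mem
    · intro y hy a' ha'
      exact h a' ha' y hy
  exact hle hx a ha

theorem CommIn.commutator_le {N A D : Subgroup G} (h : CommIn N A D) : ⁅A, D⁆ ≤ N := by
  rw [Subgroup.commutator_le]
  exact h

/-! ### Special rank one pairs and normal subgroups -/

/-- In a special rank one pair with all commutators in the normal subgroup `N`, partners are inverse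
modulo `N`. -/
theorem SpecialCond.partner_mul_mem {N A D : Subgroup G} (hN : N.Normal) (hs : SpecialCond A D)
    (h : CommIn N A D) {a b : G} (hp : Partner A D a b) : a * b ∈ N := by
  have h1 : ⁅a⁻¹, b⁻¹⁆ ∈ N := h a⁻¹ (A.inv_mem hp.1) b⁻¹ (D.inv_mem hp.2.2.1)
  have h2 := hN.conj_mem _ h1 b
  have hsp := hs a b hp
  have e : a * b = b * ⁅a⁻¹, b⁻¹⁆ * b⁻¹ := by
    rw [commutatorElement_def]
    calc a * b = b * (b⁻¹ * a * b) := by group
      _ = b * (a⁻¹ * b⁻¹ * a) := by rw [hsp]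
      _ = b * (a⁻¹ * b⁻¹ * a⁻¹⁻¹ * b⁻¹⁻¹) * b⁻¹ := by group
  rw [e]; exact h2

/-- If `N` is normal, `(A, D)` is a special rank one pair with abelian `A`, `|A| > 3`, and all
commutators of `A` with `D` lie in `N`, then `A ≤ N`. -/
theorem le_of_commIn_of_card {N A D : Subgroup G} (hN : N.Normal) (hp : Cfsg.IsRankOnePair A D)
    (hs : SpecialCond A D) (hA : ∀ x ∈ A, ∀ y ∈ A, x * y = y * x) (hcard : 3 < ENat.card A)
    (h : CommIn N A D) : A ≤ N := by
  refine (Cfsg.Agent.S5020.le_commutator_diagonal hp hs hA hcard).trans ?_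
  refine le_trans (Subgroup.commutator_mono le_rfl ?_) (h.commutator_sup_le hN hA)
  intro x hx
  exact hx.1.1

end Cfsg.Agent.Helper83
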