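import Mathlib
import Cfsg.Prelude.Def_RootSubgroups
import Cfsg.Agent.Helper83.RootQS
import Cfsg.Agent.Helper83.RootSub4
import Cfsg.Agent.S5036

set_option autoImplicit false

namespace Cfsg.Agent.Helper83

open scoped commutatorElement

variable {G : Type*} [Group G] {S : Set (Subgroup G)}

theorem commIn_conj_of_comm {N A C : Subgroup G} (hN : N.Normal) {n : G} (hn : n ∈ N)
    (hAC : ∀ a ∈ A, ∀ c ∈ C, a * c = c * a) : CommIn N A (Cfsg.conjBy C n) := by
  intro a ha d hd
  rw [mem_conjBy] at hd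
  have e : d = (n⁻¹ * d * n) * ((n⁻¹ * d * n)⁻¹ * n * (n⁻¹ * d * n)⁻¹⁻¹ * n⁻¹) := by group
  rw [e]
  apply comm_mul_mem hN (hAC a ha _ hd)
  exact N.mul_mem (hN.conj_mem n hn _) (N.inv_mem hn)

theorem abelian_of_mem (hS : Cfsg.IsRootSubgroupSet S) {A : Subgroup G} (hA : A ∈ S) :
    ∀ x ∈ A, ∀ y ∈ A, x * y = y * x := by
  intro x hx y hy
  have := (hS.commutative A hA).is_comm.comm (⟨x, hx⟩ : A) ⟨y, hy⟩
  exact congrArg Subtype.val this

theorem comm_of_le_centralizer {A C : Subgroup G} (h : C ≤ Subgroup.centralizer (A : Set G)) :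
    ∀ a ∈ A, ∀ c ∈ C, a * c = c * a := by
  intro a ha c hc
  exact (mem_centralizer_coe.mp (h hc)) a ha

/-- The auxiliary step: a member `C` commuting with `A` but not with `n A n⁻¹`. -/
theorem pair_of_centralizing (hS : Cfsg.IsRootSubgroupSet S) {N : Subgroup G} (hN : N.Normal)
    {A C : Subgroup G} (hC : C ∈ S) {n : G} (hn : n ∈ N)
    (h1 : C ≤ Subgroup.centralizer (A : Set G))
    (h2 : ¬ C ≤ Subgroup.centralizer ((Cfsg.conjBy A n : Subgroup G) : Set G)) :
    ∃ D ∈ S, ⁅A, D⁆ ≠ ⊥ ∧ CommIn N A D := by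
  refine ⟨Cfsg.conjBy C n⁻¹, hS.conj_mem C hC n⁻¹, ?_, ?_⟩
  · intro hbot
    apply h2
    rw [Subgroup.commutator_comm, Subgroup.commutator_eq_bot_iff_le_centralizer] at hbot
    have := Cfsg.Agent.S5036.conjBy_le_centralizer hbot n
    rw [conjBy_conjBy, mul_inv_cancel, conjBy_one] at this
    exact this
  · exact commIn_conj_of_comm hN (N.inv_mem hn) (comm_of_le_centralizer h1)

/-- Step 1: a non-central normal subgroup meets a member or gives a non-commuting pair with all
commutators in `N`. -/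
theorem exists_pair_of_not_central (hS : Cfsg.IsRootSubgroupSet S)
    (h2' : ∀ A ∈ S, ∀ C ∈ S, A ≠ C → Cfsg.centralizingMembers S A ≠ Cfsg.centralizingMembers S C)
    {N : Subgroup G} (hN : N.Normal) (hNc : ¬ N ≤ Subgroup.center G) :
    (∃ A ∈ S, A ⊓ N ≠ ⊥) ∨ ∃ A ∈ S, ∃ D ∈ S, ⁅A, D⁆ ≠ ⊥ ∧ CommIn N A D := by
  by_cases hnorm : ∀ A ∈ S, ∀ n ∈ N, Cfsg.conjBy A n = A
  · left
    -- some n ∈ N is not central
    obtain ⟨n, hn, hnc⟩ := Set.not_subset.mp hNc
    -- some member does not centralize n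
    have hex : ∃ A ∈ S, ¬ A ≤ Subgroup.centralizer ({n} : Set G) := by
      by_contra hall
      push Not at hall
      apply hnc
      have htop : (⊤ : Subgroup G) ≤ Subgroup.centralizer ({n} : Set G) := by
        rw [← hS.generates]
        exact iSup₂_le hall
      rw [SetLike.mem_coe, Subgroup.mem_center_iff]
      intro g
      have := htop (Subgroup.mem_top g)
      rw [Subgroup.mem_centralizer_iff] at this
      exact (this n rfl).symm
    obtain ⟨A, hA, hAn⟩ := hex
    obtain ⟨a, ha, han⟩ := Set.not_subset.mp hAn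
    refine ⟨A, hA, ?_⟩
    intro hbot
    apply han
    rw [SetLike.mem_coe, Subgroup.mem_centralizer_iff]
    intro m hm
    rw [Set.mem_singleton_iff] at hm
    subst hm
    have hx1 : ⁅a, m⁆ ∈ A := by
      rw [commutatorElement_def]
      have h1 : m * a⁻¹ * m⁻¹ ∈ Cfsg.conjBy A m := conj_mem_conjBy (A.inv_mem ha)
      rw [hnorm A hA m hn] at h1
      have e : a * m * a⁻¹ * m⁻¹ = a * (m * a⁻¹ * m⁻¹) := by group
      rw [e]; exact A.mul_mem ha h1
    have hx2 : ⁅a, m⁆ ∈ N := by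
      rw [commutatorElement_def]
      exact N.mul_mem (hN.conj_mem m hn a) (N.inv_mem hn)
    have : ⁅a, m⁆ ∈ A ⊓ N := ⟨hx1, hx2⟩
    rw [hbot, Subgroup.mem_bot, commutatorElement_eq_one_iff_mul_comm] at this
    exact this.symm
  · right
    push Not at hnorm
    obtain ⟨A, hA, n, hn, hne⟩ := hnorm
    set A1 := Cfsg.conjBy A n with hA1
    have hA1S : A1 ∈ S := hS.conj_mem A hA n
    by_cases hc : ⁅A, A1⁆ = ⊥
    · have hcm := h2' A hA A1 hA1S (Ne.symm hne)
      have hex : ∃ C, (C ∈ Cfsg.centralizingMembers S A ∧ C ∉ Cfsg.centralizingMembers S A1) ∨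
          (C ∈ Cfsg.centralizingMembers S A1 ∧ C ∉ Cfsg.centralizingMembers S A) := by
        by_contra hno
        push Not at hno
        apply hcm
        ext C
        constructor
        · intro h; exact (hno C).1 h
        · intro h; exact (hno C).2 h
      obtain ⟨C, hC | hC⟩ := hex
      · obtain ⟨⟨hCS, hCA⟩, hCA1⟩ := hC
        have h2 : ¬ C ≤ Subgroup.centralizer ((Cfsg.conjBy A n : Subgroup G) : Set G) :=
          fun h => hCA1 ⟨hCS, h⟩
        obtain ⟨D, hD, h3, h4⟩ := pair_of_centralizing hS hN hCS hn hCA h2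
        exact ⟨A, hA, D, hD, h3, h4⟩
      · obtain ⟨⟨hCS, hCA1⟩, hCA⟩ := hC
        have hAeq : Cfsg.conjBy A1 n⁻¹ = A := by
          rw [hA1, conjBy_conjBy, inv_mul_cancel, conjBy_one]
        have h2 : ¬ C ≤ Subgroup.centralizer ((Cfsg.conjBy A1 n⁻¹ : Subgroup G) : Set G) := by
          rw [hAeq]; exact fun h => hCA ⟨hCS, h⟩
        obtain ⟨D, hD, h3, h4⟩ := pair_of_centralizing hS hN hCS (N.inv_mem hn) hCA1 h2
        exact ⟨A1, hA1S, D, hD, h3, h4⟩
    · exact ⟨A, hA, A1, hA1S, hc, commIn_conj_of_comm hN hn (abelian_of_mem hS hA)⟩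

/-- K1: a normal subgroup meeting a member nontrivially is everything (when `G` is perfect). -/
theorem eq_top_of_inf_ne_bot (hS : Cfsg.IsRootSubgroupSet S)
    (h1 : Cfsg.IsConnectedFamily (Cfsg.FAdj S) S)
    (h4 : ∀ A ∈ S, ∀ B ∈ Cfsg.rankOnePartners S A, Cfsg.IsSpecialRankOnePair A B)
    (hperf : commutator G = ⊤) {N : Subgroup G} (hN : N.Normal) {A : Subgroup G} (hA : A ∈ S)
    (hAN : A ⊓ N ≠ ⊥) : N = ⊤ := by
  have key : ∀ C, Relation.ReflTransGen (Cfsg.FAdj S) A C → C ⊓ N ≠ ⊥ ∧ N ⊔ C = N ⊔ A := by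
    intro C hreach
    induction hreach with
    | refl => exact ⟨hAN, rfl⟩
    | @tail C C' _ hadj ih =>
      obtain ⟨hCN, hsup⟩ := ih
      obtain ⟨hCS, hC'S, hp⟩ := hadj
      have hs := specialCond_of_pair (h4 C hCS C' ⟨hC'S, hp⟩)
      obtain ⟨c0, hc0⟩ := (Subgroup.ne_bot_iff_exists_ne_one).mp hCN
      have hc1 : (c0 : G) ≠ 1 := by
        intro h; apply hc0; exact Subtype.ext h
      have hcC : (c0 : G) ∈ C := c0.2.1
      have hcN : (c0 : G) ∈ N := c0.2.2
      obtain ⟨c', hpc⟩ := exists_partner_left hp hcC hc1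
      -- c' ∈ N
      have hc'N : c' ∈ N := by
        have h := hs.n_conj_a hpc
        have h2 := hN.conj_mem _ hcN ((c0 : G) * c'⁻¹ * (c0 : G))
        rw [h] at h2
        have := N.inv_mem h2
        rwa [inv_inv] at this
      have hc'1 : c' ≠ 1 := hpc.2.2.2.1
      have hc'C : c' ∈ C' := hpc.2.2.1
      -- the dichotomy in both directions
      have dich : ∀ {C C' : Subgroup G}, Cfsg.IsRankOnePair C C' → ∀ c ∈ C, c ∈ N → c ≠ 1 →
          C' ≤ N ⊔ C := by
        intro C C' hp c hcC hcN hc1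
        have hnorm : ∀ x ∈ C ⊔ C', ∀ m ∈ N ⊓ (C ⊔ C'), x * m * x⁻¹ ∈ N ⊓ (C ⊔ C') := by
          intro x hx m hm
          exact ⟨hN.conj_mem m hm.1 x,
            Subgroup.mul_mem _ (Subgroup.mul_mem _ hx hm.2) (Subgroup.inv_mem _ hx)⟩
        rcases rankOne_dichotomy hp (N := N ⊓ (C ⊔ C')) inf_le_right hnorm with h | h
        · refine le_trans le_sup_right (h.trans ?_)
          exact sup_le_sup_right inf_le_left C
        · exfalso
          have hcm : c ∈ N ⊓ (C ⊔ C') := ⟨hcN, Subgroup.mem_sup_left hcC⟩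
          have hcen := h hcm
          have hcC' : c ∈ Subgroup.centralizer (C' : Set G) :=
            Subgroup.centralizer_le (by intro x hx; exact Subgroup.mem_sup_right hx) hcen
          have := conjBy_eq_self_iff.mpr (centralizer_le_normalizer' C' hcC')
          exact hc1 (rankOne_eq_one_of_conj hp hcC this)
      have hle1 : C' ≤ N ⊔ C := dich hp c0 hcC hcN hc1
      have hle2 : C ≤ N ⊔ C' := dich (Cfsg.RankOnePair_symm hp) c' hc'C hc'N hc'1
      refine ⟨?_, ?_⟩
      · intro hbot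
        have : c' ∈ C' ⊓ N := ⟨hc'C, hc'N⟩
        rw [hbot, Subgroup.mem_bot] at this
        exact hc'1 this
      · rw [← hsup]
        apply le_antisymm
        · exact sup_le le_sup_left hle1
        · exact sup_le le_sup_left hle2
  -- G = N ⊔ A
  have htop : N ⊔ A = ⊤ := by
    rw [eq_top_iff, ← hS.generates]
    apply iSup₂_le
    intro C hC
    rw [← (key C (h1 A hA C hC)).2]
    exact le_sup_right
  have hN' := hN
  have := Subgroup.Normal.commutator_le_of_self_sup_commutative_eq_top htop (hS.commutative A hA)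
  rw [hperf] at this
  exact top_le_iff.mp this

end Cfsg.Agent.Helper83
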