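import Mathlib
import Cfsg.Prelude.Def_RootSubgroups
import Cfsg.Agent.Helper83.RootQS2

set_option autoImplicit false

namespace Cfsg.Agent.Helper83

open scoped commutatorElement

variable {G : Type*} [Group G] {S : Set (Subgroup G)}

theorem inf_ne_bot_of_le {C N : Subgroup G} (hC : C ≠ ⊥) (h : C ≤ N) : C ⊓ N ≠ ⊥ := by
  rw [inf_eq_left.mpr h]; exact hC

/-- The small case: `(A, D)` a special rank one pair with all commutators in `N`, and `A` has a
partner `F` in the commutator case. -/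
theorem exists_inf_ne_bot_small (hS : Cfsg.IsRootSubgroupSet S)
    (h4 : ∀ A ∈ S, ∀ B ∈ Cfsg.rankOnePartners S A, Cfsg.IsSpecialRankOnePair A B)
    {N : Subgroup G} (hN : N.Normal) {A D F : Subgroup G} (hA : A ∈ S) (hD : D ∈ S) (hF : F ∈ S)
    (hp : Cfsg.IsRankOnePair A D) (hcc : Cfsg.RootCommutatorCase S A F) (h : CommIn N A D) :
    ∃ C ∈ S, C ⊓ N ≠ ⊥ := by
  have hs := specialCond_of_pair (h4 A hA D ⟨hD, hp⟩)
  set C := ⁅A, F⁆ with hCdef
  have hCS : C ∈ S := hcc.1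
  have hCne : C ≠ ⊥ := hS.ne_bot C hCS
  -- C commutes with A
  have hCA : ∀ c ∈ C, ∀ a ∈ A, c * a = a * c := fun c hc a ha =>
    hcc.2.1 c hc a (Subgroup.mem_sup_left ha)
  have hCF : ∀ c ∈ C, ∀ f ∈ F, c * f = f * c := fun c hc f hf =>
    hcc.2.1 c hc f (Subgroup.mem_sup_right hf)
  -- (i) CommIn N D C
  have hDC : CommIn N D C := by
    intro d hd c hc
    by_cases hd1 : d = 1
    · rw [hd1, commutatorElement_one_left]; exact N.one_mem
    obtain ⟨a, hpa⟩ := exists_partner_right hp hd hd1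
    have hm : a * d ∈ N := hs.partner_mul_mem hN h hpa
    have e : d = a⁻¹ * (a * d) := by group
    rw [e]
    exact comm_mul_mem' hN (hCA c hc a⁻¹ (A.inv_mem hpa.1)) hm
  -- (ii) ⁅D, C⁆ ≠ ⊥
  have hDCne : ⁅D, C⁆ ≠ ⊥ := by
    intro hbot
    obtain ⟨c0, hc0⟩ := (Subgroup.ne_bot_iff_exists_ne_one).mp hCne
    have hc1 : (c0 : G) ≠ 1 := by
      intro h; apply hc0; exact Subtype.ext h
    rw [Subgroup.commutator_comm, Subgroup.commutator_eq_bot_iff_le_centralizer] at hbot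
    exact commutatorCase_not_centralize hS hcc hA hp hD c0.2 hc1 (hbot c0.2)
  rcases hS.pair D hD C hCS with h0 | hpDC | hccDC
  · exact absurd h0 hDCne
  · -- rank one pair (D, C)
    have hsDC := specialCond_of_pair (h4 D hD C ⟨hCS, hpDC⟩)
    obtain ⟨c0, hc0⟩ := (Subgroup.ne_bot_iff_exists_ne_one).mp hCne
    have hc1 : (c0 : G) ≠ 1 := by
      intro h; apply hc0; exact Subtype.ext h
    obtain ⟨d, hpd⟩ := exists_partner_right hpDC c0.2 hc1
    have hm2 : d * (c0 : G) ∈ N := hsDC.partner_mul_mem hN hDC hpd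
    obtain ⟨a, hpa⟩ := exists_partner_right hp hpd.1 hpd.2.1
    have hm1 : a * d ∈ N := hs.partner_mul_mem hN h hpa
    obtain ⟨f0, hf0⟩ := (Subgroup.ne_bot_iff_exists_ne_one).mp (hS.ne_bot F hF)
    have hf1 : (f0 : G) ≠ 1 := by
      intro h; apply hf0; exact Subtype.ext h
    -- z = ⁅a, f⁆ ∈ C ⊓ N, z ≠ 1
    refine ⟨C, hCS, ?_⟩
    intro hbot
    have hzC : ⁅a, (f0 : G)⁆ ∈ C := Subgroup.commutator_mem_commutator hpa.1 f0.2
    have hzN : ⁅a, (f0 : G)⁆ ∈ N := by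
      have hN' := hN
      rw [← QuotientGroup.eq_one_iff]
      have hπ : ((a : G) : G ⧸ N) = ((c0 : G) : G ⧸ N) := by
        rw [QuotientGroup.eq]
        -- a⁻¹ * c0 ∈ N
        have e : a⁻¹ * (c0 : G) = (a⁻¹ * (a * d)⁻¹ * a⁻¹⁻¹) * (d * (c0 : G)) := by
          group
        rw [e]
        exact N.mul_mem (hN.conj_mem _ (N.inv_mem hm1) a⁻¹) hm2
      have hcf : ⁅(c0 : G), (f0 : G)⁆ = 1 := by
        rw [commutatorElement_eq_one_iff_mul_comm]; exact hCF c0 c0.2 f0 f0.2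
      have : ((⁅a, (f0 : G)⁆ : G) : G ⧸ N) = ((⁅(c0 : G), (f0 : G)⁆ : G) : G ⧸ N) := by
        simp only [commutatorElement_def, QuotientGroup.mk_mul, QuotientGroup.mk_inv, hπ]
      rw [this, hcf]; rfl
    have hz1 : ⁅a, (f0 : G)⁆ ≠ 1 := by
      intro hz
      rw [commutatorElement_eq_one_iff_mul_comm] at hz
      exact hf1 (commutatorCase_centralizer_trivial hS hcc hA hp hD hpa.1 hpa.2.1 f0.2 hz)
    have : ⁅a, (f0 : G)⁆ ∈ C ⊓ N := ⟨hzC, hzN⟩
    rw [hbot, Subgroup.mem_bot] at this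
    exact hz1 this
  · -- commutator case (D, C)
    exact ⟨⁅D, C⁆, hccDC.1, inf_ne_bot_of_le (hS.ne_bot _ hccDC.1) hDC.commutator_le⟩

/-- Conjugation invariance of the commutator case. -/
theorem commutatorCase_conj (hS : Cfsg.IsRootSubgroupSet S) {A B : Subgroup G} (hA : A ∈ S)
    (hB : B ∈ S) (h : Cfsg.RootCommutatorCase S A B) (g : G) :
    Cfsg.RootCommutatorCase S (Cfsg.conjBy A g) (Cfsg.conjBy B g) := by
  apply commutatorCase_of_mem hS (hS.conj_mem A hA g) (hS.conj_mem B hB g)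
  have : ⁅Cfsg.conjBy A g, Cfsg.conjBy B g⁆ = Cfsg.conjBy ⁅A, B⁆ g := by
    simp only [Cfsg.conjBy]
    rw [Subgroup.map_commutator]
  rw [this]
  exact hS.conj_mem _ h.1 g

/-- K2: a non-central normal subgroup meets some member of `S` nontrivially. -/
theorem exists_inf_ne_bot (hS : Cfsg.IsRootSubgroupSet S) (h2 : ∃ A ∈ S, ∃ B ∈ S, A ≠ B)
    (h1 : Cfsg.IsConnectedFamily (Cfsg.FAdj S) S)
    (h2' : ∀ A ∈ S, ∀ C ∈ S, A ≠ C → Cfsg.centralizingMembers S A ≠ Cfsg.centralizingMembers S C)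
    (h3 : Cfsg.IsDegenerateRootSet S → ∀ A ∈ S, 3 < ENat.card A)
    (h4 : ∀ A ∈ S, ∀ B ∈ Cfsg.rankOnePartners S A, Cfsg.IsSpecialRankOnePair A B)
    {N : Subgroup G} (hN : N.Normal) (hNc : ¬ N ≤ Subgroup.center G) :
    ∃ A ∈ S, A ⊓ N ≠ ⊥ := by
  rcases exists_pair_of_not_central hS h2' hN hNc with h | ⟨A, hA, D, hD, hne, hcomm⟩
  · exact h
  rcases hS.pair A hA D hD with h0 | hp | hcc
  · exact absurd h0 hne
  · have hs := specialCond_of_pair (h4 A hA D ⟨hD, hp⟩)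
    by_cases hcard : 3 < ENat.card A
    · exact ⟨A, hA, inf_ne_bot_of_le (hS.ne_bot A hA)
        (le_of_commIn_of_card hN hp hs (abelian_of_mem hS hA) hcard hcomm)⟩
    · have hnd : ¬ Cfsg.IsDegenerateRootSet S := fun hdeg => hcard (h3 hdeg A hA)
      unfold Cfsg.IsDegenerateRootSet at hnd
      push Not at hnd
      obtain ⟨A', hA', B', hB', hcc'⟩ := hnd
      obtain ⟨g, hg⟩ := ((Cfsg.Agent.S5032.result hS h2).mp h1).1.2 A' hA' A hA
      have hccA := commutatorCase_conj hS hA' hB' hcc' g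
      rw [← hg] at hccA
      exact exists_inf_ne_bot_small hS h4 hN hA hD (hS.conj_mem B' hB' g) hp hccA hcomm
  · exact ⟨⁅A, D⁆, hcc.1, inf_ne_bot_of_le (hS.ne_bot _ hcc.1) hcomm.commutator_le⟩

end Cfsg.Agent.Helper83
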