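import Mathlib
import Cfsg.Prelude.Def_RootSubgroups
import Cfsg.Agent.Helper83.Quadratic

set_option autoImplicit false

namespace Cfsg.Agent.Helper83

open scoped commutatorElement

variable {G : Type*} [Group G]

/-! ### Transport of a rank one pair to the subgroup it generates -/

theorem conjBy_subgroupOf (H X : Subgroup G) (g : X) :
    Cfsg.conjBy (H.subgroupOf X) g = (Cfsg.conjBy H (g : G)).subgroupOf X := by
  ext x
  rw [mem_conjBy, Subgroup.mem_subgroupOf, Subgroup.mem_subgroupOf, mem_conjBy]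
  simp

theorem subgroupOf_eq_iff {H K X : Subgroup G} (hH : H ≤ X) (hK : K ≤ X) :
    H.subgroupOf X = K.subgroupOf X ↔ H = K := by
  rw [Subgroup.subgroupOf_inj, inf_eq_left.mpr hH, inf_eq_left.mpr hK]

theorem conjBy_le_sup_left {A B : Subgroup G} {g : G} (hg : g ∈ A ⊔ B) :
    Cfsg.conjBy A g ≤ A ⊔ B := conjBy_le_of_mem le_sup_left hg

theorem conjBy_le_sup_right {A B : Subgroup G} {g : G} (hg : g ∈ A ⊔ B) :
    Cfsg.conjBy B g ≤ A ⊔ B := conjBy_le_of_mem le_sup_right hg

theorem rankOneCondition_subtype {A B : Subgroup G} (h : Cfsg.RankOneCondition A B) :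
    Cfsg.RankOneCondition (A.subgroupOf (A ⊔ B)) (B.subgroupOf (A ⊔ B)) := by
  intro a ha ha1
  rw [Subgroup.mem_subgroupOf] at ha
  have ha1' : (a : G) ≠ 1 := by
    intro hc; apply ha1; exact Subtype.ext hc
  obtain ⟨b, hb, hb1, hc⟩ := h (a : G) ha ha1'
  refine ⟨⟨b, Subgroup.mem_sup_right hb⟩, ?_, ?_, ?_⟩
  · rw [Subgroup.mem_subgroupOf]; exact hb
  · intro hc'; apply hb1; exact congrArg Subtype.val hc'
  · rw [conjBy_subgroupOf, conjBy_subgroupOf]
    have e1 : (((⟨b, Subgroup.mem_sup_right hb⟩ : ↥(A ⊔ B))⁻¹ : ↥(A ⊔ B)) : G) = b⁻¹ := rfl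
    have e2 : ((a⁻¹ : ↥(A ⊔ B)) : G) = (a : G)⁻¹ := rfl
    rw [e1, e2, hc]

theorem rankOneGroup_subtype {A B : Subgroup G} (h : Cfsg.IsRankOnePair A B) :
    Cfsg.IsRankOneGroup ↥(A ⊔ B) (A.subgroupOf (A ⊔ B)) (B.subgroupOf (A ⊔ B)) := by
  refine ⟨?_, ?_, ?_, ?_, ?_, ?_⟩
  · rw [← Subgroup.subgroupOf_sup le_sup_left le_sup_right, Subgroup.subgroupOf_self]
  · intro hc
    exact h.ne ((subgroupOf_eq_iff le_sup_left le_sup_right).mp hc)
  · exact (Group.isNilpotent_congr (Subgroup.subgroupOfEquivOfLe (le_sup_left : A ≤ A ⊔ B))).mpr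
      h.nilpotent_left
  · exact (Group.isNilpotent_congr (Subgroup.subgroupOfEquivOfLe (le_sup_right : B ≤ A ⊔ B))).mpr
      h.nilpotent_right
  · exact rankOneCondition_subtype h.cond_left
  · have := rankOneCondition_subtype h.cond_right
    rw [sup_comm] at this
    exact this

theorem special_of_subtype {A B : Subgroup G} (h : Cfsg.IsRankOnePair A B)
    (hs : Cfsg.IsSpecialRankOnePair (A.subgroupOf (A ⊔ B)) (B.subgroupOf (A ⊔ B))) :
    Cfsg.IsSpecialRankOnePair A B := by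
  refine ⟨h, ?_⟩
  intro a ha ha1 b hb hb1 hc
  have hc' : Cfsg.conjBy (A.subgroupOf (A ⊔ B)) (⟨b, Subgroup.mem_sup_right hb⟩ : ↥(A ⊔ B))⁻¹ =
      Cfsg.conjBy (B.subgroupOf (A ⊔ B)) (⟨a, Subgroup.mem_sup_left ha⟩ : ↥(A ⊔ B))⁻¹ := by
    rw [conjBy_subgroupOf, conjBy_subgroupOf]
    have e1 : (((⟨b, Subgroup.mem_sup_right hb⟩ : ↥(A ⊔ B))⁻¹ : ↥(A ⊔ B)) : G) = b⁻¹ := rfl
    have e2 : (((⟨a, Subgroup.mem_sup_left ha⟩ : ↥(A ⊔ B))⁻¹ : ↥(A ⊔ B)) : G) = a⁻¹ := rfl
    rw [e1, e2, hc]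
  have := hs.2 ⟨a, Subgroup.mem_sup_left ha⟩ (Subgroup.mem_subgroupOf.mpr ha)
    (fun hc => ha1 (congrArg Subtype.val hc)) ⟨b, Subgroup.mem_sup_right hb⟩
    (Subgroup.mem_subgroupOf.mpr hb) (fun hc => hb1 (congrArg Subtype.val hc)) hc'
  exact congrArg Subtype.val this

/-! ### The conjugation module -/

open scoped IsMulCommutative in
/-- The conjugation action of a subgroup `X` normalizing the abelian subgroup `N` on `N`, written
additively. -/
@[reducible] noncomputable def conjModule (X N : Subgroup G) [IsMulCommutative N]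
    (hX : X ≤ Subgroup.normalizer (N : Set G)) : DistribMulAction X (Additive N) where
  smul x n := Additive.ofMul ⟨(x : G) * ((Additive.toMul n : N) : G) * (x : G)⁻¹,
    (Subgroup.mem_normalizer_iff.mp (hX x.2) _).mp (Additive.toMul n).2⟩
  one_smul n := by
    apply Additive.toMul.injective
    apply Subtype.ext
    change ((1 : X) : G) * ((Additive.toMul n : N) : G) * ((1 : X) : G)⁻¹ = _
    simp
  mul_smul x y n := by
    apply Additive.toMul.injective
    apply Subtype.ext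
    change ((x * y : X) : G) * ((Additive.toMul n : N) : G) * ((x * y : X) : G)⁻¹ =
      (x : G) * ((y : G) * ((Additive.toMul n : N) : G) * (y : G)⁻¹) * (x : G)⁻¹
    rw [Subgroup.coe_mul]; group
  smul_zero x := by
    apply Additive.toMul.injective
    apply Subtype.ext
    change (x : G) * ((1 : N) : G) * (x : G)⁻¹ = ((1 : N) : G)
    simp
  smul_add x m n := by
    apply Additive.toMul.injective
    apply Subtype.ext
    change (x : G) * (((Additive.toMul m * Additive.toMul n : N)) : G) * (x : G)⁻¹ =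
      ((x : G) * ((Additive.toMul m : N) : G) * (x : G)⁻¹) *
        ((x : G) * ((Additive.toMul n : N) : G) * (x : G)⁻¹)
    rw [Subgroup.coe_mul]; group

open scoped IsMulCommutative in
/-- A rank one pair `(A, B)` in `G` acting by conjugation on an abelian subgroup `N` normalized by
`A ⊔ B`, with `A` quadratic and `A ⊔ B` not quadratic, is special. -/
theorem special_of_quadratic_sub {A B N : Subgroup G} (h : Cfsg.IsRankOnePair A B)
    (hN : IsMulCommutative N) (hX : A ⊔ B ≤ Subgroup.normalizer (N : Set G))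
    (hq : ∀ a ∈ A, ∀ a' ∈ A, ∀ n ∈ N, a' * ⁅a, n⁆ = ⁅a, n⁆ * a')
    (hnq : ∃ x ∈ A ⊔ B, ∃ y ∈ A ⊔ B, ∃ n ∈ N, y * ⁅x, n⁆ ≠ ⁅x, n⁆ * y) :
    Cfsg.IsSpecialRankOnePair A B := by
  haveI := hN
  letI := conjModule (A ⊔ B) N hX
  have hsmul : ∀ (x : ↥(A ⊔ B)) (n : Additive N),
      ((Additive.toMul (x • n) : N) : G) = (x : G) * ((Additive.toMul n : N) : G) * (x : G)⁻¹ :=
    fun _ _ => rfl
  have hsub : ∀ (x : ↥(A ⊔ B)) (n : Additive N),
      ((Additive.toMul (x • n - n) : N) : G) = ⁅(x : G), ((Additive.toMul n : N) : G)⁆ := by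
    intro x n
    rw [toMul_sub, div_eq_mul_inv, Subgroup.coe_mul, Subgroup.coe_inv, hsmul, commutatorElement_def]
  have hfix : ∀ (y : ↥(A ⊔ B)) (m : Additive N),
      y • m = m ↔ (y : G) * ((Additive.toMul m : N) : G) = ((Additive.toMul m : N) : G) * (y : G) := by
    intro y m
    constructor
    · intro hy
      have := hsmul y m
      rw [hy] at this
      calc (y : G) * ((Additive.toMul m : N) : G)
          = ((y : G) * ((Additive.toMul m : N) : G) * (y : G)⁻¹) * (y : G) := by group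
        _ = ((Additive.toMul m : N) : G) * (y : G) := by rw [← this]
    · intro hy
      apply Additive.toMul.injective
      apply Subtype.ext
      rw [hsmul, hy]; group
  apply special_of_subtype h
  apply special_of_quadratic (rankOneGroup_subtype h) (N := Additive N)
  · intro a ha a' ha' n
    rw [Subgroup.mem_subgroupOf] at ha ha'
    rw [hfix, hsub]
    exact hq _ ha _ ha' _ (Additive.toMul n).2
  · obtain ⟨x, hx, y, hy, n, hn, hne⟩ := hnq
    refine ⟨⟨x, hx⟩, ⟨y, hy⟩, Additive.ofMul ⟨n, hn⟩, ?_⟩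
    intro hc
    rw [hfix, hsub] at hc
    exact hne hc

end Cfsg.Agent.Helper83
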