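import Mathlib

set_option autoImplicit false

/-!
# Transvections `1 + u ψᵀ` in `SL` and their conjugacy
-/

namespace Cfsg.Agent.Helper83.Transv

open Matrix

variable {ι F : Type*} [DecidableEq ι] [Fintype ι] [Field F]

/-- `1 + u ψᵀ` as an element of `SL`, given a proof of `ψ · u = 0`. -/
noncomputable def tvAux (u ψ : ι → F) (h : ψ ⬝ᵥ u = 0) : SpecialLinearGroup ι F :=
  ⟨1 + vecMulVec u ψ, by
    rw [Matrix.vecMulVec_eq Unit, det_one_add_replicateCol_mul_replicateRow, h, add_zero]⟩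

open Classical in
/-- `1 + u ψᵀ` as an element of `SL`, provided `ψ · u = 0` (junk value `1` otherwise). -/
noncomputable def tv (u ψ : ι → F) : SpecialLinearGroup ι F :=
  if h : ψ ⬝ᵥ u = 0 then tvAux u ψ h else 1

theorem tv_coe {u ψ : ι → F} (h : ψ ⬝ᵥ u = 0) :
    ((tv u ψ : SpecialLinearGroup ι F) : Matrix ι ι F) = 1 + vecMulVec u ψ := by
  rw [tv, dif_pos h]; rfl

/-- The pair `(u, ψ)` defines a non-trivial transvection. -/
def Good (u ψ : ι → F) : Prop := u ≠ 0 ∧ ψ ≠ 0 ∧ ψ ⬝ᵥ u = 0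

theorem coe_mul_inv (y : SpecialLinearGroup ι F) :
    (y : Matrix ι ι F) * ((y⁻¹ : SpecialLinearGroup ι F) : Matrix ι ι F) = 1 := by
  rw [← Matrix.SpecialLinearGroup.coe_mul, mul_inv_cancel, Matrix.SpecialLinearGroup.coe_one]

theorem coe_inv_mul (y : SpecialLinearGroup ι F) :
    ((y⁻¹ : SpecialLinearGroup ι F) : Matrix ι ι F) * (y : Matrix ι ι F) = 1 := by
  rw [← Matrix.SpecialLinearGroup.coe_mul, inv_mul_cancel, Matrix.SpecialLinearGroup.coe_one]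

theorem dot_conj (y : SpecialLinearGroup ι F) (u ψ : ι → F) :
    (ψ ᵥ* ((y⁻¹ : SpecialLinearGroup ι F) : Matrix ι ι F)) ⬝ᵥ ((y : Matrix ι ι F) *ᵥ u) = ψ ⬝ᵥ u := by
  rw [← dotProduct_mulVec, mulVec_mulVec, coe_inv_mul, one_mulVec]

theorem conj_tv (y : SpecialLinearGroup ι F) {u ψ : ι → F} (h : ψ ⬝ᵥ u = 0) :
    y * tv u ψ * y⁻¹ =
      tv ((y : Matrix ι ι F) *ᵥ u) (ψ ᵥ* ((y⁻¹ : SpecialLinearGroup ι F) : Matrix ι ι F)) := by
  have h' := (dot_conj y u ψ).trans h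
  apply Subtype.ext
  rw [Matrix.SpecialLinearGroup.coe_mul, Matrix.SpecialLinearGroup.coe_mul, tv_coe h, tv_coe h', mul_add, add_mul,
    mul_one, coe_mul_inv, mul_vecMulVec, vecMulVec_mul]

theorem good_conj (y : SpecialLinearGroup ι F) {u ψ : ι → F} (h : Good u ψ) :
    Good ((y : Matrix ι ι F) *ᵥ u) (ψ ᵥ* ((y⁻¹ : SpecialLinearGroup ι F) : Matrix ι ι F)) := by
  refine ⟨?_, ?_, (dot_conj y u ψ).trans h.2.2⟩
  · intro h0
    apply h.1
    have := congrArg (fun t => ((y⁻¹ : SpecialLinearGroup ι F) : Matrix ι ι F) *ᵥ t) h0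
    simpa only [mulVec_mulVec, coe_inv_mul, one_mulVec, mulVec_zero] using this
  · intro h0
    apply h.2.1
    have := congrArg (fun t => t ᵥ* (y : Matrix ι ι F)) h0
    simpa only [vecMul_vecMul, coe_inv_mul, vecMul_one, zero_vecMul] using this

theorem tv_ne_one {u ψ : ι → F} (h : Good u ψ) : tv u ψ ≠ 1 := by
  intro h1
  have := congrArg (fun t : SpecialLinearGroup ι F => (t : Matrix ι ι F)) h1
  simp only [tv_coe h.2.2, Matrix.SpecialLinearGroup.coe_one, add_eq_left] at this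
  rcases vecMulVec_eq_zero.mp this with h2 | h2
  · exact h.1 h2
  · exact h.2.1 h2

/-- Action of a transvection on a column vector. -/
theorem tv_mulVec {z χ : ι → F} (h : χ ⬝ᵥ z = 0) (u : ι → F) :
    ((tv z χ : SpecialLinearGroup ι F) : Matrix ι ι F) *ᵥ u = u + (χ ⬝ᵥ u) • z := by
  rw [tv_coe h, add_mulVec, one_mulVec, vecMulVec_mulVec, op_smul_eq_smul]

/-- Action of a transvection on a row vector. -/
theorem vecMul_tv {z χ : ι → F} (h : χ ⬝ᵥ z = 0) (ψ : ι → F) :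
    ψ ᵥ* ((tv z χ : SpecialLinearGroup ι F) : Matrix ι ι F) = ψ + (ψ ⬝ᵥ z) • χ := by
  rw [tv_coe h, vecMul_add, vecMul_one, vecMul_vecMulVec]

theorem tv_mul_tv_neg {z χ : ι → F} (h : χ ⬝ᵥ z = 0) : tv z χ * tv (-z) χ = 1 := by
  have h' : χ ⬝ᵥ (-z) = 0 := by rw [dotProduct_neg, h, neg_zero]
  apply Subtype.ext
  rw [Matrix.SpecialLinearGroup.coe_mul, tv_coe h, tv_coe h', Matrix.SpecialLinearGroup.coe_one]
  rw [add_mul, mul_add, mul_add, one_mul, mul_one, one_mul, vecMulVec_mul_vecMulVec, h', zero_smul]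
  ext i j
  simp [vecMulVec_apply]

theorem tv_inv {z χ : ι → F} (h : χ ⬝ᵥ z = 0) : (tv z χ)⁻¹ = tv (-z) χ :=
  inv_eq_of_mul_eq_one_right (tv_mul_tv_neg h)

end Cfsg.Agent.Helper83.Transv
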