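import Mathlib
import Cfsg.Agent.Helper83.Transv1

set_option autoImplicit false

/-!
# All transvections `1 + u ψᵀ` of `SL` (rank at least 3) are conjugate
-/

namespace Cfsg.Agent.Helper83.Transv

open Matrix

variable {ι F : Type*} [DecidableEq ι] [Fintype ι] [Field F]

theorem conj_tv' (y : SpecialLinearGroup ι F) {u ψ u' ψ' : ι → F} (h : ψ ⬝ᵥ u = 0)
    (hu : (y : Matrix ι ι F) *ᵥ u = u') (hψ : ψ' ᵥ* (y : Matrix ι ι F) = ψ) :
    y * tv u ψ * y⁻¹ = tv u' ψ' := by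
  rw [conj_tv y h, hu]
  congr 1
  rw [← hψ, vecMul_vecMul, coe_mul_inv, vecMul_one]

theorem single_vecMulVec_single (i j : ι) (s t : F) :
    vecMulVec (Pi.single i s) (Pi.single j t) = Matrix.single i j (s * t) := by
  ext a b
  rw [vecMulVec_apply, Matrix.single_apply, Pi.single_apply, Pi.single_apply]
  by_cases h1 : a = i
  · by_cases h2 : b = j
    · simp [h1, h2]
    · have h3 : ¬ (i = a ∧ j = b) := fun h => h2 h.2.symm
      simp [h2, h3]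
  · have h3 : ¬ (i = a ∧ j = b) := fun h => h1 h.1.symm
    simp [h1, h3]

theorem tv_single_single {i j : ι} (hij : i ≠ j) (s t : F) :
    ((tv (Pi.single i s) (Pi.single j t) : SpecialLinearGroup ι F) : Matrix ι ι F) =
      Matrix.transvection i j (s * t) := by
  have h : (Pi.single j t : ι → F) ⬝ᵥ Pi.single i s = 0 := by
    rw [dotProduct_single, Pi.single_apply, if_neg hij, zero_mul]
  rw [tv_coe h, single_vecMulVec_single, Matrix.transvection]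

variable {i₀ i₁ i₂ : ι}

/-- The standard transvection `1 + E_{i₀ i₁}`. -/
noncomputable def stdT (i₀ i₁ : ι) : SpecialLinearGroup ι F := tv (Pi.single i₀ 1) (Pi.single i₁ 1)

theorem stdT_coe (h01 : i₀ ≠ i₁) :
    ((stdT i₀ i₁ : SpecialLinearGroup ι F) : Matrix ι ι F) = Matrix.transvection i₀ i₁ 1 := by
  rw [stdT, tv_single_single h01, mul_one]

theorem isConj_L4 (h01 : i₀ ≠ i₁) (h02 : i₀ ≠ i₂) (h12 : i₁ ≠ i₂) {s μ : F} (hs : s ≠ 0) (hμ : μ ≠ 0) :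
    IsConj (tv (Pi.single i₀ s) (Pi.single i₁ μ) : SpecialLinearGroup ι F) (stdT i₀ i₁) := by
  have hl : (s * μ)⁻¹ ≠ 0 := inv_ne_zero (mul_ne_zero hs hμ)
  rw [isConj_iff]
  refine ⟨SpecialLinearGroup.diag2n h02 (s * μ)⁻¹ hl, ?_⟩
  have h : (Pi.single i₁ μ : ι → F) ⬝ᵥ Pi.single i₀ s = 0 := by
    rw [dotProduct_single, Pi.single_apply, if_neg h01, zero_mul]
  rw [conj_tv' (u' := Pi.single i₀ ((s * μ)⁻¹ * s)) (ψ' := Pi.single i₁ μ) _ h]
  · apply Subtype.ext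
    rw [tv_single_single h01, stdT_coe h01]
    congr 1
    field_simp
  · rw [SpecialLinearGroup.diag2n_coe, diagonal_mulVec_single, if_pos rfl]
  · rw [SpecialLinearGroup.diag2n_coe]
    ext x
    rw [vecMul_diagonal, Pi.single_apply]
    by_cases hx : x = i₁
    · subst hx
      rw [if_pos rfl, if_neg h01.symm, if_neg h12, mul_one]
    · rw [if_neg hx, zero_mul]

theorem isConj_L3 (h01 : i₀ ≠ i₁) (h02 : i₀ ≠ i₂) (h12 : i₁ ≠ i₂) {s : F} (hs : s ≠ 0) {ψ : ι → F}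
    (hψ0 : ψ i₀ = 0) (hψ1 : ψ i₁ ≠ 0) :
    IsConj (tv (Pi.single i₀ s) ψ : SpecialLinearGroup ι F) (stdT i₀ i₁) := by
  refine IsConj.trans ?_ (isConj_L4 h01 h02 h12 hs hψ1)
  set χ : ι → F := (ψ i₁)⁻¹ • (Pi.single i₁ (ψ i₁) - ψ) with hχ
  have hχ1 : χ i₁ = 0 := by
    simp [hχ]
  have hχ0 : χ i₀ = 0 := by
    simp [hχ, hψ0, h01]
  have hdot : χ ⬝ᵥ (-(Pi.single i₁ 1 : ι → F)) = 0 := by
    rw [dotProduct_neg, dotProduct_single, hχ1, zero_mul, neg_zero]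
  have h : ψ ⬝ᵥ (Pi.single i₀ s : ι → F) = 0 := by
    rw [dotProduct_single, hψ0, zero_mul]
  rw [isConj_iff]
  refine ⟨tv (-(Pi.single i₁ 1)) χ, ?_⟩
  apply conj_tv' _ h
  · rw [tv_mulVec hdot, dotProduct_single, hχ0, zero_mul, zero_smul, add_zero]
  · rw [vecMul_tv hdot, dotProduct_neg, single_dotProduct, Pi.single_apply, if_pos rfl, mul_one, hχ,
      smul_smul, neg_mul, mul_inv_cancel₀ hψ1]
    simp

theorem isConj_L2 (h01 : i₀ ≠ i₁) (h02 : i₀ ≠ i₂) (h12 : i₁ ≠ i₂) {s : F} (hs : s ≠ 0) {ψ : ι → F}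
    (hψ : ψ ≠ 0) (hψ0 : ψ i₀ = 0) :
    IsConj (tv (Pi.single i₀ s) ψ : SpecialLinearGroup ι F) (stdT i₀ i₁) := by
  by_cases hψ1 : ψ i₁ = 0
  · obtain ⟨j, hj⟩ : ∃ j, ψ j ≠ 0 := by
      by_contra hcon
      push Not at hcon
      exact hψ (funext hcon)
    have hj0 : j ≠ i₀ := fun h => hj (h ▸ hψ0)
    have hj1 : j ≠ i₁ := fun h => hj (h ▸ hψ1)
    set ψ' : ι → F := ψ + Pi.single i₁ 1 with hψ'
    have h1 : ψ' i₁ ≠ 0 := by simp [hψ', hψ1]
    have h0 : ψ' i₀ = 0 := by simp [hψ', hψ0, h01]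
    refine IsConj.trans ?_ (isConj_L3 h01 h02 h12 hs h0 h1)
    have hdot : (Pi.single i₁ 1 : ι → F) ⬝ᵥ (Pi.single j (-(ψ j)⁻¹)) = 0 := by
      rw [dotProduct_single, Pi.single_apply, if_neg hj1, zero_mul]
    have h : ψ ⬝ᵥ (Pi.single i₀ s : ι → F) = 0 := by
      rw [dotProduct_single, hψ0, zero_mul]
    rw [isConj_iff]
    refine ⟨tv (Pi.single j (-(ψ j)⁻¹)) (Pi.single i₁ 1), ?_⟩
    apply conj_tv' _ h
    · rw [tv_mulVec hdot, single_dotProduct, Pi.single_apply, if_neg h01.symm, mul_zero, zero_smul, add_zero]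
    · have hj' : ψ' j = ψ j := by simp [hψ', hj1]
      rw [vecMul_tv hdot, dotProduct_single, hj', mul_neg, mul_inv_cancel₀ hj, hψ']
      simp
  · exact isConj_L3 h01 h02 h12 hs hψ0 hψ1

theorem isConj_L1 (h01 : i₀ ≠ i₁) (h02 : i₀ ≠ i₂) (h12 : i₁ ≠ i₂) {u ψ : ι → F} (hg : Good u ψ)
    (hu0 : u i₀ ≠ 0) : IsConj (tv u ψ : SpecialLinearGroup ι F) (stdT i₀ i₁) := by
  set z : ι → F := (u i₀)⁻¹ • (Pi.single i₀ (u i₀) - u) with hz
  have hz0 : z i₀ = 0 := by simp [hz]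
  have hdot : (Pi.single i₀ 1 : ι → F) ⬝ᵥ z = 0 := by
    rw [single_dotProduct, hz0, mul_zero]
  have hyu : ((tv z (Pi.single i₀ 1) : SpecialLinearGroup ι F) : Matrix ι ι F) *ᵥ u = Pi.single i₀ (u i₀) := by
    rw [tv_mulVec hdot, single_dotProduct, one_mul, hz, smul_smul, mul_inv_cancel₀ hu0, one_smul]
    abel
  have hg' := good_conj (tv z (Pi.single i₀ 1)) hg
  rw [hyu] at hg'
  have hψ0 : (ψ ᵥ* ((tv z (Pi.single i₀ 1))⁻¹ : SpecialLinearGroup ι F).1) i₀ = 0 := by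
    have := hg'.2.2
    rw [dotProduct_single] at this
    exact (mul_eq_zero.mp this).resolve_right hu0
  refine IsConj.trans ?_ (isConj_L2 h01 h02 h12 hu0 hg'.2.1 hψ0)
  rw [isConj_iff]
  refine ⟨tv z (Pi.single i₀ 1), ?_⟩
  rw [conj_tv _ hg.2.2, hyu]

theorem isConj_stdT (h01 : i₀ ≠ i₁) (h02 : i₀ ≠ i₂) (h12 : i₁ ≠ i₂) {u ψ : ι → F} (hg : Good u ψ) :
    IsConj (tv u ψ : SpecialLinearGroup ι F) (stdT i₀ i₁) := by
  by_cases hu0 : u i₀ = 0
  · obtain ⟨j, hj⟩ : ∃ j, u j ≠ 0 := by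
      by_contra hcon
      push Not at hcon
      exact hg.1 (funext hcon)
    have hj0 : j ≠ i₀ := fun h => hj (h ▸ hu0)
    have hdot : (Pi.single j 1 : ι → F) ⬝ᵥ (Pi.single i₀ 1) = 0 := by
      rw [dotProduct_single, Pi.single_apply, if_neg hj0.symm, zero_mul]
    have hg' := good_conj (tv (Pi.single i₀ 1) (Pi.single j 1)) hg
    have hne : (((tv (Pi.single i₀ 1) (Pi.single j 1) : SpecialLinearGroup ι F) : Matrix ι ι F) *ᵥ u) i₀ ≠ 0 := by
      rw [tv_mulVec hdot, single_dotProduct, one_mul]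
      simp [hu0, hj]
    refine IsConj.trans ?_ (isConj_L1 h01 h02 h12 hg' hne)
    rw [isConj_iff]
    exact ⟨_, conj_tv _ hg.2.2⟩
  · exact isConj_L1 h01 h02 h12 hg hu0

end Cfsg.Agent.Helper83.Transv
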