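import Mathlib
import Cfsg.Agent.Helper83.Transv2

set_option autoImplicit false

/-!
# Products of two transvections in characteristic 2
-/

namespace Cfsg.Agent.Helper83.Transv

open Matrix

variable {ι F : Type*} [DecidableEq ι] [Fintype ι] [Field F]

theorem tv_mul_same {u u' φ : ι → F} (h : φ ⬝ᵥ u = 0) (h' : φ ⬝ᵥ u' = 0) :
    tv u φ * tv u' φ = tv (u + u') φ := by
  have h2 : φ ⬝ᵥ (u + u') = 0 := by rw [dotProduct_add, h, h', add_zero]
  apply Subtype.ext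
  rw [Matrix.SpecialLinearGroup.coe_mul, tv_coe h, tv_coe h', tv_coe h2, add_mul, mul_add, mul_add, one_mul,
    mul_one, one_mul, vecMulVec_mul_vecMulVec, h', zero_smul]
  ext i j
  simp [vecMulVec_apply, add_mul]
  try ring

theorem tv_zero_left (φ : ι → F) : tv (0 : ι → F) φ = 1 := by
  have h : φ ⬝ᵥ (0 : ι → F) = 0 := dotProduct_zero _
  apply Subtype.ext
  rw [tv_coe h, Matrix.SpecialLinearGroup.coe_one]
  ext i j
  simp [vecMulVec_apply]

section char2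

variable [CharP F 2]

theorem vec_add_self (u : ι → F) : u + u = 0 :=
  funext fun i => CharTwo.add_self_eq_zero (u i)

theorem tv_mul_self {u φ : ι → F} (h : φ ⬝ᵥ u = 0) : tv u φ * tv u φ = 1 := by
  rw [tv_mul_same h h, vec_add_self, tv_zero_left]

theorem tv_inv_self {u φ : ι → F} (h : φ ⬝ᵥ u = 0) : (tv u φ)⁻¹ = tv u φ :=
  inv_eq_of_mul_eq_one_right (tv_mul_self h)

/-- If `φ · w = 0`, then `(ab)² = 1 + (ψ·v) w φᵀ` for `a = 1 + v φᵀ`, `b = 1 + w ψᵀ`. -/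
theorem sq_of_dot_eq_zero {v φ w ψ : ι → F} (hv : φ ⬝ᵥ v = 0) (hw : ψ ⬝ᵥ w = 0) (hp : φ ⬝ᵥ w = 0) :
    (tv v φ * tv w ψ) ^ 2 = tv ((ψ ⬝ᵥ v) • w) φ := by
  have h1 : tv w ψ * tv v φ * (tv w ψ)⁻¹ = tv (v + (ψ ⬝ᵥ v) • w) φ := by
    apply conj_tv' _ hv
    · rw [tv_mulVec hw]
    · rw [vecMul_tv hw, hp, zero_smul, add_zero]
  have h2 : φ ⬝ᵥ (v + (ψ ⬝ᵥ v) • w) = 0 := by
    rw [dotProduct_add, dotProduct_smul, hv, hp, smul_zero, add_zero]
  have h3 : tv v φ * tv (v + (ψ ⬝ᵥ v) • w) φ = tv ((ψ ⬝ᵥ v) • w) φ := by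
    rw [tv_mul_same hv h2, ← add_assoc, vec_add_self, zero_add]
  rw [← h3, ← h1, tv_inv_self hw, pow_two]
  have hb := tv_mul_self (F := F) hw
  simp only [mul_assoc]

/-- If `(φ·w)(ψ·v) = 1`, then `(ab)³ = 1`. -/
theorem cube_of_dot_eq_one {v φ w ψ : ι → F} (hv : φ ⬝ᵥ v = 0) (hw : ψ ⬝ᵥ w = 0) (hp : φ ⬝ᵥ w = 1)
    (hr : ψ ⬝ᵥ v = 1) : (tv v φ * tv w ψ) ^ 3 = 1 := by
  have h1 : tv v φ * tv w ψ * (tv v φ)⁻¹ = tv (v + w) (φ + ψ) := by
    apply conj_tv' _ hw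
    · rw [tv_mulVec hv, hp, one_smul, add_comm]
    · rw [vecMul_tv hv, add_dotProduct, hv, hr, zero_add, one_smul, add_assoc, add_comm ψ φ, ← add_assoc,
        vec_add_self, zero_add]
  have h2 : tv w ψ * tv v φ * (tv w ψ)⁻¹ = tv (v + w) (φ + ψ) := by
    apply conj_tv' _ hv
    · rw [tv_mulVec hw, hr, one_smul]
    · rw [vecMul_tv hw, add_dotProduct, hw, hp, add_zero, one_smul, add_assoc, vec_add_self,
        add_zero]
  rw [tv_inv_self hv] at h1
  rw [tv_inv_self hw] at h2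
  have ha := tv_mul_self (F := F) hv
  have hb := tv_mul_self (F := F) hw
  set a := tv v φ
  set b := tv w ψ
  have h3 : a * b * a = b * a * b := h1.trans h2.symm
  calc (a * b) ^ 3 = a * b * a * (b * a * b) := by
        simp only [pow_succ, pow_zero, one_mul, mul_assoc]
    _ = b * a * b * (b * a * b) := by rw [h3]
    _ = b * a * (b * b) * a * b := by simp only [mul_assoc]
    _ = b * (a * a) * b := by rw [hb]; simp only [mul_assoc, mul_one]
    _ = 1 := by rw [ha, mul_one, hb]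

end char2

end Cfsg.Agent.Helper83.Transv
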