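import Mathlib
import Cfsg.Agent.Helper83.Transv3

set_option autoImplicit false

/-!
# The product of two non-commuting "opposite" transvections has odd order (characteristic 2)
-/

namespace Cfsg.Agent.Helper83.Transv

open Matrix

variable {ι F : Type*} [DecidableEq ι] [Fintype ι] [Field F]

theorem commute_of_dot_eq_zero {v φ w ψ : ι → F} (hv : φ ⬝ᵥ v = 0) (hw : ψ ⬝ᵥ w = 0)
    (hp : φ ⬝ᵥ w = 0) (hr : ψ ⬝ᵥ v = 0) : tv v φ * tv w ψ = tv w ψ * tv v φ := by
  have h1 : tv w ψ * tv v φ * (tv w ψ)⁻¹ = tv v φ := by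
    apply conj_tv' _ hv
    · rw [tv_mulVec hw, hr, zero_smul, add_zero]
    · rw [vecMul_tv hw, hp, zero_smul, add_zero]
  rw [mul_inv_eq_iff_eq_mul] at h1
  exact h1.symm

theorem exists_ne_zero {u : ι → F} (hu : u ≠ 0) : ∃ i, u i ≠ 0 := by
  by_contra hcon
  push Not at hcon
  exact hu (funext hcon)

theorem eq_zero_of_mulVec_eq_zero {A : Matrix ι ι F} (h : ∀ t : ι → F, A *ᵥ t = 0) : A = 0 := by
  ext i j
  have := congrFun (h (Pi.single j 1)) i
  simpa [mulVec_single_one] using this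

section char2

variable [CharP F 2]

theorem eq_one_of_mul_self_eq_one {κ : F} (h : κ * κ = 1) : κ = 1 := by
  have h1 : (κ + 1) ^ 2 = 0 := by
    rw [CharTwo.add_sq, sq, h, one_pow]
    exact CharTwo.add_self_eq_zero 1
  have h2 : κ + 1 = 0 := pow_eq_zero_iff (two_ne_zero) |>.mp h1
  have h3 : κ = -1 := eq_neg_of_add_eq_zero_left h2
  rw [h3, CharTwo.neg_eq]

/-- An involution commuting with the transvection `1 + v φᵀ` fixes the row vector `φ`. -/
theorem vecMul_eq_of_commute {v φ : ι → F} (hg : Good v φ) {z : SpecialLinearGroup ι F}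
    (hzz : z * z = 1) (hc : z * tv v φ = tv v φ * z) : φ ᵥ* (z : Matrix ι ι F) = φ := by
  have hM : (z : Matrix ι ι F) * vecMulVec v φ = vecMulVec v φ * (z : Matrix ι ι F) := by
    have := congrArg (fun t : SpecialLinearGroup ι F => (t : Matrix ι ι F)) hc
    simp only [Matrix.SpecialLinearGroup.coe_mul, tv_coe hg.2.2, mul_add, add_mul, mul_one, one_mul] at this
    exact add_left_cancel this
  rw [mul_vecMulVec, vecMulVec_mul] at hM
  obtain ⟨j, hj⟩ := exists_ne_zero hg.2.1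
  obtain ⟨i, hi⟩ := exists_ne_zero hg.1
  have h1 := congrArg (fun X : Matrix ι ι F => X *ᵥ (Pi.single j (φ j)⁻¹)) hM
  simp only [vecMulVec_mulVec, op_smul_eq_smul, dotProduct_single] at h1
  rw [mul_inv_cancel₀ hj, one_smul] at h1
  set κ := (φ ᵥ* (z : Matrix ι ι F)) j * (φ j)⁻¹ with hκ
  have hzz' : (z : Matrix ι ι F) * (z : Matrix ι ι F) = 1 := by
    rw [← Matrix.SpecialLinearGroup.coe_mul, hzz, Matrix.SpecialLinearGroup.coe_one]
  have h2 : v = (κ * κ) • v := by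
    calc v = ((z : Matrix ι ι F) * (z : Matrix ι ι F)) *ᵥ v := by rw [hzz', one_mulVec]
      _ = (z : Matrix ι ι F) *ᵥ ((z : Matrix ι ι F) *ᵥ v) := (mulVec_mulVec _ _ _).symm
      _ = (z : Matrix ι ι F) *ᵥ (κ • v) := by rw [h1]
      _ = κ • ((z : Matrix ι ι F) *ᵥ v) := mulVec_smul _ _ _
      _ = κ • κ • v := by rw [h1]
      _ = (κ * κ) • v := smul_smul _ _ _
  have h3 : κ * κ = 1 := by
    have := congrFun h2 i
    simp only [Pi.smul_apply, smul_eq_mul] at this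
    have h4 : (κ * κ - 1) * v i = 0 := by rw [sub_mul, one_mul, ← this, sub_self]
    rcases mul_eq_zero.mp h4 with h5 | h5
    · exact sub_eq_zero.mp h5
    · exact absurd h5 hi
  rw [eq_one_of_mul_self_eq_one h3, one_smul] at h1
  rw [h1] at hM
  have h5 := congrArg (fun X : Matrix ι ι F => (Pi.single i (v i)⁻¹) ᵥ* X) hM
  simp only [vecMul_vecMulVec, single_dotProduct, inv_mul_cancel₀ hi, one_smul] at h5
  exact h5.symm

theorem odd_orderOf_mul [Finite F] {v φ w ψ : ι → F} (hg : Good v φ) (hg' : Good w ψ)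
    (hp : φ ⬝ᵥ w ≠ 0) (hr : ψ ⬝ᵥ v ≠ 0) : Odd (orderOf (tv v φ * tv w ψ)) := by
  have ha := tv_mul_self (F := F) hg.2.2
  have hb := tv_mul_self (F := F) hg'.2.2
  have hai := tv_inv_self (F := F) hg.2.2
  have hbi := tv_inv_self (F := F) hg'.2.2
  by_contra hodd
  rw [Nat.not_odd_iff_even] at hodd
  obtain ⟨m, hm⟩ := hodd
  have hpos : 0 < orderOf (tv v φ * tv w ψ) := orderOf_pos _
  have hm0 : m ≠ 0 := by omega
  have hzz : (tv v φ * tv w ψ) ^ m * (tv v φ * tv w ψ) ^ m = 1 := by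
    rw [← pow_add, ← hm, pow_orderOf_eq_one]
  have hz1 : (tv v φ * tv w ψ) ^ m ≠ 1 := pow_ne_one_of_lt_orderOf hm0 (by omega)
  have hzi : ((tv v φ * tv w ψ) ^ m)⁻¹ = (tv v φ * tv w ψ) ^ m := inv_eq_of_mul_eq_one_right hzz
  have hxi : (tv v φ * tv w ψ)⁻¹ = tv w ψ * tv v φ := by rw [_root_.mul_inv_rev, hai, hbi]
  have hax : SemiconjBy (tv v φ) (tv v φ * tv w ψ) (tv v φ * tv w ψ)⁻¹ := by
    unfold SemiconjBy
    rw [hxi, ← mul_assoc, ha, one_mul, mul_assoc, ha, mul_one]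
  have hbx : SemiconjBy (tv w ψ) (tv v φ * tv w ψ) (tv v φ * tv w ψ)⁻¹ := by
    unfold SemiconjBy
    rw [hxi, mul_assoc (tv w ψ) (tv v φ) (tv w ψ)]
  have haz : (tv v φ * tv w ψ) ^ m * tv v φ = tv v φ * (tv v φ * tv w ψ) ^ m := by
    have := (hax.pow_right m).eq
    rw [inv_pow, hzi] at this
    exact this.symm
  have hbz : (tv v φ * tv w ψ) ^ m * tv w ψ = tv w ψ * (tv v φ * tv w ψ) ^ m := by
    have := (hbx.pow_right m).eq
    rw [inv_pow, hzi] at this
    exact this.symm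
  have hφz := vecMul_eq_of_commute hg hzz haz
  have hψz := vecMul_eq_of_commute hg' hzz hbz
  apply hz1
  -- matrix level
  set X : Matrix ι ι F := ((tv v φ * tv w ψ : SpecialLinearGroup ι F) : Matrix ι ι F) with hX
  have hXm : (((tv v φ * tv w ψ) ^ m : SpecialLinearGroup ι F) : Matrix ι ι F) = X ^ m :=
    Matrix.SpecialLinearGroup.coe_pow _ _
  rw [hXm] at hφz hψz
  have hX1 : X - 1 = vecMulVec v φ + vecMulVec w ψ + vecMulVec v φ * vecMulVec w ψ := by
    rw [hX, Matrix.SpecialLinearGroup.coe_mul, tv_coe hg.2.2, tv_coe hg'.2.2]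
    noncomm_ring
  have hZ : X ^ m - 1 = (X - 1) * ∑ i ∈ Finset.range m, X ^ i := (mul_geom_sum X m).symm
  have hzero : X ^ m - 1 = 0 := by
    apply eq_zero_of_mulVec_eq_zero
    intro t
    set t' := (∑ i ∈ Finset.range m, X ^ i) *ᵥ t with ht'
    have h1 : (X ^ m - 1) *ᵥ t = (φ ⬝ᵥ t' + (ψ ⬝ᵥ t') * (φ ⬝ᵥ w)) • v + (ψ ⬝ᵥ t') • w := by
      rw [hZ, ← mulVec_mulVec, ← ht', hX1, add_mulVec, add_mulVec, ← mulVec_mulVec, vecMulVec_mulVec,
        vecMulVec_mulVec, op_smul_eq_smul, op_smul_eq_smul, mulVec_smul, vecMulVec_mulVec,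
        op_smul_eq_smul, smul_smul, add_smul]
      abel
    have h2 : φ ⬝ᵥ ((X ^ m - 1) *ᵥ t) = 0 := by
      rw [dotProduct_mulVec, vecMul_sub, hφz, vecMul_one, sub_self, zero_dotProduct]
    have h3 : ψ ⬝ᵥ ((X ^ m - 1) *ᵥ t) = 0 := by
      rw [dotProduct_mulVec, vecMul_sub, hψz, vecMul_one, sub_self, zero_dotProduct]
    rw [h1, dotProduct_add, dotProduct_smul, dotProduct_smul, hg.2.2, smul_zero, zero_add, smul_eq_mul] at h2
    have hβ : ψ ⬝ᵥ t' = 0 := (mul_eq_zero.mp h2).resolve_right hp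
    rw [h1, hβ, zero_mul, add_zero, zero_smul, add_zero, dotProduct_smul, smul_eq_mul] at h3
    have hα : φ ⬝ᵥ t' = 0 := (mul_eq_zero.mp h3).resolve_right hr
    rw [h1, hβ, hα, zero_mul, add_zero, zero_smul, zero_smul, add_zero]
  apply Subtype.ext
  rw [hXm, Matrix.SpecialLinearGroup.coe_one]
  exact sub_eq_zero.mp hzero

end char2

end Cfsg.Agent.Helper83.Transv
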