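import Mathlib
import Cfsg.Prelude.Def_RootSubgroups
import Cfsg.Agent.Helper5.SLn
import Cfsg.Agent.Helper83.Transv4

set_option autoImplicit false

/-!
# The transvections of `SL` (rank ≥ 3) over a finite field of characteristic 2 are root involutions
-/

namespace Cfsg.Agent.Helper83.Transv

open Matrix

variable {ι F : Type*} [DecidableEq ι] [Fintype ι] [Field F]

/-- The conjugates of the elementary transvections `1 + c E_{i₀ i₁}`, `c ≠ 0`. -/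
def Dset (i₀ i₁ : ι) : Set (SpecialLinearGroup ι F) :=
  {t | ∃ c : F, c ≠ 0 ∧ ∃ g : SpecialLinearGroup ι F,
    ((g⁻¹ * t * g : SpecialLinearGroup ι F) : Matrix ι ι F) = Matrix.transvection i₀ i₁ c}

variable {i₀ i₁ i₂ : ι}

theorem good_single_single (h01 : i₀ ≠ i₁) {c : F} (hc : c ≠ 0) :
    Good (Pi.single i₀ c : ι → F) (Pi.single i₁ 1) := by
  refine ⟨?_, ?_, ?_⟩
  · intro h
    have := congrFun h i₀
    simp at this
    exact hc this
  · intro h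
    have := congrFun h i₁
    simp at this
  · rw [dotProduct_single, Pi.single_apply, if_neg h01, zero_mul]

theorem mem_Dset_iff (h01 : i₀ ≠ i₁) (h02 : i₀ ≠ i₂) (h12 : i₁ ≠ i₂) {t : SpecialLinearGroup ι F} :
    t ∈ Dset i₀ i₁ ↔ ∃ u ψ : ι → F, Good u ψ ∧ t = tv u ψ := by
  constructor
  · rintro ⟨c, hc, g, hg⟩
    have hgood := good_single_single (F := F) h01 hc
    have h1 : g⁻¹ * t * g = tv (Pi.single i₀ c) (Pi.single i₁ 1) := by
      apply Subtype.ext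
      rw [hg, tv_single_single h01, mul_one]
    have h2 : t = g * tv (Pi.single i₀ c) (Pi.single i₁ 1) * g⁻¹ := by
      rw [← h1]; group
    rw [conj_tv g hgood.2.2] at h2
    exact ⟨_, _, good_conj g hgood, h2⟩
  · rintro ⟨u, ψ, hg, rfl⟩
    obtain ⟨y, hy⟩ := isConj_iff.mp (isConj_stdT h01 h02 h12 hg)
    refine ⟨1, one_ne_zero, y⁻¹, ?_⟩
    rw [inv_inv, hy, stdT_coe h01]

theorem conj_mem_Dset {t : SpecialLinearGroup ι F} (ht : t ∈ Dset i₀ i₁) (x : SpecialLinearGroup ι F) :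
    x * t * x⁻¹ ∈ Dset i₀ i₁ := by
  obtain ⟨c, hc, g, hg⟩ := ht
  refine ⟨c, hc, x * g, ?_⟩
  rw [← hg]
  have e : (x * g)⁻¹ * (x * t * x⁻¹) * (x * g) = g⁻¹ * t * g := by group
  rw [e]

theorem stdT_mem_Dset (h01 : i₀ ≠ i₁) : (stdT i₀ i₁ : SpecialLinearGroup ι F) ∈ Dset i₀ i₁ :=
  ⟨1, one_ne_zero, 1, by rw [inv_one, one_mul, mul_one, stdT_coe h01]⟩

theorem isConj_of_mem_Dset (h01 : i₀ ≠ i₁) (h02 : i₀ ≠ i₂) (h12 : i₁ ≠ i₂) {a b : SpecialLinearGroup ι F}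
    (ha : a ∈ Dset i₀ i₁) (hb : b ∈ Dset i₀ i₁) : ∃ g : SpecialLinearGroup ι F, b = g * a * g⁻¹ := by
  obtain ⟨u, ψ, hg, rfl⟩ := (mem_Dset_iff h01 h02 h12).mp ha
  obtain ⟨u', ψ', hg', rfl⟩ := (mem_Dset_iff h01 h02 h12).mp hb
  have h := (isConj_stdT h01 h02 h12 hg).trans (isConj_stdT h01 h02 h12 hg').symm
  obtain ⟨y, hy⟩ := isConj_iff.mp h
  exact ⟨y, hy.symm⟩

theorem closure_Dset (h01 : i₀ ≠ i₁) (h02 : i₀ ≠ i₂) (h12 : i₁ ≠ i₂) :
    Subgroup.closure (Dset i₀ i₁ : Set (SpecialLinearGroup ι F)) = ⊤ := by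
  haveI : Nontrivial ι := ⟨⟨i₀, i₁, h01⟩⟩
  rw [eq_top_iff, ← Cfsg.Agent.Helper5.closure_transvection_eq_top]
  apply (Subgroup.closure_le _).mpr
  rintro _ ⟨i, j, hij, a, rfl⟩
  by_cases ha : a = 0
  · have : (SpecialLinearGroup.transvection hij a : SpecialLinearGroup ι F) = 1 := by
      apply Subtype.ext
      rw [SpecialLinearGroup.transvection_coe, ha, Matrix.single_zero, add_zero, Matrix.SpecialLinearGroup.coe_one]
    rw [this]
    exact Subgroup.one_mem _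
  · apply Subgroup.subset_closure
    rw [mem_Dset_iff h01 h02 h12]
    refine ⟨Pi.single i a, Pi.single j 1, good_single_single hij ha, ?_⟩
    apply Subtype.ext
    rw [SpecialLinearGroup.transvection_coe, tv_single_single hij, mul_one, Matrix.transvection]

section char2

variable [CharP F 2]

theorem orderOf_of_mem_Dset (h01 : i₀ ≠ i₁) (h02 : i₀ ≠ i₂) (h12 : i₁ ≠ i₂) {d : SpecialLinearGroup ι F}
    (hd : d ∈ Dset i₀ i₁) : orderOf d = 2 := by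
  obtain ⟨u, ψ, hg, rfl⟩ := (mem_Dset_iff h01 h02 h12).mp hd
  haveI : Fact (Nat.Prime 2) := ⟨Nat.prime_two⟩
  apply orderOf_eq_prime
  · rw [pow_two, tv_mul_self hg.2.2]
  · exact tv_ne_one hg

/-- The case `φ·w = 0`, `ψ·v ≠ 0`. -/
theorem four_case (h01 : i₀ ≠ i₁) (h02 : i₀ ≠ i₂) (h12 : i₁ ≠ i₂) {v φ w ψ : ι → F} (hg : Good v φ)
    (hg' : Good w ψ) (hp : φ ⬝ᵥ w = 0) (hr : ψ ⬝ᵥ v ≠ 0) :
    orderOf (tv v φ * tv w ψ) = 4 ∧ (tv v φ * tv w ψ) ^ 2 ∈ Dset i₀ i₁ := by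
  have hsq := sq_of_dot_eq_zero (F := F) hg.2.2 hg'.2.2 hp
  have hgood : Good ((ψ ⬝ᵥ v) • w) φ := by
    refine ⟨smul_ne_zero hr hg'.1, hg.2.1, ?_⟩
    rw [dotProduct_smul, hp, smul_zero]
  refine ⟨?_, ?_⟩
  · haveI : Fact (Nat.Prime 2) := ⟨Nat.prime_two⟩
    have := orderOf_eq_prime_pow (x := tv v φ * tv w ψ) (p := 2) (n := 1) ?_ ?_
    · simpa using this
    · rw [pow_one, hsq]
      exact tv_ne_one hgood
    · have : (tv v φ * tv w ψ) ^ 2 ^ (1 + 1) = ((tv v φ * tv w ψ) ^ 2) ^ 2 := by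
        rw [← pow_mul]; norm_num
      rw [this, hsq, pow_two, tv_mul_self hgood.2.2]
  · rw [hsq, mem_Dset_iff h01 h02 h12]
    exact ⟨_, _, hgood, rfl⟩

theorem pair_Dset [Finite F] (h01 : i₀ ≠ i₁) (h02 : i₀ ≠ i₂) (h12 : i₁ ≠ i₂) {a b : SpecialLinearGroup ι F}
    (ha : a ∈ Dset i₀ i₁) (hb : b ∈ Dset i₀ i₁) :
    a * b = b * a ∨ Odd (orderOf (a * b)) ∨ (orderOf (a * b) = 4 ∧ (a * b) ^ 2 ∈ Dset i₀ i₁) := by
  obtain ⟨v, φ, hg, rfl⟩ := (mem_Dset_iff h01 h02 h12).mp ha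
  obtain ⟨w, ψ, hg', rfl⟩ := (mem_Dset_iff h01 h02 h12).mp hb
  by_cases hp : φ ⬝ᵥ w = 0
  · by_cases hr : ψ ⬝ᵥ v = 0
    · exact Or.inl (commute_of_dot_eq_zero hg.2.2 hg'.2.2 hp hr)
    · exact Or.inr (Or.inr (four_case h01 h02 h12 hg hg' hp hr))
  · by_cases hr : ψ ⬝ᵥ v = 0
    · right; right
      obtain ⟨h1, h2⟩ := four_case h01 h02 h12 hg' hg hr hp
      have e : tv v φ * tv w ψ = tv v φ * (tv w ψ * tv v φ) * (tv v φ)⁻¹ := by group
      refine ⟨?_, ?_⟩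
      · rw [e, ← MulAut.conj_apply, MulEquiv.orderOf_eq, h1]
      · rw [e, conj_pow]
        exact conj_mem_Dset h2 _
    · exact Or.inr (Or.inl (odd_orderOf_mul hg hg' hp hr))

theorem three_four [Fintype F] (hF : Fintype.card F = 2) (h01 : i₀ ≠ i₁) (h02 : i₀ ≠ i₂) (h12 : i₁ ≠ i₂)
    {a b : SpecialLinearGroup ι F} (ha : a ∈ Dset i₀ i₁) (hb : b ∈ Dset i₀ i₁)
    (hodd : Odd (orderOf (a * b))) : orderOf (a * b) = 1 ∨ orderOf (a * b) = 3 := by
  have hone : ∀ x : F, x ≠ 0 → x = 1 := by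
    intro x hx
    have := FiniteField.pow_card_sub_one_eq_one x hx
    rwa [hF, pow_one] at this
  obtain ⟨v, φ, hg, rfl⟩ := (mem_Dset_iff h01 h02 h12).mp ha
  obtain ⟨w, ψ, hg', rfl⟩ := (mem_Dset_iff h01 h02 h12).mp hb
  by_cases hp : φ ⬝ᵥ w = 0
  · by_cases hr : ψ ⬝ᵥ v = 0
    · left
      have hc := commute_of_dot_eq_zero hg.2.2 hg'.2.2 hp hr
      have h2 : (tv v φ * tv w ψ) ^ 2 = 1 := by
        rw [pow_two, mul_assoc, ← mul_assoc (tv w ψ), ← hc, mul_assoc, tv_mul_self hg'.2.2, mul_one,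
          tv_mul_self hg.2.2]
      have hdvd := orderOf_dvd_of_pow_eq_one h2
      rcases (Nat.dvd_prime Nat.prime_two).mp hdvd with h | h
      · exact h
      · rw [h] at hodd; exact absurd hodd (by decide)
    · have := (four_case h01 h02 h12 hg hg' hp hr).1
      rw [this] at hodd; exact absurd hodd (by decide)
  · by_cases hr : ψ ⬝ᵥ v = 0
    · have h1 := (four_case h01 h02 h12 hg' hg hr hp).1
      have e : tv v φ * tv w ψ = tv v φ * (tv w ψ * tv v φ) * (tv v φ)⁻¹ := by group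
      rw [e, ← MulAut.conj_apply, MulEquiv.orderOf_eq, h1] at hodd
      exact absurd hodd (by decide)
    · have h3 := cube_of_dot_eq_one (F := F) hg.2.2 hg'.2.2 (hone _ hp) (hone _ hr)
      exact (Nat.dvd_prime Nat.prime_three).mp (orderOf_dvd_of_pow_eq_one h3)

end char2

end Cfsg.Agent.Helper83.Transv
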