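import Cfsg.Agent.Helper83.TriRho
import Cfsg.Prelude.Def_ChevAutomorphisms

/-!
# The centralizer of the standard triality graph automorphism in `D₄(K)` is `G₂(K)`
-/

set_option autoImplicit false
set_option maxRecDepth 100000
set_option linter.unusedSectionVars false

namespace Cfsg.Agent.Helper83.Tri

open Matrix Cfsg Cfsg.Lie Cfsg.Agent.Helper18 Cfsg.Agent.Helper40.GraphAut Cfsg.Agent.S1081
  Cfsg.Agent.Helper19.Twist Cfsg.Agent.Helper83.D4

section Image

variable {K : Type*} [Field K] [Fintype K]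

theorem memG2 : chevG2 ∈ [chevG2, chevB2, chevD4, chevF4, chevE6, chevE7, chevE8] := by simp

/-- a unit whose matrix is a root element of `chevG2` lies in the Chevalley group -/
theorem mem_group_of_xG (γ : GL chevG2.Idx K) (r : Fin 12) (t : K)
    (h : matG γ = xG r t) : γ ∈ chevG2.group K :=
  Subgroup.subset_closure ⟨r, t, h⟩

/-- the generated group is mapped into `G₂(K)` -/
theorem twisted_le_comap :
    twistedD4 K (Fintype.card K) ≤
      ((chevG2.group K).comap (rho (K := K))).map (FixD4 (RingEquiv.refl K)).subtype := by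
  have htri := triOK_of_mem chevD4 memD4
  have hq : ∀ t : K, t ^ Fintype.card K = t := FiniteField.pow_card
  unfold twistedD4 ChevalleyDatum.genSubgroup
  rw [Subgroup.closure_le]
  rintro g ⟨w, hw, hg⟩
  rw [SetLike.mem_coe, Subgroup.mem_map]
  rcases hw with ⟨t, ht, r, hr, rfl⟩ | ⟨t, rs, hrs, rfl⟩
  · have e : g = xGL chevD4 K r t := Units.ext (by
      rw [hg, xGL_val chevD4 _ htri]; simp [ChevalleyDatum.wordMat])
    simp only [d4p2, d4m2, List.mem_cons, List.not_mem_nil, or_false] at hr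
    rcases hr with rfl | rfl
    · refine ⟨⟨_, twisted_le_Fix (gen_b_mem t)⟩, ?_, e.symm⟩
      rw [Subgroup.mem_comap]
      exact mem_group_of_xG _ 6 t (rho_gen_b t)
    · refine ⟨⟨_, twisted_le_Fix (gen_mb_mem t)⟩, ?_, e.symm⟩
      rw [Subgroup.mem_comap]
      exact mem_group_of_xG _ 5 t (rho_gen_mb t)
  · simp only [d4p1, d4p3, d4p4, d4m1, d4m3, d4m4, List.mem_cons, List.not_mem_nil, or_false] at hrs
    have hq2 : t ^ Fintype.card K ^ 2 = t := by rw [sq, pow_mul, hq, hq]
    rcases hrs with rfl | rfl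
    · have e : g = xGL chevD4 K 18 t * xGL chevD4 K 13 t * xGL chevD4 K 12 t := Units.ext (by
        rw [hg, Units.val_mul, Units.val_mul, xGL_val chevD4 _ htri, xGL_val chevD4 _ htri,
          xGL_val chevD4 _ htri]
        simp [ChevalleyDatum.wordMat, mul_assoc, hq, hq2])
      refine ⟨⟨_, twisted_le_Fix (gen_a_mem t)⟩, ?_, e.symm⟩
      rw [Subgroup.mem_comap]
      exact mem_group_of_xG _ 7 t (rho_gen_a t)
    · have e : g = xGL chevD4 K 5 t * xGL chevD4 K 10 t * xGL chevD4 K 11 t := Units.ext (by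
        rw [hg, Units.val_mul, Units.val_mul, xGL_val chevD4 _ htri, xGL_val chevD4 _ htri,
          xGL_val chevD4 _ htri]
        simp [ChevalleyDatum.wordMat, mul_assoc, hq, hq2])
      refine ⟨⟨_, twisted_le_Fix (gen_ma_mem t)⟩, ?_, e.symm⟩
      rw [Subgroup.mem_comap]
      exact mem_group_of_xG _ 4 t (rho_gen_ma t)

theorem rho_mem_group (g : GL chevD4.Idx K) (hg : g ∈ twistedD4 K (Fintype.card K)) :
    rho ⟨g, twisted_le_Fix hg⟩ ∈ chevG2.group K := by
  obtain ⟨y, hy, e⟩ := Subgroup.mem_map.mp (twisted_le_comap hg)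
  have : y = ⟨g, twisted_le_Fix hg⟩ := Subtype.ext e
  rw [← this]
  exact hy

/-- the homomorphism from the generated group to `G₂(K)` -/
noncomputable def phiG : ↥(twistedD4 K (Fintype.card K)) →* ↥(chevG2.group K) where
  toFun g := ⟨rho ⟨g.1, twisted_le_Fix g.2⟩, rho_mem_group g.1 g.2⟩
  map_one' := by
    apply Subtype.ext
    show rho (⟨1, _⟩ : ↥(FixD4 (RingEquiv.refl K))) = 1
    exact map_one rho
  map_mul' g h := by
    apply Subtype.ext
    show rho (⟨g.1 * h.1, _⟩ : ↥(FixD4 (RingEquiv.refl K))) = rho ⟨g.1, _⟩ * rho ⟨h.1, _⟩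
    rw [← map_mul]
    rfl

theorem phiG_surjective : Function.Surjective (phiG (K := K)) := by
  have hE : (phiG (K := K)).range = ⊤ := by
    apply Cfsg.Agent.Helper36.fund_generate chevG2 memG2
    intro i hi t γ hγ
    have hi2 : i < 2 := hi
    rw [MonoidHom.mem_range]
    interval_cases i
    · rcases hγ with hγ | hγ
      · refine ⟨⟨_, gen_a_mem t⟩, ?_⟩
        apply Subtype.ext
        apply Units.ext
        show matG (rho ⟨_, twisted_le_Fix (gen_a_mem t)⟩) = _
        rw [rho_gen_a, hγ]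
        exact (x_eq_xG 7 t).symm
      · refine ⟨⟨_, gen_ma_mem t⟩, ?_⟩
        apply Subtype.ext
        apply Units.ext
        show matG (rho ⟨_, twisted_le_Fix (gen_ma_mem t)⟩) = _
        rw [rho_gen_ma, hγ]
        exact (x_eq_xG 4 t).symm
    · rcases hγ with hγ | hγ
      · refine ⟨⟨_, gen_b_mem t⟩, ?_⟩
        apply Subtype.ext
        apply Units.ext
        show matG (rho ⟨_, twisted_le_Fix (gen_b_mem t)⟩) = _
        rw [rho_gen_b, hγ]
        exact (x_eq_xG 6 t).symm
      · refine ⟨⟨_, gen_mb_mem t⟩, ?_⟩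
        apply Subtype.ext
        apply Units.ext
        show matG (rho ⟨_, twisted_le_Fix (gen_mb_mem t)⟩) = _
        rw [rho_gen_mb, hγ]
        exact (x_eq_xG 5 t).symm
  exact MonoidHom.range_eq_top.mp hE

/-- the group generated by the folded root elements is isomorphic to `G₂(K)` -/
theorem nonempty_twisted_equiv :
    Nonempty (↥(twistedD4 K (Fintype.card K)) ≃* ↥(chevG2.group K)) := by
  have hcard : Nat.card ↥(twistedD4 K (Fintype.card K)) ≤ Nat.card ↥(chevG2.group K) := by
    rw [card_twisted_refl, Cfsg.Agent.S1059.result (F := K) rfl]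
  have hbij : Function.Bijective (phiG (K := K)) :=
    Function.Surjective.bijective_of_nat_card_le phiG_surjective hcard
  exact ⟨MulEquiv.ofBijective phiG hbij⟩

end Image

section Tau

variable {K : Type*} [Field K] [Fintype K]

/-- the explicit triality permutation of the nodes -/
def cPerm : Equiv.Perm (Fin 4) where
  toFun := ![2, 1, 3, 0]
  invFun := ![3, 1, 0, 2]
  left_inv := by decide
  right_inv := by decide

/-- `τ` acts on the fundamental root elements and their negatives through the permutation `π` of the nodes -/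
def Rel (τ : MulAut ↥(chevD4.group K)) (π : Equiv.Perm (Fin 4)) : Prop :=
  ∀ (g : ↥(chevD4.group K)) (i : Fin 4) (t : K),
    (((g : GL chevD4.Idx K) : Matrix chevD4.Idx chevD4.Idx K) = chevD4.x K (chevD4.simple i) t →
      ((τ g : GL chevD4.Idx K) : Matrix chevD4.Idx chevD4.Idx K) = chevD4.x K (chevD4.simple (π i)) t) ∧
    (((g : GL chevD4.Idx K) : Matrix chevD4.Idx chevD4.Idx K) = chevD4.x K (chevD4.neg (chevD4.simple i)) t →
      ((τ g : GL chevD4.Idx K) : Matrix chevD4.Idx chevD4.Idx K) =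
        chevD4.x K (chevD4.neg (chevD4.simple (π i))) t)

omit [Fintype K] in
theorem Rel.mul {τ τ' : MulAut ↥(chevD4.group K)} {π π' : Equiv.Perm (Fin 4)} (h : Rel τ π) (h' : Rel τ' π') :
    Rel (τ * τ') (π * π') := by
  intro g i t
  constructor
  · intro hg
    have h1 := (h' g i t).1 hg
    exact (h (τ' g) (π' i) t).1 h1
  · intro hg
    have h1 := (h' g i t).2 hg
    exact (h (τ' g) (π' i) t).2 h1

omit [Fintype K] in
theorem Rel.eq_one {τ : MulAut ↥(chevD4.group K)} (h : Rel τ 1) : τ = 1 := by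
  have hE : (τ.toMonoidHom.eqLocus (MonoidHom.id ↥(chevD4.group K))) = ⊤ := by
    apply Cfsg.Agent.Helper36.fund_generate chevD4 memD4
    intro i hi t γ hγ
    show τ γ = γ
    apply Subtype.ext
    apply Units.ext
    rcases hγ with hγ | hγ
    · have h1 := (h γ ⟨i, hi⟩ t).1 hγ
      exact h1.trans hγ.symm
    · have h1 := (h γ ⟨i, hi⟩ t).2 hγ
      exact h1.trans hγ.symm
  ext g
  have : g ∈ (τ.toMonoidHom.eqLocus (MonoidHom.id ↥(chevD4.group K))) := by rw [hE]; trivial
  have h2 : τ g = g := this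
  rw [h2]
  rfl

omit [Fintype K] in
/-- the inverse automorphism acts through the inverse permutation -/
theorem Rel.inv {τ : MulAut ↥(chevD4.group K)} {π : Equiv.Perm (Fin 4)} (h : Rel τ π) : Rel τ⁻¹ π⁻¹ := by
  have htri := triOK_of_mem chevD4 memD4
  intro g i t
  constructor
  · intro hg
    -- the element with matrix `x_{p_{π⁻¹ i}}(t)`
    set g' : ↥(chevD4.group K) := ⟨xGL chevD4 K (chevD4.simple (π⁻¹ i)) t, xGL_mem_group' chevD4 memD4 _ t⟩
      with hg'
    have h1 : ((g' : GL chevD4.Idx K) : Matrix chevD4.Idx chevD4.Idx K) =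
        chevD4.x K (chevD4.simple (π⁻¹ i)) t := xGL_val chevD4 _ htri _ t
    have h2 := (h g' (π⁻¹ i) t).1 h1
    have hπ : π (π⁻¹ i) = i := Equiv.apply_symm_apply π i
    rw [hπ] at h2
    have h3 : τ g' = g := by
      apply Subtype.ext
      apply Units.ext
      rw [h2, hg]
    have h4 : τ⁻¹ g = g' := by
      rw [← h3]
      exact MulEquiv.symm_apply_apply τ g'
    rw [h4]
    exact h1
  · intro hg
    set g' : ↥(chevD4.group K) :=
      ⟨xGL chevD4 K (chevD4.neg (chevD4.simple (π⁻¹ i))) t, xGL_mem_group' chevD4 memD4 _ t⟩ with hg'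
    have h1 : ((g' : GL chevD4.Idx K) : Matrix chevD4.Idx chevD4.Idx K) =
        chevD4.x K (chevD4.neg (chevD4.simple (π⁻¹ i))) t := xGL_val chevD4 _ htri _ t
    have h2 := (h g' (π⁻¹ i) t).2 h1
    have hπ : π (π⁻¹ i) = i := Equiv.apply_symm_apply π i
    rw [hπ] at h2
    have h3 : τ g' = g := by
      apply Subtype.ext
      apply Units.ext
      rw [h2, hg]
    have h4 : τ⁻¹ g = g' := by
      rw [← h3]
      exact MulEquiv.symm_apply_apply τ g'
    rw [h4]
    exact h1

theorem simple_cPerm : ∀ i : Fin 4, pi1 (chevD4.simple i) = chevD4.simple (cPerm i) ∧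
    pi1 (chevD4.neg (chevD4.simple i)) = chevD4.neg (chevD4.simple (cPerm i)) ∧
    eps1 (chevD4.simple i) = 1 ∧ eps1 (chevD4.neg (chevD4.simple i)) = 1 ∧
    chevD4.simple i < chevD4.nroots ∧ chevD4.neg (chevD4.simple i) < chevD4.nroots := by
  decide

/-- an automorphism acting through `cPerm` is the restriction of the graph automorphism of `GL` -/
theorem Rel.eq_sig {τ : MulAut ↥(chevD4.group K)} (h : Rel τ cPerm) (g : ↥(chevD4.group K)) :
    ((τ g : ↥(chevD4.group K)) : GL chevD4.Idx K) = sigD4 (RingEquiv.refl K) (g : GL chevD4.Idx K) := by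
  have htri := triOK_of_mem chevD4 memD4
  let E : Subgroup ↥(chevD4.group K) :=
    ((chevD4.group K).subtype.comp τ.toMonoidHom).eqLocus
      ((sigD4 (RingEquiv.refl K)).toMonoidHom.comp (chevD4.group K).subtype)
  have hE : E = ⊤ := by
    apply Cfsg.Agent.Helper36.fund_generate chevD4 memD4
    intro i hi t γ hγ
    show ((τ γ : ↥(chevD4.group K)) : GL chevD4.Idx K) = sigD4 (RingEquiv.refl K) (γ : GL chevD4.Idx K)
    obtain ⟨s1, s2, s3, s4, s5, s6⟩ := simple_cPerm ⟨i, hi⟩
    rcases hγ with hγ | hγ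
    · have e : (γ : GL chevD4.Idx K) = xGL chevD4 K (chevD4.simple i) t :=
        Units.ext (by rw [hγ, xGL_val chevD4 _ htri])
      rw [e, sigD4_xGL _ _ s5, s1, s3, Int.cast_one, one_mul]
      apply Units.ext
      rw [xGL_val chevD4 _ htri]
      exact (h γ ⟨i, hi⟩ t).1 hγ
    · have e : (γ : GL chevD4.Idx K) = xGL chevD4 K (chevD4.neg (chevD4.simple i)) t :=
        Units.ext (by rw [hγ, xGL_val chevD4 _ htri])
      rw [e, sigD4_xGL _ _ s6, s2, s4, Int.cast_one, one_mul]
      apply Units.ext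
      rw [xGL_val chevD4 _ htri]
      exact (h γ ⟨i, hi⟩ t).2 hγ
  have : g ∈ E := by rw [hE]; trivial
  exact this

/-- the fixed points of an automorphism acting through `cPerm` -/
theorem nonempty_equiv_of_rel {τ : MulAut ↥(chevD4.group K)} (h : Rel τ cPerm) :
    Nonempty (↥(MonoidHom.eqLocus τ.toMonoidHom (MonoidHom.id ↥(chevD4.group K))) ≃* ↥(chevG2.group K)) := by
  obtain ⟨e⟩ := nonempty_twisted_equiv (K := K)
  refine ⟨MulEquiv.trans ?_ e⟩
  -- the fixed points, as a subgroup of `GL`, are the generated group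
  have hmap : (MonoidHom.eqLocus τ.toMonoidHom (MonoidHom.id ↥(chevD4.group K))).map (chevD4.group K).subtype =
      twistedD4 K (Fintype.card K) := by
    rw [← fix_inf_group_eq]
    ext x
    rw [Subgroup.mem_map, Subgroup.mem_inf]
    constructor
    · rintro ⟨g, hg, rfl⟩
      have hg' : τ g = g := hg
      refine ⟨?_, g.2⟩
      show sigD4 (RingEquiv.refl K) (g : GL chevD4.Idx K) = (g : GL chevD4.Idx K)
      have := h.eq_sig g
      rw [hg'] at this
      exact this.symm
    · rintro ⟨hx1, hx2⟩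
      refine ⟨⟨x, hx2⟩, ?_, rfl⟩
      show τ ⟨x, hx2⟩ = ⟨x, hx2⟩
      apply Subtype.ext
      rw [h.eq_sig]
      exact (mem_FixD4 _ x).mp hx1
  exact (Subgroup.equivMapOfInjective _ (chevD4.group K).subtype (Subgroup.subtype_injective _)).trans
    (MulEquiv.subgroupCongr hmap)

end Tau

end Cfsg.Agent.Helper83.Tri
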