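import Mathlib
import Cfsg.Prelude.Def_ChevG2

/-!
# `x_r(t) = 1 + t A₁(r) + t² A₂(r) + t³ A₃(r)` for the Chevalley datum `chevG2`
-/

set_option autoImplicit false
set_option maxRecDepth 100000

namespace Cfsg.Agent.Helper83.Tri

open Matrix Cfsg Cfsg.Lie

/-- the index set of the coordinates of `chevG2` -/
abbrev I14 := Fin 2 ⊕ Fin 12

/-- table of Cartan integers -/
def gcartT (i : Fin 2) (r : Fin 12) : ℤ := (chevG2.cartanSR.getD i.val #[]).getD r.val 0

/-- table of coroot coefficients -/
def gcorT (r : Fin 12) (i : Fin 2) : ℤ := (chevG2.coroot.getD r.val #[]).getD i.val 0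

/-- the negative of a root -/
def gnegT (r : Fin 12) : Fin 12 := 11 - r

/-- the coefficient of `t ^ k` in the chain polynomial -/
def gchainK (k : ℕ) (r s u : Fin 12) : ℤ :=
  (((chevG2.chainCoeff r.val s.val u.val).filter fun km => km.1 = k).map fun km => km.2).sum

theorem gnegT_eq : ∀ r : Fin 12, chevG2.negIdx.getD r.val 0 = (gnegT r).val := by decide

theorem gchain_le : ∀ r s u : Fin 12, ∀ km ∈ chevG2.chainCoeff r.val s.val u.val,
    km.1 = 1 ∨ km.1 = 2 ∨ km.1 = 3 := by
  decide +kernel

/-- the coefficient of `t` in `x_r(t)` -/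
def A1Z (r : Fin 12) : Matrix I14 I14 ℤ := fun row col =>
  match col with
  | Sum.inl i =>
    (match row with
     | Sum.inl _ => 0
     | Sum.inr u => if u = r then - gcartT i r else 0)
  | Sum.inr s =>
    if s = r then 0
    else if s = gnegT r then
      (match row with
       | Sum.inl i => gcorT r i
       | Sum.inr _ => 0)
    else
      (match row with
       | Sum.inl _ => 0
       | Sum.inr u => gchainK 1 r s u)

/-- the coefficient of `t ^ 2` in `x_r(t)` -/
def A2Z (r : Fin 12) : Matrix I14 I14 ℤ := fun row col =>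
  match col with
  | Sum.inl _ => 0
  | Sum.inr s =>
    if s = r then 0
    else if s = gnegT r then
      (match row with
       | Sum.inl _ => 0
       | Sum.inr u => if u = r then -1 else 0)
    else
      (match row with
       | Sum.inl _ => 0
       | Sum.inr u => gchainK 2 r s u)

/-- the coefficient of `t ^ 3` in `x_r(t)` -/
def A3Z (r : Fin 12) : Matrix I14 I14 ℤ := fun row col =>
  match col with
  | Sum.inl _ => 0
  | Sum.inr s =>
    if s = r then 0
    else if s = gnegT r then 0
    else
      (match row with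
       | Sum.inl _ => 0
       | Sum.inr u => gchainK 3 r s u)

variable {F : Type*} [Field F]

/-- the matrix `x_r(t)` of `chevG2`, with explicit index types -/
def xG (r : Fin 12) (t : F) : Matrix I14 I14 F := chevG2.xMat F r t

/-- the chain polynomial -/
def gchainPoly (r s u : Fin 12) (t : F) : F :=
  ((chevG2.chainCoeff r.val s.val u.val).map fun km => ((km.2 : ℤ) : F) * t ^ km.1).sum

theorem xG_ll (r : Fin 12) (t : F) (i' i : Fin 2) :
    xG r t (Sum.inl i') (Sum.inl i) = if i' = i then 1 else 0 := rfl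

theorem xG_rl (r : Fin 12) (t : F) (u : Fin 12) (i : Fin 2) :
    xG r t (Sum.inr u) (Sum.inl i) = if u = r then - ((gcartT i r : ℤ) : F) * t else 0 := rfl

theorem xG_lr (r : Fin 12) (t : F) (i : Fin 2) (s : Fin 12) :
    xG r t (Sum.inl i) (Sum.inr s)
      = if s = r then 0 else if s = gnegT r then ((gcorT r i : ℤ) : F) * t else 0 := by
  have h : (s = gnegT r) = (s.val = chevG2.negIdx.getD r.val 0) := by
    rw [gnegT_eq, Fin.ext_iff]
  simp only [h]
  rfl

theorem xG_rr (r : Fin 12) (t : F) (u s : Fin 12) :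
    xG r t (Sum.inr u) (Sum.inr s)
      = if s = r then (if u = r then 1 else 0)
        else if s = gnegT r then
          (if u = s then 1 else if u = r then -(t ^ 2) else 0)
        else (if u = s then 1 else 0) + gchainPoly r s u t := by
  have h : (s = gnegT r) = (s.val = chevG2.negIdx.getD r.val 0) := by
    rw [gnegT_eq, Fin.ext_iff]
  simp only [h]
  rfl

theorem list_sum_chain3 (t : F) (L : List (ℕ × ℤ)) (hL : ∀ km ∈ L, km.1 = 1 ∨ km.1 = 2 ∨ km.1 = 3) :
    (L.map fun km => ((km.2 : ℤ) : F) * t ^ km.1).sum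
      = t * ((((L.filter fun km => km.1 = 1).map fun km => km.2).sum : ℤ) : F)
        + t * t * ((((L.filter fun km => km.1 = 2).map fun km => km.2).sum : ℤ) : F)
        + t * t * t * ((((L.filter fun km => km.1 = 3).map fun km => km.2).sum : ℤ) : F) := by
  induction L with
  | nil => simp
  | cons a L ih =>
    have h2 : ∀ km ∈ L, km.1 = 1 ∨ km.1 = 2 ∨ km.1 = 3 :=
      fun km hkm => hL km (List.mem_cons_of_mem _ hkm)
    rw [List.map_cons, List.sum_cons, ih h2]
    rcases hL a (List.mem_cons_self) with h1 | h1 | h1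
    · simp [List.filter_cons, h1]
      ring
    · simp [List.filter_cons, h1]
      ring
    · simp [List.filter_cons, h1]
      ring

theorem gchainPoly_eq (r s u : Fin 12) (t : F) :
    gchainPoly r s u t = t * ((gchainK 1 r s u : ℤ) : F) + t * t * ((gchainK 2 r s u : ℤ) : F)
      + t * t * t * ((gchainK 3 r s u : ℤ) : F) :=
  list_sum_chain3 t _ (gchain_le r s u)

theorem gnegT_ne : ∀ r : Fin 12, gnegT r ≠ r := by decide

/-- `x_r(t)` as a polynomial in `t` -/
theorem xG_eq (r : Fin 12) (t : F) :
    xG r t = 1 + t • (A1Z r).map (Int.cast : ℤ → F) + (t * t) • (A2Z r).map (Int.cast : ℤ → F)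
      + (t * t * t) • (A3Z r).map (Int.cast : ℤ → F) := by
  ext row col
  rw [Matrix.add_apply, Matrix.add_apply, Matrix.add_apply, Matrix.smul_apply, Matrix.smul_apply,
    Matrix.smul_apply, Matrix.map_apply, Matrix.map_apply, Matrix.map_apply, Matrix.one_apply]
  rcases row with i' | u <;> rcases col with i | s
  · rw [xG_ll]
    simp [A1Z, A2Z, A3Z]
  · rw [xG_lr]
    by_cases h1 : s = r
    · subst h1
      simp [A1Z, A2Z, A3Z, (gnegT_ne s).symm]
    · by_cases h2 : s = gnegT r
      · simp [A1Z, A2Z, A3Z, h1, h2, mul_comm]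
      · simp [A1Z, A2Z, A3Z, h1, h2]
  · rw [xG_rl]
    by_cases h1 : u = r
    · simp [A1Z, A2Z, A3Z, h1, mul_comm]
    · simp [A1Z, A2Z, A3Z, h1]
  · rw [xG_rr, gchainPoly_eq]
    by_cases h1 : s = r
    · subst h1
      by_cases h3 : u = s
      · simp [A1Z, A2Z, A3Z, h3, (gnegT_ne s).symm]
      · have h3' : ¬ s = u := fun h => h3 h.symm
        simp [A1Z, A2Z, A3Z, h3, h3', (gnegT_ne s).symm]
    · by_cases h2 : s = gnegT r
      · subst h2
        have hn : gnegT r ≠ r := gnegT_ne r
        have hn' : r ≠ gnegT r := fun h => hn h.symm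
        by_cases h3 : u = gnegT r
        · subst h3
          simp [A1Z, A2Z, A3Z, hn]
        · by_cases h4 : u = r
          · subst h4
            simp [A1Z, A2Z, A3Z, hn, hn', sq]
          · simp [A1Z, A2Z, A3Z, hn, h3, h4]
      · by_cases h3 : u = s
        · simp [A1Z, A2Z, A3Z, h1, h2, h3]
          try ring
        · simp [A1Z, A2Z, A3Z, h1, h2, h3]
          try ring

end Cfsg.Agent.Helper83.Tri
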