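import Mathlib
import Cfsg.Agent.Helper83.TriTables

/-!
# The folded root elements of `D₄` restrict to the root elements of `G₂` on the fixed space of triality
-/

set_option autoImplicit false
set_option maxRecDepth 100000

namespace Cfsg.Agent.Helper83.Tri

open Matrix Cfsg Cfsg.Lie Cfsg.Agent.Helper83.D4

section Final

variable {F : Type*} [Field F]

/-- `ι · x_r(t)` as a polynomial -/
theorem iota_xG (r : Fin 12) (t : F) :
    (cM iotaZ : Matrix I28 I14 F) * (xG r t : Matrix I14 I14 F) =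
      pe t [iotaZ, iotaZ * A1Z r, iotaZ * A2Z r, iotaZ * A3Z r] := by
  rw [xG_eq]
  have e1 : ((A1Z r).map (Int.cast : ℤ → F) : Matrix I14 I14 F) = cM (A1Z r) := rfl
  have e2 : ((A2Z r).map (Int.cast : ℤ → F) : Matrix I14 I14 F) = cM (A2Z r) := rfl
  have e3 : ((A3Z r).map (Int.cast : ℤ → F) : Matrix I14 I14 F) = cM (A3Z r) := rfl
  rw [e1, e2, e3]
  show _ = (cM iotaZ : Matrix I28 I14 F) + t • ((cM (iotaZ * A1Z r) : Matrix I28 I14 F) +
    t • ((cM (iotaZ * A2Z r) : Matrix I28 I14 F) + t • ((cM (iotaZ * A3Z r) : Matrix I28 I14 F) + t • 0)))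
  rw [cM_mul, cM_mul, cM_mul, smul_zero, add_zero]
  simp only [Matrix.mul_add, Matrix.mul_one, Matrix.mul_smul, smul_add, smul_smul, add_assoc,
    mul_assoc]

theorem xM_pe (r : Fin 24) (t : F) (L : List (Matrix I28 I14 ℤ)) :
    (xM r t : Matrix I28 I28 F) * (pe t L : Matrix I28 I14 F) = pe t (mul3 (M1Z r) (M2Z r) L) := by
  rw [xM_eq, ← pe_mul3]
  rfl

theorem pe_iota (t : F) : (pe t [iotaZ] : Matrix I28 I14 F) = cM iotaZ := by
  show (cM iotaZ : Matrix I28 I14 F) + t • 0 = cM iotaZ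
  rw [smul_zero, add_zero]

theorem pe_trail (t : F) (A B C D : Matrix I28 I14 ℤ) :
    (pe t [A, B, C, D, 0, 0, 0] : Matrix I28 I14 F) = pe t [A, B, C, D] := by
  simp only [pe, cM_zero, smul_zero, add_zero]

theorem pe_trail3 (t : F) (A B C : Matrix I28 I14 ℤ) :
    (pe t [A, B, C, 0] : Matrix I28 I14 F) = pe t [A, B, C] := by
  simp only [pe, cM_zero, smul_zero, add_zero]

/-- the folded root element of the orbit of `p₁` restricts to `x_a(t)` -/
theorem fold_a (t : F) :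
    ((xM 18 t : Matrix I28 I28 F) * (xM 13 t : Matrix I28 I28 F) * (xM 12 t : Matrix I28 I28 F)) *
      (cM iotaZ : Matrix I28 I14 F) = (cM iotaZ : Matrix I28 I14 F) * (xG 7 t : Matrix I14 I14 F) := by
  have h1 : (xM 12 t : Matrix I28 I28 F) * (cM iotaZ : Matrix I28 I14 F) =
      pe t [tb2814 t_a_0_0, tb2814 t_a_0_1, tb2814 t_a_0_2] := by
    rw [← pe_iota t, xM_pe, step_a0]
  have h2 : (xM 13 t : Matrix I28 I28 F) * (pe t [tb2814 t_a_0_0, tb2814 t_a_0_1, tb2814 t_a_0_2] :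
      Matrix I28 I14 F) =
      pe t [tb2814 t_a_1_0, tb2814 t_a_1_1, tb2814 t_a_1_2, tb2814 t_a_1_3, tb2814 t_a_1_4] := by
    rw [xM_pe, step_a1]
  have h3 : (xM 18 t : Matrix I28 I28 F) *
      (pe t [tb2814 t_a_1_0, tb2814 t_a_1_1, tb2814 t_a_1_2, tb2814 t_a_1_3, tb2814 t_a_1_4] :
        Matrix I28 I14 F) = (cM iotaZ : Matrix I28 I14 F) * (xG 7 t : Matrix I14 I14 F) := by
    rw [xM_pe, step_a2, pe_trail, ← iota_xG]
  rw [Matrix.mul_assoc, Matrix.mul_assoc, h1, h2, h3]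

/-- the folded root element of the orbit of `-p₁` restricts to `x_{-a}(t)` -/
theorem fold_ma (t : F) :
    ((xM 5 t : Matrix I28 I28 F) * (xM 10 t : Matrix I28 I28 F) * (xM 11 t : Matrix I28 I28 F)) *
      (cM iotaZ : Matrix I28 I14 F) = (cM iotaZ : Matrix I28 I14 F) * (xG 4 t : Matrix I14 I14 F) := by
  have h1 : (xM 11 t : Matrix I28 I28 F) * (cM iotaZ : Matrix I28 I14 F) =
      pe t [tb2814 t_ma_0_0, tb2814 t_ma_0_1, tb2814 t_ma_0_2] := by
    rw [← pe_iota t, xM_pe, step_ma0]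
  have h2 : (xM 10 t : Matrix I28 I28 F) * (pe t [tb2814 t_ma_0_0, tb2814 t_ma_0_1, tb2814 t_ma_0_2] :
      Matrix I28 I14 F) =
      pe t [tb2814 t_ma_1_0, tb2814 t_ma_1_1, tb2814 t_ma_1_2, tb2814 t_ma_1_3, tb2814 t_ma_1_4] := by
    rw [xM_pe, step_ma1]
  have h3 : (xM 5 t : Matrix I28 I28 F) *
      (pe t [tb2814 t_ma_1_0, tb2814 t_ma_1_1, tb2814 t_ma_1_2, tb2814 t_ma_1_3, tb2814 t_ma_1_4] :
        Matrix I28 I14 F) = (cM iotaZ : Matrix I28 I14 F) * (xG 4 t : Matrix I14 I14 F) := by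
    rw [xM_pe, step_ma2, pe_trail, ← iota_xG]
  rw [Matrix.mul_assoc, Matrix.mul_assoc, h1, h2, h3]

/-- `x_{p₂}(t)` restricts to `x_b(t)` -/
theorem fold_b (t : F) :
    (xM 14 t : Matrix I28 I28 F) * (cM iotaZ : Matrix I28 I14 F) =
      (cM iotaZ : Matrix I28 I14 F) * (xG 6 t : Matrix I14 I14 F) := by
  rw [← pe_iota t, xM_pe, step_b, pe_iota, iota_xG, A3Z_6, pe_trail3]

/-- `x_{-p₂}(t)` restricts to `x_{-b}(t)` -/
theorem fold_mb (t : F) :
    (xM 9 t : Matrix I28 I28 F) * (cM iotaZ : Matrix I28 I14 F) =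
      (cM iotaZ : Matrix I28 I14 F) * (xG 5 t : Matrix I14 I14 F) := by
  rw [← pe_iota t, xM_pe, step_mb, pe_iota, iota_xG, A3Z_5, pe_trail3]

end Final

section Consts

variable (F : Type*) [Field F]

/-- the embedding `ι` over `F` -/
def iotaK : Matrix I28 I14 F := cM iotaZ

/-- the retraction `κ` over `F` -/
def kappaK : Matrix I14 I28 F := cM kappaZ

/-- the signed permutation matrix of triality over `F` -/
def PK : Matrix I28 I28 F := cM PZ

/-- the auxiliary matrix over `F` -/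
def mK : Matrix I28 I28 F := cM mZ

theorem kappaK_iotaK : kappaK F * iotaK F = 1 := by
  unfold kappaK iotaK
  rw [← cM_mul, kappa_iota, cM_one]

theorem PK_iotaK : PK F * iotaK F = iotaK F := by
  unfold PK iotaK
  rw [← cM_mul, P_iota]

theorem one_sub_K : 1 - iotaK F * kappaK F = mK F * (1 - PK F) := by
  unfold iotaK kappaK mK PK
  rw [← cM_one, ← cM_mul, ← cM_sub, one_sub_iota_kappa, cM_mul, cM_sub, cM_one]

variable {F}

theorem foldK_a (t : F) : xM 18 t * xM 13 t * xM 12 t * iotaK F = iotaK F * xG 7 t := fold_a t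

theorem foldK_ma (t : F) : xM 5 t * xM 10 t * xM 11 t * iotaK F = iotaK F * xG 4 t := fold_ma t

theorem foldK_b (t : F) : xM 14 t * iotaK F = iotaK F * xG 6 t := fold_b t

theorem foldK_mb (t : F) : xM 9 t * iotaK F = iotaK F * xG 5 t := fold_mb t

end Consts

end Cfsg.Agent.Helper83.Tri
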