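import Cfsg.Agent.Helper83.TriFold
import Cfsg.Agent.Helper83.TriCount
import Cfsg.Agent.Helper36.ChevGenAll
import Cfsg.Agent.S1059

/-!
# The restriction homomorphism from the fixed points of triality in `D₄(K)` to `G₂(K)`
-/

set_option autoImplicit false
set_option maxRecDepth 100000
set_option linter.unusedSectionVars false

namespace Cfsg.Agent.Helper83.Tri

open Matrix Cfsg Cfsg.Lie Cfsg.Agent.Helper18 Cfsg.Agent.Helper40.GraphAut Cfsg.Agent.S1081
  Cfsg.Agent.Helper19.Twist Cfsg.Agent.Helper83.D4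

section Rho

variable {K : Type*} [Field K]

/-- the matrix of an element of `GL`, with explicit index types -/
def mat (g : GL chevD4.Idx K) : Matrix I28 I28 K := (g : Matrix chevD4.Idx chevD4.Idx K)

theorem mat_mul (g h : GL chevD4.Idx K) : mat (g * h) = mat g * mat h := rfl

theorem mat_one : mat (1 : GL chevD4.Idx K) = 1 := rfl

theorem sgnPerm_eq : (sgnPerm chevD4 K rho1 pi1 eps1 : Matrix I28 I28 K) = PK K := by
  ext row col
  rcases row with j | u <;> rcases col with i | s
  · show (if j.val = rho1 i.val then (1 : K) else 0) =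
      (((if j.val = rhoT i.val then (1 : ℤ) else 0 : ℤ)) : K)
    have : rho1 i.val = rhoT i.val := rfl
    rw [this]
    split_ifs <;> simp
  · show (0 : K) = ((0 : ℤ) : K)
    simp
  · show (0 : K) = ((0 : ℤ) : K)
    simp
  · show (if u.val = pi1 s.val then ((eps1 s.val : ℤ) : K) else 0) =
      (((if u.val = piT s.val then epsT s.val else 0 : ℤ)) : K)
    have h1 : pi1 s.val = piT s.val := rfl
    have h2 : eps1 s.val = epsT s.val := rfl
    rw [h1, h2]
    split_ifs <;> simp

/-- the fixed points of the graph automorphism commute with the signed permutation matrix -/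
theorem fix_comm (g : GL chevD4.Idx K) (hg : g ∈ FixD4 (RingEquiv.refl K)) :
    PK K * mat g = mat g * PK K := by
  have h1 : sigD4 (RingEquiv.refl K) g = g := (mem_FixD4 _ g).mp hg
  set γ : GL chevD4.Idx K := sgnPermGL chevD4 K rho1 rhoInv1 pi1 piInv1 eps1 permsOK_D4 with hγ
  have h0 : Cfsg.Agent.S1080.glEquiv chevD4 (RingEquiv.refl K) g = g := by
    apply Units.ext
    rw [Cfsg.Agent.S1080.glEquiv_coe]
    ext i j
    simp
  have h2 : sigD4 (RingEquiv.refl K) g = γ * g * γ⁻¹ := by
    unfold sigD4 sigmaGL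
    rw [MulEquiv.trans_apply, MulAut.conj_apply, h0]
  rw [h2] at h1
  have h3 : γ * g = g * γ := by
    calc γ * g = (γ * g * γ⁻¹) * γ := by group
      _ = g * γ := by rw [h1]
  have h4 := congrArg (fun x : GL chevD4.Idx K => mat x) h3
  simp only [mat_mul] at h4
  have h5 : mat γ = PK K := sgnPerm_eq
  rw [h5] at h4
  exact h4

/-- a matrix commuting with the signed permutation matrix stabilises the range of `ι` -/
theorem iota_kappa_fix (g : Matrix I28 I28 K) (hg : PK K * g = g * PK K) :
    iotaK K * (kappaK K * (g * iotaK K)) = g * iotaK K := by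
  have h3 : (1 - iotaK K * kappaK K) * (g * iotaK K) = 0 := by
    rw [one_sub_K, Matrix.mul_assoc, Matrix.sub_mul, Matrix.one_mul, ← Matrix.mul_assoc (PK K), hg,
      Matrix.mul_assoc g, PK_iotaK, sub_self, Matrix.mul_zero]
  rw [Matrix.sub_mul, Matrix.one_mul, sub_eq_zero] at h3
  rw [← Matrix.mul_assoc]
  exact h3.symm

/-- the restriction to the fixed space of triality, as a homomorphism to matrices -/
noncomputable def rho0 : ↥(FixD4 (RingEquiv.refl K)) →* Matrix I14 I14 K where
  toFun g := kappaK K * (mat (g : GL chevD4.Idx K) * iotaK K)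
  map_one' := by
    show kappaK K * (mat (1 : GL chevD4.Idx K) * iotaK K) = 1
    rw [mat_one, Matrix.one_mul, kappaK_iotaK]
  map_mul' g h := by
    show kappaK K * (mat ((g : GL chevD4.Idx K) * (h : GL chevD4.Idx K)) * iotaK K) =
      kappaK K * (mat (g : GL chevD4.Idx K) * iotaK K) * (kappaK K * (mat (h : GL chevD4.Idx K) * iotaK K))
    rw [mat_mul, Matrix.mul_assoc (kappaK K) (mat (g : GL chevD4.Idx K) * iotaK K),
      Matrix.mul_assoc (mat (g : GL chevD4.Idx K)) (iotaK K),
      iota_kappa_fix _ (fix_comm _ h.2), Matrix.mul_assoc (mat (g : GL chevD4.Idx K))]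

/-- the restriction to the fixed space of triality -/
noncomputable def rho : ↥(FixD4 (RingEquiv.refl K)) →* GL chevG2.Idx K :=
  (rho0 (K := K)).toHomUnits

/-- the matrix of an element of `GL`, with explicit index types -/
def matG (g : GL chevG2.Idx K) : Matrix I14 I14 K := (g : Matrix chevG2.Idx chevG2.Idx K)

theorem rho_val (g : ↥(FixD4 (RingEquiv.refl K))) :
    matG (rho g) = kappaK K * (mat (g : GL chevD4.Idx K) * iotaK K) := rfl

/-- the value of `ρ` on an element whose matrix intertwines -/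
theorem rho_of_intertwine (g : ↥(FixD4 (RingEquiv.refl K))) (Y : Matrix I14 I14 K)
    (h : mat (g : GL chevD4.Idx K) * iotaK K = iotaK K * Y) :
    matG (rho g) = Y := by
  rw [rho_val, h, ← Matrix.mul_assoc, kappaK_iotaK, Matrix.one_mul]

theorem x_eq_xM (r : Fin 24) (t : K) : (chevD4.x K r.val t : Matrix I28 I28 K) = xM r t := by
  unfold ChevalleyDatum.x xM
  exact dif_pos (show r.val < chevD4.nroots from r.2)

theorem x_eq_xG (r : Fin 12) (t : K) : (chevG2.x K r.val t : Matrix I14 I14 K) = xG r t := by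
  unfold ChevalleyDatum.x xG
  exact dif_pos (show r.val < chevG2.nroots from r.2)

theorem mat_xGL (r : Fin 24) (t : K) : mat (xGL chevD4 K r.val t) = xM r t := by
  unfold mat
  rw [xGL_val chevD4 _ (triOK_of_mem chevD4 memD4), x_eq_xM]

end Rho

section Gens

variable {K : Type*} [Field K] [Fintype K]

/-- the folded root elements as elements of the group of fixed points -/
theorem gen_a_mem (t : K) :
    xGL chevD4 K 18 t * xGL chevD4 K 13 t * xGL chevD4 K 12 t ∈ twistedD4 K (Fintype.card K) :=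
  xJpD4_mem (RingEquiv.refl K) hrefl t

theorem gen_ma_mem (t : K) :
    xGL chevD4 K 5 t * xGL chevD4 K 10 t * xGL chevD4 K 11 t ∈ twistedD4 K (Fintype.card K) :=
  xJmD4_mem (RingEquiv.refl K) hrefl t

theorem gen_b_mem (t : K) : xGL chevD4 K 14 t ∈ twistedD4 K (Fintype.card K) :=
  x2pD4_mem (RingEquiv.refl K) hrefl t rfl

theorem gen_mb_mem (t : K) : xGL chevD4 K 9 t ∈ twistedD4 K (Fintype.card K) :=
  x2mD4_mem (RingEquiv.refl K) hrefl t rfl

theorem rho_gen_a (t : K) :
    matG (rho ⟨_, twisted_le_Fix (gen_a_mem t)⟩) = xG 7 t := by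
  apply rho_of_intertwine
  show mat (xGL chevD4 K 18 t * xGL chevD4 K 13 t * xGL chevD4 K 12 t) * iotaK K = _
  rw [mat_mul, mat_mul]
  have e1 := mat_xGL (K := K) 18 t
  have e2 := mat_xGL (K := K) 13 t
  have e3 := mat_xGL (K := K) 12 t
  rw [show mat (xGL chevD4 K 18 t) = xM 18 t from e1, show mat (xGL chevD4 K 13 t) = xM 13 t from e2,
    show mat (xGL chevD4 K 12 t) = xM 12 t from e3]
  exact foldK_a t

theorem rho_gen_ma (t : K) :
    matG (rho ⟨_, twisted_le_Fix (gen_ma_mem t)⟩) = xG 4 t := by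
  apply rho_of_intertwine
  show mat (xGL chevD4 K 5 t * xGL chevD4 K 10 t * xGL chevD4 K 11 t) * iotaK K = _
  rw [mat_mul, mat_mul]
  have e1 := mat_xGL (K := K) 5 t
  have e2 := mat_xGL (K := K) 10 t
  have e3 := mat_xGL (K := K) 11 t
  rw [show mat (xGL chevD4 K 5 t) = xM 5 t from e1, show mat (xGL chevD4 K 10 t) = xM 10 t from e2,
    show mat (xGL chevD4 K 11 t) = xM 11 t from e3]
  exact foldK_ma t

theorem rho_gen_b (t : K) :
    matG (rho ⟨_, twisted_le_Fix (gen_b_mem t)⟩) = xG 6 t := by
  apply rho_of_intertwine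
  show mat (xGL chevD4 K 14 t) * iotaK K = _
  have e1 := mat_xGL (K := K) 14 t
  rw [show mat (xGL chevD4 K 14 t) = xM 14 t from e1]
  exact foldK_b t

theorem rho_gen_mb (t : K) :
    matG (rho ⟨_, twisted_le_Fix (gen_mb_mem t)⟩) = xG 5 t := by
  apply rho_of_intertwine
  show mat (xGL chevD4 K 9 t) * iotaK K = _
  have e1 := mat_xGL (K := K) 9 t
  rw [show mat (xGL chevD4 K 9 t) = xM 9 t from e1]
  exact foldK_mb t

end Gens

end Cfsg.Agent.Helper83.Tri
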