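import Mathlib
import Cfsg.Prelude.Def_RootSubgroups

set_option autoImplicit false

/-!
# Unipotent linear groups: the augmentation subalgebra

For a subgroup `H` of `GL(M)` we consider `aug H`, the span of the elements `g - 1`, `g ∈ H`.  It is
closed under multiplication, and `H` acts unipotently iff some power of `aug H` vanishes.
-/

namespace Cfsg.Agent.Helper83.Unip

variable {k : Type*} [Field k] {M : Type*} [AddCommGroup M] [Module k M]

/-- The span of the elements `g - 1`, `g ∈ H`. -/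
def aug (H : Subgroup (LinearMap.GeneralLinearGroup k M)) : Submodule k (Module.End k M) :=
  Submodule.span k {x | ∃ g ∈ H, x = (g : Module.End k M) - 1}

theorem sub_one_mem_aug {H : Subgroup (LinearMap.GeneralLinearGroup k M)}
    {g : LinearMap.GeneralLinearGroup k M} (hg : g ∈ H) : (g : Module.End k M) - 1 ∈ aug H :=
  Submodule.subset_span ⟨g, hg, rfl⟩

theorem aug_mono {H K : Subgroup (LinearMap.GeneralLinearGroup k M)} (h : H ≤ K) : aug H ≤ aug K := by
  apply Submodule.span_mono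
  rintro _ ⟨g, hg, rfl⟩
  exact ⟨g, h hg, rfl⟩

theorem aug_le_iff {H : Subgroup (LinearMap.GeneralLinearGroup k M)} {𝔟 : Submodule k (Module.End k M)} :
    aug H ≤ 𝔟 ↔ ∀ g ∈ H, (g : Module.End k M) - 1 ∈ 𝔟 := by
  constructor
  · intro h g hg
    exact h (sub_one_mem_aug hg)
  · intro h
    apply Submodule.span_le.mpr
    rintro _ ⟨g, hg, rfl⟩
    exact h g hg

/-- `aug H` is closed under multiplication. -/
theorem aug_mul_le (H : Subgroup (LinearMap.GeneralLinearGroup k M)) : aug H * aug H ≤ aug H := by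
  rw [Submodule.mul_le]
  intro x hx y hy
  induction hx using Submodule.span_induction with
  | mem x hx =>
    obtain ⟨g, hg, rfl⟩ := hx
    induction hy using Submodule.span_induction with
    | mem y hy =>
      obtain ⟨h, hh, rfl⟩ := hy
      have e : ((g : Module.End k M) - 1) * ((h : Module.End k M) - 1) =
          (((g * h : LinearMap.GeneralLinearGroup k M) : Module.End k M) - 1) -
            ((g : Module.End k M) - 1) - ((h : Module.End k M) - 1) := by
        rw [Units.val_mul]; noncomm_ring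
      rw [e]
      exact Submodule.sub_mem _ (Submodule.sub_mem _ (sub_one_mem_aug (H.mul_mem hg hh))
        (sub_one_mem_aug hg)) (sub_one_mem_aug hh)
    | zero => rw [mul_zero]; exact Submodule.zero_mem _
    | add y z _ _ hy hz => rw [mul_add]; exact Submodule.add_mem _ hy hz
    | smul a y _ hy => rw [mul_smul_comm]; exact Submodule.smul_mem _ a hy
  | zero => rw [zero_mul]; exact Submodule.zero_mem _
  | add x z _ _ hx hz => rw [add_mul]; exact Submodule.add_mem _ hx hz
  | smul a x _ hx => rw [smul_mul_assoc]; exact Submodule.smul_mem _ a hx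

theorem aug_mul_mem {H : Subgroup (LinearMap.GeneralLinearGroup k M)} {x y : Module.End k M}
    (hx : x ∈ aug H) (hy : y ∈ aug H) : x * y ∈ aug H :=
  aug_mul_le H (Submodule.mul_mem_mul hx hy)

/-- `IsUnipotentOn` with the coercion spelled out. -/
theorem isUnipotentOn_iff (H : Subgroup (LinearMap.GeneralLinearGroup k M)) :
    Cfsg.IsUnipotentOn H ↔ ∃ n : ℕ, ∀ l : List (LinearMap.GeneralLinearGroup k M), (∀ g ∈ l, g ∈ H) →
      l.length = n → (l.map fun g => (Units.val g : Module.End k M) - 1).prod = 0 := by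
  unfold Cfsg.IsUnipotentOn
  have e : ∀ l : List (LinearMap.GeneralLinearGroup k M),
      (List.map (fun g : Module.End k M => g - 1) (do let a ← l; pure (Units.val a))) =
      l.map fun g => (Units.val g : Module.End k M) - 1 := by
    intro l
    induction l with
    | nil => rfl
    | cons a l ih =>
      simp only [List.bind_eq_flatMap, List.pure_def, List.flatMap_cons, List.singleton_append,
        List.map_cons] at ih ⊢
      rw [ih]
  constructor
  · rintro ⟨n, hn⟩
    exact ⟨n, fun l hl hlen => by rw [← e]; exact hn l hl hlen⟩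
  · rintro ⟨n, hn⟩
    exact ⟨n, fun l hl hlen => by have := hn l hl hlen; rw [← e] at this; exact this⟩

/-- A list product of elements of `𝔟` lies in the corresponding power. -/
theorem list_prod_mem_pow (𝔟 : Submodule k (Module.End k M)) (l : List (Module.End k M))
    (hl : ∀ x ∈ l, x ∈ 𝔟) : l.prod ∈ 𝔟 ^ l.length := by
  induction l with
  | nil =>
    simp only [List.prod_nil, List.length_nil, pow_zero]
    exact Submodule.one_le.mp le_rfl
  | cons x l ih =>
    rw [List.prod_cons, List.length_cons, pow_succ']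
    exact Submodule.mul_mem_mul (hl x (List.mem_cons_self)) (ih fun y hy => hl y (List.mem_cons_of_mem _ hy))

/-- If a power of `𝔟` vanishes, every group whose elements are congruent to `1` modulo `𝔟` acts
unipotently. -/
theorem isUnipotentOn_of_pow_eq_bot {𝔟 : Submodule k (Module.End k M)} {n : ℕ} (hn : 𝔟 ^ n = ⊥)
    {K : Subgroup (LinearMap.GeneralLinearGroup k M)} (hK : ∀ g ∈ K, (g : Module.End k M) - 1 ∈ 𝔟) :
    Cfsg.IsUnipotentOn K := by
  rw [isUnipotentOn_iff]
  refine ⟨n, fun l hl hlen => ?_⟩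
  have h1 := list_prod_mem_pow 𝔟 (l.map fun g => (Units.val g : Module.End k M) - 1) (by
    intro x hx
    rw [List.mem_map] at hx
    obtain ⟨g, hg, rfl⟩ := hx
    exact hK g (hl g hg))
  rw [List.length_map, hlen, hn, Submodule.mem_bot] at h1
  exact h1

/-- A group acting unipotently has a nilpotent augmentation algebra. -/
theorem exists_pow_aug_eq_bot {H : Subgroup (LinearMap.GeneralLinearGroup k M)}
    (h : Cfsg.IsUnipotentOn H) : ∃ n, aug H ^ n = ⊥ := by
  obtain ⟨n, hn⟩ := (isUnipotentOn_iff H).mp h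
  refine ⟨n, ?_⟩
  unfold aug
  rw [Submodule.span_pow, Submodule.span_eq_bot]
  intro x hx
  rw [Set.mem_pow] at hx
  obtain ⟨f, rfl⟩ := hx
  -- each `f i` is `g i - 1`
  choose g hg hfg using fun i => (f i).2
  have hlist : (List.ofFn fun i => ((f i : Module.End k M))) =
      (List.ofFn g).map fun g => (Units.val g : Module.End k M) - 1 := by
    rw [List.map_ofFn]
    congr 1
    funext i
    exact hfg i
  rw [hlist]
  apply hn
  · intro y hy
    rw [List.mem_ofFn] at hy
    obtain ⟨i, rfl⟩ := hy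
    exact hg i
  · exact List.length_ofFn

theorem isUnipotentOn_mono {H K : Subgroup (LinearMap.GeneralLinearGroup k M)} (hKH : K ≤ H)
    (h : Cfsg.IsUnipotentOn H) : Cfsg.IsUnipotentOn K := by
  obtain ⟨n, hn⟩ := h
  exact ⟨n, fun l hl hlen => hn l (fun g hg => hKH (hl g hg)) hlen⟩

/-- The group of all `g` with `g - 1` and `g⁻¹ - 1` in the multiplicatively closed subspace `𝔟`. -/
def hat (𝔟 : Submodule k (Module.End k M)) (h𝔟 : 𝔟 * 𝔟 ≤ 𝔟) :
    Subgroup (LinearMap.GeneralLinearGroup k M) where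
  carrier := {g | (g : Module.End k M) - 1 ∈ 𝔟 ∧ ((g⁻¹ : LinearMap.GeneralLinearGroup k M) : Module.End k M) - 1 ∈ 𝔟}
  one_mem' := by
    simp only [Set.mem_setOf_eq, inv_one, Units.val_one, sub_self]
    exact ⟨Submodule.zero_mem _, Submodule.zero_mem _⟩
  mul_mem' := by
    intro g h hg hh
    have key : ∀ x y : Module.End k M, x - 1 ∈ 𝔟 → y - 1 ∈ 𝔟 → x * y - 1 ∈ 𝔟 := by
      intro x y hx hy
      have e : x * y - 1 = (x - 1) * (y - 1) + (x - 1) + (y - 1) := by noncomm_ring
      rw [e]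
      exact Submodule.add_mem _ (Submodule.add_mem _ (h𝔟 (Submodule.mul_mem_mul hx hy)) hx) hy
    refine ⟨?_, ?_⟩
    · rw [Units.val_mul]; exact key _ _ hg.1 hh.1
    · rw [mul_inv_rev, Units.val_mul]; exact key _ _ hh.2 hg.2
  inv_mem' := by
    intro g hg
    exact ⟨hg.2, by rw [inv_inv]; exact hg.1⟩

theorem mem_hat {𝔟 : Submodule k (Module.End k M)} {h𝔟 : 𝔟 * 𝔟 ≤ 𝔟}
    {g : LinearMap.GeneralLinearGroup k M} :
    g ∈ hat 𝔟 h𝔟 ↔ (g : Module.End k M) - 1 ∈ 𝔟 ∧
      ((g⁻¹ : LinearMap.GeneralLinearGroup k M) : Module.End k M) - 1 ∈ 𝔟 := Iff.rfl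

theorem le_hat_aug (H : Subgroup (LinearMap.GeneralLinearGroup k M)) : H ≤ hat (aug H) (aug_mul_le H) :=
  fun _ hg => ⟨sub_one_mem_aug hg, sub_one_mem_aug (H.inv_mem hg)⟩

theorem le_hat_of_aug_le {H : Subgroup (LinearMap.GeneralLinearGroup k M)}
    {𝔟 : Submodule k (Module.End k M)} {h𝔟 : 𝔟 * 𝔟 ≤ 𝔟} (h : aug H ≤ 𝔟) : H ≤ hat 𝔟 h𝔟 :=
  fun _ hg => ⟨h (sub_one_mem_aug hg), h (sub_one_mem_aug (H.inv_mem hg))⟩

theorem aug_hat_le {𝔟 : Submodule k (Module.End k M)} {h𝔟 : 𝔟 * 𝔟 ≤ 𝔟} : aug (hat 𝔟 h𝔟) ≤ 𝔟 :=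
  aug_le_iff.mpr fun _ hg => hg.1

theorem aug_le_of_le_hat {H : Subgroup (LinearMap.GeneralLinearGroup k M)}
    {𝔟 : Submodule k (Module.End k M)} {h𝔟 : 𝔟 * 𝔟 ≤ 𝔟} (h : H ≤ hat 𝔟 h𝔟) : aug H ≤ 𝔟 :=
  (aug_mono h).trans aug_hat_le

/-- The hat of a nilpotent multiplicatively closed subspace acts unipotently. -/
theorem isUnipotentOn_hat {𝔟 : Submodule k (Module.End k M)} {h𝔟 : 𝔟 * 𝔟 ≤ 𝔟} {n : ℕ}
    (hn : 𝔟 ^ n = ⊥) : Cfsg.IsUnipotentOn (hat 𝔟 h𝔟) :=
  isUnipotentOn_of_pow_eq_bot hn fun _ hg => hg.1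

end Cfsg.Agent.Helper83.Unip
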