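import Mathlib
import Cfsg.Prelude.Def_RootSubgroups
import Cfsg.Agent.Helper83.Unip1
import Cfsg.Agent.Helper83.RankOne

set_option autoImplicit false

/-!
# The filtration of a unipotent linear group and normalizers of `W`-generated subgroups
-/

namespace Cfsg.Agent.Helper83.Unip

open Cfsg.Agent.Helper83

variable {k : Type*} [Field k] {M : Type*} [AddCommGroup M] [Module k M]

section powers

variable (𝔞 : Submodule k (Module.End k M)) (h𝔞 : 𝔞 * 𝔞 ≤ 𝔞)

include h𝔞 in
theorem pow_succ_succ_le (j : ℕ) : 𝔞 ^ (j + 2) ≤ 𝔞 ^ (j + 1) := by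
  rw [pow_succ 𝔞 (j + 1), pow_succ 𝔞 j, mul_assoc]
  exact mul_le_mul_right h𝔞 _

include h𝔞 in
theorem pow_succ_antitone {i j : ℕ} (hij : i ≤ j) : 𝔞 ^ (j + 1) ≤ 𝔞 ^ (i + 1) := by
  induction hij with
  | refl => exact le_rfl
  | step _ ih => exact (pow_succ_succ_le 𝔞 h𝔞 _).trans ih

include h𝔞 in
theorem pow_succ_le_self (i : ℕ) : 𝔞 ^ (i + 1) ≤ 𝔞 := by
  have := pow_succ_antitone 𝔞 h𝔞 (Nat.zero_le i)
  simpa using this

theorem mul_pow_mem {i : ℕ} {x y : Module.End k M} (hx : x ∈ 𝔞) (hy : y ∈ 𝔞 ^ (i + 1)) :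
    x * y ∈ 𝔞 ^ (i + 2) := by
  rw [pow_succ' 𝔞 (i + 1)]
  exact Submodule.mul_mem_mul hx hy

theorem pow_mul_mem {i : ℕ} {x y : Module.End k M} (hx : x ∈ 𝔞 ^ (i + 1)) (hy : y ∈ 𝔞) :
    x * y ∈ 𝔞 ^ (i + 2) := by
  rw [pow_succ 𝔞 (i + 1)]
  exact Submodule.mul_mem_mul hx hy

end powers

/-- The `i`-th term of the filtration of `U`: the elements `u` with `u - 1 ∈ (aug U)^(i+1)`. -/
def filt (U : Subgroup (LinearMap.GeneralLinearGroup k M)) (i : ℕ) :
    Subgroup (LinearMap.GeneralLinearGroup k M) where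
  carrier := {u | u ∈ U ∧ (u : Module.End k M) - 1 ∈ aug U ^ (i + 1)}
  one_mem' := ⟨U.one_mem, by simp⟩
  mul_mem' := by
    rintro u v ⟨hu, hu'⟩ ⟨hv, hv'⟩
    refine ⟨U.mul_mem hu hv, ?_⟩
    have e : ((u * v : LinearMap.GeneralLinearGroup k M) : Module.End k M) - 1 =
        ((u : Module.End k M) - 1) * ((v : Module.End k M) - 1) + ((u : Module.End k M) - 1) +
          ((v : Module.End k M) - 1) := by
      rw [Units.val_mul]; noncomm_ring
    rw [e]
    refine Submodule.add_mem _ (Submodule.add_mem _ ?_ hu') hv'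
    have h1 := pow_mul_mem (aug U) hu' (pow_succ_le_self (aug U) (aug_mul_le U) i hv')
    exact pow_succ_succ_le (aug U) (aug_mul_le U) i h1
  inv_mem' := by
    rintro u ⟨hu, hu'⟩
    refine ⟨U.inv_mem hu, ?_⟩
    have e : ((u⁻¹ : LinearMap.GeneralLinearGroup k M) : Module.End k M) - 1 =
        -((u : Module.End k M) - 1) -
          (((u⁻¹ : LinearMap.GeneralLinearGroup k M) : Module.End k M) - 1) * ((u : Module.End k M) - 1) := by
      have h1 : ((u⁻¹ : LinearMap.GeneralLinearGroup k M) : Module.End k M) * (u : Module.End k M) = 1 :=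
        Units.inv_mul u
      have : (((u⁻¹ : LinearMap.GeneralLinearGroup k M) : Module.End k M) - 1) * ((u : Module.End k M) - 1) =
          1 - ((u⁻¹ : LinearMap.GeneralLinearGroup k M) : Module.End k M) - (u : Module.End k M) + 1 := by
        rw [sub_mul, mul_sub, h1]; noncomm_ring
      rw [this]; noncomm_ring
    rw [e]
    refine Submodule.sub_mem _ (Submodule.neg_mem _ hu') ?_
    have h1 := mul_pow_mem (aug U) (sub_one_mem_aug (U.inv_mem hu)) hu'
    exact pow_succ_succ_le (aug U) (aug_mul_le U) i h1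

theorem mem_filt {U : Subgroup (LinearMap.GeneralLinearGroup k M)} {i : ℕ}
    {u : LinearMap.GeneralLinearGroup k M} :
    u ∈ filt U i ↔ u ∈ U ∧ (u : Module.End k M) - 1 ∈ aug U ^ (i + 1) := Iff.rfl

theorem filt_le (U : Subgroup (LinearMap.GeneralLinearGroup k M)) (i : ℕ) : filt U i ≤ U :=
  fun _ hu => hu.1

theorem filt_zero (U : Subgroup (LinearMap.GeneralLinearGroup k M)) : filt U 0 = U := by
  apply le_antisymm (filt_le U 0)
  intro u hu
  refine ⟨hu, ?_⟩
  simpa using sub_one_mem_aug hu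

theorem filt_antitone (U : Subgroup (LinearMap.GeneralLinearGroup k M)) {i j : ℕ} (hij : i ≤ j) :
    filt U j ≤ filt U i :=
  fun _ hu => ⟨hu.1, pow_succ_antitone (aug U) (aug_mul_le U) hij hu.2⟩

theorem filt_eq_bot {U : Subgroup (LinearMap.GeneralLinearGroup k M)} {n : ℕ} (hn : aug U ^ (n + 1) = ⊥) :
    filt U n = ⊥ := by
  rw [eq_bot_iff]
  intro u hu
  rw [Subgroup.mem_bot]
  have := hu.2
  rw [hn, Submodule.mem_bot, sub_eq_zero] at this
  exact Units.ext this

/-- The commutator of an element of `filt U i` with an element of `U` lies in `filt U (i+1)`. -/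
theorem comm_mem_filt {U : Subgroup (LinearMap.GeneralLinearGroup k M)} {i : ℕ}
    {u v : LinearMap.GeneralLinearGroup k M} (hu : u ∈ filt U i) (hv : v ∈ U) :
    u * v * u⁻¹ * v⁻¹ ∈ filt U (i + 1) := by
  refine ⟨U.mul_mem (U.mul_mem (U.mul_mem hu.1 hv) (U.inv_mem hu.1)) (U.inv_mem hv), ?_⟩
  set x := (u : Module.End k M) - 1 with hx
  set y := (v : Module.End k M) - 1 with hy
  set w := ((u⁻¹ * v⁻¹ : LinearMap.GeneralLinearGroup k M) : Module.End k M) with hw
  have hxm : x ∈ aug U ^ (i + 1) := hu.2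
  have hym : y ∈ aug U := sub_one_mem_aug hv
  have hwm : w - 1 ∈ aug U := sub_one_mem_aug (U.mul_mem (U.inv_mem hu.1) (U.inv_mem hv))
  have e : ((u * v * u⁻¹ * v⁻¹ : LinearMap.GeneralLinearGroup k M) : Module.End k M) - 1 =
      (x * y - y * x) + (x * y - y * x) * (w - 1) := by
    have h1 : ((u * v * u⁻¹ * v⁻¹ : LinearMap.GeneralLinearGroup k M) : Module.End k M) =
        (u : Module.End k M) * (v : Module.End k M) * w := by
      rw [hw, ← Units.val_mul, ← Units.val_mul]
      have hg : u * v * u⁻¹ * v⁻¹ = u * v * (u⁻¹ * v⁻¹) := by group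
      rw [hg]
    have h2 : (v : Module.End k M) * (u : Module.End k M) * w = 1 := by
      rw [hw, ← Units.val_mul, ← Units.val_mul]
      have : v * u * (u⁻¹ * v⁻¹) = 1 := by group
      rw [this]; rfl
    have h3 : x * y - y * x = (u : Module.End k M) * (v : Module.End k M) -
        (v : Module.End k M) * (u : Module.End k M) := by
      rw [hx, hy]; noncomm_ring
    rw [h3, h1]
    have : ((u : Module.End k M) * (v : Module.End k M) - (v : Module.End k M) * (u : Module.End k M)) +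
        ((u : Module.End k M) * (v : Module.End k M) - (v : Module.End k M) * (u : Module.End k M)) * (w - 1) =
        (u : Module.End k M) * (v : Module.End k M) * w - (v : Module.End k M) * (u : Module.End k M) * w := by
      noncomm_ring
    rw [this, h2]
  rw [e]
  have hz : x * y - y * x ∈ aug U ^ (i + 2) :=
    Submodule.sub_mem _ (pow_mul_mem (aug U) hxm hym) (mul_pow_mem (aug U) hym hxm)
  refine Submodule.add_mem _ hz ?_
  have := pow_mul_mem (aug U) hz hwm
  exact pow_succ_succ_le (aug U) (aug_mul_le U) (i + 1) this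

/-- `filt U i` is normalized by `U`. -/
theorem conj_mem_filt {U : Subgroup (LinearMap.GeneralLinearGroup k M)} {i : ℕ}
    {u v : LinearMap.GeneralLinearGroup k M} (hu : u ∈ filt U i) (hv : v ∈ U) :
    v * u * v⁻¹ ∈ filt U i := by
  have h1 := comm_mem_filt hu hv
  have h2 : (u * v * u⁻¹ * v⁻¹)⁻¹ ∈ filt U i :=
    (filt U i).inv_mem (filt_antitone U (Nat.le_succ i) h1)
  have e : v * u * v⁻¹ = (u * v * u⁻¹ * v⁻¹)⁻¹ * u := by group
  rw [e]
  exact (filt U i).mul_mem h2 hu

theorem filt_conjBy {U : Subgroup (LinearMap.GeneralLinearGroup k M)} (i : ℕ)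
    {v : LinearMap.GeneralLinearGroup k M} (hv : v ∈ U) : Cfsg.conjBy (filt U i) v = filt U i := by
  apply le_antisymm
  · intro x hx
    rw [mem_conjBy] at hx
    have := conj_mem_filt hx hv
    have e : v * (v⁻¹ * x * v) * v⁻¹ = x := by group
    rwa [e] at this
  · intro x hx
    rw [mem_conjBy]
    have := conj_mem_filt hx (U.inv_mem hv)
    rwa [inv_inv] at this

/-- `D ⊔ filt U i` normalizes `D ⊔ filt U (i+1)` for `D ≤ U`. -/
theorem sup_filt_le_normalizer {U D : Subgroup (LinearMap.GeneralLinearGroup k M)} (hDU : D ≤ U) (i : ℕ) :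
    D ⊔ filt U i ≤ Subgroup.normalizer ((D ⊔ filt U (i + 1) : Subgroup _) : Set _) := by
  have key : ∀ g, (g ∈ D ∨ g ∈ filt U i) → Cfsg.conjBy (D ⊔ filt U (i + 1)) g ≤ D ⊔ filt U (i + 1) := by
    intro g hg
    have hgU : g ∈ U := hg.elim (fun h => hDU h) (fun h => h.1)
    rw [conjBy_sup, filt_conjBy (i + 1) hgU]
    refine sup_le ?_ le_sup_right
    rcases hg with hg | hg
    · rw [conjBy_of_mem hg]; exact le_sup_left
    · intro x hx
      rw [mem_conjBy] at hx
      -- `x = ⁅g, d⁆ d` with `d = g⁻¹ x g`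
      have h1 := comm_mem_filt hg (hDU hx)
      have e : x = (g * (g⁻¹ * x * g) * g⁻¹ * (g⁻¹ * x * g)⁻¹) * (g⁻¹ * x * g) := by group
      rw [e]
      exact Subgroup.mul_mem _ (Subgroup.mem_sup_right h1) (Subgroup.mem_sup_left hx)
  have key2 : ∀ g, (g ∈ D ∨ g ∈ filt U i) → g ∈ Subgroup.normalizer ((D ⊔ filt U (i + 1) : Subgroup _) : Set _) := by
    intro g hg
    have hg' : g⁻¹ ∈ D ∨ g⁻¹ ∈ filt U i := hg.imp (fun h => D.inv_mem h) (fun h => (filt U i).inv_mem h)
    rw [← conjBy_eq_self_iff]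
    apply le_antisymm (key g hg)
    have := conjBy_mono (key g⁻¹ hg') g
    rwa [conjBy_conjBy, mul_inv_cancel, conjBy_one] at this
  rw [sup_le_iff]
  exact ⟨fun g hg => key2 g (Or.inl hg), fun g hg => key2 g (Or.inr hg)⟩

/-- In a unipotent `W`-generated group `U`, a proper `W`-generated subgroup `D` is normalized by a
member of `W` inside `U` not contained in `D`. -/
theorem exists_normalizing_member {W : Set (Subgroup (LinearMap.GeneralLinearGroup k M))}
    {U D : Subgroup (LinearMap.GeneralLinearGroup k M)} (hU : Cfsg.IsUnipotentOn U)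
    (hWU : Cfsg.IsGeneratedByMembers W U) (hDU : D ≤ U) (hWD : Cfsg.IsGeneratedByMembers W D)
    (hne : D ≠ U) (hconj : ∀ A ∈ W, ∀ g ∈ U, Cfsg.conjBy A g ∈ W) :
    ∃ A ∈ W, A ≤ U ∧ ¬ A ≤ D ∧ A ≤ Subgroup.normalizer (D : Set _) := by
  obtain ⟨n, hn⟩ := exists_pow_aug_eq_bot hU
  have hn' : aug U ^ (n + 1) = ⊥ := by rw [pow_succ, hn, Submodule.bot_mul]
  have hbot := filt_eq_bot hn'
  -- the predicate
  let Q : ℕ → Prop := fun i => ∃ A ∈ W, A ≤ U ∧ ¬ A ≤ D ∧ A ≤ D ⊔ filt U i
  have hQ0 : Q 0 := by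
    by_contra hcon
    apply hne
    apply le_antisymm hDU
    rw [← hWU]
    refine iSup₂_le fun A hA => ?_
    by_contra hAD
    exact hcon ⟨A, hA.1, hA.2, hAD, by rw [filt_zero]; exact hA.2.trans le_sup_right⟩
  have hQn : ¬ Q n := by
    rintro ⟨A, _, _, hAD, hle⟩
    rw [hbot, sup_bot_eq] at hle
    exact hAD hle
  -- the last index where `Q` holds
  have hex : ∃ i, Q i ∧ ¬ Q (i + 1) := by
    by_contra hcon
    push Not at hcon
    have : ∀ i, Q i := by
      intro i
      induction i with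
      | zero => exact hQ0
      | succ i ih => exact hcon i ih
    exact hQn (this n)
  obtain ⟨i, ⟨A, hAW, hAU, hAD, hAle⟩, hQi⟩ := hex
  refine ⟨A, hAW, hAU, hAD, ?_⟩
  -- every `a ∈ A` maps the generators of `D` into `D`
  have key : ∀ a ∈ A, ∀ A' ∈ W, A' ≤ D → Cfsg.conjBy A' a ≤ D := by
    intro a ha A' hA' hA'D
    by_contra hcon
    apply hQi
    refine ⟨Cfsg.conjBy A' a, hconj A' hA' a (hAU ha), conjBy_le_of_mem (hA'D.trans hDU) (hAU ha), hcon, ?_⟩
    have hnorm := sup_filt_le_normalizer hDU i (hAle ha)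
    have h1 := conjBy_mono (hA'D.trans (le_sup_left : D ≤ D ⊔ filt U (i + 1))) a
    rwa [conjBy_eq_self_iff.mpr hnorm] at h1
  have key2 : ∀ a ∈ A, Cfsg.conjBy D a ≤ D := by
    intro a ha
    conv_lhs => rw [← hWD]
    unfold Cfsg.conjBy
    rw [Subgroup.map_iSup]
    refine iSup_le fun A' => ?_
    rw [Subgroup.map_iSup]
    refine iSup_le fun hA' => ?_
    exact key a ha A' hA'.1 hA'.2
  intro a ha
  rw [← conjBy_eq_self_iff]
  apply le_antisymm (key2 a ha)
  have := conjBy_mono (key2 a⁻¹ (A.inv_mem ha)) a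
  rwa [conjBy_conjBy, mul_inv_cancel, conjBy_one] at this

end Cfsg.Agent.Helper83.Unip
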