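import Mathlib
import Cfsg.Prelude.Def_RootSubgroups
import Cfsg.Agent.Helper83.Unip2

set_option autoImplicit false

/-!
# A unipotent normal subgroup extended by a unipotent group is unipotent
-/

namespace Cfsg.Agent.Helper83.Unip

open Cfsg.Agent.Helper83

variable {k : Type*} [Field k] {M : Type*} [AddCommGroup M] [Module k M]

/-- The span of `K` itself: `1 ⊔ aug K`. -/
def aug1 (K : Subgroup (LinearMap.GeneralLinearGroup k M)) : Submodule k (Module.End k M) :=
  1 ⊔ aug K

theorem one_le_aug1 (K : Subgroup (LinearMap.GeneralLinearGroup k M)) : 1 ≤ aug1 K := le_sup_left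

theorem aug_le_aug1 (K : Subgroup (LinearMap.GeneralLinearGroup k M)) : aug K ≤ aug1 K := le_sup_right

theorem aug1_mul_le (K : Subgroup (LinearMap.GeneralLinearGroup k M)) : aug1 K * aug1 K ≤ aug1 K := by
  unfold aug1
  rw [Submodule.sup_mul, Submodule.mul_sup, Submodule.mul_sup, one_mul, one_mul, mul_one]
  refine sup_le (sup_le le_sup_left le_sup_right) (sup_le le_sup_right ?_)
  exact (aug_mul_le K).trans le_sup_right

theorem pow_le_aug1 {K : Subgroup (LinearMap.GeneralLinearGroup k M)}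
    {X : Submodule k (Module.End k M)} (hX : X ≤ aug1 K) (m : ℕ) : X ^ m ≤ aug1 K := by
  induction m with
  | zero => rw [pow_zero]; exact one_le_aug1 K
  | succ m ih => rw [pow_succ]; exact (mul_le_mul' ih hX).trans (aug1_mul_le K)

/-- If `K` normalizes `D`, then `aug K * aug D ≤ aug D * aug1 K`. -/
theorem aug_mul_aug_le {D K : Subgroup (LinearMap.GeneralLinearGroup k M)}
    (hK : K ≤ Subgroup.normalizer (D : Set _)) : aug K * aug D ≤ aug D * aug1 K := by
  rw [Submodule.mul_le]
  intro x hx y hy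
  induction hx using Submodule.span_induction with
  | mem x hx =>
    obtain ⟨g, hg, rfl⟩ := hx
    induction hy using Submodule.span_induction with
    | mem y hy =>
      obtain ⟨d, hd, rfl⟩ := hy
      have hd' : g * d * g⁻¹ ∈ D := (Subgroup.mem_normalizer_iff.mp (hK hg) d).mp hd
      have h1 : ((g⁻¹ : LinearMap.GeneralLinearGroup k M) : Module.End k M) * (g : Module.End k M) = 1 :=
        Units.inv_mul g
      have e : ((g : Module.End k M) - 1) * ((d : Module.End k M) - 1) =
          (((g * d * g⁻¹ : LinearMap.GeneralLinearGroup k M) : Module.End k M) - 1) * ((g : Module.End k M) - 1) +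
            (((g * d * g⁻¹ : LinearMap.GeneralLinearGroup k M) : Module.End k M) - 1) * 1 -
              ((d : Module.End k M) - 1) * 1 := by
        rw [Units.val_mul, Units.val_mul]
        have h2 : ((g : Module.End k M) * (d : Module.End k M) *
            ((g⁻¹ : LinearMap.GeneralLinearGroup k M) : Module.End k M) - 1) * ((g : Module.End k M) - 1) =
            (g : Module.End k M) * (d : Module.End k M) *
              (((g⁻¹ : LinearMap.GeneralLinearGroup k M) : Module.End k M) * (g : Module.End k M)) -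
            (g : Module.End k M) * (d : Module.End k M) *
              ((g⁻¹ : LinearMap.GeneralLinearGroup k M) : Module.End k M) - (g : Module.End k M) + 1 := by
          noncomm_ring
        rw [h2, h1]; noncomm_ring
      rw [e]
      have hone : (1 : Module.End k M) ∈ aug1 K := Submodule.one_le.mp (one_le_aug1 K)
      refine Submodule.sub_mem _ (Submodule.add_mem _ ?_ ?_) ?_
      · exact Submodule.mul_mem_mul (sub_one_mem_aug hd') (aug_le_aug1 K (sub_one_mem_aug hg))
      · exact Submodule.mul_mem_mul (sub_one_mem_aug hd') hone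
      · exact Submodule.mul_mem_mul (sub_one_mem_aug hd) hone
    | zero => rw [mul_zero]; exact Submodule.zero_mem _
    | add y z _ _ hy hz => rw [mul_add]; exact Submodule.add_mem _ hy hz
    | smul a y _ hy => rw [mul_smul_comm]; exact Submodule.smul_mem _ a hy
  | zero => rw [zero_mul]; exact Submodule.zero_mem _
  | add x z _ _ hx hz => rw [add_mul]; exact Submodule.add_mem _ hx hz
  | smul a x _ hx => rw [smul_mul_assoc]; exact Submodule.smul_mem _ a hx

theorem aug1_mul_aug_le {D K : Subgroup (LinearMap.GeneralLinearGroup k M)}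
    (hK : K ≤ Subgroup.normalizer (D : Set _)) : aug1 K * aug D ≤ aug D * aug1 K := by
  unfold aug1
  rw [Submodule.sup_mul, one_mul]
  refine sup_le ?_ (aug_mul_aug_le hK)
  calc aug D = aug D * 1 := (mul_one _).symm
    _ ≤ aug D * (1 ⊔ aug K) := mul_le_mul_right le_sup_left _

section J

variable {D K : Subgroup (LinearMap.GeneralLinearGroup k M)}

theorem J_mul_aug1 : aug D * aug1 K * aug1 K ≤ aug D * aug1 K := by
  rw [mul_assoc]
  exact mul_le_mul_right (aug1_mul_le K) _

theorem aug1_mul_J (hK : K ≤ Subgroup.normalizer (D : Set _)) :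
    aug1 K * (aug D * aug1 K) ≤ aug D * aug1 K := by
  rw [← mul_assoc]
  exact (mul_le_mul_left (aug1_mul_aug_le hK) _).trans J_mul_aug1

theorem J_le_aug1 (hDK : D ≤ K) : aug D * aug1 K ≤ aug1 K :=
  (mul_le_mul_left ((aug_mono hDK).trans (aug_le_aug1 K)) _).trans (aug1_mul_le K)

theorem J_pow_le (hK : K ≤ Subgroup.normalizer (D : Set _)) (n : ℕ) :
    (aug D * aug1 K) ^ n ≤ aug D ^ n * aug1 K := by
  induction n with
  | zero => rw [pow_zero, pow_zero, one_mul]; exact one_le_aug1 K
  | succ n ih =>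
    rw [pow_succ, pow_succ]
    calc (aug D * aug1 K) ^ n * (aug D * aug1 K)
        ≤ aug D ^ n * aug1 K * (aug D * aug1 K) := mul_le_mul_left ih _
      _ = aug D ^ n * (aug1 K * (aug D * aug1 K)) := mul_assoc _ _ _
      _ = aug D ^ n * (aug1 K * aug D * aug1 K) := by rw [mul_assoc (aug1 K)]
      _ ≤ aug D ^ n * (aug D * aug1 K * aug1 K) :=
          mul_le_mul_right (mul_le_mul_left (aug1_mul_aug_le hK) _) _
      _ ≤ aug D ^ n * (aug D * aug1 K) := mul_le_mul_right J_mul_aug1 _
      _ = aug D ^ n * aug D * aug1 K := (mul_assoc _ _ _).symm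

end J

/-- If `D` and `Y` act unipotently and `Y` normalizes `D`, then `D ⊔ Y` acts unipotently. -/
theorem isUnipotentOn_sup_of_le_normalizer {D Y : Subgroup (LinearMap.GeneralLinearGroup k M)}
    (hD : Cfsg.IsUnipotentOn D) (hY : Cfsg.IsUnipotentOn Y)
    (hYD : Y ≤ Subgroup.normalizer (D : Set _)) : Cfsg.IsUnipotentOn (D ⊔ Y) := by
  obtain ⟨n, hn⟩ := exists_pow_aug_eq_bot hD
  obtain ⟨m, hm⟩ := exists_pow_aug_eq_bot hY
  set K := D ⊔ Y with hKdef
  have hDK : D ≤ K := le_sup_left
  have hYK : Y ≤ K := le_sup_right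
  have hK : K ≤ Subgroup.normalizer (D : Set _) := sup_le Subgroup.le_normalizer hYD
  set J := aug D * aug1 K with hJ
  set 𝔟 := J ⊔ aug Y with h𝔟
  have hJ1 : J ≤ aug1 K := J_le_aug1 hDK
  have hY1 : aug Y ≤ aug1 K := (aug_mono hYK).trans (aug_le_aug1 K)
  have hb1 : 𝔟 ≤ aug1 K := sup_le hJ1 hY1
  have hXJ : ∀ X : Submodule k (Module.End k M), X ≤ aug1 K → X * J ≤ J := fun X hX =>
    (mul_le_mul_left hX _).trans (aug1_mul_J hK)
  have hJX : ∀ X : Submodule k (Module.End k M), X ≤ aug1 K → J * X ≤ J := fun X hX =>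
    (mul_le_mul_right hX _).trans J_mul_aug1
  have hbb : 𝔟 * 𝔟 ≤ 𝔟 := by
    conv_lhs => rw [h𝔟, Submodule.sup_mul]
    refine sup_le ((hJX 𝔟 hb1).trans le_sup_left) ?_
    rw [Submodule.mul_sup]
    exact sup_le ((hXJ _ hY1).trans le_sup_left) ((aug_mul_le Y).trans le_sup_right)
  have hpow : ∀ i : ℕ, 𝔟 ^ i ≤ J ⊔ aug Y ^ i := by
    intro i
    induction i with
    | zero => rw [pow_zero, pow_zero]; exact le_sup_right
    | succ i ih =>
      rw [pow_succ, pow_succ]
      calc 𝔟 ^ i * 𝔟 ≤ (J ⊔ aug Y ^ i) * 𝔟 := mul_le_mul_left ih _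
        _ = J * 𝔟 ⊔ aug Y ^ i * 𝔟 := Submodule.sup_mul _ _ _
        _ ≤ J ⊔ aug Y ^ i * aug Y := by
          refine sup_le ((hJX 𝔟 hb1).trans le_sup_left) ?_
          rw [h𝔟, Submodule.mul_sup]
          exact sup_le ((hXJ _ (pow_le_aug1 hY1 i)).trans le_sup_left) le_sup_right
  have hbm : 𝔟 ^ m ≤ J := by
    have := hpow m
    rwa [hm, sup_bot_eq] at this
  have hbmn : 𝔟 ^ (m * n) = ⊥ := by
    rw [eq_bot_iff, pow_mul]
    calc (𝔟 ^ m) ^ n ≤ J ^ n := pow_le_pow_left' hbm n
      _ ≤ aug D ^ n * aug1 K := J_pow_le hK n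
      _ = ⊥ := by rw [hn, Submodule.bot_mul]
  have hDb : aug D ≤ 𝔟 := by
    refine le_trans ?_ (le_sup_left : J ≤ 𝔟)
    calc aug D = aug D * 1 := (mul_one _).symm
      _ ≤ aug D * aug1 K := mul_le_mul_right (one_le_aug1 K) _
  have hKhat : K ≤ hat 𝔟 hbb :=
    sup_le (le_hat_of_aug_le hDb) (le_hat_of_aug_le le_sup_right)
  exact isUnipotentOn_mono hKhat (isUnipotentOn_hat hbmn)

end Cfsg.Agent.Helper83.Unip
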