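import Mathlib
import Cfsg.Prelude.Def_RootSubgroups
import Cfsg.Agent.Helper83.Unip3

set_option autoImplicit false

/-!
# Maximal unipotent `W`-generated subgroups and their uniqueness
-/

namespace Cfsg.Agent.Helper83.Unip

open Cfsg.Agent.Helper83

variable {k : Type*} [Field k] {M : Type*} [AddCommGroup M] [Module k M]

section generated

variable {W : Set (Subgroup (LinearMap.GeneralLinearGroup k M))}

theorem isGeneratedByMembers_iSup {S : Set (Subgroup (LinearMap.GeneralLinearGroup k M))} (hS : S ⊆ W) :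
    Cfsg.IsGeneratedByMembers W (⨆ A ∈ S, A) := by
  unfold Cfsg.IsGeneratedByMembers
  apply le_antisymm
  · exact iSup₂_le fun A hA => hA.2
  · refine iSup₂_le fun A hA => ?_
    exact le_iSup₂_of_le A ⟨hS hA, le_iSup₂_of_le A hA le_rfl⟩ le_rfl

theorem isGeneratedByMembers_sup {U V : Subgroup (LinearMap.GeneralLinearGroup k M)}
    (hU : Cfsg.IsGeneratedByMembers W U) (hV : Cfsg.IsGeneratedByMembers W V) :
    Cfsg.IsGeneratedByMembers W (U ⊔ V) := by
  unfold Cfsg.IsGeneratedByMembers at *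
  apply le_antisymm
  · exact iSup₂_le fun A hA => hA.2
  · refine sup_le ?_ ?_
    · conv_lhs => rw [← hU]
      exact iSup₂_le fun A hA => le_iSup₂_of_le A ⟨hA.1, hA.2.trans le_sup_left⟩ le_rfl
    · conv_lhs => rw [← hV]
      exact iSup₂_le fun A hA => le_iSup₂_of_le A ⟨hA.1, hA.2.trans le_sup_right⟩ le_rfl

theorem isGeneratedByMembers_of_mem {A : Subgroup (LinearMap.GeneralLinearGroup k M)} (hA : A ∈ W) :
    Cfsg.IsGeneratedByMembers W A := by
  unfold Cfsg.IsGeneratedByMembers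
  apply le_antisymm
  · exact iSup₂_le fun B hB => hB.2
  · exact le_iSup₂_of_le A ⟨hA, le_rfl⟩ le_rfl

theorem isGeneratedByMembers_bot : Cfsg.IsGeneratedByMembers W ⊥ := by
  unfold Cfsg.IsGeneratedByMembers
  rw [eq_bot_iff]
  exact iSup₂_le fun B hB => hB.2

theorem le_of_isGeneratedByMembers {U V : Subgroup (LinearMap.GeneralLinearGroup k M)}
    (hU : Cfsg.IsGeneratedByMembers W U) (h : ∀ A ∈ W, A ≤ U → A ≤ V) : U ≤ V := by
  rw [← hU]
  exact iSup₂_le fun A hA => h A hA.1 hA.2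

theorem isUnipotentOn_bot : Cfsg.IsUnipotentOn (⊥ : Subgroup (LinearMap.GeneralLinearGroup k M)) := by
  refine isUnipotentOn_of_pow_eq_bot (𝔟 := ⊥) (n := 1) (pow_one _) ?_
  intro g hg
  rw [Subgroup.mem_bot] at hg
  rw [hg, Units.val_one, sub_self]
  exact Submodule.zero_mem _

end generated

section closure

variable (W : Set (Subgroup (LinearMap.GeneralLinearGroup k M)))

/-- `U` is `W`-generated and acts unipotently. -/
def Good (U : Subgroup (LinearMap.GeneralLinearGroup k M)) : Prop :=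
  Cfsg.IsGeneratedByMembers W U ∧ Cfsg.IsUnipotentOn U

/-- `U` is maximal among the good subgroups. -/
def IsMaxGood (U : Subgroup (LinearMap.GeneralLinearGroup k M)) : Prop :=
  Good W U ∧ ∀ V, Good W V → U ≤ V → V ≤ U

/-- The closure of `U`: generated by all members of `W` whose augmentation lies in that of `U`. -/
def cl (U : Subgroup (LinearMap.GeneralLinearGroup k M)) : Subgroup (LinearMap.GeneralLinearGroup k M) :=
  ⨆ A ∈ {A | A ∈ W ∧ aug A ≤ aug U}, A

variable {W}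

theorem cl_le_hat (U : Subgroup (LinearMap.GeneralLinearGroup k M)) :
    cl W U ≤ hat (aug U) (aug_mul_le U) :=
  iSup₂_le fun _ hA => le_hat_of_aug_le hA.2

theorem aug_cl_le (U : Subgroup (LinearMap.GeneralLinearGroup k M)) : aug (cl W U) ≤ aug U :=
  aug_le_of_le_hat (cl_le_hat U)

theorem le_cl_of_mem {U A : Subgroup (LinearMap.GeneralLinearGroup k M)} (hA : A ∈ W)
    (hAU : aug A ≤ aug U) : A ≤ cl W U :=
  le_iSup₂_of_le A ⟨hA, hAU⟩ le_rfl

theorem le_cl {U : Subgroup (LinearMap.GeneralLinearGroup k M)} (hU : Cfsg.IsGeneratedByMembers W U) :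
    U ≤ cl W U :=
  le_of_isGeneratedByMembers hU fun _ hA hAU => le_cl_of_mem hA (aug_mono hAU)

theorem isUnipotentOn_hat_aug {U : Subgroup (LinearMap.GeneralLinearGroup k M)}
    (hU : Cfsg.IsUnipotentOn U) : Cfsg.IsUnipotentOn (hat (aug U) (aug_mul_le U)) := by
  obtain ⟨n, hn⟩ := exists_pow_aug_eq_bot hU
  exact isUnipotentOn_hat hn

theorem good_cl {U : Subgroup (LinearMap.GeneralLinearGroup k M)} (hU : Good W U) : Good W (cl W U) :=
  ⟨isGeneratedByMembers_iSup fun _ hA => hA.1,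
    isUnipotentOn_mono (cl_le_hat U) (isUnipotentOn_hat_aug hU.2)⟩

/-- A good `V` whose augmentation lies in that of `U` is contained in the closure of `U`. -/
theorem le_cl_of_good {U V : Subgroup (LinearMap.GeneralLinearGroup k M)} (hV : Good W V)
    (h : aug V ≤ aug U) : V ≤ cl W U :=
  le_of_isGeneratedByMembers hV.1 fun _ hA hAV => le_cl_of_mem hA ((aug_mono hAV).trans h)

variable [FiniteDimensional k M]

theorem finrank_aug_lt {U V : Subgroup (LinearMap.GeneralLinearGroup k M)} (hle : aug U ≤ aug V)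
    (hne : ¬ aug V ≤ aug U) : Module.finrank k (aug U) < Module.finrank k (aug V) :=
  Submodule.finrank_lt_finrank_of_lt (lt_of_le_not_ge hle hne)

theorem finrank_aug_le (U : Subgroup (LinearMap.GeneralLinearGroup k M)) :
    Module.finrank k (aug U) ≤ Module.finrank k (Module.End k M) :=
  Submodule.finrank_le _

/-- Either the closure of a good `U` is maximal, or there is a good subgroup above with a strictly
larger augmentation. -/
theorem max_or_bigger {U : Subgroup (LinearMap.GeneralLinearGroup k M)} (hU : Good W U) :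
    IsMaxGood W (cl W U) ∨ ∃ V, Good W V ∧ U ≤ V ∧
      Module.finrank k (aug U) < Module.finrank k (aug V) := by
  by_cases hmax : IsMaxGood W (cl W U)
  · exact Or.inl hmax
  · right
    unfold IsMaxGood at hmax
    push Not at hmax
    obtain ⟨V, hV, hUV, hVU⟩ := hmax (good_cl hU)
    have h1 : U ≤ V := (le_cl hU.1).trans hUV
    refine ⟨V, hV, h1, finrank_aug_lt (aug_mono h1) ?_⟩
    intro h
    exact hVU (le_cl_of_good hV h)

/-- Every good subgroup lies in a maximal one. -/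
theorem exists_isMaxGood_aux (n : ℕ) : ∀ U : Subgroup (LinearMap.GeneralLinearGroup k M), Good W U →
    Module.finrank k (Module.End k M) ≤ Module.finrank k (aug U) + n →
    ∃ V, IsMaxGood W V ∧ U ≤ V := by
  induction n with
  | zero =>
    intro U hU hn
    rcases max_or_bigger hU with h | ⟨V, _, _, hlt⟩
    · exact ⟨_, h, le_cl hU.1⟩
    · have := finrank_aug_le V
      omega
  | succ n ih =>
    intro U hU hn
    rcases max_or_bigger hU with h | ⟨V, hV, hUV, hlt⟩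
    · exact ⟨_, h, le_cl hU.1⟩
    · obtain ⟨V', hV', hVV'⟩ := ih V hV (by omega)
      exact ⟨V', hV', hUV.trans hVV'⟩

theorem exists_isMaxGood {U : Subgroup (LinearMap.GeneralLinearGroup k M)} (hU : Good W U) :
    ∃ V, IsMaxGood W V ∧ U ≤ V :=
  exists_isMaxGood_aux (Module.finrank k (Module.End k M)) U hU (Nat.le_add_left _ _)

omit [FiniteDimensional k M] in
/-- Maximal good subgroups are closed. -/
theorem le_of_isMaxGood {U A : Subgroup (LinearMap.GeneralLinearGroup k M)} (hU : IsMaxGood W U)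
    (hA : A ∈ W) (hAU : aug A ≤ aug U) : A ≤ U := by
  have h1 : U ⊔ A ≤ hat (aug U) (aug_mul_le U) := sup_le (le_hat_aug U) (le_hat_of_aug_le hAU)
  have h2 : Good W (U ⊔ A) :=
    ⟨isGeneratedByMembers_sup hU.1.1 (isGeneratedByMembers_of_mem hA),
      isUnipotentOn_mono h1 (isUnipotentOn_hat_aug hU.1.2)⟩
  exact le_sup_right.trans (hU.2 _ h2 le_sup_left)

end closure

section uniqueness

variable (W : Set (Subgroup (LinearMap.GeneralLinearGroup k M)))

/-- The subgroup generated by the members of `W` in `U₁ ⊓ U₂`. -/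
def Dd (U₁ U₂ : Subgroup (LinearMap.GeneralLinearGroup k M)) : Subgroup (LinearMap.GeneralLinearGroup k M) :=
  ⨆ A ∈ {A | A ∈ W ∧ A ≤ U₁ ∧ A ≤ U₂}, A

variable {W}

theorem Dd_le_left (U₁ U₂ : Subgroup (LinearMap.GeneralLinearGroup k M)) : Dd W U₁ U₂ ≤ U₁ :=
  iSup₂_le fun _ hA => hA.2.1

theorem Dd_le_right (U₁ U₂ : Subgroup (LinearMap.GeneralLinearGroup k M)) : Dd W U₁ U₂ ≤ U₂ :=
  iSup₂_le fun _ hA => hA.2.2

theorem le_Dd {U₁ U₂ A : Subgroup (LinearMap.GeneralLinearGroup k M)} (hA : A ∈ W) (h1 : A ≤ U₁)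
    (h2 : A ≤ U₂) : A ≤ Dd W U₁ U₂ :=
  le_iSup₂_of_le A ⟨hA, h1, h2⟩ le_rfl

theorem Dd_generated (U₁ U₂ : Subgroup (LinearMap.GeneralLinearGroup k M)) :
    Cfsg.IsGeneratedByMembers W (Dd W U₁ U₂) :=
  isGeneratedByMembers_iSup fun _ hA => hA.1

theorem Dd_mono {U₁ U₂ V₁ V₂ : Subgroup (LinearMap.GeneralLinearGroup k M)}
    (h1 : Dd W U₁ U₂ ≤ V₁) (h2 : Dd W U₁ U₂ ≤ V₂) : Dd W U₁ U₂ ≤ Dd W V₁ V₂ :=
  iSup₂_le fun A hA =>
    le_Dd hA.1 ((le_Dd hA.1 hA.2.1 hA.2.2).trans h1) ((le_Dd hA.1 hA.2.1 hA.2.2).trans h2)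

variable [FiniteDimensional k M]

/-- The key step: two distinct maximal good subgroups produce a third one meeting both in more. -/
theorem exists_third {G : Subgroup (LinearMap.GeneralLinearGroup k M)} (hWG : ∀ A ∈ W, A ≤ G)
    (hWW : ∀ A ∈ W, ∀ B ∈ W, Cfsg.IsUnipotentOn (A ⊔ B))
    (hWconj : ∀ A ∈ W, ∀ g ∈ G, Cfsg.conjBy A g ∈ W)
    {U₁ U₂ : Subgroup (LinearMap.GeneralLinearGroup k M)} (h1 : IsMaxGood W U₁) (h2 : IsMaxGood W U₂)
    (hne : U₁ ≠ U₂) :
    ∃ U₃, IsMaxGood W U₃ ∧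
      Module.finrank k (aug (Dd W U₁ U₂)) < Module.finrank k (aug (Dd W U₁ U₃)) ∧
      Module.finrank k (aug (Dd W U₁ U₂)) < Module.finrank k (aug (Dd W U₂ U₃)) := by
  set D := Dd W U₁ U₂ with hD
  have hD1 : D ≤ U₁ := Dd_le_left _ _
  have hD2 : D ≤ U₂ := Dd_le_right _ _
  have hDg : Cfsg.IsGeneratedByMembers W D := Dd_generated _ _
  have hU1G : U₁ ≤ G := le_of_isGeneratedByMembers h1.1.1 fun A hA _ => hWG A hA
  have hU2G : U₂ ≤ G := le_of_isGeneratedByMembers h2.1.1 fun A hA _ => hWG A hA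
  have hne1 : D ≠ U₁ := by
    intro h
    apply hne
    have h12 : U₁ ≤ U₂ := h ▸ hD2
    exact le_antisymm h12 (h1.2 U₂ h2.1 h12)
  have hne2 : D ≠ U₂ := by
    intro h
    apply hne
    have h21 : U₂ ≤ U₁ := h ▸ hD1
    exact le_antisymm (h2.2 U₁ h1.1 h21) h21
  obtain ⟨A₁, hA₁W, hA₁U, hA₁D, hA₁N⟩ := exists_normalizing_member h1.1.2 h1.1.1 hD1 hDg hne1
    (fun A hA g hg => hWconj A hA g (hU1G hg))
  obtain ⟨A₂, hA₂W, hA₂U, hA₂D, hA₂N⟩ := exists_normalizing_member h2.1.2 h2.1.1 hD2 hDg hne2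
    (fun A hA g hg => hWconj A hA g (hU2G hg))
  have hDu : Cfsg.IsUnipotentOn D := isUnipotentOn_mono hD1 h1.1.2
  have hK : Good W (D ⊔ (A₁ ⊔ A₂)) :=
    ⟨isGeneratedByMembers_sup hDg (isGeneratedByMembers_sup (isGeneratedByMembers_of_mem hA₁W)
        (isGeneratedByMembers_of_mem hA₂W)),
      isUnipotentOn_sup_of_le_normalizer hDu (hWW A₁ hA₁W A₂ hA₂W) (sup_le hA₁N hA₂N)⟩
  obtain ⟨U₃, h3, hK3⟩ := exists_isMaxGood hK
  have hD3 : D ≤ U₃ := le_sup_left.trans hK3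
  have hA₁3 : A₁ ≤ U₃ := (le_sup_left.trans le_sup_right).trans hK3
  have hA₂3 : A₂ ≤ U₃ := (le_sup_right.trans le_sup_right).trans hK3
  refine ⟨U₃, h3, ?_, ?_⟩
  · refine finrank_aug_lt (aug_mono (Dd_mono hD1 hD3)) ?_
    intro hle
    apply hA₁D
    have h4 : aug A₁ ≤ aug U₂ :=
      ((aug_mono (le_Dd hA₁W hA₁U hA₁3)).trans hle).trans (aug_mono hD2)
    exact le_Dd hA₁W hA₁U (le_of_isMaxGood h2 hA₁W h4)
  · refine finrank_aug_lt (aug_mono (Dd_mono hD2 hD3)) ?_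
    intro hle
    apply hA₂D
    have h4 : aug A₂ ≤ aug U₁ :=
      ((aug_mono (le_Dd hA₂W hA₂U hA₂3)).trans hle).trans (aug_mono hD1)
    exact le_Dd hA₂W (le_of_isMaxGood h1 hA₂W h4) hA₂U

theorem isMaxGood_unique_aux {G : Subgroup (LinearMap.GeneralLinearGroup k M)} (hWG : ∀ A ∈ W, A ≤ G)
    (hWW : ∀ A ∈ W, ∀ B ∈ W, Cfsg.IsUnipotentOn (A ⊔ B))
    (hWconj : ∀ A ∈ W, ∀ g ∈ G, Cfsg.conjBy A g ∈ W) (n : ℕ) :
    ∀ U₁ U₂ : Subgroup (LinearMap.GeneralLinearGroup k M), IsMaxGood W U₁ → IsMaxGood W U₂ →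
      Module.finrank k (Module.End k M) ≤ Module.finrank k (aug (Dd W U₁ U₂)) + n → U₁ = U₂ := by
  induction n with
  | zero =>
    intro U₁ U₂ h1 h2 hn
    by_contra hne
    obtain ⟨U₃, _, hlt, _⟩ := exists_third hWG hWW hWconj h1 h2 hne
    have := finrank_aug_le (Dd W U₁ U₃)
    omega
  | succ n ih =>
    intro U₁ U₂ h1 h2 hn
    by_contra hne
    obtain ⟨U₃, h3, hlt1, hlt2⟩ := exists_third hWG hWW hWconj h1 h2 hne
    have e1 : U₁ = U₃ := ih U₁ U₃ h1 h3 (by omega)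
    have e2 : U₂ = U₃ := ih U₂ U₃ h2 h3 (by omega)
    exact hne (e1.trans e2.symm)

theorem isMaxGood_unique {G : Subgroup (LinearMap.GeneralLinearGroup k M)} (hWG : ∀ A ∈ W, A ≤ G)
    (hWW : ∀ A ∈ W, ∀ B ∈ W, Cfsg.IsUnipotentOn (A ⊔ B))
    (hWconj : ∀ A ∈ W, ∀ g ∈ G, Cfsg.conjBy A g ∈ W)
    {U₁ U₂ : Subgroup (LinearMap.GeneralLinearGroup k M)} (h1 : IsMaxGood W U₁) (h2 : IsMaxGood W U₂) :
    U₁ = U₂ :=
  isMaxGood_unique_aux hWG hWW hWconj (Module.finrank k (Module.End k M)) U₁ U₂ h1 h2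
    (Nat.le_add_left _ _)

/-- The group generated by `W` acts unipotently. -/
theorem isUnipotentOn_iSup {G : Subgroup (LinearMap.GeneralLinearGroup k M)} (hWG : ∀ A ∈ W, A ≤ G)
    (hWW : ∀ A ∈ W, ∀ B ∈ W, Cfsg.IsUnipotentOn (A ⊔ B))
    (hWconj : ∀ A ∈ W, ∀ g ∈ G, Cfsg.conjBy A g ∈ W) : Cfsg.IsUnipotentOn (⨆ A ∈ W, A) := by
  obtain ⟨U₀, h0, _⟩ := exists_isMaxGood (W := W) ⟨isGeneratedByMembers_bot, isUnipotentOn_bot⟩
  refine isUnipotentOn_mono (iSup₂_le fun A hA => ?_) h0.1.2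
  have hA' : Good W A := ⟨isGeneratedByMembers_of_mem hA, by simpa using hWW A hA A hA⟩
  obtain ⟨U, hU, hAU⟩ := exists_isMaxGood hA'
  rw [isMaxGood_unique hWG hWW hWconj h0 hU]
  exact hAU

end uniqueness

end Cfsg.Agent.Helper83.Unip
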